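import Mathlib
import Cfsg.Prelude.Def_FusionSystem

set_option autoImplicit false

/-!
# Project MEET, the abstract engine, part 0: definitions and the frozen statement

`F` is a saturated fusion system over `S`, `W ≤ S` a strongly closed subgroup, `A P ≤ Aut(P)` a prescribed automizer
for every `P ≤ W`.  `meetH` is the family of the subgroups of `W` all of whose `F`-conjugates contain their centralizer
in `W`, `meetN` the smallest fusion system over `W` inside `F` containing `A R` for every `R ∈ meetH`.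
`MeetEng` collects the hypotheses (E1)-(E5) of `notes/MEET_helper8.md` (section 9'): invariance, Sylow, the local
Frattini factorization, local receptivity and restriction from `N_W(U)` to `U`.
-/

namespace Cfsg.Agent.MEET

open Cfsg Cfsg.FusionSystem

universe u

variable {Ω : Type u} [Group Ω] {S : Subgroup Ω}

/-- The family: `P ≤ W` and every `F`-conjugate of `P` contains its centralizer in `W`. -/
def meetH (F : FusionSystem S) (W : Subgroup Ω) : Set (Subgroup Ω) :=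
  {P | P ≤ W ∧ ∀ P' : Subgroup Ω, F.IsConj P P' → centralizerIn W P' ≤ P'}

/-- `β ∈ Aut(P')` is the transport of `a ∈ Aut(P)` along `φ` (in use `φ(P) = P'`). -/
def MeetTr {P P' : Subgroup Ω} (φ : P →* Ω) (a : MulAut P) (β : MulAut P') : Prop :=
  ∀ (x : P) (hx : φ x ∈ P'), ((β ⟨φ x, hx⟩ : P') : Ω) = φ (a x)

/-- `β ∈ Aut(P)` is the restriction of `a ∈ Aut(U)`, `P ≤ U`. -/
def MeetRes {P U : Subgroup Ω} (hPU : P ≤ U) (a : MulAut U) (β : MulAut P) : Prop :=
  ∀ x : P, ((β x : P) : Ω) = ((a (Subgroup.inclusion hPU x) : U) : Ω)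

/-- The smallest fusion system over `W` inside `F` containing `A R` for all `R ∈ meetH F W`. -/
def meetN (F : FusionSystem S) (W : Subgroup Ω) (hWS : W ≤ S)
    (A : ∀ P : Subgroup Ω, Subgroup (MulAut P)) : FusionSystem W where
  Hom P := {φ | φ ∈ F.Hom P ∧ P ≤ W ∧ (∀ x : P, φ x ∈ W) ∧
    ∀ D : FusionSystem W, (∀ R ∈ meetH F W, A R ≤ D.autGroup R) → φ ∈ D.Hom P}
  le_of_mem h := ⟨h.2.1, h.2.2.1⟩
  injective_of_mem h := F.injective_of_mem h.1
  conj_mem := by
    intro P g hP hg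
    refine ⟨F.conj_mem (hP.trans hWS) (hWS hg), hP, fun x => ?_, fun D _ => D.conj_mem hP hg⟩
    exact Subgroup.mul_mem _ (Subgroup.mul_mem _ hg (hP x.2)) (Subgroup.inv_mem _ hg)
  comp_mem := by
    intro P Q φ ψ hφ hψ h
    refine ⟨F.comp_mem hφ.1 hψ.1 h, hφ.2.1, fun x => hψ.2.2.1 _, fun D hD => ?_⟩
    exact D.comp_mem (hφ.2.2.2 D hD) (hψ.2.2.2 D hD) h
  inv_mem := by
    intro P φ hφ
    obtain ⟨ψ, hψ, hinv⟩ := F.inv_mem hφ.1
    refine ⟨ψ, ⟨hψ, ?_, ?_, fun D hD => ?_⟩, hinv⟩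
    · rintro _ ⟨x, rfl⟩
      exact hφ.2.2.1 x
    · rintro ⟨_, x, rfl⟩
      rw [hinv x]
      exact hφ.2.1 x.2
    · obtain ⟨ψ', hψ', hinv'⟩ := D.inv_mem (hφ.2.2.2 D hD)
      have : ψ = ψ' := by
        apply MonoidHom.ext
        rintro ⟨_, x, rfl⟩
        exact (hinv x).trans (hinv' x).symm
      rw [this]
      exact hψ'

/-- The image of `U ≤ W` under the automorphism `α` of `W`. -/
def meetImg {W : Subgroup Ω} (α : MulAut W) (U : Subgroup Ω) : Subgroup Ω :=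
  (U.subgroupOf W).map (W.subtype.comp α.toMonoidHom)

/-- The fully `F`-normalized members of the family. -/
def meetUf (F : FusionSystem S) (W : Subgroup Ω) : Set (Subgroup Ω) :=
  {U | U ∈ meetH F W ∧ F.IsFullyNormalized U}

/-- The translates of the fully normalized members of the family under `Aut_F(W)`. -/
def meetUstar (F : FusionSystem S) (W : Subgroup Ω) : Set (Subgroup Ω) :=
  {V | ∃ U ∈ meetUf F W, ∃ α ∈ F.autGroup W, V = meetImg α U}

/-- `β ∘ γ` for an automorphism `β` of `W` and a homomorphism `γ` with values in `W`. -/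
def meetTw {W X : Subgroup Ω} (β : MulAut W) (γ : X →* Ω) (hγ : ∀ x : X, γ x ∈ W) : X →* Ω :=
  W.subtype.comp (β.toMonoidHom.comp (γ.codRestrict W hγ))

theorem meetTw_apply {W X : Subgroup Ω} (β : MulAut W) (γ : X →* Ω) (hγ : ∀ x : X, γ x ∈ W) (x : X) :
    meetTw β γ hγ x = ((β ⟨γ x, hγ x⟩ : W) : Ω) := rfl

/-- The hypotheses (E1)-(E5) of the engine. -/
structure MeetEng (p : ℕ) (F : FusionSystem S) (W : Subgroup Ω) (hWS : W ≤ S)
    (A : ∀ P : Subgroup Ω, Subgroup (MulAut P)) : Prop where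
  hS : IsPGroup p S
  sat : F.IsSaturated p
  sc : F.StronglyClosed W
  /-- (E1a) `A(P) ≤ Aut_F(P)`. -/
  sub : ∀ P ∈ meetH F W, A P ≤ F.autGroup P
  /-- (E1b) invariance under the isomorphisms of `F`. -/
  inv : ∀ P ∈ meetH F W, ∀ (P' : Subgroup Ω) (φ : P →* Ω), φ ∈ F.Hom P → φ.range = P' →
    ∀ a ∈ A P, ∀ β : MulAut P', MeetTr φ a β → β ∈ A P'
  /-- (E2a) `Aut_W(U) ≤ A(U)` for `U` fully normalized. -/
  autW : ∀ U ∈ meetH F W, F.IsFullyNormalized U → autInducedBy W U ≤ A U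
  /-- (E2b) `Aut_W(U)` is a maximal `p`-subgroup of `A(U)` (so a Sylow `p`-subgroup). -/
  syl : ∀ U ∈ meetH F W, F.IsFullyNormalized U → ∀ Q : Subgroup (MulAut U), IsPGroup p Q →
    autInducedBy W U ≤ Q → Q ≤ A U → Q ≤ autInducedBy W U
  /-- (E3) local Frattini: a map of `F` between overgroups of `U` in `N_W(U)` carrying `U` to `U` is an automorphism of
  `N_W(U)` in `F` composed with a map of `meetN` that induces an element of `A(U)` on `U`. -/
  fr : ∀ U ∈ meetH F W, F.IsFullyNormalized U → ∀ (X : Subgroup Ω) (hUX : U ≤ X), X ≤ normalizerIn W U →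
    ∀ γ ∈ F.Hom X, (∀ x : X, γ x ∈ normalizerIn W U) → (∀ x : X, (x : Ω) ∈ U → γ x ∈ U) →
    ∃ η ∈ F.autGroup (normalizerIn W U), ∃ ν ∈ (meetN F W hWS A).Hom X, ∃ a ∈ A U,
      (∀ u : U, ν ⟨u, hUX u.2⟩ = ((a u : U) : Ω)) ∧
      ∀ (x : X) (hx : ν x ∈ normalizerIn W U), γ x = ((η ⟨ν x, hx⟩ : ↥(normalizerIn W U)) : Ω)
  /-- (E4) local receptivity: `a ∈ A(U)` extends in `meetN` to every `Y₁` with `U ≤ Y₁ ≤ N_W(U)` whose action on `U`,
  transported by `a`, is induced by `N_W(U)`. -/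
  recl : ∀ U ∈ meetH F W, F.IsFullyNormalized U → ∀ a ∈ A U, ∀ (Y₁ : Subgroup Ω) (hUY : U ≤ Y₁),
    Y₁ ≤ normalizerIn W U →
    (∀ y ∈ Y₁, ∃ w ∈ normalizerIn W U, ∀ (u : U) (hu : y * (u : Ω) * y⁻¹ ∈ U),
      ((a ⟨y * (u : Ω) * y⁻¹, hu⟩ : U) : Ω) = w * ((a u : U) : Ω) * w⁻¹) →
    ∃ ε ∈ (meetN F W hWS A).Hom Y₁, (∀ x : Y₁, ε x ∈ normalizerIn W U) ∧
      ∀ u : U, ε ⟨u, hUY u.2⟩ = ((a u : U) : Ω)
  /-- (E5) restriction: an element of `A(N_W(U))` normalizing `U` restricts to an element of `A(U)`. -/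
  cmb : ∀ U ∈ meetH F W, F.IsFullyNormalized U → ∀ (hUN : U ≤ normalizerIn W U),
    ∀ a ∈ A (normalizerIn W U), ∀ β : MulAut U, MeetRes hUN a β → β ∈ A U

/-- The induction hypothesis `I(>k)`: every translate `V` of order `> k` has `Aut_N(V) = A(V)` and is receptive in `N`. -/
def MeetI (F : FusionSystem S) (W : Subgroup Ω) (hWS : W ≤ S)
    (A : ∀ P : Subgroup Ω, Subgroup (MulAut P)) (k : ℕ) : Prop :=
  ∀ V ∈ meetUstar F W, k < Nat.card V →
    (meetN F W hWS A).autGroup V = A V ∧ (meetN F W hWS A).IsReceptive V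

end Cfsg.Agent.MEET
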