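import Mathlib
import Cfsg.Agent.MEET.EngDefs
import Cfsg.Agent.Lead.Fusion
import Cfsg.Agent.Lead.FusionAut
import Cfsg.Agent.Lead.FusionConj
import Cfsg.Agent.Lead.FusionSat
import Cfsg.Agent.Helper4.NormalizerGrow

/-!
# Project MEET, Claim D, part a (helper7): general lemmas

Small facts on fusion systems used in the proof of Claim D (`notes/MEET_helper8.md`, section 11): maps of a system from a
finite subgroup into itself are automorphisms, the twist `meetTw` of a map of `F` by an element of `Aut_F(W)` is a map of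
`F`, the family `meetH` is closed under overgroups in `W` and under `F`-conjugacy, two extensions of one isomorphism
`X → R` to a group normalizing `X` differ by elements centralizing `R`.
-/

set_option autoImplicit false

namespace Cfsg.Agent.MEET

open Cfsg Cfsg.FusionSystem Cfsg.Agent.Lead

universe u

variable {Ω : Type u} [Group Ω] {S : Subgroup Ω}

/-- A map of the system from `Q` into `Q` is an automorphism of `Q` in the system. -/
theorem meet_cd_aut_of_hom [Finite S] (F : FusionSystem S) {Q : Subgroup Ω} (ψ : Q →* Ω)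
    (hψ : ψ ∈ F.Hom Q) (hQ : ∀ x : Q, ψ x ∈ Q) :
    ∃ β ∈ F.autGroup Q, ∀ x : Q, ((β x : Q) : Ω) = ψ x := by
  have hQS : Q ≤ S := Fusion.src_le F hψ
  have : Finite Q := Fusion.finite_of_le hQS
  set f' : Q →* Q := ψ.codRestrict Q hQ with hf'
  have hinj : Function.Injective f' := by
    intro x y hxy
    exact F.injective_of_mem hψ (congrArg Subtype.val hxy)
  have hbij : Function.Bijective f' := ⟨hinj, Finite.injective_iff_surjective.mp hinj⟩
  refine ⟨MulEquiv.ofBijective f' hbij, ?_, fun x => rfl⟩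
  rw [Fusion.mem_autGroup_iff F hQS]
  have : Q.subtype.comp (MulEquiv.ofBijective f' hbij : MulAut Q).toMonoidHom = ψ := by
    ext x
    rfl
  rw [this]
  exact hψ

/-- The twist of a map of `F` with values in `W` by an element of `Aut_F(W)` is a map of `F`. -/
theorem meet_cd_tw_mem (F : FusionSystem S) {W X : Subgroup Ω} (hWS : W ≤ S) (α : MulAut W)
    (hα : α ∈ F.autGroup W) (γ : X →* Ω) (hγ : γ ∈ F.Hom X) (hγW : ∀ x : X, γ x ∈ W) :
    meetTw α γ hγW ∈ F.Hom X :=
  F.comp_mem hγ ((Fusion.mem_autGroup_iff F hWS α).mp hα) hγW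

theorem meet_cd_tw_mem_W {W X : Subgroup Ω} (α : MulAut W) (γ : X →* Ω) (hγW : ∀ x : X, γ x ∈ W)
    (x : X) : meetTw α γ hγW x ∈ W := (α ⟨γ x, hγW x⟩).2

/-- The family is closed under overgroups inside `W`. -/
theorem meet_cd_H_of_le (F : FusionSystem S) {W U X : Subgroup Ω} (hU : U ∈ meetH F W) (hUX : U ≤ X)
    (hXW : X ≤ W) : X ∈ meetH F W := by
  refine ⟨hXW, ?_⟩
  rintro X' ⟨φ, hφ, hr⟩
  have hφU := Fusion.restrict_mem F hφ hUX
  have hconj : F.IsConj U (φ.comp (Subgroup.inclusion hUX)).range := ⟨_, hφU, rfl⟩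
  have h1 := hU.2 _ hconj
  have hle : (φ.comp (Subgroup.inclusion hUX)).range ≤ X' := by
    rw [← hr]
    rintro _ ⟨u, rfl⟩
    exact ⟨Subgroup.inclusion hUX u, rfl⟩
  exact ((inf_le_inf_left W (Subgroup.centralizer_le hle)).trans h1).trans hle

/-- The family is closed under `F`-conjugacy inside `W`. -/
theorem meet_cd_H_conj (F : FusionSystem S) {W P P' : Subgroup Ω} (hP : P ∈ meetH F W)
    (hc : F.IsConj P P') (hP'W : P' ≤ W) : P' ∈ meetH F W :=
  ⟨hP'W, fun _ hc' => hP.2 _ (Fusion.isConj_trans F hc hc')⟩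

/-- The range of an injective homomorphism has the order of its source. -/
theorem meet_cd_card_range {X : Subgroup Ω} (φ : X →* Ω) (hinj : Function.Injective φ) :
    Nat.card φ.range = Nat.card X :=
  (Nat.card_congr (MonoidHom.ofInjective hinj).toEquiv).symm

/-- Two homomorphisms on `X₁` that agree on a subgroup `X` normalized by `X₁`: their values at any element differ by an
element centralizing the image of `X`. -/
theorem meet_cd_diff_mem {X X₁ : Subgroup Ω} (hn : X₁ ≤ Subgroup.normalizer (X : Set Ω))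
    (ξ Φ : X₁ →* Ω) (hag : ∀ x : X₁, (x : Ω) ∈ X → ξ x = Φ x) (y : X₁) (r : Ω)
    (hr : ∃ x : X₁, (x : Ω) ∈ X ∧ Φ x = r) : r * ((Φ y)⁻¹ * ξ y) = (Φ y)⁻¹ * ξ y * r := by
  obtain ⟨x, hx, rfl⟩ := hr
  have hyx : ((y * x * y⁻¹ : X₁) : Ω) ∈ X := by
    have := (Subgroup.mem_normalizer_iff.mp (hn y.2) (x : Ω)).mp hx
    simpa using this
  have h1 := hag (y * x * y⁻¹) hyx
  rw [map_mul, map_mul, map_inv, map_mul, map_mul, map_inv, hag x hx] at h1
  -- h1 : ξ y * Φ x * (ξ y)⁻¹ = Φ y * Φ x * (Φ y)⁻¹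
  have h2 : ξ y * Φ x = Φ y * Φ x * (Φ y)⁻¹ * ξ y := by
    rw [← h1]; group
  calc Φ x * ((Φ y)⁻¹ * ξ y) = (Φ y)⁻¹ * (Φ y * Φ x * (Φ y)⁻¹ * ξ y) := by group
    _ = (Φ y)⁻¹ * (ξ y * Φ x) := by rw [h2]
    _ = (Φ y)⁻¹ * ξ y * Φ x := by group

/-- A homomorphism defined on a group normalizing `X` carries it into the normalizer of the image of `X`. -/
theorem meet_cd_map_normalizer {X X₁ : Subgroup Ω} (hn : X₁ ≤ Subgroup.normalizer (X : Set Ω))
    (Φ : X₁ →* Ω) (X' : Subgroup Ω) (hX' : ∀ r : Ω, r ∈ X' ↔ ∃ x : X₁, (x : Ω) ∈ X ∧ Φ x = r) (y : X₁) :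
    Φ y ∈ Subgroup.normalizer (X' : Set Ω) := by
  have key : ∀ (z : X₁) (r : Ω), r ∈ X' → Φ z * r * (Φ z)⁻¹ ∈ X' := by
    intro z r hr
    obtain ⟨x, hx, rfl⟩ := (hX' r).mp hr
    refine (hX' _).mpr ⟨z * x * z⁻¹, ?_, ?_⟩
    · have := (Subgroup.mem_normalizer_iff.mp (hn z.2) (x : Ω)).mp hx
      simpa using this
    · rw [map_mul, map_mul, map_inv]
  rw [Subgroup.mem_normalizer_iff]
  intro r
  refine ⟨key y r, fun hr => ?_⟩
  have := key y⁻¹ _ hr
  rw [map_inv] at this
  have e : (Φ y)⁻¹ * (Φ y * r * (Φ y)⁻¹) * ((Φ y)⁻¹)⁻¹ = r := by group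
  rwa [e] at this

end Cfsg.Agent.MEET
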