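import Mathlib
import Cfsg.Agent.Lead.FusionStrongInvD
import Cfsg.Agent.Helper4.FusTrE

/-!
# Project MEET, file FratA (helper3): the calculus of maps `α ∘ φ₀` under top-invariance

`Lead.StrongInv.Good F E P φ` says that the map `φ` of `F` on `P ≤ T` is `α ∘ φ₀` with `α ∈ Hom_F(T, T)` and
`φ₀` a map of `E`.  The library proves that good maps are closed under composition and inverses when `E` is
strongly invariant in `F`; the proofs only use invariance under the maps of `F` defined on the whole of `T`.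
Here this weaker hypothesis (`MeetTopInv`) is isolated, and composition and inverses are redone under it.

* `MeetTopInv F E`: `γ θ γ⁻¹` is a map of `E` for every map `θ` of `E` and every `γ ∈ Hom_F(T, T)`.
* `meet_topInv_of_SI`, `meet_topInv_of_img`: sources of top-invariance.
* `meet_good_comp`, `meet_good_inv`: composition and inverses of good maps.
-/

set_option autoImplicit false
set_option linter.unusedSectionVars false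

namespace Cfsg.Agent.MEET

open Cfsg Cfsg.FusionSystem Cfsg.Agent.Lead Cfsg.Agent.Lead.StrongInv
open Cfsg.Agent.Helper4.FusTr

variable {Ω : Type*} [Group Ω] {S T : Subgroup Ω}

/-- Invariance of `E` under the maps of `F` defined on the whole group `T` of `E`. -/
def MeetTopInv (F : FusionSystem S) (E : FusionSystem T) : Prop :=
  ∀ (R : Subgroup Ω) (hRT : R ≤ T) (θ : R →* Ω) (hθ : θ ∈ E.Hom R) (γ : T →* Ω) (_ : γ ∈ F.Hom T)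
    (R' : Subgroup Ω) (_ : ∀ z, z ∈ R' ↔ ∃ (r : Ω) (hr : r ∈ R), γ ⟨r, hRT hr⟩ = z),
    ∃ χ ∈ E.Hom R', ∀ (r : Ω) (hr : r ∈ R) (hr' : γ ⟨r, hRT hr⟩ ∈ R'),
      χ ⟨γ ⟨r, hRT hr⟩, hr'⟩ = γ ⟨θ ⟨r, hr⟩, (E.le_of_mem hθ).2 ⟨r, hr⟩⟩

theorem meet_topInv_of_SI (F : FusionSystem S) (E : FusionSystem T) (hSI : SI F E) :
    MeetTopInv F E :=
  fun _ hRT _ hθ _ hγ R' hR' => conj_of_SI F E hSI hRT hθ hγ R' hR'

/-- Top-invariance from stability under the automorphisms in `Aut_F(T)`. -/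
theorem meet_topInv_of_img [Finite S] (F : FusionSystem S) (E : FusionSystem T)
    (hT : F.StronglyClosed T)
    (h : ∀ α ∈ F.autGroup T, Img (W := T) (W' := T) α E E) : MeetTopInv F E := by
  intro R hRT θ hθ γ hγ R' hR'
  have hr : γ.range = T := (Fusion.weaklyClosed_of_stronglyClosed F hT).2 γ hγ
  obtain ⟨a, ha, hav⟩ := Fusion.exists_aut_of_range_eq F hγ hr
  have hrel : ∀ t : T, rel (W := T) (W' := T) a (t : Ω) (γ t) := fun t => ⟨t.2, hav t⟩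
  obtain ⟨χ, hχ, hi⟩ := (h a ha).push hθ rfl
  have hsrc : mapS (W := T) (W' := T) a R = R' := by
    ext z
    rw [mem_mapS, hR']
    constructor
    · rintro ⟨x, hx, hxz⟩
      exact ⟨x, hx, rel.unique_right (hrel ⟨x, hRT hx⟩) hxz⟩
    · rintro ⟨r, hr, rfl⟩
      exact ⟨r, hr, hrel ⟨r, hRT hr⟩⟩
  obtain ⟨χ', hχ', hχ'v⟩ := Fusion.exists_hom_of_eq E hsrc hχ
  refine ⟨χ', hχ', fun r hr hr' => ?_⟩
  have hr'' : γ ⟨r, hRT hr⟩ ∈ mapS (W := T) (W' := T) a R := hsrc ▸ hr'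
  rw [hχ'v _ hr'' hr']
  have r1 := hi.app (x := ⟨r, hr⟩) (y := ⟨γ ⟨r, hRT hr⟩, hr''⟩) (hrel ⟨r, hRT hr⟩)
  exact rel.unique_right r1 (hrel ⟨θ ⟨r, hr⟩, (E.le_of_mem hθ).2 ⟨r, hr⟩⟩)

/-- Composition of good maps under top-invariance. -/
theorem meet_good_comp [Finite S] (F : FusionSystem S) (E : FusionSystem T) (hTI : MeetTopInv F E)
    (hT : F.StronglyClosed T) {P Q : Subgroup Ω} {φ : P →* Ω} {ψ : Q →* Ω} (hQT : Q ≤ T)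
    (hφ : Good F E P φ) (hψ : Good F E Q ψ) (h : ∀ x : P, φ x ∈ Q) :
    Good F E P (ψ.comp (φ.codRestrict Q h)) := by
  obtain ⟨α, hα, φ₀, h₀, hv⟩ := hφ
  obtain ⟨β, hβ, ψ₀, hψ₀, hw⟩ := hψ
  obtain ⟨α', hα', hinv1, hinv2⟩ := exists_top_inv F hT hα
  have hmr : ∀ x : P, φ x ∈ φ.range := fun x => ⟨x, rfl⟩
  have hmr₀ : ∀ x : P, φ₀ x ∈ φ₀.range := fun x => ⟨x, rfl⟩
  have hRQ : φ.range ≤ Q := by
    rintro _ ⟨x, rfl⟩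
    exact h x
  have hRT : φ.range ≤ T := hRQ.trans hQT
  have hθ : ψ₀.comp (Subgroup.inclusion hRQ) ∈ E.Hom φ.range := Fusion.restrict_mem E hψ₀ hRQ
  have hφ₀T : ∀ x : P, φ₀ x ∈ T := (E.le_of_mem h₀).2
  have hψ₀T : ∀ y : Q, ψ₀ y ∈ T := (E.le_of_mem hψ₀).2
  have hαT : ∀ t : T, α t ∈ T := map_top_mem F hT hα
  have hα'T : ∀ t : T, α' t ∈ T := map_top_mem F hT hα'
  have hkey : ∀ x : P, α' ⟨φ x, hRT (hmr x)⟩ = φ₀ x := fun x =>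
    (app_congr α' _ (hαT ⟨φ₀ x, hφ₀T x⟩) (hv x)).trans (hinv1 ⟨φ₀ x, hφ₀T x⟩ (hαT _))
  have hR' : ∀ z, z ∈ φ₀.range ↔ ∃ (r : Ω) (hr : r ∈ φ.range), α' ⟨r, hRT hr⟩ = z := by
    intro z
    constructor
    · rintro ⟨x, rfl⟩
      exact ⟨φ x, hmr x, hkey x⟩
    · rintro ⟨_, ⟨x, rfl⟩, rfl⟩
      exact ⟨x, (hkey x).symm⟩
  obtain ⟨χ, hχ, hχv⟩ := hTI φ.range hRT _ hθ α' hα' φ₀.range hR'
  have hχT : ∀ y : φ₀.range, χ y ∈ T := (E.le_of_mem hχ).2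
  have hφ₀' := E.comp_mem h₀ hχ hmr₀
  have hα'' := F.comp_mem hα hβ hαT
  refine ⟨_, hα'', _, hφ₀', fun x => ?_⟩
  show ψ ⟨φ x, h x⟩ = β ⟨α ⟨χ ⟨φ₀ x, hmr₀ x⟩, _⟩, _⟩
  have h1 : χ ⟨α' ⟨φ x, hRT (hmr x)⟩, (hR' _).mpr ⟨φ x, hmr x, rfl⟩⟩ =
      α' ⟨ψ₀ ⟨φ x, h x⟩, hψ₀T _⟩ := hχv (φ x) (hmr x) ((hR' _).mpr ⟨φ x, hmr x, rfl⟩)
  have h2 : χ ⟨φ₀ x, hmr₀ x⟩ = α' ⟨ψ₀ ⟨φ x, h x⟩, hψ₀T _⟩ :=
    (app_congr χ _ _ (hkey x).symm).trans h1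
  have h3 : α ⟨χ ⟨φ₀ x, hmr₀ x⟩, hχT _⟩ = ψ₀ ⟨φ x, h x⟩ :=
    (app_congr α _ (hα'T ⟨ψ₀ ⟨φ x, h x⟩, hψ₀T _⟩) h2).trans
      (hinv2 ⟨ψ₀ ⟨φ x, h x⟩, hψ₀T _⟩ (hα'T _))
  exact (hw ⟨φ x, h x⟩).trans (app_congr β _ _ h3.symm)

/-- Inverses of good maps under top-invariance. -/
theorem meet_good_inv [Finite S] (F : FusionSystem S) (E : FusionSystem T) (hTI : MeetTopInv F E)
    (hT : F.StronglyClosed T) {P Q : Subgroup Ω} {φ : P →* Ω} (hPT : P ≤ T)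
    (hφ : Good F E P φ) (hr : φ.range = Q) {ψ : Q →* Ω}
    (hψinv : ∀ x : P, ∀ h : φ x ∈ Q, ψ ⟨φ x, h⟩ = (x : Ω)) : Good F E Q ψ := by
  subst hr
  obtain ⟨α, hα, φ₀, h₀, hv⟩ := hφ
  obtain ⟨α', hα', hinv1, hinv2⟩ := exists_top_inv F hT hα
  obtain ⟨φ₀', hφ₀', hφ₀'inv⟩ := E.inv_mem h₀
  have hmr : ∀ x : P, φ x ∈ φ.range := fun x => ⟨x, rfl⟩
  have hmr₀ : ∀ x : P, φ₀ x ∈ φ₀.range := fun x => ⟨x, rfl⟩
  have hφ₀T : ∀ x : P, φ₀ x ∈ T := (E.le_of_mem h₀).2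
  have hφ₀'T : ∀ y : φ₀.range, φ₀' y ∈ T := (E.le_of_mem hφ₀').2
  have hαT : ∀ t : T, α t ∈ T := map_top_mem F hT hα
  have hR₀T : φ₀.range ≤ T := by
    rintro _ ⟨x, rfl⟩
    exact hφ₀T x
  have hR' : ∀ z, z ∈ φ.range ↔ ∃ (r : Ω) (hr : r ∈ φ₀.range), α ⟨r, hR₀T hr⟩ = z := by
    intro z
    constructor
    · rintro ⟨x, rfl⟩
      exact ⟨φ₀ x, hmr₀ x, (hv x).symm⟩
    · rintro ⟨_, ⟨x, rfl⟩, rfl⟩
      exact ⟨x, hv x⟩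
  obtain ⟨χ, hχ, hχv⟩ := hTI φ₀.range hR₀T _ hφ₀' α hα φ.range hR'
  have hχT : ∀ y : φ.range, χ y ∈ T := (E.le_of_mem hχ).2
  refine ⟨α', hα', χ, hχ, ?_⟩
  rintro ⟨_, x, rfl⟩
  have h0 : ψ ⟨φ x, hmr x⟩ = (x : Ω) := hψinv x (hmr x)
  have h1 : χ ⟨α ⟨φ₀ x, hR₀T (hmr₀ x)⟩, (hR' _).mpr ⟨φ₀ x, hmr₀ x, rfl⟩⟩ =
      α ⟨φ₀' ⟨φ₀ x, hmr₀ x⟩, hφ₀'T _⟩ :=
    hχv (φ₀ x) (hmr₀ x) ((hR' _).mpr ⟨φ₀ x, hmr₀ x, rfl⟩)
  have h2 : χ ⟨φ x, hmr x⟩ = α ⟨(x : Ω), hPT x.2⟩ :=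
    ((app_congr χ _ _ (hv x)).trans h1).trans (app_congr α _ _ (hφ₀'inv x))
  have h3 : α' ⟨χ ⟨φ x, hmr x⟩, hχT _⟩ = (x : Ω) :=
    (app_congr α' _ (hαT ⟨(x : Ω), hPT x.2⟩) h2).trans (hinv1 ⟨(x : Ω), hPT x.2⟩ (hαT _))
  exact h0.trans h3.symm

end Cfsg.Agent.MEET
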