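import Mathlib
import Cfsg.Agent.MEET.FratA
import Cfsg.Agent.Lead.FusionStrongInvC

/-!
# Project MEET, file FratB (helper3): the Frattini property (Fr)

`F` saturated over `S`, `T` strongly closed, `E` a subsystem of `F` over `T` which is top-invariant
(`MeetTopInv F E`).  Assume the local condition

  (Loc) for `P < T` fully normalized with `C_T(P') ≤ P'` for all `F`-conjugates `P'` of `P`: for every
        `b ∈ Aut_F(P)` there is `m ∈ Aut_E(P)` such that `N_T(P) ≤ N_{m b}` (the extender of `m b`).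

Then every map of `F` with source `P ≤ T` is `α ∘ φ₀` with `α ∈ Aut_F(T)` and `φ₀` a map of `E` (`meet_frat`), and
`E` is invariant in `F` (`meet_frat_invariant`).

* `meet_good_aut_cent`: the step for `P` with `C_T(P)` not inside `P` (extend to `P C_T(P)`).
* `meet_good_aut_loc`: the step for `P` under (Loc).
* `meet_cent_push`: `C_T(P) ≤ P` for a fully automized receptive `P` passes to all conjugates.
* `meet_good_all`: the downward induction.
-/

set_option autoImplicit false
set_option linter.unusedSectionVars false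

namespace Cfsg.Agent.MEET

open Cfsg Cfsg.FusionSystem Cfsg.Agent.Lead Cfsg.Agent.Lead.StrongInv

variable {Ω : Type*} [Group Ω] {S T : Subgroup Ω}

/-- The step of the induction for a receptive `P` whose centralizer in `T` is not inside `P`. -/
theorem meet_good_aut_cent [Finite S] (F : FusionSystem S) (E : FusionSystem T)
    (hT : F.StronglyClosed T) {P : Subgroup Ω} (hPT : P ≤ T) (hrec : F.IsReceptive P)
    (hnc : ¬ centralizerIn T P ≤ P)
    (IH : ∀ (R : Subgroup Ω) (ψ : R →* Ω), R ≤ T → ψ ∈ F.Hom R → Nat.card P < Nat.card R →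
      Good F E R ψ)
    (b : MulAut P) (hb : b ∈ F.autGroup P) : Good F E P (P.subtype.comp b.toMonoidHom) := by
  have hTS : T ≤ S := hT.1
  have hPS : P ≤ S := hPT.trans hTS
  have hfinT : Finite T := Fusion.finite_of_le hTS
  have hbhom := (Fusion.mem_autGroup_iff F hPS b).mp hb
  obtain ⟨ψ', hψ', hext⟩ := hrec.2 P _ hbhom (range_aut P b)
  have hCT : centralizerIn T P ≤ T := inf_le_left
  have hRT : P ⊔ centralizerIn T P ≤ T := sup_le hPT hCT
  have hle : P ⊔ centralizerIn T P ≤ extender S P (P.subtype.comp b.toMonoidHom) := by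
    apply sup_le
    · exact Fusion.le_extender P hPS _ (fun x => hPS (b x).2)
    · exact le_trans (inf_le_inf_right _ hTS) (Fusion.centralizerIn_le_extender P _)
  have hPR : P ≤ P ⊔ centralizerIn T P := le_sup_left
  have hfinR : Finite ↥(P ⊔ centralizerIn T P) := Fusion.finite_of_le (hRT.trans hTS)
  have hcard : Nat.card P < Nat.card ↥(P ⊔ centralizerIn T P) := by
    apply card_lt_of_lt
    refine lt_of_le_of_ne hPR ?_
    intro h
    exact hnc (le_sup_right.trans (le_of_eq h.symm))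
  have hψR := Fusion.restrict_mem F hψ' hle
  have hG1 := IH _ _ hRT hψR hcard
  have hG2 := good_restrict F E hG1 hPR
  apply good_congr F E hG2
  intro x
  exact (hext x.1 x.2 (hle (hPR x.2))).symm

/-- The step of the induction under the local condition. -/
theorem meet_good_aut_loc [Finite S] (p : ℕ) [Fact p.Prime] (hS : IsPGroup p S)
    (F : FusionSystem S) (E : FusionSystem T) (hTI : MeetTopInv F E) (hT : F.StronglyClosed T)
    (hsub : E.IsSubsystemOf F) {P : Subgroup Ω} (hPT : P ≤ T) (hne : P ≠ T)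
    (hrec : F.IsReceptive P)
    (IH : ∀ (R : Subgroup Ω) (ψ : R →* Ω), R ≤ T → ψ ∈ F.Hom R → Nat.card P < Nat.card R →
      Good F E R ψ)
    (b : MulAut P) (m : MulAut P) (hm : m ∈ E.autGroup P) (hmF : m * b ∈ F.autGroup P)
    (hle : normalizerIn T P ≤ extender S P (P.subtype.comp (m * b).toMonoidHom)) :
    Good F E P (P.subtype.comp b.toMonoidHom) := by
  have hTS : T ≤ S := hT.1
  have hPS : P ≤ S := hPT.trans hTS
  have hfinT : Finite T := Fusion.finite_of_le hTS
  have hTp : IsPGroup p T := hS.to_le hTS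
  set ν := m * b with hν
  have hνhom := (Fusion.mem_autGroup_iff F hPS ν).mp hmF
  obtain ⟨ψ', hψ', hext⟩ := hrec.2 P _ hνhom (range_aut P ν)
  have hνhat := Fusion.restrict_mem F hψ' hle
  have hcard : Nat.card P < Nat.card (normalizerIn T P) :=
    Fusion.card_lt_card_normalizerIn hTp hPT hne
  have hG1 := IH _ _ (inf_le_left : normalizerIn T P ≤ T) hνhat hcard
  have hPN : P ≤ normalizerIn T P := Fusion.le_normalizerIn hPT
  have hG2 := good_restrict F E hG1 hPN
  have hGν : Good F E P (P.subtype.comp ν.toMonoidHom) := by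
    apply good_congr F E hG2
    intro x
    exact (hext x.1 x.2 (hle (hPN x.2))).symm
  have hm' : m⁻¹ ∈ E.autGroup P := Subgroup.inv_mem _ hm
  have hGm := good_of_mem F E hTS ((Fusion.mem_autGroup_iff E hPT m⁻¹).mp hm')
  have hG3 := meet_good_comp F E hTI hT hPT hGν hGm (fun x => (ν x).2)
  apply good_congr F E hG3
  intro x
  show ((b x : P) : Ω) = ((m⁻¹ (ν x) : P) : Ω)
  rw [hν]
  simp

/-- For a fully automized receptive `P` with `C_T(P) ≤ P`, every conjugate `P'` has `C_T(P') ≤ P'`. -/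
theorem meet_cent_push [Finite S] (p : ℕ) [Fact p.Prime] (hS : IsPGroup p S)
    (F : FusionSystem S) (hT : F.StronglyClosed T) {P P' : Subgroup Ω}
    (hfa : F.IsFullyAutomized p P) (hrec : F.IsReceptive P) (hconj : F.IsConj P' P)
    (hc : centralizerIn T P ≤ P) : centralizerIn T P' ≤ P' := by
  have hTS : T ≤ S := hT.1
  obtain ⟨ρ, hρ, -, hmap⟩ := Fusion.exists_hom_normalizerIn p hS F hfa hrec hconj
  have hinj := F.injective_of_mem hρ
  intro c hc'
  have hcS : c ∈ centralizerIn S P' := ⟨hTS hc'.1, hc'.2⟩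
  have hcN : c ∈ normalizerIn S P' := Fusion.centralizerIn_le_normalizerIn P' hcS
  have h1 : ρ ⟨c, hcN⟩ ∈ centralizerIn S P := Fusion.map_centralizerIn_mem F hρ hmap c hcS
  -- `ρ c ∈ T` by strong closure
  have hzT : Subgroup.zpowers c ≤ T := by
    rw [Subgroup.zpowers_le]
    exact hc'.1
  have hzN : Subgroup.zpowers c ≤ normalizerIn S P' := by
    rw [Subgroup.zpowers_le]
    exact hcN
  have h2 : ρ ⟨c, hcN⟩ ∈ T :=
    hT.2 (Subgroup.zpowers c) hzT _ (Fusion.restrict_mem F hρ hzN) ⟨c, Subgroup.mem_zpowers c⟩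
  have h3 : ρ ⟨c, hcN⟩ ∈ P := hc ⟨h2, h1.2⟩
  rw [← hmap] at h3
  obtain ⟨q, hq, hqc⟩ := h3
  rw [SetLike.mem_coe, Subgroup.mem_subgroupOf] at hq
  have : q = ⟨c, hcN⟩ := hinj hqc
  rw [this] at hq
  exact hq

/-- **The downward induction**: every map of `F` between subgroups of `T` is good. -/
theorem meet_good_all [Finite S] (p : ℕ) [Fact p.Prime] (hS : IsPGroup p S)
    (F : FusionSystem S) (hF : F.IsSaturated p) (E : FusionSystem T) (hTI : MeetTopInv F E)
    (hT : F.StronglyClosed T) (hsub : E.IsSubsystemOf F)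
    (hloc : ∀ P : Subgroup Ω, P ≤ T → P ≠ T → F.IsFullyNormalized P → F.IsFullyAutomized p P →
      F.IsReceptive P → (∀ P' : Subgroup Ω, F.IsConj P P' → centralizerIn T P' ≤ P') →
      ∀ b ∈ F.autGroup P, ∃ m ∈ E.autGroup P,
        normalizerIn T P ≤ extender S P (P.subtype.comp (m * b).toMonoidHom)) :
    ∀ (n : ℕ) (P : Subgroup Ω) (φ : P →* Ω), P ≤ T → φ ∈ F.Hom P →
      Nat.card T - Nat.card P = n → Good F E P φ := by
  have hTS : T ≤ S := hT.1
  have hfinT : Finite T := Fusion.finite_of_le hTS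
  intro n
  induction n using Nat.strong_induction_on with
  | _ n ih =>
  intro P φ hPT hφ hn
  by_cases hPeq : P = T
  · subst hPeq
    exact ⟨φ, hφ, P.subtype, Fusion.subtype_mem E le_rfl, fun x => rfl⟩
  · have hPS : P ≤ S := hPT.trans hTS
    have IH' : ∀ (R : Subgroup Ω) (ψ : R →* Ω), R ≤ T → ψ ∈ F.Hom R →
        Nat.card P < Nat.card R → Good F E R ψ := by
      intro R ψ hRT hψ hlt
      have h1 : Nat.card R ≤ Nat.card T := Subgroup.card_le_of_le hRT
      exact ih (Nat.card T - Nat.card R) (by omega) R ψ hRT hψ rfl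
    obtain ⟨Pstar, hconj, hfa, hrec⟩ := hF P hPS
    have hPsT : Pstar ≤ T := by
      obtain ⟨φ₁, hφ₁, hr₁⟩ := hconj
      rw [← hr₁]
      rintro _ ⟨x, rfl⟩
      exact hT.2 P hPT φ₁ hφ₁ x
    have hcs : Nat.card Pstar = Nat.card P := card_eq_of_isConj F hconj
    have hP'T : φ.range ≤ T := by
      rintro _ ⟨x, rfl⟩
      exact hT.2 P hPT φ hφ x
    have hconjP' : F.IsConj P φ.range := ⟨φ, hφ, rfl⟩
    have hcP' : Nat.card φ.range = Nat.card P := card_eq_of_isConj F hconjP'
    have hconj2 : F.IsConj φ.range Pstar :=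
      Fusion.isConj_trans F (Fusion.isConj_symm F hconjP') hconj
    have hcardPT : Nat.card P < Nat.card T := by
      have h1 : Nat.card P ≤ Nat.card T := Subgroup.card_le_of_le hPT
      rcases Nat.lt_or_ge (Nat.card P) (Nat.card T) with h | h
      · exact h
      · exact absurd (Subgroup.eq_of_le_of_card_ge hPT h) hPeq
    have hP'ne : φ.range ≠ T := by
      intro h
      rw [h] at hcP'
      omega
    have hPsne : Pstar ≠ T := by
      intro h
      rw [h] at hcs
      omega
    obtain ⟨σ₁, hσ₁, hr₁, hG₁⟩ := exists_good_to_star p hS F E hT hPT hPeq hconj hfa hrec IH'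
    obtain ⟨σ₂, hσ₂, hr₂, hG₂⟩ := exists_good_to_star p hS F E hT hP'T hP'ne hconj2 hfa hrec
      (fun R ψ hRT hψ hlt => IH' R ψ hRT hψ (hcP' ▸ hlt))
    have hmr : ∀ x : P, φ x ∈ φ.range := fun x => ⟨x, rfl⟩
    have hτ := F.comp_mem hφ hσ₂ hmr
    set τ : P →* Ω := σ₂.comp (φ.codRestrict φ.range hmr) with hτdef
    have hτv : ∀ x : P, τ x = σ₂ ⟨φ x, hmr x⟩ := fun x => rfl
    obtain ⟨σ₁', hσ₁', hinv₁, hr₁'⟩ := Fusion.exists_inv F hσ₁ hr₁
    have hσ₁'P : ∀ y : Pstar, σ₁' y ∈ P := by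
      intro y
      rw [← hr₁']
      exact ⟨y, rfl⟩
    have hβ := F.comp_mem hσ₁' hτ hσ₁'P
    set β : Pstar →* Ω := τ.comp (σ₁'.codRestrict P hσ₁'P) with hβdef
    have hβv : ∀ y : Pstar, β y = τ ⟨σ₁' y, hσ₁'P y⟩ := fun y => rfl
    have hσ₁s : ∀ x : P, σ₁ x ∈ Pstar := fun x => hr₁ ▸ ⟨x, rfl⟩
    have hβσ : ∀ x : P, β ⟨σ₁ x, hσ₁s x⟩ = τ x := by
      intro x
      rw [hβv]
      exact app_congr τ _ _ (hinv₁ x (hσ₁s x))
    have hτs : ∀ x : P, τ x ∈ Pstar := fun x => hr₂ ▸ ⟨_, rfl⟩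
    have hrβ : β.range = Pstar := by
      ext y
      constructor
      · rintro ⟨z, rfl⟩
        rw [hβv]
        exact hτs _
      · intro hy
        rw [← hr₂] at hy
        obtain ⟨⟨_, x, rfl⟩, rfl⟩ := hy
        exact ⟨⟨σ₁ x, hσ₁s x⟩, hβσ x⟩
    obtain ⟨b, hb, hbv⟩ := Fusion.exists_aut_of_range_eq F hβ hrβ
    have IHs : ∀ (R : Subgroup Ω) (ψ : R →* Ω), R ≤ T → ψ ∈ F.Hom R →
        Nat.card Pstar < Nat.card R → Good F E R ψ :=
      fun R ψ hRT hψ hlt => IH' R ψ hRT hψ (hcs ▸ hlt)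
    have hGb : Good F E Pstar (Pstar.subtype.comp b.toMonoidHom) := by
      by_cases hc : centralizerIn T Pstar ≤ Pstar
      · have hcall : ∀ P' : Subgroup Ω, F.IsConj Pstar P' → centralizerIn T P' ≤ P' :=
          fun P' hP' => meet_cent_push p hS F hT hfa hrec (Fusion.isConj_symm F hP') hc
        obtain ⟨m, hm, hle⟩ := hloc Pstar hPsT hPsne (Fusion.fullyNormalized_of_FAR p hS F hfa hrec)
          hfa hrec hcall b hb
        have hmF : m * b ∈ F.autGroup Pstar :=
          Subgroup.mul_mem _ (autGroup_le_of_subsystem F E hsub Pstar hm) hb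
        exact meet_good_aut_loc p hS F E hTI hT hsub hPsT hPsne hrec IHs b m hm hmF hle
      · exact meet_good_aut_cent F E hT hPsT hrec hc IHs b hb
    have hGβ : Good F E Pstar β := good_congr F E hGb (fun y => (hbv y).symm)
    have hGτ : Good F E P τ := by
      have h1 := meet_good_comp F E hTI hT hPsT hG₁ hGβ hσ₁s
      exact good_congr F E h1 (fun x => (hβσ x).symm)
    obtain ⟨σ₂', hσ₂', hinv₂, -⟩ := Fusion.exists_inv F hσ₂ hr₂
    have hGσ₂' : Good F E Pstar σ₂' := meet_good_inv F E hTI hT hP'T hG₂ hr₂ hinv₂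
    have h2 := meet_good_comp F E hTI hT hPsT hGτ hGσ₂' hτs
    apply good_congr F E h2
    intro x
    show φ x = σ₂' ⟨τ x, hτs x⟩
    exact (hinv₂ ⟨φ x, hmr x⟩ (hτs x)).symm

end Cfsg.Agent.MEET
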