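import Mathlib
import Cfsg.Agent.MEET.EngDefs
import Cfsg.Agent.MEET.FratB
import Cfsg.Agent.Lead.SylowLemmas

/-!
# Project MEET, file Frat (helper3): (Fr) and (REF) for the system `meetN` of the abstract engine

Frozen headers of `notes/MEET_headers.lean.txt`; only the fields `hS sat sc sub inv autW syl` of `MeetEng` are used.

* `meet_N_le`, `meet_N_min`: `meetN` is the least system inside `F` containing the `A R`.
* `meet_A_le_aut`: `A R ≤ Aut_N(R)` for `R` in the family.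
* `meet_H_conj`: the family is closed under `F`-conjugacy.
* `meet_conj_inv`: `Aut_F(W)`-invariance of `meetN`; `meet_topInv`: the same as `MeetTopInv`.
* `meet_loc`: the local condition (Loc) of `FratB` from (E1), (E2).
* `meet_frat`: the Frattini property; `meet_isInvariantIn`: `meetN` is invariant in `F`.
* `meet_ref`, `meet_ref_of`: (REF).
-/

set_option autoImplicit false
set_option linter.unusedSectionVars false

namespace Cfsg.Agent.MEET

open Cfsg Cfsg.FusionSystem Cfsg.Agent.Lead Cfsg.Agent.Lead.StrongInv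
open Cfsg.Agent.Helper4.FusTr

universe u

variable {Ω : Type u} [Group Ω] {S : Subgroup Ω} {p : ℕ} {F : FusionSystem S} {W : Subgroup Ω}
  {hWS : W ≤ S} {A : ∀ P : Subgroup Ω, Subgroup (MulAut P)}

/-- `meetN` is a subsystem of `F`. -/
theorem meet_N_le (F : FusionSystem S) (W : Subgroup Ω) (hWS : W ≤ S)
    (A : ∀ P : Subgroup Ω, Subgroup (MulAut P)) : (meetN F W hWS A).IsSubsystemOf F :=
  fun _ _ h => h.1

/-- minimality of `meetN`. -/
theorem meet_N_min (F : FusionSystem S) (W : Subgroup Ω) (hWS : W ≤ S)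
    (A : ∀ P : Subgroup Ω, Subgroup (MulAut P)) (D : FusionSystem W)
    (hD : ∀ R ∈ meetH F W, A R ≤ D.autGroup R) : meetN F W hWS A ≤ D :=
  fun _ _ h => h.2.2.2 D hD

/-- the generators lie in `meetN`. -/
theorem meet_A_le_aut [Finite S] [Fact p.Prime] (h : MeetEng p F W hWS A) {R : Subgroup Ω}
    (hR : R ∈ meetH F W) : A R ≤ (meetN F W hWS A).autGroup R := by
  intro a ha
  have hRW : R ≤ W := hR.1
  rw [Fusion.mem_autGroup_iff (meetN F W hWS A) hRW a]
  refine ⟨(Fusion.mem_autGroup_iff F (hRW.trans hWS) a).mp (h.sub R hR ha), hRW,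
    fun x => hRW (a x).2, fun D hD => ?_⟩
  exact (Fusion.mem_autGroup_iff D hRW a).mp (hD R hR ha)

/-- The family is closed under `F`-conjugacy. -/
theorem meet_H_conj (hsc : F.StronglyClosed W) {P P' : Subgroup Ω} (hP : P ∈ meetH F W)
    (hPP' : F.IsConj P P') : P' ∈ meetH F W := by
  refine ⟨?_, fun P'' hP'' => hP.2 P'' (Fusion.isConj_trans F hPP' hP'')⟩
  obtain ⟨φ, hφ, hr⟩ := hPP'
  rw [← hr]
  rintro _ ⟨x, rfl⟩
  exact hsc.2 P hP.1 φ hφ x

/-- The transport of an automorphism along an isomorphism onto `P'`. -/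
theorem meet_exists_tr {P P' : Subgroup Ω} (φ : P →* Ω) (hinj : Function.Injective φ)
    (hr : φ.range = P') (a : MulAut P) : ∃ β : MulAut P', MeetTr φ a β := by
  set e := Fusion.equivOfRange φ hinj hr with he
  refine ⟨(e.symm.trans a).trans e, fun x hx => ?_⟩
  have h1 : e.symm ⟨φ x, hx⟩ = x := by
    apply e.injective
    rw [MulEquiv.apply_symm_apply]
    exact Subtype.ext rfl
  show ((e (a (e.symm ⟨φ x, hx⟩)) : P') : Ω) = φ (a x)
  rw [h1]
  rfl

/-- (conj) `Aut_F(W)`-invariance of `meetN`: the third clause of `IsInvariantIn`. -/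
theorem meet_conj_inv [Finite S] [Fact p.Prime] (h : MeetEng p F W hWS A) (P : Subgroup Ω)
    (hPW : P ≤ W) (φ : P →* Ω) (hφ : φ ∈ (meetN F W hWS A).Hom P) (α : MulAut W)
    (hα : α ∈ F.autGroup W) :
    ∃ χ ∈ (meetN F W hWS A).Hom ((P.subgroupOf W).map (W.subtype.comp α.toMonoidHom)),
      ∀ (x : P) (hφx : φ x ∈ W)
        (hαx : ((α ⟨x, hPW x.2⟩ : W) : Ω) ∈ (P.subgroupOf W).map (W.subtype.comp α.toMonoidHom)),
        χ ⟨(α ⟨x, hPW x.2⟩ : W), hαx⟩ = ((α ⟨φ x, hφx⟩ : W) : Ω) := by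
  -- the system `D = α⁻¹ N α`
  have key : ∀ (W' : Subgroup Ω) (_ : W' = mapS (W := W) (W' := W) α.symm W),
      ∃ D : FusionSystem W', Img (W := W) (W' := W) α.symm (meetN F W hWS A) D := by
    intro W' hW'
    subst hW'
    exact exists_img (W := W) (W' := W) α.symm (meetN F W hWS A) le_rfl
  obtain ⟨D, hD⟩ := key W (mapS_self (W := W) (W' := W) α.symm).symm
  have hD' : Img (W := W) (W' := W) α D (meetN F W hWS A) := hD.of_symm
  have hαhom : W.subtype.comp α.toMonoidHom ∈ F.Hom W := (Fusion.mem_autGroup_iff F hWS α).mp hα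
  -- `D` contains the generators
  have hgen : ∀ R ∈ meetH F W, A R ≤ D.autGroup R := by
    intro R hR a ha
    have hRW : R ≤ W := hR.1
    rw [Fusion.mem_autGroup_iff D hRW a]
    have hφR : (W.subtype.comp α.toMonoidHom).comp (Subgroup.inclusion hRW) ∈ F.Hom R :=
      Fusion.restrict_mem F hαhom hRW
    have hrel : ∀ x : R, rel (W := W) (W' := W) α (x : Ω)
        (((W.subtype.comp α.toMonoidHom).comp (Subgroup.inclusion hRW)) x) := fun x => ⟨hRW x.2, rfl⟩
    have hr : ((W.subtype.comp α.toMonoidHom).comp (Subgroup.inclusion hRW)).range =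
        mapS (W := W) (W' := W) α R := by
      ext z
      rw [mem_mapS]
      constructor
      · rintro ⟨x, rfl⟩
        exact ⟨x, x.2, hrel x⟩
      · rintro ⟨x, hx, hxz⟩
        exact ⟨⟨x, hx⟩, rel.unique_right (hrel ⟨x, hx⟩) hxz⟩
    have hP' : mapS (W := W) (W' := W) α R ∈ meetH F W := meet_H_conj h.sc hR ⟨_, hφR, hr⟩
    obtain ⟨β, hβ⟩ := meet_exists_tr _ (F.injective_of_mem hφR) hr a
    have hβA : β ∈ A (mapS (W := W) (W' := W) α R) := h.inv R hR _ _ hφR hr a ha β hβ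
    have hβN := (Fusion.mem_autGroup_iff (meetN F W hWS A) hP'.1 β).mp (meet_A_le_aut h hP' hβA)
    have hInd : Ind (W := W) (W' := W) α (R.subtype.comp a.toMonoidHom)
        ((mapS (W := W) (W' := W) α R).subtype.comp β.toMonoidHom) := by
      refine ⟨hRW, rfl, fun x y hxy => ?_⟩
      have hy : (y : Ω) = ((W.subtype.comp α.toMonoidHom).comp (Subgroup.inclusion hRW)) x :=
        rel.unique_right hxy (hrel x)
      have hx' : ((W.subtype.comp α.toMonoidHom).comp (Subgroup.inclusion hRW)) x ∈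
          mapS (W := W) (W' := W) α R := hy ▸ y.2
      have hyy : y = ⟨_, hx'⟩ := Subtype.ext hy
      show rel (W := W) (W' := W) α ((a x : R) : Ω) ((β y : _) : Ω)
      rw [hyy, hβ x hx']
      exact hrel (a x)
    exact (hD'.iff hInd).mpr hβN
  have hND : meetN F W hWS A ≤ D := meet_N_min F W hWS A D hgen
  obtain ⟨χ, hχ, hi⟩ := hD'.push (hND P hφ) rfl
  refine ⟨χ, hχ, fun x hφx hαx => ?_⟩
  have r0 : rel (W := W) (W' := W) α (x : Ω) ((α ⟨x, hPW x.2⟩ : W) : Ω) := ⟨hPW x.2, rfl⟩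
  have r1 := hi.app (x := x) (y := ⟨_, hαx⟩) r0
  exact rel.unique_right r1 ⟨hφx, rfl⟩

/-- `meetN` is top-invariant. -/
theorem meet_topInv [Finite S] [Fact p.Prime] (h : MeetEng p F W hWS A) :
    MeetTopInv F (meetN F W hWS A) := by
  intro R hRW θ hθ γ hγ R' hR'
  have hr : γ.range = W := (Fusion.weaklyClosed_of_stronglyClosed F h.sc).2 γ hγ
  obtain ⟨a, ha, hav⟩ := Fusion.exists_aut_of_range_eq F hγ hr
  obtain ⟨χ, hχ, hχv⟩ := meet_conj_inv h R hRW θ hθ a ha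
  have hsrc : (R.subgroupOf W).map (W.subtype.comp a.toMonoidHom) = R' := by
    ext z
    rw [hR']
    constructor
    · rintro ⟨w, hw, rfl⟩
      rw [SetLike.mem_coe, Subgroup.mem_subgroupOf] at hw
      exact ⟨w.1, hw, (hav ⟨w.1, w.2⟩).symm⟩
    · rintro ⟨r, hr, rfl⟩
      refine ⟨⟨r, hRW hr⟩, ?_, hav _⟩
      rw [SetLike.mem_coe, Subgroup.mem_subgroupOf]
      exact hr
  obtain ⟨χ', hχ', hχ'v⟩ := Fusion.exists_hom_of_eq (meetN F W hWS A) hsrc hχ
  refine ⟨χ', hχ', fun r hr hr' => ?_⟩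
  have h1 : ((a ⟨r, hRW hr⟩ : W) : Ω) ∈ (R.subgroupOf W).map (W.subtype.comp a.toMonoidHom) := by
    rw [hsrc, hav]
    exact hr'
  have h2 : γ ⟨r, hRW hr⟩ ∈ (R.subgroupOf W).map (W.subtype.comp a.toMonoidHom) := hsrc ▸ hr'
  have hθW : θ ⟨r, hr⟩ ∈ W := ((meetN F W hWS A).le_of_mem hθ).2 ⟨r, hr⟩
  rw [hχ'v _ h2 hr']
  have h3 := hχv ⟨r, hr⟩ hθW h1
  rw [← hav ⟨θ ⟨r, hr⟩, hθW⟩, ← h3]
  exact app_congr χ _ _ (hav ⟨r, hRW hr⟩).symm

/-- The local condition (Loc) from (E1), (E2): for `P` fully normalized in the family and `b ∈ Aut_F(P)`, some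
`m ∈ A(P)` makes `m b` normalize `Aut_W(P)`, so that `N_W(P)` lies in the extender of `m b`. -/
theorem meet_loc [Finite S] [Fact p.Prime] (h : MeetEng p F W hWS A) {P : Subgroup Ω}
    (hP : P ∈ meetH F W) (hfn : F.IsFullyNormalized P) (b : MulAut P) (hb : b ∈ F.autGroup P) :
    ∃ m ∈ (meetN F W hWS A).autGroup P,
      normalizerIn W P ≤ extender S P (P.subtype.comp (m * b).toMonoidHom) := by
  have hPW : P ≤ W := hP.1
  have hPS : P ≤ S := hPW.trans hWS
  have hfinP : Finite P := Fusion.finite_of_le hPS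
  have hWp : IsPGroup p W := h.hS.to_le hWS
  have hVA : autInducedBy W P ≤ A P := h.autW P hP hfn
  have hVp : IsPGroup p (autInducedBy W P) := Fusion.isPGroup_autInducedBy p hWp P
  -- `Aut_W(P)` has the order of a Sylow `p`-subgroup of `A(P)`
  have hVcard : Nat.card (autInducedBy W P) = p ^ (Nat.card (A P)).factorization p := by
    obtain ⟨T₀, hVT₀, hT₀A, hT₀p, hT₀card⟩ := exists_le_card_eq_ppart hVp hVA
    have hT₀V : T₀ ≤ autInducedBy W P := h.syl P hP hfn T₀ hT₀p hVT₀ hT₀A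
    rw [← hT₀card, le_antisymm hVT₀ hT₀V]
  -- `A(P)` is normalized by `Aut_F(P)`
  have hnorm : ∀ c ∈ F.autGroup P, ∀ a ∈ A P, c * a * c⁻¹ ∈ A P := by
    intro c hc a ha
    refine h.inv P hP P _ ((Fusion.mem_autGroup_iff F hPS c).mp hc) (range_aut P c) a ha
      (c * a * c⁻¹) (fun x hx => ?_)
    have : (⟨(P.subtype.comp c.toMonoidHom) x, hx⟩ : P) = c x := Subtype.ext rfl
    rw [this]
    show (((c * a * c⁻¹) (c x) : P) : Ω) = ((c (a x) : P) : Ω)
    simp
  have hVb : (autInducedBy W P).map (MulAut.conj b).toMonoidHom ≤ A P := by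
    rintro _ ⟨v, hv, rfl⟩
    exact hnorm b hb v (hVA hv)
  obtain ⟨m, hm, hmV⟩ := exists_conj_le_of_card_eq_ppart hVA hVcard hVb (hVp.map _)
  refine ⟨m, meet_A_le_aut h hP hm, ?_⟩
  set ν := m * b with hν
  have hνV : ∀ v ∈ autInducedBy W P, ν * v * ν⁻¹ ∈ autInducedBy W P := by
    intro v hv
    have h1 : m * (b * v * b⁻¹) * m⁻¹ ∈ autInducedBy W P := hmV ⟨b * v * b⁻¹, ⟨v, hv, rfl⟩, rfl⟩
    have h2 : ν * v * ν⁻¹ = m * (b * v * b⁻¹) * m⁻¹ := by rw [hν]; group
    rw [h2]; exact h1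
  intro g hg
  obtain ⟨hgW, hgN⟩ := Subgroup.mem_inf.mp hg
  apply Subgroup.subset_closure
  refine ⟨hWS hgW, hgN, ?_⟩
  have hcU : conjAutHom P ⟨g, hgN⟩ ∈ autInducedBy W P :=
    Fusion.conjAutHom_mem_autInducedBy P ⟨g, hgN⟩ hgW
  have h1 : ν * conjAutHom P ⟨g, hgN⟩ * ν⁻¹ ∈ autInducedBy W P := hνV _ hcU
  rw [mem_autInducedBy_iff] at h1
  obtain ⟨k, hkW, hk⟩ := h1
  refine ⟨k, hWS hkW, fun x hx => ?_⟩
  have h2 := hk (ν x)
  show ((ν ⟨g * x * g⁻¹, hx⟩ : P) : Ω) = k * ((ν x : P) : Ω) * k⁻¹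
  rw [← h2]
  simp only [MulAut.mul_apply, MulAut.inv_apply_self]
  rfl

/-- (Fr) the Frattini clause of `IsInvariantIn`. -/
theorem meet_frat [Finite S] [Fact p.Prime] (h : MeetEng p F W hWS A) (P : Subgroup Ω)
    (hPW : P ≤ W) (φ : P →* Ω) (hφ : φ ∈ F.Hom P) :
    ∃ α ∈ F.autGroup W, ∃ φ₀ ∈ (meetN F W hWS A).Hom P,
      ∀ (x : P) (hx : φ₀ x ∈ W), φ x = ((α ⟨φ₀ x, hx⟩ : W) : Ω) := by
  have hloc : ∀ P : Subgroup Ω, P ≤ W → P ≠ W → F.IsFullyNormalized P → F.IsFullyAutomized p P →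
      F.IsReceptive P → (∀ P' : Subgroup Ω, F.IsConj P P' → centralizerIn W P' ≤ P') →
      ∀ b ∈ F.autGroup P, ∃ m ∈ (meetN F W hWS A).autGroup P,
        normalizerIn W P ≤ extender S P (P.subtype.comp (m * b).toMonoidHom) :=
    fun P hPW _ hfn _ _ hc b hb => meet_loc h ⟨hPW, hc⟩ hfn b hb
  obtain ⟨α, hα, φ₀, h₀, hv⟩ := meet_good_all p h.hS F h.sat (meetN F W hWS A) (meet_topInv h) h.sc
    (meet_N_le F W hWS A) hloc _ P φ hPW hφ rfl
  have hr : α.range = W := (Fusion.weaklyClosed_of_stronglyClosed F h.sc).2 α hα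
  obtain ⟨a, ha, hav⟩ := Fusion.exists_aut_of_range_eq F hα hr
  refine ⟨a, ha, φ₀, h₀, fun x hx => ?_⟩
  rw [hav]
  exact hv x

/-- `meetN` is invariant in `F`. -/
theorem meet_isInvariantIn [Finite S] [Fact p.Prime] (h : MeetEng p F W hWS A) :
    (meetN F W hWS A).IsInvariantIn F :=
  ⟨meet_N_le F W hWS A, h.sc, fun P hPW φ hφ α hα => meet_conj_inv h P hPW φ hφ α hα,
    fun P hPW φ hφ => meet_frat h P hPW φ hφ⟩

/-- (REF), refined: the translate can be taken to be a translate of any prescribed fully normalized conjugate. -/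
theorem meet_ref_of [Finite S] [Fact p.Prime] (h : MeetEng p F W hWS A) {P U : Subgroup Ω}
    (hP : P ∈ meetH F W) (hU : U ∈ meetUf F W) (hPU : F.IsConj P U) :
    ∃ α ∈ F.autGroup W, ∃ ψ ∈ (meetN F W hWS A).Hom (normalizerIn W P),
      (∀ x : ↥(normalizerIn W P), ψ x ∈ normalizerIn W (meetImg α U)) ∧
      (P.subgroupOf (normalizerIn W P)).map ψ = meetImg α U := by
  have hPW : P ≤ W := hP.1
  have hUW : U ≤ W := hU.1.1
  have hUS : U ≤ S := hUW.trans hWS
  have hfinU : Finite U := Fusion.finite_of_le hUS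
  obtain ⟨-, hfa⟩ := Fusion.fullyCentralized_fullyAutomized_of_fullyNormalized p h.hS F h.sat hU.2
  have hrec : F.IsReceptive U := Fusion.receptive_of_fullyCentralized p h.hS F h.sat
    (Fusion.fullyCentralized_fullyAutomized_of_fullyNormalized p h.hS F h.sat hU.2).1
  obtain ⟨ρ, hρ, hρN, hmap⟩ := Fusion.exists_hom_normalizerIn p h.hS F hfa hrec hPU
  have hle : normalizerIn W P ≤ normalizerIn S P := inf_le_inf_right _ hWS
  have hYW : normalizerIn W P ≤ W := inf_le_left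
  have hPY : P ≤ normalizerIn W P := Fusion.le_normalizerIn hPW
  have hχ := Fusion.restrict_mem F hρ hle
  obtain ⟨a, ha, ψ, hψ, hv⟩ := meet_frat h (normalizerIn W P) hYW _ hχ
  have hψW : ∀ x : ↥(normalizerIn W P), ψ x ∈ W := ((meetN F W hWS A).le_of_mem hψ).2
  -- `ψ x` and `ρ x` are related by `a⁻¹`
  have hrel : ∀ x : ↥(normalizerIn W P),
      rel (W := W) (W' := W) a⁻¹ (ρ (Subgroup.inclusion hle x)) (ψ x) := by
    intro x
    have h1 : ρ (Subgroup.inclusion hle x) = ((a ⟨ψ x, hψW x⟩ : W) : Ω) := hv x (hψW x)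
    have h2 : rel (W := W) (W' := W) a (ψ x) (ρ (Subgroup.inclusion hle x)) := ⟨hψW x, h1.symm⟩
    exact h2.symm
  have hmem : ∀ y : Ω, y ∈ meetImg a⁻¹ U ↔ ∃ u ∈ U, rel (W := W) (W' := W) a⁻¹ u y :=
    fun y => mem_mapS (W := W) (W' := W) a⁻¹ U y
  refine ⟨a⁻¹, Subgroup.inv_mem _ ha, ψ, hψ, fun x => ?_, ?_⟩
  · refine Subgroup.mem_inf.mpr ⟨hψW x, ?_⟩
    have hfin : Finite ↥(meetImg a⁻¹ U) :=
      Fusion.finite_of_le ((mapS_le (W := W) (W' := W) a⁻¹ U).trans hWS)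
    apply mem_normalizer_of_conj_mem_of_finite
    intro y hy
    obtain ⟨u, hu, huy⟩ := (hmem y).mp hy
    have hN : ρ (Subgroup.inclusion hle x) ∈ Subgroup.normalizer (U : Set Ω) :=
      (Subgroup.mem_inf.mp (hρN _)).2
    have hu' : ρ (Subgroup.inclusion hle x) * u * (ρ (Subgroup.inclusion hle x))⁻¹ ∈ U :=
      (Subgroup.mem_normalizer_iff.mp hN u).mp hu
    exact (hmem _).mpr ⟨_, hu', (hrel x).conj huy⟩
  · ext y
    rw [hmem]
    constructor
    · rintro ⟨x, hx, rfl⟩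
      rw [SetLike.mem_coe, Subgroup.mem_subgroupOf] at hx
      refine ⟨ρ (Subgroup.inclusion hle x), ?_, hrel x⟩
      rw [← hmap]
      refine ⟨Subgroup.inclusion hle x, ?_, rfl⟩
      rw [SetLike.mem_coe, Subgroup.mem_subgroupOf]
      exact hx
    · rintro ⟨u, hu, huy⟩
      rw [← hmap] at hu
      obtain ⟨n, hn, rfl⟩ := hu
      rw [SetLike.mem_coe, Subgroup.mem_subgroupOf] at hn
      refine ⟨⟨n.1, hPY hn⟩, ?_, ?_⟩
      · rw [SetLike.mem_coe, Subgroup.mem_subgroupOf]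
        exact hn
      · exact rel.unique_right (hrel ⟨n.1, hPY hn⟩) huy

/-- (REF) every member of the family has a map of `meetN`, defined on its normalizer in `W`, onto a translate. -/
theorem meet_ref [Finite S] [Fact p.Prime] (h : MeetEng p F W hWS A) {P : Subgroup Ω}
    (hP : P ∈ meetH F W) :
    ∃ V ∈ meetUstar F W, ∃ ψ ∈ (meetN F W hWS A).Hom (normalizerIn W P),
      (∀ x : ↥(normalizerIn W P), ψ x ∈ normalizerIn W V) ∧
      (P.subgroupOf (normalizerIn W P)).map ψ = V := by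
  obtain ⟨U, hPU, hUfn⟩ := Fusion.exists_isConj_fullyNormalized F (hP.1.trans hWS)
  have hU : U ∈ meetUf F W := ⟨meet_H_conj h.sc hP hPU, hUfn⟩
  obtain ⟨α, hα, ψ, hψ, h1, h2⟩ := meet_ref_of h hP hU hPU
  exact ⟨meetImg α U, ⟨U, hU, α, hα, rfl⟩, ψ, hψ, h1, h2⟩

end Cfsg.Agent.MEET
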