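import Mathlib
import Cfsg.Agent.MEET.ClaimDa
import Cfsg.Agent.MEET.Frat

/-!
# Project MEET, Claim D, part b (helper7): one step up the normalizer tower

`notes/MEET_helper8.md`, section 11, the inductive step of Claim D after the reduction by (E3): if `η₀ ∈ Aut_F(N_W(U))` and
`α ∘ η₀|_X` is a map of `meetN` for some `U < X < N_W(U)`, then `η₀|_X` extends to a map `γ'` of `F` on
`X₁ = N_{N_W(U)}(X) > X` with values in `N_W(U)` such that `α ∘ γ'` is again a map of `meetN`.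
-/

set_option autoImplicit false

namespace Cfsg.Agent.MEET

open Cfsg Cfsg.FusionSystem Cfsg.Agent.Lead

universe u

variable {Ω : Type u} [Group Ω] {S : Subgroup Ω} {p : ℕ} {F : FusionSystem S} {W : Subgroup Ω} {hWS : W ≤ S}
  {A : ∀ P : Subgroup Ω, Subgroup (MulAut P)}

theorem meet_cd_card_lt {X X₁ : Subgroup Ω} [Finite X₁] (hle : X ≤ X₁) (hne : X ≠ X₁) :
    Nat.card X < Nat.card X₁ := by
  by_contra hcon
  exact hne (Subgroup.eq_of_le_of_card_ge hle (not_lt.mp hcon))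

/-- One step up the normalizer tower. -/
theorem meet_cd_up [Finite S] [Fact p.Prime] (h : MeetEng p F W hWS A) {U : Subgroup Ω}
    (hU : U ∈ meetUf F W) (hI : MeetI F W hWS A (Nat.card U)) (α : MulAut W) (hα : α ∈ F.autGroup W)
    (X : Subgroup Ω) (hUX : U ≤ X) (hne : U ≠ X) (hXY : X ≤ normalizerIn W U)
    (hXne : X ≠ normalizerIn W U)
    (η₀ : MulAut ↥(normalizerIn W U)) (hη₀ : η₀ ∈ F.autGroup (normalizerIn W U))
    (hN : meetTw α (((normalizerIn W U).subtype.comp η₀.toMonoidHom).comp (Subgroup.inclusion hXY))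
        (fun x => (inf_le_left : normalizerIn W U ≤ W) (η₀ (Subgroup.inclusion hXY x)).2) ∈
          (meetN F W hWS A).Hom X) :
    ∃ (X₁ : Subgroup Ω) (hXX₁ : X ≤ X₁) (_ : X₁ ≤ normalizerIn W U), Nat.card X < Nat.card X₁ ∧
      ∃ γ' ∈ F.Hom X₁, ∃ hγ'Y : ∀ x : X₁, γ' x ∈ normalizerIn W U,
        (∀ x : X, γ' (Subgroup.inclusion hXX₁ x) =
          ((η₀ (Subgroup.inclusion hXY x) : ↥(normalizerIn W U)) : Ω)) ∧
        meetTw α γ' (fun x => (inf_le_left : normalizerIn W U ≤ W) (hγ'Y x)) ∈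
          (meetN F W hWS A).Hom X₁ := by
  classical
  have hYW : normalizerIn W U ≤ W := inf_le_left
  have hYS : normalizerIn W U ≤ S := hYW.trans hWS
  have hfinW : Finite W := Fusion.finite_of_le hWS
  have hfinY : Finite ↥(normalizerIn W U) := Fusion.finite_of_le hYS
  have hNF : (meetN F W hWS A).IsSubsystemOf F := meet_N_le F W hWS A
  have hη₀F : (normalizerIn W U).subtype.comp η₀.toMonoidHom ∈ F.Hom (normalizerIn W U) :=
    (Fusion.mem_autGroup_iff F hYS η₀).mp hη₀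
  -- the next group
  have hX₁Y : normalizerIn (normalizerIn W U) X ≤ normalizerIn W U := inf_le_left
  have hXX₁ : X ≤ normalizerIn (normalizerIn W U) X := le_inf hXY Subgroup.le_normalizer
  have hX₁n : normalizerIn (normalizerIn W U) X ≤ Subgroup.normalizer (X : Set Ω) := inf_le_right
  have hX₁W : normalizerIn (normalizerIn W U) X ≤ W := hX₁Y.trans hYW
  have hfinX₁ : Finite ↥(normalizerIn (normalizerIn W U) X) := Fusion.finite_of_le (hX₁W.trans hWS)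
  have hYp : IsPGroup p ↥(normalizerIn W U) := h.hS.to_le hYS
  obtain ⟨x₀, hx₀Y, hx₀n, hx₀X⟩ := Cfsg.Agent.Helper4.exists_mem_normalizer_not_mem
    (normalizerIn W U) hYp X (lt_of_le_of_ne hXY hXne)
  have hlt : Nat.card X < Nat.card ↥(normalizerIn (normalizerIn W U) X) := by
    apply meet_cd_card_lt hXX₁
    intro e
    apply hx₀X
    rw [e]
    exact ⟨hx₀Y, hx₀n⟩
  refine ⟨normalizerIn (normalizerIn W U) X, hXX₁, hX₁Y, hlt, ?_⟩
  -- the maps `g = α η₀|_X` and `G₁ = α η₀|_{X₁}`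
  set e₁ : ↥(normalizerIn (normalizerIn W U) X) →* Ω :=
    ((normalizerIn W U).subtype.comp η₀.toMonoidHom).comp (Subgroup.inclusion hX₁Y) with he₁
  have he₁F : e₁ ∈ F.Hom (normalizerIn (normalizerIn W U) X) := Fusion.restrict_mem F hη₀F hX₁Y
  have he₁Y : ∀ y, e₁ y ∈ normalizerIn W U := fun y => (η₀ (Subgroup.inclusion hX₁Y y)).2
  have he₁W : ∀ y, e₁ y ∈ W := fun y => hYW (he₁Y y)
  set G₁ : ↥(normalizerIn (normalizerIn W U) X) →* Ω := meetTw α e₁ he₁W with hG₁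
  have hG₁F : G₁ ∈ F.Hom (normalizerIn (normalizerIn W U) X) := meet_cd_tw_mem F hWS α hα e₁ he₁F he₁W
  set g : X →* Ω := meetTw α (((normalizerIn W U).subtype.comp η₀.toMonoidHom).comp
    (Subgroup.inclusion hXY)) (fun x => hYW (η₀ (Subgroup.inclusion hXY x)).2) with hg
  have hgG : ∀ x : X, G₁ (Subgroup.inclusion hXX₁ x) = g x := fun x => rfl
  have hgF : g ∈ F.Hom X := hNF X hN
  -- `X' = g(X)` is a member of the family
  have hXW : X ≤ W := hXY.trans hYW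
  have hXH : X ∈ meetH F W := meet_cd_H_of_le F hU.1 hUX hXW
  have hgW : ∀ x : X, g x ∈ W := fun x => (α _).2
  have hX'W : g.range ≤ W := by
    rintro _ ⟨x, rfl⟩
    exact hgW x
  have hX'H : g.range ∈ meetH F W := meet_cd_H_conj F hXH ⟨g, hgF, rfl⟩ hX'W
  obtain ⟨R, hR, ρ, hρ, hρR, hρim⟩ := meet_ref h hX'H
  have hρF : ρ ∈ F.Hom (normalizerIn W g.range) := hNF _ hρ
  -- `G₁` maps `X₁` into `N_W(X')`
  have hG₁n : ∀ y, G₁ y ∈ normalizerIn W g.range := by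
    intro y
    refine ⟨(α _).2, ?_⟩
    apply meet_cd_map_normalizer hX₁n G₁ g.range _ y
    intro r
    constructor
    · rintro ⟨x, rfl⟩
      exact ⟨Subgroup.inclusion hXX₁ x, x.2, hgG x⟩
    · rintro ⟨x, hx, rfl⟩
      exact ⟨⟨x, hx⟩, rfl⟩
  have hgn : ∀ x : X, g x ∈ normalizerIn W g.range := fun x => hG₁n (Subgroup.inclusion hXX₁ x)
  -- `Φ = ρ G₁` and `φ = ρ g`
  obtain ⟨Φ, hΦF, hΦ⟩ := Fusion.comp_mem' F hG₁F hρF hG₁n
  obtain ⟨φ, hφN, hφ⟩ := Fusion.comp_mem' (meetN F W hWS A) hN hρ hgn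
  have hΦφ : ∀ x : X, Φ (Subgroup.inclusion hXX₁ x) = φ x := by
    intro x
    rw [hΦ, hφ]
    rfl
  have hφr : φ.range = R := by
    rw [← hρim]
    ext r
    constructor
    · rintro ⟨x, rfl⟩
      rw [hφ]
      exact ⟨⟨g x, hgn x⟩, Subgroup.mem_subgroupOf.mpr ⟨x, rfl⟩, rfl⟩
    · rintro ⟨z, hz, rfl⟩
      obtain ⟨x, hx⟩ := Subgroup.mem_subgroupOf.mp hz
      refine ⟨x, ?_⟩
      rw [hφ]
      congr 1
      exact Subtype.ext hx
  -- `R` is receptive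
  have hφinj : Function.Injective φ := (meetN F W hWS A).injective_of_mem hφN
  have hcardR : Nat.card U < Nat.card R := by
    rw [← hφr, meet_cd_card_range φ hφinj]
    have : Finite X := Fusion.finite_of_le (hXW.trans hWS)
    exact meet_cd_card_lt hUX hne
  obtain ⟨-, -, hrec⟩ := hI R hR hcardR
  obtain ⟨ψ, hψ, hψφ⟩ := hrec X φ hφN hφr
  have hΦW : ∀ y, Φ y ∈ W := fun y => by
    rw [hΦ]
    exact (inf_le_left : normalizerIn W R ≤ W) (hρR _)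
  have hle : normalizerIn (normalizerIn W U) X ≤ extender W X φ := by
    intro y hy
    apply Subgroup.subset_closure
    refine ⟨hX₁W hy, hX₁n hy, Φ ⟨y, hy⟩, hΦW _, fun x hx => ?_⟩
    have e1 : (⟨y * (x : Ω) * y⁻¹, hx⟩ : X) = ⟨y * (x : Ω) * y⁻¹, hx⟩ := rfl
    have e2 : Subgroup.inclusion hXX₁ ⟨y * (x : Ω) * y⁻¹, hx⟩ =
        (⟨y, hy⟩ : ↥(normalizerIn (normalizerIn W U) X)) * Subgroup.inclusion hXX₁ x * ⟨y, hy⟩⁻¹ :=
      Subtype.ext rfl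
    rw [← hΦφ, e2, map_mul, map_mul, map_inv, hΦφ]
  have hξN := Fusion.restrict_mem (meetN F W hWS A) hψ hle
  set ξ : ↥(normalizerIn (normalizerIn W U) X) →* Ω := ψ.comp (Subgroup.inclusion hle) with hξ
  have hξφ : ∀ x : X, ξ (Subgroup.inclusion hXX₁ x) = φ x := by
    intro x
    exact hψφ (x : Ω) x.2 (hle (hXX₁ x.2))
  have hξW : ∀ y, ξ y ∈ W := fun y => ((meetN F W hWS A).le_of_mem hξN).2 y
  -- comparison of `ξ` and `Φ`
  have hag : ∀ y : ↥(normalizerIn (normalizerIn W U) X), (y : Ω) ∈ X → ξ y = Φ y := by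
    intro y hy
    have e : y = Subgroup.inclusion hXX₁ ⟨y, hy⟩ := Subtype.ext rfl
    rw [e, hξφ, hΦφ]
  have hRcent : centralizerIn W R ≤ R := hXH.2 R ⟨φ, hNF X hφN, hφr⟩
  have hdiff : ∀ y, (Φ y)⁻¹ * ξ y ∈ R := by
    intro y
    apply hRcent
    refine ⟨W.mul_mem (W.inv_mem (hΦW y)) (hξW y), ?_⟩
    refine Subgroup.mem_centralizer_iff.mpr (fun r hr => ?_)
    apply meet_cd_diff_mem hX₁n ξ Φ hag y r
    rw [← hφr] at hr
    obtain ⟨x, rfl⟩ := hr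
    exact ⟨Subgroup.inclusion hXX₁ x, x.2, hΦφ x⟩
  have hξΦ : ∀ y, ξ y ∈ Φ.range := by
    intro y
    have h1 := hdiff y
    rw [← hφr] at h1
    obtain ⟨x, hx⟩ := h1
    refine ⟨y * Subgroup.inclusion hXX₁ x, ?_⟩
    rw [map_mul, hΦφ, hx]
    group
  -- `ζ = Φ⁻¹ ξ`
  obtain ⟨Φi, hΦi, hΦinv, hΦir⟩ := Fusion.exists_inv F hΦF rfl
  obtain ⟨ζ, hζF, hζ⟩ := Fusion.comp_mem' F (hNF _ hξN) hΦi hξΦ
  have hζX₁ : ∀ y, ζ y ∈ normalizerIn (normalizerIn W U) X := by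
    intro y
    rw [hζ]
    have h1 : Φi ⟨ξ y, hξΦ y⟩ ∈ Φi.range := ⟨_, rfl⟩
    rwa [hΦir] at h1
  have hζid : ∀ x : X, ζ (Subgroup.inclusion hXX₁ x) = (x : Ω) := by
    intro x
    rw [hζ]
    have e : (⟨ξ (Subgroup.inclusion hXX₁ x), hξΦ _⟩ : Φ.range) =
        ⟨Φ (Subgroup.inclusion hXX₁ x), ⟨_, rfl⟩⟩ :=
      Subtype.ext (show ξ (Subgroup.inclusion hXX₁ x) = Φ (Subgroup.inclusion hXX₁ x) by
        rw [hξφ, hΦφ])
    exact (congrArg Φi e).trans (hΦinv _ _)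
  have hΦζ : ∀ y, Φ ⟨ζ y, hζX₁ y⟩ = ξ y := by
    intro y
    obtain ⟨z, hz⟩ := hξΦ y
    have e : (⟨ζ y, hζX₁ y⟩ : ↥(normalizerIn (normalizerIn W U) X)) = z := by
      apply Subtype.ext
      show ζ y = z
      rw [hζ]
      have e' : (⟨ξ y, hξΦ y⟩ : Φ.range) = ⟨Φ z, ⟨_, rfl⟩⟩ := Subtype.ext hz.symm
      exact (congrArg Φi e').trans (hΦinv _ _)
    rw [e, hz]
  -- `γ' = η₀ ζ`
  obtain ⟨γ', hγ'F, hγ'⟩ := Fusion.comp_mem' F hζF he₁F hζX₁
  have hγ'Y : ∀ y, γ' y ∈ normalizerIn W U := fun y => by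
    rw [hγ']
    exact he₁Y _
  refine ⟨γ', hγ'F, hγ'Y, ?_, ?_⟩
  · intro x
    rw [hγ']
    have e : (⟨ζ (Subgroup.inclusion hXX₁ x), hζX₁ _⟩ : ↥(normalizerIn (normalizerIn W U) X)) =
        Subgroup.inclusion hXX₁ x := Subtype.ext (hζid x)
    rw [e]
    rfl
  · -- `α γ' = ρ⁻¹ ξ`
    obtain ⟨ρi, hρi, hρinv, -⟩ := Fusion.exists_inv (meetN F W hWS A) hρ rfl
    have hξρ : ∀ y, ξ y ∈ ρ.range := by
      intro y
      rw [← hΦζ y, hΦ]
      exact ⟨_, rfl⟩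
    obtain ⟨χ, hχN, hχ⟩ := Fusion.comp_mem' (meetN F W hWS A) hξN hρi hξρ
    have : meetTw α γ' (fun x => hYW (hγ'Y x)) = χ := by
      ext y
      rw [hχ]
      have e : (⟨ξ y, hξρ y⟩ : ρ.range) = ⟨ρ ⟨G₁ ⟨ζ y, hζX₁ y⟩, hG₁n _⟩, ⟨_, rfl⟩⟩ :=
        Subtype.ext (show ξ y = ρ ⟨G₁ ⟨ζ y, hζX₁ y⟩, hG₁n _⟩ by rw [← hΦζ y, hΦ])
      rw [(congrArg ρi e).trans (hρinv _ _)]
      show ((α ⟨γ' y, _⟩ : W) : Ω) = ((α ⟨e₁ ⟨ζ y, hζX₁ y⟩, _⟩ : W) : Ω)
      congr 3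
      exact hγ' y
    rw [this]
    exact hχN

/-- `meet_conj_inv` with the image written as `meetImg`. -/
theorem meet_cd_conj [Finite S] [Fact p.Prime] (h : MeetEng p F W hWS A) (P : Subgroup Ω) (hPW : P ≤ W)
    (φ : P →* Ω) (hφ : φ ∈ (meetN F W hWS A).Hom P) (α : MulAut W) (hα : α ∈ F.autGroup W) :
    ∃ χ ∈ (meetN F W hWS A).Hom (meetImg α P),
      ∀ (x : P) (hφx : φ x ∈ W) (hαx : ((α ⟨x, hPW x.2⟩ : W) : Ω) ∈ meetImg α P),
        χ ⟨(α ⟨x, hPW x.2⟩ : W), hαx⟩ = ((α ⟨φ x, hφx⟩ : W) : Ω) :=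
  meet_conj_inv h P hPW φ hφ α hα

end Cfsg.Agent.MEET
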