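import Mathlib
import Cfsg.Agent.MEET.ClaimDb

/-!
# Project MEET, Claim D, part c (helper7): the induction

`meet_claimD` (`notes/MEET_helper8.md`, section 11): downward induction on `|X|`; the local Frattini factorization (E3)
reduces to `γ = η₀|_X` with `η₀ ∈ Aut_F(N_W(U))`, and `meet_cd_up` climbs one step.
-/

set_option autoImplicit false

namespace Cfsg.Agent.MEET

open Cfsg Cfsg.FusionSystem Cfsg.Agent.Lead

universe u

variable {Ω : Type u} [Group Ω] {S : Subgroup Ω} {p : ℕ} {F : FusionSystem S} {W : Subgroup Ω} {hWS : W ≤ S}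
  {A : ∀ P : Subgroup Ω, Subgroup (MulAut P)}

theorem meet_claimD_aux [Finite S] [Fact p.Prime] (h : MeetEng p F W hWS A) {U : Subgroup Ω}
    (hU : U ∈ meetUf F W) (hI : MeetI F W hWS A (Nat.card U)) (α : MulAut W)
    (hα : α ∈ F.autGroup W) :
    ∀ (d : ℕ) (X : Subgroup Ω) (hUX : U ≤ X) (_ : U ≠ X) (_ : X ≤ normalizerIn W U),
      Nat.card ↥(normalizerIn W U) - Nat.card X = d →
      ∀ (γ : X →* Ω) (_ : γ ∈ F.Hom X) (hγY : ∀ x : X, γ x ∈ normalizerIn W U)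
        (_ : ∀ x : X, (x : Ω) ∈ U → γ x ∈ U)
        (_ : meetTw α γ (fun x => (inf_le_left : normalizerIn W U ≤ W) (hγY x)) ∈
          (meetN F W hWS A).Hom X),
        ∃ η : MulAut ↥(normalizerIn W U), η ∈ F.autGroup (normalizerIn W U) ∧
          meetTw α ((normalizerIn W U).subtype.comp η.toMonoidHom)
            (fun x => (inf_le_left : normalizerIn W U ≤ W) (η x).2) ∈
              (meetN F W hWS A).Hom (normalizerIn W U) ∧
          ∃ a ∈ A U, ∀ (u : U) (hu : ((a u : U) : Ω) ∈ normalizerIn W U),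
            γ ⟨u, hUX u.2⟩ = ((η ⟨((a u : U) : Ω), hu⟩ : ↥(normalizerIn W U)) : Ω) := by
  classical
  have hYW : normalizerIn W U ≤ W := inf_le_left
  have hYS : normalizerIn W U ≤ S := hYW.trans hWS
  have hfinY : Finite ↥(normalizerIn W U) := Fusion.finite_of_le hYS
  intro d
  induction d using Nat.strong_induction_on with
  | _ d ih =>
  intro X hUX hne hXY hd γ hγ hγY hγU hN
  have hfinX : Finite X := Fusion.finite_of_le (hXY.trans hYS)
  by_cases hXeq : X = normalizerIn W U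
  · -- top case
    subst hXeq
    obtain ⟨η, hη, hηγ⟩ := meet_cd_aut_of_hom F γ hγ hγY
    have e : (normalizerIn W U).subtype.comp η.toMonoidHom = γ := by
      ext x
      exact hηγ x
    subst e
    exact ⟨η, hη, hN, 1, (A U).one_mem, fun u hu => rfl⟩
  · -- the step
    obtain ⟨η₀, hη₀, ν, hν, a₀, ha₀, hνa, hγη⟩ := h.fr U hU.1 hU.2 X hUX hXY γ hγ hγY hγU
    have hνW : ∀ x, ν x ∈ W := fun x => ((meetN F W hWS A).le_of_mem hν).2 x
    have hXn : X ≤ Subgroup.normalizer (U : Set Ω) := hXY.trans inf_le_right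
    have hUim : ∀ r : Ω, r ∈ U ↔ ∃ x : X, (x : Ω) ∈ U ∧ ν x = r := by
      intro r
      constructor
      · intro hr
        refine ⟨⟨(a₀⁻¹ ⟨r, hr⟩ : U), hUX (a₀⁻¹ ⟨r, hr⟩ : U).2⟩, (a₀⁻¹ ⟨r, hr⟩ : U).2, ?_⟩
        have := hνa (a₀⁻¹ ⟨r, hr⟩)
        rw [this]
        simp
      · rintro ⟨x, hx, rfl⟩
        have := hνa ⟨x, hx⟩
        have e : (⟨((⟨x, hx⟩ : U) : Ω), hUX hx⟩ : X) = x := Subtype.ext rfl
        rw [e] at this
        rw [this]
        exact (a₀ ⟨x, hx⟩).2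
    have hνY : ∀ x, ν x ∈ normalizerIn W U := fun x =>
      ⟨hνW x, meet_cd_map_normalizer hXn ν U hUim x⟩
    have hνinj : Function.Injective ν := (meetN F W hWS A).injective_of_mem hν
    have hcard₂ : Nat.card ν.range = Nat.card X := meet_cd_card_range ν hνinj
    have hUX₂ : U ≤ ν.range := by
      intro r hr
      obtain ⟨x, -, hx⟩ := (hUim r).mp hr
      exact ⟨x, hx⟩
    have hX₂Y : ν.range ≤ normalizerIn W U := by
      rintro _ ⟨x, rfl⟩
      exact hνY x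
    have hcardUX : Nat.card U < Nat.card X := meet_cd_card_lt hUX hne
    have hcardXY : Nat.card X < Nat.card ↥(normalizerIn W U) := meet_cd_card_lt hXY hXeq
    have hne₂ : U ≠ ν.range := by
      intro e
      rw [← e] at hcard₂
      omega
    have hX₂ne : ν.range ≠ normalizerIn W U := by
      intro e
      rw [e] at hcard₂
      omega
    -- `α η₀|_{ν(X)} = (α γ) ν⁻¹` is a map of `meetN`
    obtain ⟨νi, hνi, hνinv, hνir⟩ := Fusion.exists_inv (meetN F W hWS A) hν rfl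
    have hνiX : ∀ y, νi y ∈ X := by
      intro y
      have : νi y ∈ νi.range := ⟨y, rfl⟩
      rwa [hνir] at this
    obtain ⟨χ, hχN, hχ⟩ := Fusion.comp_mem' (meetN F W hWS A) hνi hN hνiX
    have hN₂ : meetTw α (((normalizerIn W U).subtype.comp η₀.toMonoidHom).comp
        (Subgroup.inclusion hX₂Y))
        (fun x => hYW (η₀ (Subgroup.inclusion hX₂Y x)).2) ∈ (meetN F W hWS A).Hom ν.range := by
      have : meetTw α (((normalizerIn W U).subtype.comp η₀.toMonoidHom).comp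
          (Subgroup.inclusion hX₂Y))
          (fun x => hYW (η₀ (Subgroup.inclusion hX₂Y x)).2) = χ := by
        ext y
        obtain ⟨x, hx⟩ := y.2
        have ey : y = ⟨ν x, ⟨x, rfl⟩⟩ := Subtype.ext hx.symm
        subst ey
        rw [hχ]
        have e1 : (⟨νi ⟨ν x, ⟨x, rfl⟩⟩, hνiX _⟩ : X) = x := Subtype.ext (hνinv x _)
        rw [e1]
        show ((α ⟨((η₀ ⟨ν x, _⟩ : ↥(normalizerIn W U)) : Ω), _⟩ : W) : Ω) = ((α ⟨γ x, _⟩ : W) : Ω)
        congr 3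
        exact (hγη x (hνY x)).symm
      rw [this]
      exact hχN
    obtain ⟨X₁, hX₂X₁, hX₁Y, hlt, γ', hγ'F, hγ'Y, hγ'η, hγ'N⟩ :=
      meet_cd_up h hU hI α hα ν.range hUX₂ hne₂ hX₂Y hX₂ne η₀ hη₀ hN₂
    have hfinX₁ : Finite X₁ := Fusion.finite_of_le (hX₁Y.trans hYS)
    have hUX₁ : U ≤ X₁ := hUX₂.trans hX₂X₁
    have hne₁ : U ≠ X₁ := by
      intro e
      have h1 := Subgroup.card_le_of_le hX₂X₁
      rw [← e] at hlt
      omega
    have hcardX₁Y := Subgroup.card_le_of_le hX₁Y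
    -- `η₀` maps `U` into `U`
    have hη₀U : ∀ (r : Ω) (hr : r ∈ U) (hrY : r ∈ normalizerIn W U),
        ((η₀ ⟨r, hrY⟩ : ↥(normalizerIn W U)) : Ω) ∈ U := by
      intro r hr hrY
      obtain ⟨x, hx, hxr⟩ := (hUim r).mp hr
      have h1 := hγη x (hνY x)
      have e : (⟨ν x, hνY x⟩ : ↥(normalizerIn W U)) = ⟨r, hrY⟩ := Subtype.ext hxr
      rw [e] at h1
      rw [← h1]
      exact hγU x hx
    have hγ'U : ∀ x : X₁, (x : Ω) ∈ U → γ' x ∈ U := by
      intro x hx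
      have e : x = Subgroup.inclusion hX₂X₁ ⟨x, hUX₂ hx⟩ := Subtype.ext rfl
      rw [e, hγ'η]
      exact hη₀U _ hx _
    obtain ⟨η, hη, hηN, a₁, ha₁, hγ'a⟩ :=
      ih (Nat.card ↥(normalizerIn W U) - Nat.card X₁) (by omega) X₁ hUX₁ hne₁ hX₁Y rfl γ' hγ'F hγ'Y
        hγ'U hγ'N
    refine ⟨η, hη, hηN, a₁ * a₀, (A U).mul_mem ha₁ ha₀, fun u hu => ?_⟩
    have h1 := hγη ⟨u, hUX u.2⟩ (hνY _)
    rw [h1]
    have h2 : ν ⟨u, hUX u.2⟩ = ((a₀ u : U) : Ω) := hνa u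
    have h3 := hγ'η ⟨((a₀ u : U) : Ω), hUX₂ (a₀ u).2⟩
    have h4 := hγ'a (a₀ u) hu
    have e1 : (⟨ν ⟨u, hUX u.2⟩, hνY _⟩ : ↥(normalizerIn W U)) =
        Subgroup.inclusion hX₂Y ⟨((a₀ u : U) : Ω), hUX₂ (a₀ u).2⟩ := Subtype.ext h2
    rw [e1, ← h3]
    exact h4

/-- **CLAIM D** (model-free form, `notes/MEET_helper8.md` section 11).  `α` plays the role of `α⁻¹` of the note. -/
theorem meet_claimD [Finite S] [Fact p.Prime] (h : MeetEng p F W hWS A) {U : Subgroup Ω} (hU : U ∈ meetUf F W)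
    (hI : MeetI F W hWS A (Nat.card U)) (α : MulAut W) (hα : α ∈ F.autGroup W)
    (X : Subgroup Ω) (hUX : U ≤ X) (hne : U ≠ X) (hXY : X ≤ normalizerIn W U)
    (γ : X →* Ω) (hγ : γ ∈ F.Hom X) (hγY : ∀ x : X, γ x ∈ normalizerIn W U)
    (hγU : ∀ x : X, (x : Ω) ∈ U → γ x ∈ U)
    (hN : meetTw α γ (fun x => (inf_le_left : normalizerIn W U ≤ W) (hγY x)) ∈ (meetN F W hWS A).Hom X) :
    ∃ η : MulAut ↥(normalizerIn W U), η ∈ F.autGroup (normalizerIn W U) ∧
      meetTw α ((normalizerIn W U).subtype.comp η.toMonoidHom)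
        (fun x => (inf_le_left : normalizerIn W U ≤ W) (η x).2) ∈ (meetN F W hWS A).Hom (normalizerIn W U) ∧
      ∃ a ∈ A U, ∀ (u : U) (hu : ((a u : U) : Ω) ∈ normalizerIn W U),
        γ ⟨u, hUX u.2⟩ = ((η ⟨((a u : U) : Ω), hu⟩ : ↥(normalizerIn W U)) : Ω) :=
  meet_claimD_aux h hU hI α hα _ X hUX hne hXY rfl γ hγ hγY hγU hN

end Cfsg.Agent.MEET
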