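import Mathlib
import Cfsg.Agent.MEET.EngDefs

/-!
# Project MEET, Claim D, part d (helper7): images of subgroups under automorphisms of `W`

Elementary facts on `meetImg β P = β(P)` for `β ∈ Aut(W)`: membership, injectivity, normalizers
(`β(N_W(P)) = N_W(β(P))`), the inverse image.
-/

set_option autoImplicit false

namespace Cfsg.Agent.MEET

open Cfsg Cfsg.FusionSystem

universe u

variable {Ω : Type u} [Group Ω] {W : Subgroup Ω}

theorem meet_cd_mem_img (β : MulAut W) (P : Subgroup Ω) (y : Ω) :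
    y ∈ meetImg β P ↔ ∃ w : W, (w : Ω) ∈ P ∧ ((β w : W) : Ω) = y := by
  unfold meetImg
  constructor
  · rintro ⟨w, hw, rfl⟩
    exact ⟨w, Subgroup.mem_subgroupOf.mp hw, rfl⟩
  · rintro ⟨w, hw, rfl⟩
    exact ⟨w, Subgroup.mem_subgroupOf.mpr hw, rfl⟩

theorem meet_cd_img_le (β : MulAut W) (P : Subgroup Ω) : meetImg β P ≤ W := by
  intro y hy
  obtain ⟨w, -, rfl⟩ := (meet_cd_mem_img β P y).mp hy
  exact (β w).2

theorem meet_cd_img_mem (β : MulAut W) (P : Subgroup Ω) (w : W) :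
    ((β w : W) : Ω) ∈ meetImg β P ↔ (w : Ω) ∈ P := by
  rw [meet_cd_mem_img]
  constructor
  · rintro ⟨w', hw', h⟩
    have : w' = w := β.injective (Subtype.ext h)
    rwa [← this]
  · intro hw
    exact ⟨w, hw, rfl⟩

theorem meet_cd_img_mono (β : MulAut W) {P Q : Subgroup Ω} (h : P ≤ Q) : meetImg β P ≤ meetImg β Q := by
  intro y hy
  obtain ⟨w, hw, rfl⟩ := (meet_cd_mem_img β P y).mp hy
  exact (meet_cd_img_mem β Q w).mpr (h hw)

/-- `β⁻¹(β(P)) = P` for `P ≤ W`. -/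
theorem meet_cd_img_inv (β : MulAut W) {P : Subgroup Ω} (hP : P ≤ W) : meetImg β⁻¹ (meetImg β P) = P := by
  ext y
  rw [meet_cd_mem_img]
  constructor
  · rintro ⟨w, hw, rfl⟩
    have h1 : ((β (β⁻¹ w) : W) : Ω) ∈ meetImg β P := by
      rw [MulAut.apply_inv_self]
      exact hw
    exact (meet_cd_img_mem β P _).mp h1
  · intro hy
    refine ⟨β ⟨y, hP hy⟩, (meet_cd_img_mem β P _).mpr hy, ?_⟩
    rw [MulAut.inv_apply_self]

/-- `β(β⁻¹(P)) = P` for `P ≤ W`. -/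
theorem meet_cd_img_inv' (β : MulAut W) {P : Subgroup Ω} (hP : P ≤ W) : meetImg β (meetImg β⁻¹ P) = P := by
  have := meet_cd_img_inv β⁻¹ hP
  rwa [inv_inv] at this

/-- `β(w)` normalizes `β(P)` if and only if `w` normalizes `P`. -/
theorem meet_cd_img_normalizer (β : MulAut W) {P : Subgroup Ω} (hPW : P ≤ W) (w : W) :
    ((β w : W) : Ω) ∈ Subgroup.normalizer (meetImg β P : Set Ω) ↔
      (w : Ω) ∈ Subgroup.normalizer (P : Set Ω) := by
  have hconj : ∀ x : W, ((β (w * x * w⁻¹) : W) : Ω) = (β w : W) * (β x : W) * ((β w : W) : Ω)⁻¹ := by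
    intro x
    rw [map_mul, map_mul, map_inv]
    rfl
  have hconj' : ∀ x : W, ((β (w⁻¹ * x * w) : W) : Ω) = ((β w : W) : Ω)⁻¹ * (β x : W) * (β w : W) := by
    intro x
    rw [map_mul, map_mul, map_inv]
    rfl
  constructor
  · intro hn
    rw [Subgroup.mem_normalizer_iff] at hn ⊢
    intro x
    constructor
    · intro hx
      have h1 := (hn ((β ⟨x, hPW hx⟩ : W) : Ω)).mp ((meet_cd_img_mem β P _).mpr hx)
      rw [← hconj] at h1
      exact (meet_cd_img_mem β P _).mp h1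
    · intro hx
      have hxW : x ∈ W := by
        have h1 : (w : Ω)⁻¹ * ((w : Ω) * x * (w : Ω)⁻¹) * (w : Ω) ∈ W :=
          W.mul_mem (W.mul_mem (W.inv_mem w.2) (hPW hx)) w.2
        have e : (w : Ω)⁻¹ * ((w : Ω) * x * (w : Ω)⁻¹) * (w : Ω) = x := by group
        rwa [e] at h1
      have h1 : ((β (w * ⟨x, hxW⟩ * w⁻¹) : W) : Ω) ∈ meetImg β P := (meet_cd_img_mem β P _).mpr hx
      rw [hconj] at h1
      exact (meet_cd_img_mem β P _).mp ((hn _).mpr h1)
  · intro hn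
    rw [Subgroup.mem_normalizer_iff] at hn ⊢
    intro y
    constructor
    · intro hy
      obtain ⟨x, hx, rfl⟩ := (meet_cd_mem_img β P y).mp hy
      rw [← hconj]
      exact (meet_cd_img_mem β P _).mpr ((hn x).mp hx)
    · intro hy
      obtain ⟨x', hx', hx'y⟩ := (meet_cd_mem_img β P _).mp hy
      have e : y = ((β (w⁻¹ * x' * w) : W) : Ω) := by
        rw [hconj', hx'y]
        group
      rw [e]
      refine (meet_cd_img_mem β P _).mpr ?_
      have h1 : (w : Ω) * ((w : Ω)⁻¹ * (x' : Ω) * (w : Ω)) * (w : Ω)⁻¹ ∈ P := by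
        have e' : (w : Ω) * ((w : Ω)⁻¹ * (x' : Ω) * (w : Ω)) * (w : Ω)⁻¹ = x' := by group
        rw [e']
        exact hx'
      exact (hn _).mpr h1

/-- `β(N_W(P)) = N_W(β(P))`. -/
theorem meet_cd_img_normalizerIn (β : MulAut W) {P : Subgroup Ω} (hPW : P ≤ W) :
    meetImg β (normalizerIn W P) = normalizerIn W (meetImg β P) := by
  ext y
  rw [meet_cd_mem_img]
  constructor
  · rintro ⟨w, hw, rfl⟩
    exact ⟨(β w).2, (meet_cd_img_normalizer β hPW w).mpr hw.2⟩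
  · rintro ⟨hyW, hyn⟩
    refine ⟨β⁻¹ ⟨y, hyW⟩, ⟨(β⁻¹ ⟨y, hyW⟩ : W).2, ?_⟩, ?_⟩
    · apply (meet_cd_img_normalizer β hPW _).mp
      rw [MulAut.apply_inv_self]
      exact hyn
    · rw [MulAut.apply_inv_self]

theorem meet_cd_inv_apply_val (β : MulAut W) (w : W) (hw : ((β w : W) : Ω) ∈ W) :
    ((β⁻¹ ⟨((β w : W) : Ω), hw⟩ : W) : Ω) = w := by
  have e : (⟨((β w : W) : Ω), hw⟩ : W) = β w := Subtype.ext rfl
  rw [e, MulAut.inv_apply_self]

theorem meet_cd_apply_inv_val (β : MulAut W) (w : W) (hw : ((β⁻¹ w : W) : Ω) ∈ W) :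
    ((β ⟨((β⁻¹ w : W) : Ω), hw⟩ : W) : Ω) = w := by
  have e : (⟨((β⁻¹ w : W) : Ω), hw⟩ : W) = β⁻¹ w := Subtype.ext rfl
  rw [e, MulAut.apply_inv_self]

end Cfsg.Agent.MEET
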