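import Mathlib
import Cfsg.Agent.MEET.ClaimDc
import Cfsg.Agent.MEET.ClaimDd
import Cfsg.Agent.Lead.FusionInvariant

/-!
# Project MEET, Claim D' (helper7): the intrinsic form of Claim D

`meet_claimD'` (`notes/MEET_helper8.md`, sections 5 and 11): for two translates `V = δ(U)`, `V' = δ'(U)` of a fully
normalized member `U` of the family, a map `σ` of `meetN` defined on some `X` with `V < X ≤ N_W(V)` and carrying `V` into `V'`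
agrees on `V`, up to an element of `A(V)`, with a map of `meetN` defined on all of `N_W(V)`.  Proof: translate to `U`
(`γ = δ'⁻¹ σ δ`, `α = δ⁻¹ δ'`), apply `meet_claimD`, translate back (`τ = δ' η δ⁻¹`).
-/

set_option autoImplicit false

namespace Cfsg.Agent.MEET

open Cfsg Cfsg.FusionSystem Cfsg.Agent.Lead

universe u

variable {Ω : Type u} [Group Ω] {S : Subgroup Ω} {p : ℕ} {F : FusionSystem S} {W : Subgroup Ω} {hWS : W ≤ S}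
  {A : ∀ P : Subgroup Ω, Subgroup (MulAut P)}

/-- CLAIM D' (intrinsic form). -/
theorem meet_claimD' [Finite S] [Fact p.Prime] (h : MeetEng p F W hWS A) {U : Subgroup Ω} (hU : U ∈ meetUf F W)
    (hI : MeetI F W hWS A (Nat.card U)) (δ δ' : MulAut W) (hδ : δ ∈ F.autGroup W) (hδ' : δ' ∈ F.autGroup W)
    (X : Subgroup Ω) (hVX : meetImg δ U ≤ X) (hne : meetImg δ U ≠ X) (hXY : X ≤ normalizerIn W (meetImg δ U))
    (σ : X →* Ω) (hσ : σ ∈ (meetN F W hWS A).Hom X) (hσY : ∀ x : X, σ x ∈ normalizerIn W (meetImg δ' U))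
    (hσV : ∀ x : X, (x : Ω) ∈ meetImg δ U → σ x ∈ meetImg δ' U) :
    ∃ τ ∈ (meetN F W hWS A).Hom (normalizerIn W (meetImg δ U)),
      (∀ x : ↥(normalizerIn W (meetImg δ U)), τ x ∈ normalizerIn W (meetImg δ' U)) ∧
      ∃ a ∈ A (meetImg δ U), ∀ (v : ↥(meetImg δ U)) (hv : ((a v : ↥(meetImg δ U)) : Ω) ∈ normalizerIn W (meetImg δ U)),
        σ ⟨v, hVX v.2⟩ = τ ⟨((a v : ↥(meetImg δ U)) : Ω), hv⟩ := by
  classical
  have hUW : U ≤ W := hU.1.1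
  have hYW : normalizerIn W U ≤ W := inf_le_left
  have hUY : U ≤ normalizerIn W U := le_inf hUW Subgroup.le_normalizer
  have hXW : X ≤ W := hXY.trans inf_le_left
  have hNF : (meetN F W hWS A).IsSubsystemOf F := meet_N_le F W hWS A
  have hδF : W.subtype.comp δ.toMonoidHom ∈ F.Hom W := (Fusion.mem_autGroup_iff F hWS δ).mp hδ
  -- the translate `X₀ = δ⁻¹(X)`
  have hX₀W : meetImg δ⁻¹ X ≤ W := meet_cd_img_le _ _
  have hδX₀ : ∀ x : ↥(meetImg δ⁻¹ X), ((δ ⟨x, hX₀W x.2⟩ : W) : Ω) ∈ X := by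
    intro x
    obtain ⟨w, hw, hwx⟩ := (meet_cd_mem_img δ⁻¹ X x).mp x.2
    have e : (⟨x, hX₀W x.2⟩ : W) = δ⁻¹ w := Subtype.ext hwx.symm
    rw [e, MulAut.apply_inv_self]
    exact hw
  have hUX₀ : U ≤ meetImg δ⁻¹ X := by
    intro u hu
    have h1 : ((δ ⟨u, hUW hu⟩ : W) : Ω) ∈ X := hVX ((meet_cd_img_mem δ U _).mpr hu)
    have h2 := (meet_cd_img_mem δ⁻¹ X (δ ⟨u, hUW hu⟩)).mpr h1
    rwa [MulAut.inv_apply_self] at h2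
  have hne₀ : U ≠ meetImg δ⁻¹ X := by
    intro e
    apply hne
    rw [e, meet_cd_img_inv' δ hXW]
  have hX₀Y : meetImg δ⁻¹ X ≤ normalizerIn W U := by
    intro x hx
    refine ⟨hX₀W hx, ?_⟩
    have h1 := hδX₀ ⟨x, hx⟩
    have h2 := (hXY h1).2
    exact (meet_cd_img_normalizer δ hUW ⟨x, hX₀W hx⟩).mp h2
  -- `γ = δ'⁻¹ σ δ` on `X₀`
  have hd₀F : (W.subtype.comp δ.toMonoidHom).comp (Subgroup.inclusion hX₀W) ∈ F.Hom (meetImg δ⁻¹ X) :=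
    Fusion.restrict_mem F hδF hX₀W
  obtain ⟨s₁, hs₁F, hs₁⟩ := Fusion.comp_mem' F hd₀F (hNF X hσ) hδX₀
  have hs₁' : ∀ x : ↥(meetImg δ⁻¹ X), s₁ x = σ ⟨((δ ⟨x, hX₀W x.2⟩ : W) : Ω), hδX₀ x⟩ := hs₁
  have hs₁W : ∀ x, s₁ x ∈ W := fun x => by
    rw [hs₁' x]
    exact (hσY _).1
  have hγF : meetTw δ'⁻¹ s₁ hs₁W ∈ F.Hom (meetImg δ⁻¹ X) :=
    meet_cd_tw_mem F hWS δ'⁻¹ (inv_mem hδ') s₁ hs₁F hs₁W
  have hγval : ∀ x, meetTw δ'⁻¹ s₁ hs₁W x = ((δ'⁻¹ ⟨s₁ x, hs₁W x⟩ : W) : Ω) := fun x => rfl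
  have hγY : ∀ x, meetTw δ'⁻¹ s₁ hs₁W x ∈ normalizerIn W U := by
    intro x
    refine ⟨(δ'⁻¹ _).2, ?_⟩
    apply (meet_cd_img_normalizer δ' hUW (δ'⁻¹ ⟨s₁ x, hs₁W x⟩)).mp
    rw [MulAut.apply_inv_self]
    show s₁ x ∈ _
    rw [hs₁' x]
    exact (hσY _).2
  have hγU : ∀ x : ↥(meetImg δ⁻¹ X), (x : Ω) ∈ U → meetTw δ'⁻¹ s₁ hs₁W x ∈ U := by
    intro x hx
    apply (meet_cd_img_mem δ' U (δ'⁻¹ ⟨s₁ x, hs₁W x⟩)).mp
    rw [MulAut.apply_inv_self]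
    show s₁ x ∈ _
    rw [hs₁' x]
    apply hσV
    exact (meet_cd_img_mem δ U ⟨x, hX₀W x.2⟩).mpr hx
  -- `(δ⁻¹ δ') γ = δ⁻¹ σ δ` is a map of `meetN`
  obtain ⟨χ, hχN, hχ⟩ := meet_cd_conj h X hXW σ hσ δ⁻¹ (inv_mem hδ)
  have hN : meetTw (δ⁻¹ * δ') (meetTw δ'⁻¹ s₁ hs₁W) (fun x => hYW (hγY x)) ∈
      (meetN F W hWS A).Hom (meetImg δ⁻¹ X) := by
    have : meetTw (δ⁻¹ * δ') (meetTw δ'⁻¹ s₁ hs₁W) (fun x => hYW (hγY x)) = χ := by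
      ext x
      have hx1 := hδX₀ x
      have hσW : σ ⟨_, hx1⟩ ∈ W := (hσY _).1
      have hval : ((δ⁻¹ ⟨((δ ⟨x, hX₀W x.2⟩ : W) : Ω), hXW hx1⟩ : W) : Ω) = x :=
        meet_cd_inv_apply_val δ ⟨x, hX₀W x.2⟩ (hXW hx1)
      have hαx : ((δ⁻¹ ⟨((δ ⟨x, hX₀W x.2⟩ : W) : Ω), hXW hx1⟩ : W) : Ω) ∈ meetImg δ⁻¹ X := by
        rw [hval]
        exact x.2
      have h1 := hχ ⟨_, hx1⟩ hσW hαx
      have ex : x = ⟨((δ⁻¹ ⟨((δ ⟨x, hX₀W x.2⟩ : W) : Ω), hXW hx1⟩ : W) : Ω), hαx⟩ :=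
        Subtype.ext hval.symm
      have e2 : δ' ⟨meetTw δ'⁻¹ s₁ hs₁W x, hYW (hγY x)⟩ = ⟨σ ⟨_, hx1⟩, hσW⟩ := by
        apply Subtype.ext
        show ((δ' (δ'⁻¹ ⟨s₁ x, hs₁W x⟩) : W) : Ω) = _
        rw [MulAut.apply_inv_self]
        exact hs₁' x
      have e3 : meetTw (δ⁻¹ * δ') (meetTw δ'⁻¹ s₁ hs₁W) (fun x => hYW (hγY x)) x =
          ((δ⁻¹ ⟨σ ⟨_, hx1⟩, hσW⟩ : W) : Ω) := by
        show (((δ⁻¹ * δ') ⟨meetTw δ'⁻¹ s₁ hs₁W x, _⟩ : W) : Ω) = _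
        rw [MulAut.mul_apply, e2]
      exact e3.trans (h1.symm.trans (congrArg χ ex).symm)
    rw [this]
    exact hχN
  obtain ⟨η, hη, hηN, a₀, ha₀, hγa⟩ := meet_claimD h hU hI (δ⁻¹ * δ') (mul_mem (inv_mem hδ) hδ')
    (meetImg δ⁻¹ X) hUX₀ hne₀ hX₀Y (meetTw δ'⁻¹ s₁ hs₁W) hγF hγY hγU hN
  -- `τ = δ (δ⁻¹ δ' η) δ⁻¹`
  obtain ⟨χ', hχ'N, hχ'⟩ := meet_cd_conj h (normalizerIn W U) hYW _ hηN δ hδ
  obtain ⟨τ, hτN, hτ⟩ := Fusion.exists_hom_of_eq (meetN F W hWS A)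
    (meet_cd_img_normalizerIn δ hUW) hχ'N
  have hT : ∀ (y : ↥(normalizerIn W U)) (hy' : ((δ ⟨y, hYW y.2⟩ : W) : Ω) ∈ normalizerIn W (meetImg δ U)),
      τ ⟨((δ ⟨y, hYW y.2⟩ : W) : Ω), hy'⟩ = ((δ' ⟨((η y : ↥(normalizerIn W U)) : Ω), hYW (η y).2⟩ : W) : Ω) := by
    intro y hy'
    have hy'' : ((δ ⟨y, hYW y.2⟩ : W) : Ω) ∈ meetImg δ (normalizerIn W U) := by
      rw [meet_cd_img_normalizerIn δ hUW]
      exact hy'
    have h1 := hχ' y ((δ⁻¹ * δ') ⟨((η y : ↥(normalizerIn W U)) : Ω), hYW (η y).2⟩ : W).2 hy''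
    refine (hτ _ hy'' hy').trans (h1.trans ?_)
    show ((δ ((δ⁻¹ * δ') ⟨((η y : ↥(normalizerIn W U)) : Ω), hYW (η y).2⟩) : W) : Ω) = _
    rw [MulAut.mul_apply, MulAut.apply_inv_self]
  refine ⟨τ, hτN, ?_, ?_⟩
  · intro z
    have hz : (z : Ω) ∈ meetImg δ (normalizerIn W U) := by
      rw [meet_cd_img_normalizerIn δ hUW]
      exact z.2
    obtain ⟨w, hw, hwz⟩ := (meet_cd_mem_img δ _ _).mp hz
    have hz' : ((δ ⟨((⟨w, hw⟩ : ↥(normalizerIn W U)) : Ω), hYW hw⟩ : W) : Ω) ∈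
        normalizerIn W (meetImg δ U) := by
      have e0 : (⟨((⟨w, hw⟩ : ↥(normalizerIn W U)) : Ω), hYW hw⟩ : W) = w := Subtype.ext rfl
      rw [e0, hwz]
      exact z.2
    have ez : z = ⟨((δ ⟨((⟨w, hw⟩ : ↥(normalizerIn W U)) : Ω), hYW hw⟩ : W) : Ω), hz'⟩ :=
      Subtype.ext hwz.symm
    rw [congrArg τ ez, hT ⟨w, hw⟩ hz']
    exact ⟨(δ' _).2, (meet_cd_img_normalizer δ' hUW _).mpr (η ⟨w, hw⟩).2.2⟩
  · -- the element of `A(V)`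
    have hφF : (W.subtype.comp δ.toMonoidHom).comp (Subgroup.inclusion hUW) ∈ F.Hom U :=
      Fusion.restrict_mem F hδF hUW
    have hφr : ((W.subtype.comp δ.toMonoidHom).comp (Subgroup.inclusion hUW)).range = meetImg δ U := by
      ext y
      rw [meet_cd_mem_img]
      constructor
      · rintro ⟨u, rfl⟩
        exact ⟨⟨u, hUW u.2⟩, u.2, rfl⟩
      · rintro ⟨w, hw, rfl⟩
        exact ⟨⟨w, hw⟩, rfl⟩
    have hφinj := F.injective_of_mem hφF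
    set e : U ≃* ↥(meetImg δ U) := Fusion.equivOfRange _ hφinj hφr with he
    have hecoe : ∀ u : U, ((e u : ↥(meetImg δ U)) : Ω) = ((δ ⟨u, hUW u.2⟩ : W) : Ω) := fun u => rfl
    have hTr : MeetTr ((W.subtype.comp δ.toMonoidHom).comp (Subgroup.inclusion hUW)) a₀
        ((e.symm.trans a₀).trans e) := by
      intro x hx
      have e1 : (⟨((W.subtype.comp δ.toMonoidHom).comp (Subgroup.inclusion hUW)) x, hx⟩ :
          ↥(meetImg δ U)) = e x := Subtype.ext rfl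
      rw [e1]
      show ((e (a₀ (e.symm (e x))) : ↥(meetImg δ U)) : Ω) = _
      rw [MulEquiv.symm_apply_apply]
      rfl
    have ha : (e.symm.trans a₀).trans e ∈ A (meetImg δ U) :=
      h.inv U hU.1 (meetImg δ U) _ hφF hφr a₀ ha₀ _ hTr
    refine ⟨(e.symm.trans a₀).trans e, ha, fun v hv => ?_⟩
    have hv1 : (((e.symm.trans a₀).trans e) v : ↥(meetImg δ U)) = e (a₀ (e.symm v)) := rfl
    have hu := hUY (a₀ (e.symm v)).2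
    have h1 := hγa (e.symm v) hu
    have h2 := hT ⟨((a₀ (e.symm v) : U) : Ω), hu⟩
      (by rw [← hecoe (a₀ (e.symm v)), ← hv1]; exact hv)
    have e3 : (⟨((((e.symm.trans a₀).trans e) v : ↥(meetImg δ U)) : Ω), hv⟩ :
        ↥(normalizerIn W (meetImg δ U))) =
        ⟨((δ ⟨((⟨((a₀ (e.symm v) : U) : Ω), hu⟩ : ↥(normalizerIn W U)) : Ω), hYW hu⟩ : W) : Ω),
          by rw [← hecoe (a₀ (e.symm v)), ← hv1]; exact hv⟩ := Subtype.ext rfl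
    have e6 : (⟨((η ⟨((a₀ (e.symm v) : U) : Ω), hu⟩ : ↥(normalizerIn W U)) : Ω), hYW (η _).2⟩ : W) =
        δ'⁻¹ ⟨s₁ ⟨(e.symm v : U), hUX₀ (e.symm v).2⟩, hs₁W _⟩ := Subtype.ext h1.symm
    have hvu : (v : Ω) = ((δ ⟨(e.symm v : U), hUW (e.symm v).2⟩ : W) : Ω) := by
      rw [← hecoe, MulEquiv.apply_symm_apply]
    have e4 : (⟨(v : Ω), hVX v.2⟩ : X) =
        ⟨((δ ⟨((⟨(e.symm v : U), hUX₀ (e.symm v).2⟩ : ↥(meetImg δ⁻¹ X)) : Ω),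
          hX₀W (hUX₀ (e.symm v).2)⟩ : W) : Ω), hδX₀ _⟩ := Subtype.ext hvu
    rw [e3, h2, e6, MulAut.apply_inv_self]
    show σ ⟨(v : Ω), hVX v.2⟩ = s₁ ⟨(e.symm v : U), hUX₀ (e.symm v).2⟩
    rw [hs₁']
    exact congrArg σ e4

end Cfsg.Agent.MEET
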