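import Mathlib
import Cfsg.Agent.MEET.EngDefs
import Cfsg.Agent.Lead.FusionConj
import Cfsg.Agent.Lead.FusionSat
import Cfsg.Agent.Lead.FusionInner
import Cfsg.Agent.Helper4.FusTrE
import Cfsg.Agent.Helper6.BcgloI

set_option autoImplicit false

/-!
# Project MEET, the induction (`notes/MEET_helper8.md`, sections 6, 11, 13), part A

The statements of `MEET/Frat.lean` and `MEET/ClaimD.lean` that the induction consumes are bundled in the structure
`MeetIndHyp`, so that the files `MEET/Ind*.lean` do not depend on those files.  This part: the bundle, the images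
`meetImg`, closure properties of the family `meetH`, transport of the automizers along the isomorphisms of `F`.
-/

namespace Cfsg.Agent.MEET

open Cfsg Cfsg.FusionSystem Cfsg.Agent.Lead

universe u

variable {Ω : Type u} [Group Ω] {S : Subgroup Ω}

/-- The statements of `MEET/Frat.lean` and `MEET/ClaimD.lean` consumed by the induction. -/
structure MeetIndHyp (F : FusionSystem S) (W : Subgroup Ω) (hWS : W ≤ S)
    (A : ∀ P : Subgroup Ω, Subgroup (MulAut P)) : Prop where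
  A_le : ∀ R ∈ meetH F W, A R ≤ (meetN F W hWS A).autGroup R
  conj : ∀ (P : Subgroup Ω) (hPW : P ≤ W) (φ : P →* Ω), φ ∈ (meetN F W hWS A).Hom P →
    ∀ (α : MulAut W), α ∈ F.autGroup W →
    ∃ χ ∈ (meetN F W hWS A).Hom ((P.subgroupOf W).map (W.subtype.comp α.toMonoidHom)),
      ∀ (x : P) (hφx : φ x ∈ W)
        (hαx : ((α ⟨x, hPW x.2⟩ : W) : Ω) ∈ (P.subgroupOf W).map (W.subtype.comp α.toMonoidHom)),
        χ ⟨(α ⟨x, hPW x.2⟩ : W), hαx⟩ = ((α ⟨φ x, hφx⟩ : W) : Ω)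
  frat : ∀ (P : Subgroup Ω), P ≤ W → ∀ (φ : P →* Ω), φ ∈ F.Hom P →
    ∃ α ∈ F.autGroup W, ∃ φ₀ ∈ (meetN F W hWS A).Hom P,
      ∀ (x : P) (hx : φ₀ x ∈ W), φ x = ((α ⟨φ₀ x, hx⟩ : W) : Ω)
  ref : ∀ P ∈ meetH F W, ∃ V ∈ meetUstar F W, ∃ ψ ∈ (meetN F W hWS A).Hom (normalizerIn W P),
    (∀ x : ↥(normalizerIn W P), ψ x ∈ normalizerIn W V) ∧
    (P.subgroupOf (normalizerIn W P)).map ψ = V
  ref_of : ∀ P ∈ meetH F W, ∀ U ∈ meetUf F W, F.IsConj P U →
    ∃ α ∈ F.autGroup W, ∃ ψ ∈ (meetN F W hWS A).Hom (normalizerIn W P),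
      (∀ x : ↥(normalizerIn W P), ψ x ∈ normalizerIn W (meetImg α U)) ∧
      (P.subgroupOf (normalizerIn W P)).map ψ = meetImg α U
  claimD : ∀ U ∈ meetUf F W, MeetI F W hWS A (Nat.card U) →
    ∀ (δ δ' : MulAut W), δ ∈ F.autGroup W → δ' ∈ F.autGroup W →
    ∀ (X : Subgroup Ω) (hVX : meetImg δ U ≤ X), meetImg δ U ≠ X → X ≤ normalizerIn W (meetImg δ U) →
    ∀ (σ : X →* Ω), σ ∈ (meetN F W hWS A).Hom X → (∀ x : X, σ x ∈ normalizerIn W (meetImg δ' U)) →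
    (∀ x : X, (x : Ω) ∈ meetImg δ U → σ x ∈ meetImg δ' U) →
    ∃ τ ∈ (meetN F W hWS A).Hom (normalizerIn W (meetImg δ U)),
      (∀ x : ↥(normalizerIn W (meetImg δ U)), τ x ∈ normalizerIn W (meetImg δ' U)) ∧
      ∃ a ∈ A (meetImg δ U), ∀ (v : ↥(meetImg δ U))
        (hv : ((a v : ↥(meetImg δ U)) : Ω) ∈ normalizerIn W (meetImg δ U)),
        σ ⟨v, hVX v.2⟩ = τ ⟨((a v : ↥(meetImg δ U)) : Ω), hv⟩

section basics

variable {F : FusionSystem S} {W : Subgroup Ω} {hWS : W ≤ S} {A : ∀ P : Subgroup Ω, Subgroup (MulAut P)}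

theorem meet_ind_N_le {P : Subgroup Ω} {φ : P →* Ω} (hφ : φ ∈ (meetN F W hWS A).Hom P) : φ ∈ F.Hom P := hφ.1

theorem meet_ind_N_min (D : FusionSystem W) (hD : ∀ R ∈ meetH F W, A R ≤ D.autGroup R) :
    meetN F W hWS A ≤ D := fun _ _ h => h.2.2.2 D hD

theorem meet_ind_isConj_of_N {P Q : Subgroup Ω} (hc : (meetN F W hWS A).IsConj P Q) : F.IsConj P Q := by
  obtain ⟨φ, hφ, hr⟩ := hc
  exact ⟨φ, hφ.1, hr⟩

/-! ### the images `meetImg` -/

theorem meet_ind_mem_img (α : MulAut W) (U : Subgroup Ω) (y : Ω) :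
    y ∈ meetImg α U ↔ ∃ x : W, (x : Ω) ∈ U ∧ ((α x : W) : Ω) = y := by
  unfold meetImg
  constructor
  · rintro ⟨m, hm, rfl⟩
    rw [SetLike.mem_coe, Subgroup.mem_subgroupOf] at hm
    exact ⟨m, hm, rfl⟩
  · rintro ⟨x, hx, rfl⟩
    exact ⟨x, by rw [SetLike.mem_coe, Subgroup.mem_subgroupOf]; exact hx, rfl⟩

theorem meet_ind_img_le (α : MulAut W) (U : Subgroup Ω) : meetImg α U ≤ W := by
  intro y hy
  obtain ⟨x, -, rfl⟩ := (meet_ind_mem_img α U y).mp hy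
  exact (α x).2

theorem meet_ind_mem_img_of_mem (α : MulAut W) {U : Subgroup Ω} {x : Ω} (hxW : x ∈ W) (hx : x ∈ U) :
    ((α ⟨x, hxW⟩ : W) : Ω) ∈ meetImg α U :=
  (meet_ind_mem_img α U _).mpr ⟨⟨x, hxW⟩, hx, rfl⟩

theorem meet_ind_img_one {U : Subgroup Ω} (hU : U ≤ W) : meetImg (1 : MulAut W) U = U := by
  ext y
  rw [meet_ind_mem_img]
  constructor
  · rintro ⟨x, hx, rfl⟩
    exact hx
  · intro hy
    exact ⟨⟨y, hU hy⟩, hy, rfl⟩

theorem meet_ind_img_inv_img (α : MulAut W) {U : Subgroup Ω} (hU : U ≤ W) :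
    meetImg α⁻¹ (meetImg α U) = U := by
  ext y
  rw [meet_ind_mem_img]
  constructor
  · rintro ⟨x, hx, rfl⟩
    obtain ⟨z, hz, hzx⟩ := (meet_ind_mem_img α U _).mp hx
    have : α z = x := Subtype.ext hzx
    rw [← this]
    simpa using hz
  · intro hy
    refine ⟨α ⟨y, hU hy⟩, meet_ind_mem_img_of_mem α (hU hy) hy, ?_⟩
    simp

theorem meet_ind_img_img_inv (α : MulAut W) {U : Subgroup Ω} (hU : U ≤ W) :
    meetImg α (meetImg α⁻¹ U) = U := by
  have := meet_ind_img_inv_img α⁻¹ hU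
  rwa [inv_inv] at this

theorem meet_ind_img_mono (α : MulAut W) {U V : Subgroup Ω} (h : U ≤ V) : meetImg α U ≤ meetImg α V := by
  intro y hy
  obtain ⟨x, hx, rfl⟩ := (meet_ind_mem_img α U y).mp hy
  exact (meet_ind_mem_img α V _).mpr ⟨x, h hx, rfl⟩

/-- An element of `W` lies in the image iff its preimage lies in the subgroup. -/
theorem meet_ind_apply_mem_img (α : MulAut W) (U : Subgroup Ω) (x : W) :
    ((α x : W) : Ω) ∈ meetImg α U ↔ (x : Ω) ∈ U := by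
  rw [meet_ind_mem_img]
  constructor
  · rintro ⟨z, hz, hzx⟩
    have : z = x := α.injective (Subtype.ext hzx)
    rwa [← this]
  · intro hx
    exact ⟨x, hx, rfl⟩

end basics

/-! ### restriction of an automorphism of `W`, closure properties of the family -/

section family

variable {F : FusionSystem S} {W : Subgroup Ω} {hWS : W ≤ S} {A : ∀ P : Subgroup Ω, Subgroup (MulAut P)}

/-- The restriction of `α ∈ Aut_F(W)` to `U ≤ W` is an isomorphism of `F` onto `meetImg α U`. -/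
theorem meet_ind_res (hWS : W ≤ S) {α : MulAut W} (hα : α ∈ F.autGroup W) {U : Subgroup Ω} (hU : U ≤ W) :
    ∃ φ ∈ F.Hom U, φ.range = meetImg α U ∧ ∀ x : U, φ x = ((α ⟨x, hU x.2⟩ : W) : Ω) := by
  have h1 := (Fusion.mem_autGroup_iff F hWS α).mp hα
  refine ⟨_, Fusion.restrict_mem F h1 hU, ?_, fun x => rfl⟩
  ext y
  constructor
  · rintro ⟨x, rfl⟩
    exact meet_ind_mem_img_of_mem α (hU x.2) x.2
  · intro hy
    obtain ⟨z, hz, rfl⟩ := (meet_ind_mem_img α U y).mp hy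
    exact ⟨⟨z, hz⟩, rfl⟩

theorem meet_ind_isConj_img (hWS : W ≤ S) {α : MulAut W} (hα : α ∈ F.autGroup W) {U : Subgroup Ω}
    (hU : U ≤ W) : F.IsConj U (meetImg α U) := by
  obtain ⟨φ, hφ, hr, -⟩ := meet_ind_res hWS hα hU
  exact ⟨φ, hφ, hr⟩

theorem meet_ind_H_of_isConj (hsc : F.StronglyClosed W) {P Q : Subgroup Ω} (hP : P ∈ meetH F W)
    (hc : F.IsConj P Q) : Q ∈ meetH F W := by
  refine ⟨?_, fun Q' hc' => hP.2 Q' (Fusion.isConj_trans F hc hc')⟩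
  obtain ⟨φ, hφ, rfl⟩ := hc
  rintro _ ⟨x, rfl⟩
  exact hsc.2 P hP.1 φ hφ x

theorem meet_ind_H_of_le {P R : Subgroup Ω} (hP : P ∈ meetH F W) (hPR : P ≤ R) (hRW : R ≤ W) :
    R ∈ meetH F W := by
  refine ⟨hRW, ?_⟩
  rintro R' ⟨φ, hφ, rfl⟩
  have h1 := Fusion.restrict_mem F hφ hPR
  have h2 := hP.2 _ ⟨_, h1, rfl⟩
  have h3 : (φ.comp (Subgroup.inclusion hPR)).range ≤ φ.range := by
    rintro _ ⟨x, rfl⟩
    exact ⟨_, rfl⟩
  intro c hc
  apply h3
  apply h2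
  exact ⟨hc.1, Subgroup.centralizer_le h3 hc.2⟩

theorem meet_ind_conj_W_eq [Finite S] (hsc : F.StronglyClosed W) {Q : Subgroup Ω} (hc : F.IsConj W Q) :
    Q = W := by
  obtain ⟨φ, hφ, rfl⟩ := hc
  have : Finite W := Fusion.finite_of_le hsc.1
  have hle : φ.range ≤ W := by
    rintro _ ⟨x, rfl⟩
    exact hsc.2 W le_rfl φ hφ x
  apply Subgroup.eq_of_le_of_card_ge hle
  rw [Nat.card_congr (MonoidHom.ofInjective (F.injective_of_mem hφ)).toEquiv]

theorem meet_ind_W_mem_Uf [Finite S] (hsc : F.StronglyClosed W) : W ∈ meetUf F W := by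
  refine ⟨⟨le_rfl, fun P' hc => ?_⟩, hsc.1, fun Q hc => ?_⟩
  · rw [meet_ind_conj_W_eq hsc hc]
    exact inf_le_left
  · rw [meet_ind_conj_W_eq hsc hc]

theorem meet_ind_Ustar_H (hsc : F.StronglyClosed W) {V : Subgroup Ω} (hV : V ∈ meetUstar F W) :
    V ∈ meetH F W := by
  obtain ⟨U, hU, α, hα, rfl⟩ := hV
  exact meet_ind_H_of_isConj hsc hU.1 (meet_ind_isConj_img hsc.1 hα hU.1.1)

theorem meet_ind_Uf_Ustar {U : Subgroup Ω} (hU : U ∈ meetUf F W) : U ∈ meetUstar F W :=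
  ⟨U, hU, 1, Subgroup.one_mem _, (meet_ind_img_one hU.1.1).symm⟩

end family

/-! ### composing with the inverse of a map -/

/-- `σ₀ ∘ (ψ|_X)⁻¹` as a map of the system defined on `ψ(X)`. -/
theorem meet_ind_push {T : Subgroup Ω} (N : FusionSystem T) {M X : Subgroup Ω} {ψ : M →* Ω}
    (hψ : ψ ∈ N.Hom M) (hXM : X ≤ M) {σ₀ : X →* Ω} (hσ₀ : σ₀ ∈ N.Hom X) {X' : Subgroup Ω}
    (hX' : (ψ.comp (Subgroup.inclusion hXM)).range = X') :
    ∃ σ ∈ N.Hom X', ∀ (x : X) (hx : ψ (Subgroup.inclusion hXM x) ∈ X'),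
      σ ⟨ψ (Subgroup.inclusion hXM x), hx⟩ = σ₀ x := by
  subst hX'
  have hψX := Fusion.restrict_mem N hψ hXM
  obtain ⟨ρ, hρ, hinv, hr⟩ := Fusion.exists_inv N hψX rfl
  have hρX : ∀ y, ρ y ∈ X := fun y => hr.le ⟨y, rfl⟩
  refine ⟨σ₀.comp (ρ.codRestrict X hρX), N.comp_mem hρ hσ₀ hρX, fun x hx => ?_⟩
  show σ₀ ⟨ρ ⟨_, hx⟩, _⟩ = σ₀ x
  congr 1
  exact Subtype.ext (hinv x hx)

/-- Transport of a map of the system along an equality of subgroups. -/
theorem meet_ind_hom_of_eq {T : Subgroup Ω} (N : FusionSystem T) {Q Q' : Subgroup Ω} (hQ : Q = Q')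
    {χ : Q →* Ω} (hχ : χ ∈ N.Hom Q) :
    ∃ χ' ∈ N.Hom Q', ∀ (x : Ω) (hx : x ∈ Q) (hx' : x ∈ Q'), χ' ⟨x, hx'⟩ = χ ⟨x, hx⟩ := by
  subst hQ
  exact ⟨χ, hχ, fun _ _ _ => rfl⟩

/-! ### transport of the automizers -/

section automizers

variable {p : ℕ} {F : FusionSystem S} {W : Subgroup Ω} {hWS : W ≤ S}
  {A : ∀ P : Subgroup Ω, Subgroup (MulAut P)}

/-- `MulAut.congr` along the isomorphism defined by `φ` is the transport along `φ`. -/
theorem meet_ind_tr_congr {P P' : Subgroup Ω} (φ : P →* Ω) (hinj : Function.Injective φ) (hr : φ.range = P')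
    (a : MulAut P) : MeetTr φ a (MulAut.congr (Fusion.equivOfRange φ hinj hr) a) := by
  intro x hx
  set e := Fusion.equivOfRange φ hinj hr
  have h1 : (⟨φ x, hx⟩ : P') = e x := Subtype.ext rfl
  rw [h1]
  show ((e (a (e.symm (e x))) : P') : Ω) = φ (a x)
  rw [MulEquiv.symm_apply_apply]
  rfl

/-- (E1b) in the form with `MulAut.congr`. -/
theorem meet_ind_A_congr (h : MeetEng p F W hWS A) {P P' : Subgroup Ω} (hP : P ∈ meetH F W) {φ : P →* Ω}
    (hφ : φ ∈ F.Hom P) (hr : φ.range = P') {a : MulAut P} (ha : a ∈ A P) :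
    MulAut.congr (Fusion.equivOfRange φ (F.injective_of_mem hφ) hr) a ∈ A P' := by
  refine h.inv P hP P' φ hφ hr a ha _ (fun x hx => ?_)
  set e := Fusion.equivOfRange φ (F.injective_of_mem hφ) hr
  have h1 : (⟨φ x, hx⟩ : P') = e x := Subtype.ext rfl
  rw [h1]
  show ((e (a (e.symm (e x))) : P') : Ω) = φ (a x)
  rw [MulEquiv.symm_apply_apply]
  rfl

/-- (E1b), pulled back: if the transport `β` of `a` lies in `A(P')` then `a ∈ A(P)`. -/
theorem meet_ind_A_pull (h : MeetEng p F W hWS A) {P P' : Subgroup Ω} (hP : P ∈ meetH F W) {φ : P →* Ω}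
    (hφ : φ ∈ F.Hom P) (hr : φ.range = P') (a : MulAut P) {β : MulAut P'} (hβ : β ∈ A P')
    (htr : MeetTr φ a β) : a ∈ A P := by
  have hP' : P' ∈ meetH F W := meet_ind_H_of_isConj h.sc hP ⟨φ, hφ, hr⟩
  obtain ⟨ψ, hψ, hinv, hr'⟩ := Fusion.exists_inv F hφ hr
  refine h.inv P' hP' P ψ hψ hr' β hβ a (fun y hy => ?_)
  have hy' : (y : Ω) ∈ φ.range := hr ▸ y.2
  obtain ⟨x, hx⟩ := hy'
  have hxy : φ x ∈ P' := hx ▸ y.2
  have e1 : y = ⟨φ x, hxy⟩ := Subtype.ext hx.symm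
  have e2 : ψ y = (x : Ω) := by rw [e1]; exact hinv x hxy
  have e3 : (⟨ψ y, hy⟩ : P) = x := Subtype.ext e2
  rw [e3]
  have e4 := htr x hxy
  have hax : φ (a x) ∈ P' := hr ▸ ⟨a x, rfl⟩
  have e5 : β y = ⟨φ (a x), hax⟩ := by
    rw [e1]
    exact Subtype.ext e4
  rw [e5]
  exact (hinv (a x) hax).symm

end automizers

end Cfsg.Agent.MEET
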