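import Mathlib
import Cfsg.Agent.MEET.IndA

set_option autoImplicit false

/-!
# Project MEET, the induction, part B: consequences of `I(>k)`

Under `I(>k)` every member of the family of order `> k` has `Aut_N = A`.
-/

namespace Cfsg.Agent.MEET

open Cfsg Cfsg.FusionSystem Cfsg.Agent.Lead

universe u

variable {Ω : Type u} [Group Ω] {S : Subgroup Ω} {p : ℕ} {F : FusionSystem S} {W : Subgroup Ω} {hWS : W ≤ S}
  {A : ∀ P : Subgroup Ω, Subgroup (MulAut P)}

/-- The restriction to `P` of a map defined on `N_W(P)` carrying `P` onto `V`. -/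
theorem meet_ind_res_range {T : Subgroup Ω} (N : FusionSystem T) {P M V : Subgroup Ω} {ψ : M →* Ω}
    (hψ : ψ ∈ N.Hom M) (hPM : P ≤ M) (hV : (P.subgroupOf M).map ψ = V) :
    ψ.comp (Subgroup.inclusion hPM) ∈ N.Hom P ∧ (ψ.comp (Subgroup.inclusion hPM)).range = V := by
  refine ⟨Fusion.restrict_mem N hψ hPM, ?_⟩
  rw [← hV]
  ext y
  constructor
  · rintro ⟨x, rfl⟩
    exact ⟨Subgroup.inclusion hPM x, by rw [SetLike.mem_coe, Subgroup.mem_subgroupOf]; exact x.2, rfl⟩
  · rintro ⟨m, hm, rfl⟩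
    rw [SetLike.mem_coe, Subgroup.mem_subgroupOf] at hm
    exact ⟨⟨m, hm⟩, rfl⟩

/-- Under `I(>k)`: `Aut_N(P) = A(P)` for every member of the family of order `> k`. -/
theorem meet_ind_aut_eq [Finite S] (h : MeetEng p F W hWS A) (H : MeetIndHyp F W hWS A) {k : ℕ}
    (hI : MeetI F W hWS A k) {P : Subgroup Ω} (hP : P ∈ meetH F W) (hk : k < Nat.card P) :
    (meetN F W hWS A).autGroup P = A P := by
  apply le_antisymm _ (H.A_le P hP)
  intro β hβ
  obtain ⟨V, hV, ψ, hψ, -, hψP⟩ := H.ref P hP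
  have hPN : P ≤ normalizerIn W P := Fusion.le_normalizerIn hP.1
  obtain ⟨hψP', hr⟩ := meet_ind_res_range (meetN F W hWS A) hψ hPN hψP
  have hinj := (meetN F W hWS A).injective_of_mem hψP'
  have h1 := Fusion.congr_mem_autGroup (meetN F W hWS A) hψP' hr β hβ
  have hcard : Nat.card P = Nat.card V := Nat.card_congr (Fusion.equivOfRange _ hinj hr).toEquiv
  rw [(hI V hV (hcard ▸ hk)).1] at h1
  exact meet_ind_A_pull h hP hψP'.1 hr β h1 (meet_ind_tr_congr _ hinj hr β)

end Cfsg.Agent.MEET
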