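import Mathlib
import Cfsg.Agent.MEET.IndB
import Cfsg.Agent.Lead.FusionFocal

set_option autoImplicit false

/-!
# Project MEET, the induction, part C: good isomorphisms onto `U`

Fix `U` fully normalized in the family.  An isomorphism `θ : P → U` of `meetN` is GOOD if `a ∘ θ`, for some `a ∈ A(U)`, is
the restriction of a map `N_W(P) → N_W(U)` of `meetN`.  The maps of `meetN` composition with whose restrictions preserves
goodness (in both directions) form a fusion system containing the generators (Claim D'), hence all of `meetN`: every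
isomorphism onto `U` is good.
-/

namespace Cfsg.Agent.MEET

open Cfsg Cfsg.FusionSystem Cfsg.Agent.Lead

universe u

variable {Ω : Type u} [Group Ω] {S : Subgroup Ω} {p : ℕ} {F : FusionSystem S} {W : Subgroup Ω} {hWS : W ≤ S}
  {A : ∀ P : Subgroup Ω, Subgroup (MulAut P)}

/-- `θ : P → U` is good. -/
def MeetGood (F : FusionSystem S) (W : Subgroup Ω) (hWS : W ≤ S) (A : ∀ P : Subgroup Ω, Subgroup (MulAut P))
    (U P : Subgroup Ω) (θ : P →* Ω) : Prop :=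
  ∃ ω ∈ (meetN F W hWS A).Hom (normalizerIn W P), (∀ x, ω x ∈ normalizerIn W U) ∧
    ∃ a ∈ A U, ∀ (x : P) (hx : (x : Ω) ∈ normalizerIn W P) (hθ : θ x ∈ U),
      ω ⟨x, hx⟩ = ((a ⟨θ x, hθ⟩ : U) : Ω)

/-- Composition with the restrictions of `φ` preserves goodness. -/
def MeetPr (F : FusionSystem S) (W : Subgroup Ω) (hWS : W ≤ S) (A : ∀ P : Subgroup Ω, Subgroup (MulAut P))
    (U P : Subgroup Ω) (φ : P →* Ω) : Prop :=
  ∀ (P₀ P₁ : Subgroup Ω) (hle : P₀ ≤ P) (θ₀ : P₀ →* Ω) (θ₁ : P₁ →* Ω),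
    θ₀ ∈ (meetN F W hWS A).Hom P₀ → θ₀.range = U → θ₁ ∈ (meetN F W hWS A).Hom P₁ → θ₁.range = U →
    (∀ x : P₀, ∃ h' : φ (Subgroup.inclusion hle x) ∈ P₁, θ₀ x = θ₁ ⟨φ (Subgroup.inclusion hle x), h'⟩) →
    (MeetGood F W hWS A U P₀ θ₀ ↔ MeetGood F W hWS A U P₁ θ₁)

theorem meet_ind_surj_of_rel {P₀ P₁ U : Subgroup Ω} {θ₀ : P₀ →* Ω} {θ₁ : P₁ →* Ω}
    (hinj : Function.Injective θ₁) (hr₀ : θ₀.range = U) (hr₁ : θ₁.range = U) (f : P₀ → Ω)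
    (hrel : ∀ x : P₀, ∃ h' : f x ∈ P₁, θ₀ x = θ₁ ⟨f x, h'⟩) (y : P₁) : ∃ x : P₀, f x = y := by
  have : θ₁ y ∈ θ₀.range := by rw [hr₀, ← hr₁]; exact ⟨y, rfl⟩
  obtain ⟨x, hx⟩ := this
  obtain ⟨h', e⟩ := hrel x
  refine ⟨x, ?_⟩
  have := hinj (e.symm.trans hx)
  exact congrArg Subtype.val this

theorem meet_ind_pr_res {U P P' : Subgroup Ω} {φ : P →* Ω} (hφ : MeetPr F W hWS A U P φ) (hP' : P' ≤ P) :
    MeetPr F W hWS A U P' (φ.comp (Subgroup.inclusion hP')) := by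
  intro P₀ P₁ hle θ₀ θ₁ h0 r0 h1 r1 hrel
  exact hφ P₀ P₁ (hle.trans hP') θ₀ θ₁ h0 r0 h1 r1 hrel

theorem meet_ind_pr_comp {U P Q : Subgroup Ω} {φ : P →* Ω} {ψ : Q →* Ω} (hq : ∀ x : P, φ x ∈ Q)
    (hφN : φ ∈ (meetN F W hWS A).Hom P) (hψN : ψ ∈ (meetN F W hWS A).Hom Q)
    (hφ : MeetPr F W hWS A U P φ) (hψ : MeetPr F W hWS A U Q ψ) :
    MeetPr F W hWS A U P (ψ.comp (φ.codRestrict Q hq)) := by
  intro P₀ P₂ hle θ₀ θ₂ h0 r0 h2 r2 hrel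
  have hφ₀N : φ.comp (Subgroup.inclusion hle) ∈ (meetN F W hWS A).Hom P₀ :=
    Fusion.restrict_mem (meetN F W hWS A) hφN hle
  have hP₁Q : (φ.comp (Subgroup.inclusion hle)).range ≤ Q := by
    rintro _ ⟨x, rfl⟩
    exact hq _
  have hψ₁N := Fusion.restrict_mem (meetN F W hWS A) hψN hP₁Q
  have hh : ∀ y : (φ.comp (Subgroup.inclusion hle)).range, (ψ.comp (Subgroup.inclusion hP₁Q)) y ∈ P₂ := by
    rintro ⟨_, x, rfl⟩
    obtain ⟨h', -⟩ := hrel x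
    exact h'
  have h1 := (meetN F W hWS A).comp_mem hψ₁N h2 hh
  have r1 : (θ₂.comp ((ψ.comp (Subgroup.inclusion hP₁Q)).codRestrict P₂ hh)).range = U := by
    apply le_antisymm
    · rintro _ ⟨y, rfl⟩
      rw [← r2]
      exact ⟨_, rfl⟩
    · intro u hu
      rw [← r0] at hu
      obtain ⟨x, rfl⟩ := hu
      obtain ⟨h', e⟩ := hrel x
      exact ⟨⟨(φ.comp (Subgroup.inclusion hle)) x, x, rfl⟩, e.symm⟩
  have e1 := hφ P₀ _ hle θ₀ _ h0 r0 h1 r1 (fun x => by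
    obtain ⟨h', e⟩ := hrel x
    exact ⟨⟨x, rfl⟩, e⟩)
  have e2 := hψ _ P₂ hP₁Q _ θ₂ h1 r1 h2 r2 (fun y => ⟨hh y, rfl⟩)
  exact e1.trans e2

theorem meet_ind_pr_inv {U P : Subgroup Ω} {φ : P →* Ω} {ψ : φ.range →* Ω}
    (hφ : MeetPr F W hWS A U P φ)
    (hinv : ∀ x : P, ψ ⟨φ x, ⟨x, rfl⟩⟩ = (x : Ω)) : MeetPr F W hWS A U φ.range ψ := by
  intro Q₀ Q₁ hle θ₀ θ₁ h0 r0 h1 r1 hrel
  have hsurj := meet_ind_surj_of_rel ((meetN F W hWS A).injective_of_mem h1) r0 r1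
    (fun y : Q₀ => ψ (Subgroup.inclusion hle y)) hrel
  have key : ∀ z : Q₁, ∃ (y : Q₀) (x : P), φ x = (y : Ω) ∧ (x : Ω) = z ∧ ψ (Subgroup.inclusion hle y) = z := by
    intro z
    obtain ⟨y, hy⟩ := hsurj z
    obtain ⟨x, hx⟩ := hle y.2
    have e1 : Subgroup.inclusion hle y = ⟨φ x, ⟨x, rfl⟩⟩ := Subtype.ext hx.symm
    have hy' : ψ (Subgroup.inclusion hle y) = (z : Ω) := hy
    rw [e1, hinv] at hy'
    exact ⟨y, x, hx, hy', hy⟩
  have hQ₁P : Q₁ ≤ P := by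
    intro z hz
    obtain ⟨y, x, -, hxz, -⟩ := key ⟨z, hz⟩
    have hxz' : (x : Ω) = z := hxz
    rw [← hxz']
    exact x.2
  refine (hφ Q₁ Q₀ hQ₁P θ₁ θ₀ h1 r1 h0 r0 (fun z => ?_)).symm
  obtain ⟨y, x, hx, hxz, hy⟩ := key z
  have e3 : Subgroup.inclusion hQ₁P z = x := Subtype.ext hxz.symm
  have e4 : φ (Subgroup.inclusion hQ₁P z) = y := by rw [e3]; exact hx
  refine ⟨e4 ▸ y.2, ?_⟩
  obtain ⟨h', e⟩ := hrel y
  have e5 : (⟨ψ (Subgroup.inclusion hle y), h'⟩ : Q₁) = z := Subtype.ext hy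
  rw [e5] at e
  rw [← e]
  congr 1
  exact Subtype.ext e4.symm

/-- The identity of `U` is good. -/
theorem meet_ind_good_id (U : Subgroup Ω) : MeetGood F W hWS A U U U.subtype := by
  refine ⟨(normalizerIn W U).subtype, Fusion.subtype_mem _ inf_le_left, fun x => x.2, 1, Subgroup.one_mem _,
    fun x hx hθ => rfl⟩

end Cfsg.Agent.MEET
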