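import Mathlib
import Cfsg.Agent.MEET.IndC

set_option autoImplicit false

/-!
# Project MEET, the induction, part D: the generators preserve goodness (Claim D')
-/

namespace Cfsg.Agent.MEET

open Cfsg Cfsg.FusionSystem Cfsg.Agent.Lead

universe u

variable {Ω : Type u} [Group Ω] {S : Subgroup Ω} {p : ℕ} {F : FusionSystem S} {W : Subgroup Ω} {hWS : W ≤ S}
  {A : ∀ P : Subgroup Ω, Subgroup (MulAut P)}

theorem meet_ind_card_img (hWS : W ≤ S) {α : MulAut W} (hα : α ∈ F.autGroup W) {U : Subgroup Ω} (hU : U ≤ W) :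
    Nat.card (meetImg α U) = Nat.card U := by
  obtain ⟨φ, hφ, hr, -⟩ := meet_ind_res hWS hα hU
  rw [← hr]
  exact (Nat.card_congr (MonoidHom.ofInjective (F.injective_of_mem hφ)).toEquiv).symm

/-- An automorphism of `R` carrying `P₀` onto `P₁` carries the normalizer of `P₀` in `R` into the normalizer of `P₁`. -/
theorem meet_ind_map_normalizer {R P₀ P₁ : Subgroup Ω} (a : MulAut R) (hP₁R : P₁ ≤ R)
    (hiff : ∀ z : R, (z : Ω) ∈ P₀ ↔ ((a z : R) : Ω) ∈ P₁) (x : R)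
    (hx : (x : Ω) ∈ Subgroup.normalizer (P₀ : Set Ω)) :
    ((a x : R) : Ω) ∈ Subgroup.normalizer (P₁ : Set Ω) := by
  have hx' : (x : Ω)⁻¹ ∈ Subgroup.normalizer (P₀ : Set Ω) := Subgroup.inv_mem _ hx
  apply mem_normalizer_of_conj_mem
  · intro y hy
    have e1 : a (a.symm ⟨y, hP₁R hy⟩) = ⟨y, hP₁R hy⟩ := a.apply_symm_apply _
    have h1 : ((a.symm ⟨y, hP₁R hy⟩ : R) : Ω) ∈ P₀ := by
      rw [hiff, e1]
      exact hy
    have h2 := (Subgroup.mem_normalizer_iff.mp hx _).mp h1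
    have h3 : ((x * a.symm ⟨y, hP₁R hy⟩ * x⁻¹ : R) : Ω) ∈ P₀ := h2
    rw [hiff, map_mul, map_mul, map_inv, e1] at h3
    exact h3
  · intro y hy
    have e1 : a (a.symm ⟨y, hP₁R hy⟩) = ⟨y, hP₁R hy⟩ := a.apply_symm_apply _
    have h1 : ((a.symm ⟨y, hP₁R hy⟩ : R) : Ω) ∈ P₀ := by
      rw [hiff, e1]
      exact hy
    have h2 := (Subgroup.mem_normalizer_iff.mp hx' _).mp h1
    rw [inv_inv] at h2
    have h3 : ((x⁻¹ * a.symm ⟨y, hP₁R hy⟩ * x : R) : Ω) ∈ P₀ := h2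
    rw [hiff, map_mul, map_mul, map_inv, e1] at h3
    exact h3

/-- The generator step when the generator is an automorphism of the source itself: (E1b). -/
theorem meet_ind_gen_step_eq (h : MeetEng p F W hWS A) {U P : Subgroup Ω} (hP : P ∈ meetH F W)
    {a : MulAut P} (ha : a ∈ A P) {θ₀ θ₁ : P →* Ω} (hθ₁ : θ₁ ∈ (meetN F W hWS A).Hom P) (hr₁ : θ₁.range = U)
    (hrel : ∀ x : P, θ₀ x = θ₁ (a x)) (hg : MeetGood F W hWS A U P θ₁) : MeetGood F W hWS A U P θ₀ := by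
  obtain ⟨ω₁, hω₁, hω₁Y, a₁, ha₁, hω₁a⟩ := hg
  have hinj := F.injective_of_mem hθ₁.1
  have hβ : MulAut.congr (Fusion.equivOfRange θ₁ hinj hr₁) a⁻¹ ∈ A U :=
    meet_ind_A_congr h hP hθ₁.1 hr₁ (Subgroup.inv_mem _ ha)
  have htr := meet_ind_tr_congr θ₁ hinj hr₁ a⁻¹
  refine ⟨ω₁, hω₁, hω₁Y, a₁ * MulAut.congr (Fusion.equivOfRange θ₁ hinj hr₁) a⁻¹,
    Subgroup.mul_mem _ ha₁ hβ, fun x hx hθ => ?_⟩
  have h1 : θ₁ (a x) ∈ U := hrel x ▸ hθ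
  have h2 : θ₁ x ∈ U := hr₁ ▸ ⟨x, rfl⟩
  have e1 : (⟨θ₀ x, hθ⟩ : U) = ⟨θ₁ (a x), h1⟩ := Subtype.ext (hrel x)
  have e2 := htr (a x) h1
  have e3 : a⁻¹ (a x) = x := by simp
  rw [e3] at e2
  have e4 : (MulAut.congr (Fusion.equivOfRange θ₁ hinj hr₁) a⁻¹) ⟨θ₁ (a x), h1⟩ = ⟨θ₁ x, h2⟩ := Subtype.ext e2
  rw [hω₁a x hx h2, e1, MulAut.mul_apply, e4]

/-- The generator step when the source is a proper subgroup of the domain of the generator: Claim D'. -/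
theorem meet_ind_gen_step_lt [Finite S] [Fact p.Prime] (h : MeetEng p F W hWS A) (H : MeetIndHyp F W hWS A)
    {U : Subgroup Ω} (hU : U ∈ meetUf F W) (hI : MeetI F W hWS A (Nat.card U))
    {R : Subgroup Ω} (hR : R ∈ meetH F W) {a : MulAut R} (ha : a ∈ A R)
    {P₀ P₁ : Subgroup Ω} (hle₀ : P₀ ≤ R) (hne₀ : P₀ ≠ R) {θ₀ : P₀ →* Ω} {θ₁ : P₁ →* Ω}
    (hθ₀ : θ₀ ∈ (meetN F W hWS A).Hom P₀) (hr₀ : θ₀.range = U)
    (hθ₁ : θ₁ ∈ (meetN F W hWS A).Hom P₁) (hr₁ : θ₁.range = U)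
    (hrel : ∀ x : P₀, ∃ h' : ((a (Subgroup.inclusion hle₀ x) : R) : Ω) ∈ P₁,
      θ₀ x = θ₁ ⟨((a (Subgroup.inclusion hle₀ x) : R) : Ω), h'⟩)
    (hg : MeetGood F W hWS A U P₁ θ₁) : MeetGood F W hWS A U P₀ θ₀ := by
  have hRW : R ≤ W := hR.1
  have hUW : U ≤ W := hU.1.1
  have haN : R.subtype.comp a.toMonoidHom ∈ (meetN F W hWS A).Hom R :=
    (Fusion.mem_autGroup_iff (meetN F W hWS A) hRW a).mp (H.A_le R hR ha)
  obtain ⟨ω₁, hω₁, hω₁Y, a₁, ha₁, hω₁a⟩ := hg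
  have hinj₁ := (meetN F W hWS A).injective_of_mem hθ₁
  have hsurj := meet_ind_surj_of_rel hinj₁ hr₀ hr₁
    (fun x : P₀ => ((a (Subgroup.inclusion hle₀ x) : R) : Ω)) hrel
  have hP₁R : P₁ ≤ R := by
    intro y hy
    obtain ⟨x, hx⟩ := hsurj ⟨y, hy⟩
    have hx' : ((a (Subgroup.inclusion hle₀ x) : R) : Ω) = y := hx
    rw [← hx']
    exact (a _).2
  have hiff : ∀ z : R, (z : Ω) ∈ P₀ ↔ ((a z : R) : Ω) ∈ P₁ := by
    intro z
    constructor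
    · intro hz
      obtain ⟨h', -⟩ := hrel ⟨z, hz⟩
      exact h'
    · intro hz
      obtain ⟨x, hx⟩ := hsurj ⟨_, hz⟩
      have hx' : ((a (Subgroup.inclusion hle₀ x) : R) : Ω) = ((a z : R) : Ω) := hx
      have := a.injective (Subtype.ext hx')
      rw [← this]
      exact x.2
  have hP₀conj : F.IsConj P₀ U := ⟨θ₀, hθ₀.1, hr₀⟩
  have hP₀H : P₀ ∈ meetH F W := meet_ind_H_of_isConj h.sc hU.1 (Fusion.isConj_symm F hP₀conj)
  have hfinR : Finite R := Fusion.finite_of_le (hRW.trans hWS)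
  have hRp : IsPGroup p R := h.hS.to_le (hRW.trans hWS)
  obtain ⟨n, hn, hnP⟩ := Fusion.exists_mem_normalizerIn_not_mem (S := R) hRp hle₀ hne₀
  have hP₀X : P₀ ≤ normalizerIn R P₀ := Fusion.le_normalizerIn hle₀
  have hXR : normalizerIn R P₀ ≤ R := inf_le_left
  have hXN : normalizerIn R P₀ ≤ normalizerIn W P₀ := fun x hx => ⟨hRW hx.1, hx.2⟩
  have haX := Fusion.restrict_mem (meetN F W hWS A) haN hXR
  have haXN : ∀ x : ↥(normalizerIn R P₀),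
      ((R.subtype.comp a.toMonoidHom).comp (Subgroup.inclusion hXR)) x ∈ normalizerIn W P₁ := by
    intro x
    refine ⟨hRW (a _).2, ?_⟩
    exact meet_ind_map_normalizer a hP₁R hiff (Subgroup.inclusion hXR x) x.2.2
  have hσ₀ := (meetN F W hWS A).comp_mem haX hω₁ haXN
  have hσ₀P : ∀ (x : P₀) (hθ : θ₀ x ∈ U),
      (ω₁.comp (((R.subtype.comp a.toMonoidHom).comp (Subgroup.inclusion hXR)).codRestrict _ haXN))
        (Subgroup.inclusion hP₀X x) = ((a₁ ⟨θ₀ x, hθ⟩ : U) : Ω) := by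
    intro x hθ
    obtain ⟨h', e⟩ := hrel x
    have h1 : θ₁ ⟨((a (Subgroup.inclusion hle₀ x) : R) : Ω), h'⟩ ∈ U := e ▸ hθ
    have e1 : (⟨θ₀ x, hθ⟩ : U) = ⟨θ₁ ⟨((a (Subgroup.inclusion hle₀ x) : R) : Ω), h'⟩, h1⟩ := Subtype.ext e
    rw [e1]
    exact hω₁a ⟨((a (Subgroup.inclusion hle₀ x) : R) : Ω), h'⟩
      (haXN (Subgroup.inclusion hP₀X x)) h1
  -- the reference map
  obtain ⟨α, hα, ψ, hψ, hψN, hψP⟩ := H.ref_of P₀ hP₀H U hU hP₀conj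
  have hψinj := (meetN F W hWS A).injective_of_mem hψ
  obtain ⟨σ, hσ, hσψ⟩ := meet_ind_push (meetN F W hWS A) hψ hXN hσ₀ rfl
  have hmemV : ∀ m : ↥(normalizerIn W P₀), ψ m ∈ meetImg α U ↔ (m : Ω) ∈ P₀ := by
    intro m
    rw [← hψP]
    constructor
    · rintro ⟨m', hm', e⟩
      rw [SetLike.mem_coe, Subgroup.mem_subgroupOf] at hm'
      rw [← hψinj e]
      exact hm'
    · intro hm
      exact ⟨m, by rw [SetLike.mem_coe, Subgroup.mem_subgroupOf]; exact hm, rfl⟩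
  have hVX' : meetImg α U ≤ (ψ.comp (Subgroup.inclusion hXN)).range := by
    intro v hv
    rw [← hψP] at hv
    obtain ⟨m, hm, rfl⟩ := hv
    rw [SetLike.mem_coe, Subgroup.mem_subgroupOf] at hm
    exact ⟨⟨m, hP₀X hm⟩, rfl⟩
  have hne : meetImg α U ≠ (ψ.comp (Subgroup.inclusion hXN)).range := by
    intro hEq
    apply hnP
    have h1 : ψ ⟨n, hXN hn⟩ ∈ (ψ.comp (Subgroup.inclusion hXN)).range := ⟨⟨n, hn⟩, rfl⟩
    rw [← hEq] at h1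
    exact (hmemV _).mp h1
  have hX'Y : (ψ.comp (Subgroup.inclusion hXN)).range ≤ normalizerIn W (meetImg α U) := by
    rintro _ ⟨x, rfl⟩
    exact hψN _
  have hσY : ∀ y : ↥(ψ.comp (Subgroup.inclusion hXN)).range, σ y ∈ normalizerIn W U := by
    rintro ⟨_, x, rfl⟩
    have := hσψ x ⟨x, rfl⟩
    show σ ⟨ψ (Subgroup.inclusion hXN x), ⟨x, rfl⟩⟩ ∈ normalizerIn W U
    rw [this]
    exact hω₁Y _
  have hθ₀U : ∀ x : P₀, θ₀ x ∈ U := fun x => hr₀ ▸ ⟨x, rfl⟩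
  have hσV : ∀ y : ↥(ψ.comp (Subgroup.inclusion hXN)).range, (y : Ω) ∈ meetImg α U → σ y ∈ U := by
    rintro ⟨_, x, rfl⟩ hv
    have hxP : (x : Ω) ∈ P₀ := (hmemV (Subgroup.inclusion hXN x)).mp hv
    have e1 := hσψ x ⟨x, rfl⟩
    have e2 := hσ₀P ⟨x, hxP⟩ (hθ₀U _)
    have e3 : Subgroup.inclusion hP₀X ⟨(x : Ω), hxP⟩ = x := Subtype.ext rfl
    rw [e3] at e2
    show σ ⟨ψ (Subgroup.inclusion hXN x), ⟨x, rfl⟩⟩ ∈ U
    rw [e1, e2]
    exact (a₁ _).2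
  have hone := meet_ind_img_one (W := W) hUW
  obtain ⟨τ, hτ, hτY, b, hb, hστ⟩ := H.claimD U hU hI α 1 hα (Subgroup.one_mem _) _ hVX' hne hX'Y σ hσ
    (by rw [hone]; exact hσY) (by rw [hone]; exact hσV)
  rw [hone] at hτY
  -- `τ` on `V`
  have hVW : meetImg α U ≤ W := meet_ind_img_le α U
  have hVN : meetImg α U ≤ normalizerIn W (meetImg α U) := Fusion.le_normalizerIn hVW
  have hVH : meetImg α U ∈ meetH F W := meet_ind_Ustar_H h.sc ⟨U, hU, α, hα, rfl⟩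
  have hτV := Fusion.restrict_mem (meetN F W hWS A) hτ hVN
  have hτVinj := F.injective_of_mem hτV.1
  have hfinU : Finite U := Fusion.finite_of_le (hUW.trans hWS)
  have hτVr : (τ.comp (Subgroup.inclusion hVN)).range = U := by
    apply Subgroup.eq_of_le_of_card_ge
    · rintro _ ⟨v, rfl⟩
      have e1 : b (b.symm v) = v := b.apply_symm_apply v
      have e2 := hστ (b.symm v) (hVN (b _).2)
      have e3 : (⟨((b (b.symm v) : ↥(meetImg α U)) : Ω), hVN (b _).2⟩ : ↥(normalizerIn W (meetImg α U))) =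
          Subgroup.inclusion hVN v :=
        Subtype.ext (show ((b (b.symm v) : ↥(meetImg α U)) : Ω) = (v : Ω) from congrArg Subtype.val e1)
      rw [e3] at e2
      show τ (Subgroup.inclusion hVN v) ∈ U
      rw [← e2]
      exact hσV _ (b.symm v).2
    · rw [← Nat.card_congr (MonoidHom.ofInjective hτVinj).toEquiv, meet_ind_card_img hWS hα hUW]
  have hβ : MulAut.congr (Fusion.equivOfRange _ hτVinj hτVr) b ∈ A U :=
    meet_ind_A_congr h hVH hτV.1 hτVr hb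
  have htr := meet_ind_tr_congr _ hτVinj hτVr b
  refine ⟨τ.comp (ψ.codRestrict _ hψN), (meetN F W hWS A).comp_mem hψ hτ hψN, fun x => hτY _,
    (MulAut.congr (Fusion.equivOfRange _ hτVinj hτVr) b)⁻¹ * a₁,
    Subgroup.mul_mem _ (Subgroup.inv_mem _ hβ) ha₁, fun x hx hθ => ?_⟩
  have hv : ψ ⟨x, hx⟩ ∈ meetImg α U := (hmemV ⟨x, hx⟩).mpr x.2
  have hbv : ((b ⟨ψ ⟨x, hx⟩, hv⟩ : ↥(meetImg α U)) : Ω) ∈ normalizerIn W (meetImg α U) := hVN (b _).2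
  have e1 := hστ ⟨ψ ⟨x, hx⟩, hv⟩ hbv
  have e2 := hσψ ⟨x, hP₀X x.2⟩ (hVX' hv)
  have e3 := hσ₀P x hθ
  have hτu : (τ.comp (Subgroup.inclusion hVN)) ⟨ψ ⟨x, hx⟩, hv⟩ ∈ U := hτVr.le ⟨_, rfl⟩
  have e4 := htr ⟨ψ ⟨x, hx⟩, hv⟩ hτu
  -- `β (τ v) = τ (b v) = σ v = σ₀ x = a₁ (θ₀ x)`
  have e5 : (MulAut.congr (Fusion.equivOfRange _ hτVinj hτVr) b)
      ⟨(τ.comp (Subgroup.inclusion hVN)) ⟨ψ ⟨x, hx⟩, hv⟩, hτu⟩ = a₁ ⟨θ₀ x, hθ⟩ := by
    apply Subtype.ext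
    rw [e4, ← e3]
    have e6 : (τ.comp (Subgroup.inclusion hVN)) (b ⟨ψ ⟨x, hx⟩, hv⟩) =
        τ ⟨((b ⟨ψ ⟨x, hx⟩, hv⟩ : ↥(meetImg α U)) : Ω), hbv⟩ := rfl
    rw [e6, ← e1]
    exact e2
  have e7 : (⟨(τ.comp (Subgroup.inclusion hVN)) ⟨ψ ⟨x, hx⟩, hv⟩, hτu⟩ : U) =
      (MulAut.congr (Fusion.equivOfRange _ hτVinj hτVr) b)⁻¹ (a₁ ⟨θ₀ x, hθ⟩) := by
    rw [← e5]
    simp
  rw [MulAut.mul_apply, ← e7]
  rfl

end Cfsg.Agent.MEET
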