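import Mathlib
import Cfsg.Agent.MEET.IndD

set_option autoImplicit false

/-!
# Project MEET, the induction, part E: every isomorphism of `meetN` onto `U` is good
-/

namespace Cfsg.Agent.MEET

open Cfsg Cfsg.FusionSystem Cfsg.Agent.Lead

universe u

variable {Ω : Type u} [Group Ω] {S : Subgroup Ω} {p : ℕ} {F : FusionSystem S} {W : Subgroup Ω} {hWS : W ≤ S}
  {A : ∀ P : Subgroup Ω, Subgroup (MulAut P)}

/-- The generator step. -/
theorem meet_ind_gen_step [Finite S] [Fact p.Prime] (h : MeetEng p F W hWS A) (H : MeetIndHyp F W hWS A)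
    {U : Subgroup Ω} (hU : U ∈ meetUf F W) (hI : MeetI F W hWS A (Nat.card U))
    {R : Subgroup Ω} (hR : R ∈ meetH F W) {a : MulAut R} (ha : a ∈ A R)
    {P₀ P₁ : Subgroup Ω} (hle₀ : P₀ ≤ R) {θ₀ : P₀ →* Ω} {θ₁ : P₁ →* Ω}
    (hθ₀ : θ₀ ∈ (meetN F W hWS A).Hom P₀) (hr₀ : θ₀.range = U)
    (hθ₁ : θ₁ ∈ (meetN F W hWS A).Hom P₁) (hr₁ : θ₁.range = U)
    (hrel : ∀ x : P₀, ∃ h' : ((a (Subgroup.inclusion hle₀ x) : R) : Ω) ∈ P₁,
      θ₀ x = θ₁ ⟨((a (Subgroup.inclusion hle₀ x) : R) : Ω), h'⟩)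
    (hg : MeetGood F W hWS A U P₁ θ₁) : MeetGood F W hWS A U P₀ θ₀ := by
  by_cases hne₀ : P₀ = R
  · subst hne₀
    have hinj₁ := (meetN F W hWS A).injective_of_mem hθ₁
    have hsurj := meet_ind_surj_of_rel hinj₁ hr₀ hr₁
      (fun x : P₀ => ((a (Subgroup.inclusion hle₀ x) : P₀) : Ω)) hrel
    have hP₁ : P₁ = P₀ := by
      apply le_antisymm
      · intro y hy
        obtain ⟨x, hx⟩ := hsurj ⟨y, hy⟩
        have hx' : ((a (Subgroup.inclusion hle₀ x) : P₀) : Ω) = y := hx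
        rw [← hx']
        exact (a _).2
      · intro x hx
        obtain ⟨h', -⟩ := hrel (a.symm ⟨x, hx⟩)
        have e1 : Subgroup.inclusion hle₀ (a.symm ⟨x, hx⟩) = a.symm ⟨x, hx⟩ := Subtype.ext rfl
        rw [e1, MulEquiv.apply_symm_apply] at h'
        exact h'
    subst hP₁
    refine meet_ind_gen_step_eq h hR ha hθ₁ hr₁ (fun x => ?_) hg
    obtain ⟨h', e⟩ := hrel x
    exact e
  · exact meet_ind_gen_step_lt h H hU hI hR ha hle₀ hne₀ hθ₀ hr₀ hθ₁ hr₁ hrel hg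

/-- The generators preserve goodness in both directions. -/
theorem meet_ind_pr_gen [Finite S] [Fact p.Prime] (h : MeetEng p F W hWS A) (H : MeetIndHyp F W hWS A)
    {U : Subgroup Ω} (hU : U ∈ meetUf F W) (hI : MeetI F W hWS A (Nat.card U))
    {R : Subgroup Ω} (hR : R ∈ meetH F W) {a : MulAut R} (ha : a ∈ A R) :
    MeetPr F W hWS A U R (R.subtype.comp a.toMonoidHom) := by
  intro P₀ P₁ hle θ₀ θ₁ h0 r0 h1 r1 hrel
  have hrel' : ∀ x : P₀, ∃ h' : ((a (Subgroup.inclusion hle x) : R) : Ω) ∈ P₁,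
      θ₀ x = θ₁ ⟨((a (Subgroup.inclusion hle x) : R) : Ω), h'⟩ := hrel
  constructor
  · intro hg
    have hinj₁ := (meetN F W hWS A).injective_of_mem h1
    have hsurj := meet_ind_surj_of_rel hinj₁ r0 r1
      (fun x : P₀ => ((a (Subgroup.inclusion hle x) : R) : Ω)) hrel'
    have hP₁R : P₁ ≤ R := by
      intro y hy
      obtain ⟨x, hx⟩ := hsurj ⟨y, hy⟩
      have hx' : ((a (Subgroup.inclusion hle x) : R) : Ω) = y := hx
      rw [← hx']
      exact (a _).2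
    refine meet_ind_gen_step h H hU hI hR (Subgroup.inv_mem _ ha) hP₁R h1 r1 h0 r0 (fun y => ?_) hg
    obtain ⟨x, hx⟩ := hsurj y
    have e1 : a (Subgroup.inclusion hle x) = Subgroup.inclusion hP₁R y := Subtype.ext hx
    have e2 : a⁻¹ (Subgroup.inclusion hP₁R y) = Subgroup.inclusion hle x := by
      rw [← e1]
      simp
    have e2' : ((a⁻¹ (Subgroup.inclusion hP₁R y) : R) : Ω) = (x : Ω) := by rw [e2]; rfl
    refine ⟨e2' ▸ x.2, ?_⟩
    obtain ⟨h', e⟩ := hrel' x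
    have e3 : (⟨((a (Subgroup.inclusion hle x) : R) : Ω), h'⟩ : P₁) = y := Subtype.ext hx
    rw [e3] at e
    rw [← e]
    congr 1
    exact Subtype.ext e2'.symm
  · intro hg
    exact meet_ind_gen_step h H hU hI hR ha hle h0 r0 h1 r1 hrel' hg

/-- Every map of `meetN` preserves goodness. -/
theorem meet_ind_pr_all [Finite S] [Fact p.Prime] (h : MeetEng p F W hWS A) (H : MeetIndHyp F W hWS A)
    {U : Subgroup Ω} (hU : U ∈ meetUf F W) (hI : MeetI F W hWS A (Nat.card U))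
    {P : Subgroup Ω} {φ : P →* Ω} (hφ : φ ∈ (meetN F W hWS A).Hom P) : MeetPr F W hWS A U P φ := by
  have hWUf : W ∈ meetUf F W := meet_ind_W_mem_Uf h.sc
  have hconj : ∀ (P : Subgroup Ω) (g : Ω), P ≤ W → g ∈ W → MeetPr F W hWS A U P (conjHom P g) := by
    intro P g hPW hg
    have hc : (MulAut.conj (⟨g, hg⟩ : W)) ∈ A W := by
      apply h.autW W hWUf.1 hWUf.2
      rw [mem_autInducedBy_iff]
      exact ⟨g, hg, fun x => rfl⟩
    have h1 := meet_ind_pr_res (meet_ind_pr_gen h H hU hI hWUf.1 hc) hPW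
    have e : conjHom P g = (W.subtype.comp (MulAut.conj (⟨g, hg⟩ : W)).toMonoidHom).comp
        (Subgroup.inclusion hPW) := by
      ext x
      rfl
    rw [e]
    exact h1
  have hcomp : ∀ (P Q : Subgroup Ω) (φ : P →* Ω) (ψ : Q →* Ω) (hq : ∀ x : P, φ x ∈ Q),
      φ ∈ (meetN F W hWS A).Hom P → ψ ∈ (meetN F W hWS A).Hom Q → MeetPr F W hWS A U P φ →
      MeetPr F W hWS A U Q ψ → MeetPr F W hWS A U P (ψ.comp (φ.codRestrict Q hq)) :=
    fun P Q φ ψ hq hφ hψ h1 h2 => meet_ind_pr_comp hq hφ hψ h1 h2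
  have hinv : ∀ (P : Subgroup Ω) (φ : P →* Ω) (ψ : φ.range →* Ω), φ ∈ (meetN F W hWS A).Hom P →
      MeetPr F W hWS A U P φ → ψ ∈ (meetN F W hWS A).Hom φ.range →
      (∀ x : P, ψ ⟨φ x, ⟨x, rfl⟩⟩ = (x : Ω)) → MeetPr F W hWS A U φ.range ψ :=
    fun P φ ψ _ h1 _ h3 => meet_ind_pr_inv h1 h3
  have hND : meetN F W hWS A ≤ Fusion.subOfPred (meetN F W hWS A) (MeetPr F W hWS A U) hconj hcomp hinv := by
    apply meet_ind_N_min
    intro R hR a ha
    rw [Fusion.mem_autGroup_iff _ hR.1]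
    exact ⟨(Fusion.mem_autGroup_iff (meetN F W hWS A) hR.1 a).mp (H.A_le R hR ha),
      meet_ind_pr_gen h H hU hI hR ha⟩
  exact (hND P hφ).2

/-- Every isomorphism of `meetN` onto `U` is good. -/
theorem meet_ind_good_all [Finite S] [Fact p.Prime] (h : MeetEng p F W hWS A) (H : MeetIndHyp F W hWS A)
    {U : Subgroup Ω} (hU : U ∈ meetUf F W) (hI : MeetI F W hWS A (Nat.card U))
    {P : Subgroup Ω} {θ : P →* Ω} (hθ : θ ∈ (meetN F W hWS A).Hom P) (hr : θ.range = U) :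
    MeetGood F W hWS A U P θ := by
  have hUW : U ≤ W := hU.1.1
  have h1 := meet_ind_pr_all h H hU hI hθ P U le_rfl θ U.subtype hθ hr
    (Fusion.subtype_mem _ hUW) (Subgroup.range_subtype U) (fun x => ⟨hr.le ⟨x, rfl⟩, rfl⟩)
  exact h1.mpr (meet_ind_good_id U)

end Cfsg.Agent.MEET
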