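import Mathlib
import Cfsg.Agent.MEET.IndE

set_option autoImplicit false

/-!
# Project MEET, the induction, part F: the induction step `(G_k)`, `(REC_k)` for a fully normalized `U`
-/

namespace Cfsg.Agent.MEET

open Cfsg Cfsg.FusionSystem Cfsg.Agent.Lead

universe u

variable {Ω : Type u} [Group Ω] {S : Subgroup Ω} {p : ℕ} {F : FusionSystem S} {W : Subgroup Ω} {hWS : W ≤ S}
  {A : ∀ P : Subgroup Ω, Subgroup (MulAut P)}

/-- A map of the system from `Q` into `Q` is an automorphism of the system. -/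
theorem meet_ind_aut_of_hom {T : Subgroup Ω} [Finite T] (N : FusionSystem T) {Q : Subgroup Ω} {ψ : Q →* Ω}
    (hψ : ψ ∈ N.Hom Q) (hQ : ∀ x : Q, ψ x ∈ Q) :
    ∃ β ∈ N.autGroup Q, ∀ x : Q, ((β x : Q) : Ω) = ψ x := by
  have hQT : Q ≤ T := Fusion.src_le N hψ
  have : Finite Q := Fusion.finite_of_le hQT
  have hinj : Function.Injective (ψ.codRestrict Q hQ) := by
    intro x y hxy
    exact N.injective_of_mem hψ (congrArg Subtype.val hxy)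
  have hbij : Function.Bijective (ψ.codRestrict Q hQ) := ⟨hinj, Finite.injective_iff_surjective.mp hinj⟩
  refine ⟨MulEquiv.ofBijective (ψ.codRestrict Q hQ) hbij, ?_, fun x => rfl⟩
  rw [Fusion.mem_autGroup_iff N hQT]
  have : Q.subtype.comp (MulEquiv.ofBijective (ψ.codRestrict Q hQ) hbij).toMonoidHom = ψ := by
    ext x
    rfl
  rw [this]
  exact hψ

/-- `(G_k)`: `Aut_N(U) ≤ A(U)`, for `U ≠ W`. -/
theorem meet_ind_aut_le [Finite S] [Fact p.Prime] (h : MeetEng p F W hWS A) (H : MeetIndHyp F W hWS A)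
    {U : Subgroup Ω} (hU : U ∈ meetUf F W) (hI : MeetI F W hWS A (Nat.card U)) (hne : U ≠ W) :
    (meetN F W hWS A).autGroup U ≤ A U := by
  intro θ hθ
  have hUW : U ≤ W := hU.1.1
  have : Finite W := Fusion.finite_of_le hWS
  have hWp : IsPGroup p W := h.hS.to_le hWS
  rw [Fusion.mem_autGroup_iff _ hUW] at hθ
  have hr : (U.subtype.comp θ.toMonoidHom).range = U := by
    ext y
    constructor
    · rintro ⟨x, rfl⟩
      exact (θ x).2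
    · intro hy
      exact ⟨θ.symm ⟨y, hy⟩, by simp⟩
  obtain ⟨ω, hω, hωY, a, ha, hωa⟩ := meet_ind_good_all h H hU hI hθ hr
  obtain ⟨β, hβ, hβω⟩ := meet_ind_aut_of_hom (meetN F W hWS A) hω hωY
  have hUY : U ≤ normalizerIn W U := Fusion.le_normalizerIn hUW
  have hYH : normalizerIn W U ∈ meetH F W := meet_ind_H_of_le hU.1 hUY inf_le_left
  have hlt : Nat.card U < Nat.card (normalizerIn W U) := Fusion.card_lt_card_normalizerIn hWp hUW hne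
  rw [meet_ind_aut_eq h H hI hYH hlt] at hβ
  have h1 : a * θ ∈ A U := by
    refine h.cmb U hU.1 hU.2 hUY β hβ (a * θ) (fun x => ?_)
    rw [hβω]
    exact (hωa x (hUY x.2) (θ x).2).symm
  have h2 := Subgroup.mul_mem _ (Subgroup.inv_mem _ ha) h1
  rwa [inv_mul_cancel_left] at h2

/-- `(REC_k)`: `U` is receptive in `meetN`. -/
theorem meet_ind_receptive [Finite S] [Fact p.Prime] (h : MeetEng p F W hWS A) (H : MeetIndHyp F W hWS A)
    {U : Subgroup Ω} (hU : U ∈ meetUf F W) (hI : MeetI F W hWS A (Nat.card U)) :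
    (meetN F W hWS A).IsReceptive U := by
  have hUW : U ≤ W := hU.1.1
  have hfinU : Finite U := Fusion.finite_of_le (hUW.trans hWS)
  refine ⟨hUW, fun P θ hθ hr => ?_⟩
  obtain ⟨ω, hω, hωY, a, ha, hωa⟩ := meet_ind_good_all h H hU hI hθ hr
  have hEN : extender W P θ ≤ normalizerIn W P := Cfsg.Agent.Helper6.Bcglo.extender_le_normalizerIn P θ
  have hPW : P ≤ W := hθ.2.1
  have hPE : P ≤ extender W P θ := Fusion.le_extender P hPW θ hθ.2.2.1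
  have hθU : ∀ x : P, θ x ∈ U := fun x => hr.le ⟨x, rfl⟩
  have hωP : ∀ (x : P) (hx : (x : Ω) ∈ normalizerIn W P), ω ⟨x, hx⟩ = ((a ⟨θ x, hθU x⟩ : U) : Ω) :=
    fun x hx => hωa x hx (hθU x)
  have hsurj : ∀ u : U, ∃ x : P, (⟨θ x, hθU x⟩ : U) = u := by
    intro u
    have : (u : Ω) ∈ θ.range := hr.ge u.2
    obtain ⟨x, hx⟩ := this
    exact ⟨x, Subtype.ext hx⟩
  have hωE := Fusion.restrict_mem (meetN F W hWS A) hω hEN
  have hUY₁ : U ≤ (ω.comp (Subgroup.inclusion hEN)).range := by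
    intro u hu
    obtain ⟨x, hx⟩ := hsurj (a.symm ⟨u, hu⟩)
    refine ⟨⟨x, hPE x.2⟩, ?_⟩
    show ω ⟨x, hEN (hPE x.2)⟩ = u
    rw [hωP x, hx, MulEquiv.apply_symm_apply]
  have hY₁Y : (ω.comp (Subgroup.inclusion hEN)).range ≤ normalizerIn W U := by
    rintro _ ⟨x, rfl⟩
    exact hωY _
  have hcond : ∀ y ∈ (ω.comp (Subgroup.inclusion hEN)).range, ∃ w ∈ normalizerIn W U,
      ∀ (u : U) (hu : y * (u : Ω) * y⁻¹ ∈ U),
        ((a⁻¹ ⟨y * (u : Ω) * y⁻¹, hu⟩ : U) : Ω) = w * ((a⁻¹ u : U) : Ω) * w⁻¹ := by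
    rintro _ ⟨g, rfl⟩
    obtain ⟨hgW, hgN, k, hkW, hk⟩ := (Cfsg.Agent.Helper6.Bcglo.mem_extender_iff P θ (g : Ω)).mp g.2
    have hgx : ∀ x : P, (g : Ω) * (x : Ω) * (g : Ω)⁻¹ ∈ P :=
      fun x => (Subgroup.mem_normalizer_iff.mp hgN x).mp x.2
    have hkN : k ∈ Subgroup.normalizer (U : Set Ω) := by
      apply Subgroup.mem_normalizer_fintype
      intro u hu
      obtain ⟨x, hx⟩ := hsurj ⟨u, hu⟩
      have e1 : θ x = u := congrArg Subtype.val hx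
      rw [← e1, ← hk x (hgx x)]
      exact hθU _
    refine ⟨k, ⟨hkW, hkN⟩, fun u hu => ?_⟩
    obtain ⟨x, hx⟩ := hsurj (a⁻¹ u)
    have e1 : a ⟨θ x, hθU x⟩ = u := by rw [hx]; simp
    have e2 : ω ⟨x, hEN (hPE x.2)⟩ = (u : Ω) := by rw [hωP x, e1]
    have e3 : ((a⁻¹ u : U) : Ω) = θ x := (congrArg Subtype.val hx).symm
    -- `y u y⁻¹ = ω (g x g⁻¹)`
    have e4 : (ω.comp (Subgroup.inclusion hEN)) g * (u : Ω) * ((ω.comp (Subgroup.inclusion hEN)) g)⁻¹ =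
        ω ⟨(g : Ω) * (x : Ω) * (g : Ω)⁻¹, hEN (hPE (hgx x))⟩ := by
      rw [← e2]
      show ω (Subgroup.inclusion hEN g) * ω ⟨x, hEN (hPE x.2)⟩ * (ω (Subgroup.inclusion hEN g))⁻¹ = _
      rw [← map_inv, ← map_mul, ← map_mul]
      rfl
    have e5 := hωP ⟨(g : Ω) * (x : Ω) * (g : Ω)⁻¹, hgx x⟩ (hEN (hPE (hgx x)))
    have e6 : (⟨(ω.comp (Subgroup.inclusion hEN)) g * (u : Ω) * ((ω.comp (Subgroup.inclusion hEN)) g)⁻¹, hu⟩ : U) =
        a ⟨θ ⟨(g : Ω) * (x : Ω) * (g : Ω)⁻¹, hgx x⟩, hθU _⟩ := Subtype.ext (e4.trans e5)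
    rw [e6, e3, ← hk x (hgx x)]
    simp
  obtain ⟨ε, hε, -, hεa⟩ := h.recl U hU.1 hU.2 a⁻¹ (Subgroup.inv_mem _ ha) _ hUY₁ hY₁Y hcond
  have hωY₁ : ∀ x : ↥(extender W P θ), (ω.comp (Subgroup.inclusion hEN)) x ∈
      (ω.comp (Subgroup.inclusion hEN)).range := fun x => ⟨x, rfl⟩
  refine ⟨ε.comp ((ω.comp (Subgroup.inclusion hEN)).codRestrict _ hωY₁),
    (meetN F W hWS A).comp_mem hωE hε hωY₁, fun x hP hN => ?_⟩
  have e1 := hωP ⟨x, hP⟩ (hEN hN)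
  have e2 := hεa (a ⟨θ ⟨x, hP⟩, hθU _⟩)
  show ε ⟨ω ⟨x, hEN hN⟩, _⟩ = θ ⟨x, hP⟩
  have e3 : (⟨ω ⟨x, hEN hN⟩, hωY₁ ⟨x, hN⟩⟩ : ↥(ω.comp (Subgroup.inclusion hEN)).range) =
      ⟨((a ⟨θ ⟨x, hP⟩, hθU _⟩ : U) : Ω), hUY₁ (a _).2⟩ := Subtype.ext e1
  rw [e3, e2]
  simp

end Cfsg.Agent.MEET
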