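import Mathlib
import Cfsg.Agent.MEET.IndF

set_option autoImplicit false

/-!
# Project MEET, the induction, part G: the top case `U = W` and the induction step
-/

namespace Cfsg.Agent.MEET

open Cfsg Cfsg.FusionSystem Cfsg.Agent.Lead

universe u

variable {Ω : Type u} [Group Ω] {S : Subgroup Ω} {p : ℕ} {F : FusionSystem S} {W : Subgroup Ω} {hWS : W ≤ S}
  {A : ∀ P : Subgroup Ω, Subgroup (MulAut P)}

/-- If `φ` is defined on all of `W` and agrees there with the automorphism `a`, then `a ∈ A(W)`. -/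
def MeetPrW (W : Subgroup Ω) (A : ∀ P : Subgroup Ω, Subgroup (MulAut P)) (P : Subgroup Ω) (φ : P →* Ω) : Prop :=
  ∀ a : MulAut W, (∀ x : W, ∃ hx : (x : Ω) ∈ P, φ ⟨x, hx⟩ = ((a x : W) : Ω)) → a ∈ A W

theorem meet_ind_prW_all [Finite S] [Fact p.Prime] (h : MeetEng p F W hWS A) (H : MeetIndHyp F W hWS A)
    {P : Subgroup Ω} {φ : P →* Ω} (hφ : φ ∈ (meetN F W hWS A).Hom P) : MeetPrW W A P φ := by
  have hWUf : W ∈ meetUf F W := meet_ind_W_mem_Uf h.sc
  have : Finite W := Fusion.finite_of_le hWS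
  have hconj : ∀ (P : Subgroup Ω) (g : Ω), P ≤ W → g ∈ W → MeetPrW W A P (conjHom P g) := by
    intro P g _ hg a ha
    apply h.autW W hWUf.1 hWUf.2
    rw [mem_autInducedBy_iff]
    refine ⟨g, hg, fun x => ?_⟩
    obtain ⟨hx, e⟩ := ha x
    exact e.symm
  have hcomp : ∀ (P Q : Subgroup Ω) (φ : P →* Ω) (ψ : Q →* Ω) (hq : ∀ x : P, φ x ∈ Q),
      φ ∈ (meetN F W hWS A).Hom P → ψ ∈ (meetN F W hWS A).Hom Q → MeetPrW W A P φ →
      MeetPrW W A Q ψ → MeetPrW W A P (ψ.comp (φ.codRestrict Q hq)) := by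
    intro P Q φ ψ hq hφ hψ h1 h2 a ha
    have hWP : W ≤ P := fun x hx => (ha ⟨x, hx⟩).1
    have hφW := Fusion.restrict_mem (meetN F W hWS A) hφ hWP
    obtain ⟨aφ, -, haφ⟩ := meet_ind_aut_of_hom (meetN F W hWS A) hφW (fun x => hφW.2.2.1 x)
    have haφA : aφ ∈ A W := h1 aφ (fun x => ⟨hWP x.2, (haφ x).symm⟩)
    have h3 : a * aφ⁻¹ ∈ A W := by
      apply h2
      intro y
      have e1 : ((y : W) : Ω) = φ ⟨(aφ.symm y : W), hWP (aφ.symm y).2⟩ := by
        have := haφ (aφ.symm y)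
        rw [MulEquiv.apply_symm_apply] at this
        exact this
      have hyQ : (y : Ω) ∈ Q := e1 ▸ hq _
      refine ⟨hyQ, ?_⟩
      obtain ⟨hx, e⟩ := ha (aφ.symm y)
      have e2 : (⟨(y : Ω), hyQ⟩ : Q) = ⟨φ ⟨(aφ.symm y : W), hx⟩, hq _⟩ := Subtype.ext e1
      rw [e2]
      exact e
    have := Subgroup.mul_mem _ h3 haφA
    rwa [inv_mul_cancel_right] at this
  have hinv : ∀ (P : Subgroup Ω) (φ : P →* Ω) (ψ : φ.range →* Ω), φ ∈ (meetN F W hWS A).Hom P →
      MeetPrW W A P φ → ψ ∈ (meetN F W hWS A).Hom φ.range →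
      (∀ x : P, ψ ⟨φ x, ⟨x, rfl⟩⟩ = (x : Ω)) → MeetPrW W A φ.range ψ := by
    intro P φ ψ _ h1 _ hinv a ha
    have key : ∀ y : W, ∃ hy : ((a y : W) : Ω) ∈ P, φ ⟨(a y : W), hy⟩ = (y : Ω) := by
      intro y
      obtain ⟨hy, e⟩ := ha y
      have hy' := hy
      obtain ⟨x, hx⟩ := hy'
      have e1 : (⟨(y : Ω), hy⟩ : φ.range) = ⟨φ x, ⟨x, rfl⟩⟩ := Subtype.ext hx.symm
      rw [e1, hinv] at e
      have e2 : x = ⟨(a y : W), e ▸ x.2⟩ := Subtype.ext e
      refine ⟨e ▸ x.2, ?_⟩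
      rw [← e2]
      exact hx
    have h2 : a⁻¹ ∈ A W := by
      apply h1
      intro w
      obtain ⟨hy, e⟩ := key (a.symm w)
      have e3 : a (a.symm w) = w := a.apply_symm_apply w
      have hw : (w : Ω) ∈ P := by
        rw [e3] at hy
        exact hy
      refine ⟨hw, ?_⟩
      have e4 : (⟨(w : Ω), hw⟩ : P) = ⟨((a (a.symm w) : W) : Ω), hy⟩ :=
        Subtype.ext (show (w : Ω) = ((a (a.symm w) : W) : Ω) from congrArg Subtype.val e3.symm)
      rw [e4, e]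
      rfl
    have := Subgroup.inv_mem _ h2
    rwa [inv_inv] at this
  have hND : meetN F W hWS A ≤ Fusion.subOfPred (meetN F W hWS A) (MeetPrW W A) hconj hcomp hinv := by
    apply meet_ind_N_min
    intro R hR b hb
    rw [Fusion.mem_autGroup_iff _ hR.1]
    refine ⟨(Fusion.mem_autGroup_iff (meetN F W hWS A) hR.1 b).mp (H.A_le R hR hb), ?_⟩
    intro a ha
    have hRW : R = W := le_antisymm hR.1 (fun x hx => (ha ⟨x, hx⟩).1)
    subst hRW
    have : a = b := by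
      ext x
      obtain ⟨hx, e⟩ := ha x
      exact e.symm
    rw [this]
    exact hb
  exact (hND P hφ).2

/-- The top case: `Aut_N(W) ≤ A(W)`. -/
theorem meet_ind_aut_le_top [Finite S] [Fact p.Prime] (h : MeetEng p F W hWS A) (H : MeetIndHyp F W hWS A) :
    (meetN F W hWS A).autGroup W ≤ A W := by
  intro θ hθ
  rw [Fusion.mem_autGroup_iff _ le_rfl] at hθ
  exact meet_ind_prW_all h H hθ θ (fun x => ⟨x.2, rfl⟩)

/-- THE INDUCTION STEP, from the bundled hypotheses. -/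
theorem meet_ind_step_of [Finite S] [Fact p.Prime] (h : MeetEng p F W hWS A) (H : MeetIndHyp F W hWS A)
    {U : Subgroup Ω} (hU : U ∈ meetUf F W) (hI : MeetI F W hWS A (Nat.card U)) :
    (meetN F W hWS A).autGroup U = A U ∧ (meetN F W hWS A).IsReceptive U := by
  refine ⟨le_antisymm ?_ (H.A_le U hU.1), meet_ind_receptive h H hU hI⟩
  by_cases hne : U = W
  · subst hne
    exact meet_ind_aut_le_top h H
  · exact meet_ind_aut_le h H hU hI hne

end Cfsg.Agent.MEET
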