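import Mathlib
import Cfsg.Agent.MEET.IndG

set_option autoImplicit false

/-!
# Project MEET, the induction, part H: transport to the translates and the downward induction
-/

namespace Cfsg.Agent.MEET

open Cfsg Cfsg.FusionSystem Cfsg.Agent.Lead Cfsg.Agent.Helper4.FusTr

universe u

section general

variable {Ω : Type*} [Group Ω] {Ω' : Type*} [Group Ω'] {W : Subgroup Ω} {W' : Subgroup Ω'}

/-- Receptivity is transported by an isomorphism of fusion systems. -/
theorem meet_ind_img_receptive {e : ↥W ≃* ↥W'} {S : Subgroup Ω} {F : FusionSystem S} {S' : Subgroup Ω'}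
    {F' : FusionSystem S'} (hF : Img e F F') {Q : Subgroup Ω} (hQ : F.IsReceptive Q) :
    F'.IsReceptive (mapS e Q) := by
  have hSW : S ≤ W := hF.le
  have hS'W' : S' ≤ W' := hF.le'
  refine ⟨hF.mapS_le hQ.1, fun P' θ' hθ' hr' => ?_⟩
  have hP'S' : P' ≤ S' := Fusion.src_le F' hθ'
  obtain ⟨θ, hθ, hi⟩ := hF.pull hθ' (rfl : mapS e.symm P' = mapS e.symm P')
  have hPS : mapS e.symm P' ≤ S := Fusion.src_le F hθ
  have hPW : mapS e.symm P' ≤ W := hPS.trans hSW
  have hr : θ.range = Q := by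
    apply mapS_injective e ((Fusion.range_le F hθ).trans hSW) (hQ.1.trans hSW)
    rw [← hi.range, hr']
  obtain ⟨ψ, hψ, hψθ⟩ := hQ.2 _ θ hθ hr
  obtain ⟨ψ', hψ', hiψ⟩ := hF.push hψ (rfl : mapS e (extender S (mapS e.symm P') θ) = _)
  have hle : extender S' P' θ' ≤ mapS e (extender S (mapS e.symm P') θ) := by
    intro g' hg'
    obtain ⟨hg'S, hg'N, k', hk'S, hk'⟩ := (Cfsg.Agent.Helper6.Bcglo.mem_extender_iff P' θ' g').mp hg'
    obtain ⟨g, hg⟩ := exists_rel_left e (hS'W' hg'S)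
    obtain ⟨k, hk⟩ := exists_rel_left e (hS'W' hk'S)
    apply mem_mapS_of_rel e hg
    rw [Cfsg.Agent.Helper6.Bcglo.mem_extender_iff]
    have hgS : g ∈ S := by
      have h1 : g' ∈ mapS e S := hF.eq ▸ hg'S
      exact mem_of_rel_of_mem_mapS e hg h1
    have hkS : k ∈ S := by
      have h1 : k' ∈ mapS e S := hF.eq ▸ hk'S
      exact mem_of_rel_of_mem_mapS e hk h1
    have hconj : ∀ (g₁ : Ω) (g₁' : Ω'), rel e g₁ g₁' → g₁' ∈ Subgroup.normalizer (P' : Set Ω') →
        ∀ x : Ω, x ∈ mapS e.symm P' → g₁ * x * g₁⁻¹ ∈ mapS e.symm P' := by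
      intro g₁ g₁' hg₁ hg₁N x hx
      obtain ⟨x', hx'P, hx'x⟩ := (mem_mapS e.symm P' x).mp hx
      have h1 := hg₁.conj hx'x.of_symm
      have hmem : g₁' * x' * g₁'⁻¹ ∈ P' := (Subgroup.mem_normalizer_iff.mp hg₁N x').mp hx'P
      exact (mem_mapS e.symm P' _).mpr ⟨_, hmem, h1.symm⟩
    have hgN : g ∈ Subgroup.normalizer ((mapS e.symm P' : Subgroup Ω) : Set Ω) := by
      apply mem_normalizer_of_conj_mem
      · exact hconj g g' hg hg'N
      · intro x hx
        have := hconj g⁻¹ g'⁻¹ hg.inv (Subgroup.inv_mem _ hg'N) x hx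
        rwa [inv_inv] at this
    refine ⟨hgS, hgN, k, hkS, fun x hx => ?_⟩
    obtain ⟨x', hxx'⟩ := exists_rel_of_eq_mapS e hPW hi.src_eq x
    have r1 := hi.app hxx'
    have hx'c : g' * (x' : Ω') * g'⁻¹ ∈ P' := (Subgroup.mem_normalizer_iff.mp hg'N x').mp x'.2
    have r2 : rel e (θ ⟨g * x * g⁻¹, hx⟩) (θ' ⟨g' * x' * g'⁻¹, hx'c⟩) :=
      hi.app (x := ⟨_, hx⟩) (y := ⟨_, hx'c⟩) (hg.conj hxx')
    have r3 : rel e (k * θ x * k⁻¹) (k' * θ' x' * k'⁻¹) := hk.conj r1
    rw [hk' x' hx'c] at r2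
    exact rel.unique_left r2 r3
  refine ⟨ψ'.comp (Subgroup.inclusion hle), Fusion.restrict_mem F' hψ' hle, fun x' hP' hN' => ?_⟩
  obtain ⟨x, hx⟩ := exists_rel_left e (hS'W' (hP'S' hP'))
  have hxP : x ∈ mapS e.symm P' := (mem_mapS e.symm P' x).mpr ⟨x', hP', hx.symm⟩
  have hxN : x ∈ extender S (mapS e.symm P') θ := mem_of_rel_of_mem_mapS e hx (hle hN')
  have r1 := hiψ.app (x := ⟨x, hxN⟩) (y := ⟨x', hle hN'⟩) hx
  have r2 := hi.app (x := ⟨x, hxP⟩) (y := ⟨x', hP'⟩) hx
  rw [hψθ x hxP hxN] at r1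
  exact rel.unique_right r1 r2

end general

variable {Ω : Type u} [Group Ω] {S : Subgroup Ω} {p : ℕ} {F : FusionSystem S} {W : Subgroup Ω} {hWS : W ≤ S}
  {A : ∀ P : Subgroup Ω, Subgroup (MulAut P)}

/-- `meetN` is invariant in `F` (from the bundled hypotheses). -/
theorem meet_ind_invariant (h : MeetEng p F W hWS A) (H : MeetIndHyp F W hWS A) :
    (meetN F W hWS A).IsInvariantIn F :=
  ⟨fun _ _ hφ => hφ.1, h.sc, fun P hPW φ hφ α hα => H.conj P hPW φ hφ α hα,
    fun P hPW φ hφ => H.frat P hPW φ hφ⟩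

/-- Transport of `Aut_N = A` and of receptivity from `U` to its translate `meetImg α U`. -/
theorem meet_ind_transport (h : MeetEng p F W hWS A) (H : MeetIndHyp F W hWS A) {U : Subgroup Ω}
    (hU : U ∈ meetH F W) {α : MulAut W} (hα : α ∈ F.autGroup W)
    (hstep : (meetN F W hWS A).autGroup U = A U ∧ (meetN F W hWS A).IsReceptive U) :
    (meetN F W hWS A).autGroup (meetImg α U) = A (meetImg α U) ∧
      (meetN F W hWS A).IsReceptive (meetImg α U) := by
  have hUW : U ≤ W := hU.1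
  have himg : Img (W := W) (W' := W) α (meetN F W hWS A) (meetN F W hWS A) :=
    Img.of_invariant (meet_ind_invariant h H) α hα
  have hVH : meetImg α U ∈ meetH F W := meet_ind_H_of_isConj h.sc hU (meet_ind_isConj_img hWS hα hUW)
  refine ⟨le_antisymm ?_ (H.A_le _ hVH), meet_ind_img_receptive himg hstep.2⟩
  intro θ hθ
  obtain ⟨φ, hφ, hr, hφα⟩ := meet_ind_res hWS hα hUW
  have hinj := F.injective_of_mem hφ
  have hrel : AutRel (W := W) (W' := W) α
      (MulAut.congr (Fusion.equivOfRange φ hinj hr).symm θ) θ := by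
    intro x y hxy
    have hy : Fusion.equivOfRange φ hinj hr x = y := by
      apply Subtype.ext
      show φ x = (y : Ω)
      rw [hφα x]
      exact rel.unique_right (rel_of_mem (W := W) (W' := W) α (hUW x.2)) hxy
    have e1 : (Fusion.equivOfRange φ hinj hr)
        ((MulAut.congr (Fusion.equivOfRange φ hinj hr).symm θ) x) = θ y := by
      rw [← hy]
      simp [MulAut.congr]
    have e2 := hφα ((MulAut.congr (Fusion.equivOfRange φ hinj hr).symm θ) x)
    have e3 : φ ((MulAut.congr (Fusion.equivOfRange φ hinj hr).symm θ) x) = ((θ y : ↥(meetImg α U)) : Ω) :=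
      congrArg Subtype.val e1
    rw [e3] at e2
    rw [e2]
    exact rel_of_mem (W := W) (W' := W) α _
  have h1 : MulAut.congr (Fusion.equivOfRange φ hinj hr).symm θ ∈ (meetN F W hWS A).autGroup U :=
    (himg.autGroup_iff hUW (rfl : meetImg α U = mapS α U) hrel).mpr hθ
  rw [hstep.1] at h1
  refine h.inv U hU _ φ hφ hr _ h1 θ (fun x hx => ?_)
  have e1 : (⟨φ x, hx⟩ : ↥(meetImg α U)) = Fusion.equivOfRange φ hinj hr x := Subtype.ext rfl
  rw [e1]
  show ((θ (Fusion.equivOfRange φ hinj hr x) : ↥(meetImg α U)) : Ω) =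
    ((Fusion.equivOfRange φ hinj hr ((Fusion.equivOfRange φ hinj hr).symm
      (θ ((Fusion.equivOfRange φ hinj hr).symm.symm x))) : ↥(meetImg α U)) : Ω)
  simp

/-- `I(>k)` for every `k`, from the bundled hypotheses. -/
theorem meet_ind_all_of [Finite S] [Fact p.Prime] (h : MeetEng p F W hWS A) (H : MeetIndHyp F W hWS A) (k : ℕ) :
    MeetI F W hWS A k := by
  have hfinW : Finite W := Fusion.finite_of_le hWS
  have key : ∀ n k : ℕ, Nat.card W ≤ k + n → MeetI F W hWS A k := by
    intro n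
    induction n with
    | zero =>
      intro k hk V hV hkV
      exfalso
      have hVW : V ≤ W := (meet_ind_Ustar_H h.sc hV).1
      have := Subgroup.card_le_of_le hVW
      omega
    | succ n ih =>
      intro k hk
      have hI1 : MeetI F W hWS A (k + 1) := ih (k + 1) (by omega)
      intro V hV hkV
      by_cases hlt : k + 1 < Nat.card V
      · exact hI1 V hV hlt
      · have hcard : Nat.card V = k + 1 := by omega
        obtain ⟨U, hU, α, hα, rfl⟩ := hV
        have hcU : Nat.card U = k + 1 := by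
          rw [← hcard, meet_ind_card_img hWS hα hU.1.1]
        have hI : MeetI F W hWS A (Nat.card U) := hcU ▸ hI1
        exact meet_ind_transport h H hU.1 hα (meet_ind_step_of h H hU hI)
  exact key (Nat.card W) k (by omega)

end Cfsg.Agent.MEET
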