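import Mathlib
import Cfsg.Agent.MEET.IndH
import Cfsg.Agent.Helper6.BcgloK

set_option autoImplicit false

/-!
# Project MEET, the induction, part I: saturation (S5110 for the family `meetH`) and THE ENGINE, from the bundled hypotheses
-/

namespace Cfsg.Agent.MEET

open Cfsg Cfsg.FusionSystem Cfsg.Agent.Lead

universe u

variable {Ω : Type u} [Group Ω] {S : Subgroup Ω} {p : ℕ} {F : FusionSystem S} {W : Subgroup Ω} {hWS : W ≤ S}
  {A : ∀ P : Subgroup Ω, Subgroup (MulAut P)}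

/-- The translate `meetImg α U` of a fully normalized `U` is fully automized in `meetN` once `Aut_N = A` there. -/
theorem meet_ind_fullyAutomized [Finite S] [Fact p.Prime] (h : MeetEng p F W hWS A) {U : Subgroup Ω}
    (hU : U ∈ meetUf F W) {α : MulAut W} (hα : α ∈ F.autGroup W)
    (haut : (meetN F W hWS A).autGroup (meetImg α U) = A (meetImg α U)) :
    (meetN F W hWS A).IsFullyAutomized p (meetImg α U) := by
  have hUW : U ≤ W := hU.1.1
  have hVW : meetImg α U ≤ W := meet_ind_img_le α U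
  have hWp : IsPGroup p W := h.hS.to_le hWS
  obtain ⟨φ, hφ, hr, hφα⟩ := meet_ind_res hWS hα hUW
  have hinj := F.injective_of_mem hφ
  -- transport of `Aut_W`
  have htrW : ∀ β : MulAut U, β ∈ autInducedBy W U →
      MulAut.congr (Fusion.equivOfRange φ hinj hr) β ∈ autInducedBy W (meetImg α U) := by
    intro β hβ
    obtain ⟨g, hg, hgβ⟩ := (mem_autInducedBy_iff W U β).mp hβ
    rw [mem_autInducedBy_iff]
    refine ⟨((α ⟨g, hg⟩ : W) : Ω), (α _).2, fun y => ?_⟩
    have e1 : ((y : ↥(meetImg α U)) : Ω) =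
        ((α ⟨((Fusion.equivOfRange φ hinj hr).symm y : U), hUW ((Fusion.equivOfRange φ hinj hr).symm y).2⟩ : W) : Ω) := by
      rw [← hφα]
      exact (Fusion.map_equivOfRange_symm φ hinj hr y).symm
    have e2 : (((MulAut.congr (Fusion.equivOfRange φ hinj hr) β) y : ↥(meetImg α U)) : Ω) =
        φ (β ((Fusion.equivOfRange φ hinj hr).symm y)) := rfl
    rw [e2, hφα]
    have e3 : (⟨((β ((Fusion.equivOfRange φ hinj hr).symm y) : U) : Ω), hUW (β _).2⟩ : W) =
        ⟨g, hg⟩ * ⟨((Fusion.equivOfRange φ hinj hr).symm y : U), hUW ((Fusion.equivOfRange φ hinj hr).symm y).2⟩ *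
          ⟨g, hg⟩⁻¹ := Subtype.ext (hgβ _)
    rw [e3, map_mul, map_mul, map_inv, e1]
    rfl
  have hmax : ∀ Q' : Subgroup (MulAut ↥(meetImg α U)), IsPGroup p Q' →
      autInducedBy W (meetImg α U) ≤ Q' → Q' ≤ A (meetImg α U) → Q' ≤ autInducedBy W (meetImg α U) := by
    intro Q' hQ'p hle hQ'A
    have hcinj : Function.Injective (MulAut.congr (Fusion.equivOfRange φ hinj hr)).toMonoidHom :=
      (MulAut.congr (Fusion.equivOfRange φ hinj hr)).injective
    have hQp : IsPGroup p (Q'.comap (MulAut.congr (Fusion.equivOfRange φ hinj hr)).toMonoidHom) :=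
      hQ'p.comap_of_injective _ hcinj
    have h1 : autInducedBy W U ≤ Q'.comap (MulAut.congr (Fusion.equivOfRange φ hinj hr)).toMonoidHom :=
      fun β hβ => hle (htrW β hβ)
    have h2 : Q'.comap (MulAut.congr (Fusion.equivOfRange φ hinj hr)).toMonoidHom ≤ A U := by
      intro β hβ
      exact meet_ind_A_pull h hU.1 hφ hr β (hQ'A hβ) (meet_ind_tr_congr φ hinj hr β)
    have h3 := h.syl U hU.1 hU.2 _ hQp h1 h2
    intro θ hθ
    have e1 : MulAut.congr (Fusion.equivOfRange φ hinj hr)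
        ((MulAut.congr (Fusion.equivOfRange φ hinj hr)).symm θ) = θ :=
      (MulAut.congr (Fusion.equivOfRange φ hinj hr)).apply_symm_apply θ
    have h4 : (MulAut.congr (Fusion.equivOfRange φ hinj hr)).symm θ ∈
        Q'.comap (MulAut.congr (Fusion.equivOfRange φ hinj hr)).toMonoidHom := by
      show MulAut.congr (Fusion.equivOfRange φ hinj hr)
        ((MulAut.congr (Fusion.equivOfRange φ hinj hr)).symm θ) ∈ Q'
      rw [e1]
      exact hθ
    have h5 := htrW _ (h3 h4)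
    rwa [e1] at h5
  have hWN : autInducedBy W (meetImg α U) ≤ (meetN F W hWS A).autGroup (meetImg α U) :=
    Fusion.autInducedBy_le_autGroup (meetN F W hWS A) hVW
  have hp1 : IsPGroup p ↥((autInducedBy W (meetImg α U)).subgroupOf ((meetN F W hWS A).autGroup (meetImg α U))) :=
    (Fusion.isPGroup_autInducedBy p hWp (meetImg α U)).comap_subtype
  have hp2 : ∀ {Q'' : Subgroup ↥((meetN F W hWS A).autGroup (meetImg α U))}, IsPGroup p Q'' →
      (autInducedBy W (meetImg α U)).subgroupOf ((meetN F W hWS A).autGroup (meetImg α U)) ≤ Q'' →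
      Q'' = (autInducedBy W (meetImg α U)).subgroupOf ((meetN F W hWS A).autGroup (meetImg α U)) := by
    intro Q'' hQ''p hle
    apply le_antisymm _ hle
    intro x hx
    rw [Subgroup.mem_subgroupOf]
    apply hmax (Q''.map ((meetN F W hWS A).autGroup (meetImg α U)).subtype) (hQ''p.map _)
    · intro β hβ
      have hβ' : (⟨β, hWN hβ⟩ : ↥((meetN F W hWS A).autGroup (meetImg α U))) ∈
          (autInducedBy W (meetImg α U)).subgroupOf ((meetN F W hWS A).autGroup (meetImg α U)) := by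
        rw [Subgroup.mem_subgroupOf]
        exact hβ
      exact ⟨⟨β, hWN hβ⟩, hle hβ', rfl⟩
    · rintro _ ⟨y, -, rfl⟩
      rw [← haut]
      exact y.2
    · exact ⟨x, hx, rfl⟩
  exact ⟨hVW, ⟨{ toSubgroup := _, isPGroup' := hp1, is_maximal' := hp2 }, rfl⟩⟩

/-- THE ENGINE, from the bundled hypotheses. -/
theorem meet_engine_of [Finite S] [Fact p.Prime] (h : MeetEng p F W hWS A) (H : MeetIndHyp F W hWS A) :
    (meetN F W hWS A).IsSaturated p ∧ (meetN F W hWS A).IsInvariantIn F ∧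
      ∀ P ∈ meetH F W, (meetN F W hWS A).autGroup P = A P := by
  have hfinW : Finite W := Fusion.finite_of_le hWS
  have hWp : IsPGroup p W := h.hS.to_le hWS
  have hI0 : MeetI F W hWS A 0 := meet_ind_all_of h H 0
  have hpos : ∀ P : Subgroup Ω, P ≤ W → 0 < Nat.card P := fun P hP => by
    have : Finite P := Fusion.finite_of_le (hP.trans hWS)
    exact Nat.card_pos
  refine ⟨?_, meet_ind_invariant h H, fun P hP => meet_ind_aut_eq h H hI0 hP (hpos P hP.1)⟩
  apply Cfsg.Agent.Helper6.Bcglo.saturated_of_generated p hWp (meetN F W hWS A) (meetH F W)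
  · exact fun P hP => hP.1
  · intro P hP Q hc
    exact meet_ind_H_of_isConj h.sc hP (meet_ind_isConj_of_N hc)
  · intro P hP
    obtain ⟨V, hV, ψ, hψ, -, hψP⟩ := H.ref P hP
    have hPN : P ≤ normalizerIn W P := Fusion.le_normalizerIn hP.1
    obtain ⟨hψP', hr⟩ := meet_ind_res_range (meetN F W hWS A) hψ hPN hψP
    have hVW : V ≤ W := (meet_ind_Ustar_H h.sc hV).1
    obtain ⟨haut, hrec⟩ := hI0 V hV (hpos V hVW)
    refine ⟨V, ⟨_, hψP', hr⟩, ?_, hrec⟩
    obtain ⟨U, hU, α, hα, rfl⟩ := hV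
    exact meet_ind_fullyAutomized h hU hα haut
  · intro E hE
    apply meet_ind_N_min
    intro R hR a ha
    rw [Fusion.mem_autGroup_iff E hR.1]
    exact hE R hR ((Fusion.mem_autGroup_iff (meetN F W hWS A) hR.1 a).mp (H.A_le R hR ha))
  · intro P hPc hPH
    exfalso
    apply hPH
    have hPW : P ≤ W := hPc.1
    refine ⟨hPW, ?_⟩
    rintro P' ⟨φ, hφ, rfl⟩
    obtain ⟨α, hα, φ₀, hφ₀, hφα⟩ := H.frat P hPW φ hφ
    have hφ₀W : ∀ x : P, φ₀ x ∈ W := hφ₀.2.2.1
    have hcen := hPc.2 φ₀.range ⟨φ₀, hφ₀, rfl⟩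
    intro c hc
    -- `α⁻¹ c` centralizes `φ₀(P)`
    have hcW : c ∈ W := hc.1
    have h1 : ((α.symm ⟨c, hcW⟩ : W) : Ω) ∈ centralizerIn W φ₀.range := by
      refine ⟨(α.symm _).2, Subgroup.mem_centralizer_iff.mpr ?_⟩
      rintro _ ⟨x, rfl⟩
      have h2 := (Subgroup.mem_centralizer_iff.mp hc.2) (φ x) ⟨x, rfl⟩
      rw [hφα x (hφ₀W x)] at h2
      have h3 : α ⟨φ₀ x, hφ₀W x⟩ * ⟨c, hcW⟩ = ⟨c, hcW⟩ * α ⟨φ₀ x, hφ₀W x⟩ := Subtype.ext h2
      have h4 := congrArg α.symm h3
      rw [map_mul, map_mul, MulEquiv.symm_apply_apply] at h4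
      exact congrArg Subtype.val h4
    obtain ⟨x, hx⟩ := hcen h1
    refine ⟨x, ?_⟩
    rw [hφα x (hφ₀W x)]
    have e1 : (⟨φ₀ x, hφ₀W x⟩ : W) = α.symm ⟨c, hcW⟩ := Subtype.ext hx
    rw [e1, MulEquiv.apply_symm_apply]

end Cfsg.Agent.MEET
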