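import Mathlib
import Cfsg.Agent.MEET.IndI
import Cfsg.Agent.MEET.Frat

set_option autoImplicit false

/-!
# Project MEET, the induction, part J: the bundle from `MEET/Frat.lean` and Claim D'

`MEET/Frat.lean` supplies five of the six fields of `MeetIndHyp`; the sixth is Claim D' (`MEET/ClaimD.lean`), taken here as
a hypothesis `MeetClaimD'`.  `MEET/Ind.lean` discharges it.
-/

namespace Cfsg.Agent.MEET

open Cfsg Cfsg.FusionSystem Cfsg.Agent.Lead

universe u

variable {Ω : Type u} [Group Ω] {S : Subgroup Ω} {p : ℕ} {F : FusionSystem S} {W : Subgroup Ω} {hWS : W ≤ S}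
  {A : ∀ P : Subgroup Ω, Subgroup (MulAut P)}

/-- The statement of Claim D' (the frozen header `meet_claimD'`). -/
def MeetClaimD' (F : FusionSystem S) (W : Subgroup Ω) (hWS : W ≤ S)
    (A : ∀ P : Subgroup Ω, Subgroup (MulAut P)) : Prop :=
  ∀ U ∈ meetUf F W, MeetI F W hWS A (Nat.card U) →
    ∀ (δ δ' : MulAut W), δ ∈ F.autGroup W → δ' ∈ F.autGroup W →
    ∀ (X : Subgroup Ω) (hVX : meetImg δ U ≤ X), meetImg δ U ≠ X → X ≤ normalizerIn W (meetImg δ U) →
    ∀ (σ : X →* Ω), σ ∈ (meetN F W hWS A).Hom X → (∀ x : X, σ x ∈ normalizerIn W (meetImg δ' U)) →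
    (∀ x : X, (x : Ω) ∈ meetImg δ U → σ x ∈ meetImg δ' U) →
    ∃ τ ∈ (meetN F W hWS A).Hom (normalizerIn W (meetImg δ U)),
      (∀ x : ↥(normalizerIn W (meetImg δ U)), τ x ∈ normalizerIn W (meetImg δ' U)) ∧
      ∃ a ∈ A (meetImg δ U), ∀ (v : ↥(meetImg δ U))
        (hv : ((a v : ↥(meetImg δ U)) : Ω) ∈ normalizerIn W (meetImg δ U)),
        σ ⟨v, hVX v.2⟩ = τ ⟨((a v : ↥(meetImg δ U)) : Ω), hv⟩

/-- The bundle, from `MEET/Frat.lean` and Claim D'. -/
theorem meet_ind_hyp_of [Finite S] [Fact p.Prime] (h : MeetEng p F W hWS A) (hD : MeetClaimD' F W hWS A) :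
    MeetIndHyp F W hWS A where
  A_le := fun _ hR => meet_A_le_aut h hR
  conj := meet_conj_inv h
  frat := meet_frat h
  ref := fun _ hP => meet_ref h hP
  ref_of := fun _ hP _ hU hc => meet_ref_of h hP hU hc
  claimD := hD

/-- The induction step, from Claim D'. -/
theorem meet_ind_step_of_claimD [Finite S] [Fact p.Prime] (h : MeetEng p F W hWS A) (hD : MeetClaimD' F W hWS A)
    {U : Subgroup Ω} (hU : U ∈ meetUf F W) (hI : MeetI F W hWS A (Nat.card U)) :
    (meetN F W hWS A).autGroup U = A U ∧ (meetN F W hWS A).IsReceptive U :=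
  meet_ind_step_of h (meet_ind_hyp_of h hD) hU hI

/-- `I(>k)` for every `k`, from Claim D'. -/
theorem meet_ind_all_of_claimD [Finite S] [Fact p.Prime] (h : MeetEng p F W hWS A) (hD : MeetClaimD' F W hWS A)
    (k : ℕ) : MeetI F W hWS A k :=
  meet_ind_all_of h (meet_ind_hyp_of h hD) k

/-- THE ENGINE, from Claim D'. -/
theorem meet_engine_of_claimD [Finite S] [Fact p.Prime] (h : MeetEng p F W hWS A) (hD : MeetClaimD' F W hWS A) :
    (meetN F W hWS A).IsSaturated p ∧ (meetN F W hWS A).IsInvariantIn F ∧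
      ∀ P ∈ meetH F W, (meetN F W hWS A).autGroup P = A P :=
  meet_engine_of h (meet_ind_hyp_of h hD)

end Cfsg.Agent.MEET
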