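import Mathlib
import Cfsg.Agent.MEET.IndJ

set_option autoImplicit false

/-!
# Project MEET: Claim D' from Claim D (translation by `Aut_F(W)`)

`MeetClaimD` is the frozen statement of `meet_claimD` (`notes/MEET_headers.lean.txt`), taken as a hypothesis; the result is
`MeetClaimD'` (`MEET/IndJ.lean`), the frozen statement of `meet_claimD'`.
-/

namespace Cfsg.Agent.MEET

open Cfsg Cfsg.FusionSystem Cfsg.Agent.Lead

universe u

variable {Ω : Type u} [Group Ω] {S : Subgroup Ω} {p : ℕ} {F : FusionSystem S} {W : Subgroup Ω} {hWS : W ≤ S}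
  {A : ∀ P : Subgroup Ω, Subgroup (MulAut P)}

/-- The statement of Claim D (the frozen header `meet_claimD`). -/
def MeetClaimD (F : FusionSystem S) (W : Subgroup Ω) (hWS : W ≤ S)
    (A : ∀ P : Subgroup Ω, Subgroup (MulAut P)) : Prop :=
  ∀ U ∈ meetUf F W, MeetI F W hWS A (Nat.card U) → ∀ (α : MulAut W), α ∈ F.autGroup W →
    ∀ (X : Subgroup Ω) (hUX : U ≤ X), U ≠ X → X ≤ normalizerIn W U →
    ∀ (γ : X →* Ω), γ ∈ F.Hom X → ∀ (hγY : ∀ x : X, γ x ∈ normalizerIn W U),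
    (∀ x : X, (x : Ω) ∈ U → γ x ∈ U) →
    meetTw α γ (fun x => (inf_le_left : normalizerIn W U ≤ W) (hγY x)) ∈ (meetN F W hWS A).Hom X →
    ∃ η : MulAut ↥(normalizerIn W U), η ∈ F.autGroup (normalizerIn W U) ∧
      meetTw α ((normalizerIn W U).subtype.comp η.toMonoidHom)
        (fun x => (inf_le_left : normalizerIn W U ≤ W) (η x).2) ∈ (meetN F W hWS A).Hom (normalizerIn W U) ∧
      ∃ a ∈ A U, ∀ (u : U) (hu : ((a u : U) : Ω) ∈ normalizerIn W U),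
        γ ⟨u, hUX u.2⟩ = ((η ⟨((a u : U) : Ω), hu⟩ : ↥(normalizerIn W U)) : Ω)

/-- An automorphism of `W` carries `N_W(P)` into `N_W(α P)`. -/
theorem meet_cdp_map_normalizerIn (α : MulAut W) (P : Subgroup Ω) {x : Ω} (hx : x ∈ normalizerIn W P) :
    ((α ⟨x, hx.1⟩ : W) : Ω) ∈ normalizerIn W (meetImg α P) := by
  refine ⟨(α _).2, ?_⟩
  have key : ∀ (g : W), (g : Ω) ∈ Subgroup.normalizer (P : Set Ω) → ∀ z ∈ meetImg α P,
      ((α g : W) : Ω) * z * ((α g : W) : Ω)⁻¹ ∈ meetImg α P := by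
    intro g hg z hz
    obtain ⟨w, hw, rfl⟩ := (meet_ind_mem_img α P z).mp hz
    have h1 : ((g * w * g⁻¹ : W) : Ω) ∈ P := (Subgroup.mem_normalizer_iff.mp hg w).mp hw
    have h2 := (meet_ind_apply_mem_img α P (g * w * g⁻¹)).mpr h1
    rw [map_mul, map_mul, map_inv] at h2
    exact h2
  apply mem_normalizer_of_conj_mem
  · exact key ⟨x, hx.1⟩ hx.2
  · intro z hz
    have h1 := key ⟨x, hx.1⟩⁻¹ (Subgroup.inv_mem _ hx.2) z hz
    rw [map_inv] at h1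
    simpa using h1

theorem meet_cdp_img_normalizerIn (α : MulAut W) {P : Subgroup Ω} (hP : P ≤ W) :
    meetImg α (normalizerIn W P) = normalizerIn W (meetImg α P) := by
  apply le_antisymm
  · intro y hy
    obtain ⟨x, hx, rfl⟩ := (meet_ind_mem_img α _ y).mp hy
    exact meet_cdp_map_normalizerIn α P hx
  · intro y hy
    have h1 := meet_cdp_map_normalizerIn α⁻¹ (meetImg α P) hy
    rw [meet_ind_img_inv_img α hP] at h1
    have h2 := meet_ind_mem_img_of_mem α h1.1 h1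
    simpa using h2

/-- CLAIM D' from CLAIM D. -/
theorem meet_claimDp_of [Finite S] [Fact p.Prime] (h : MeetEng p F W hWS A) (hD : MeetClaimD F W hWS A) :
    MeetClaimD' F W hWS A := by
  intro U hU hI δ δ' hδ hδ' X hVX hne hXY σ hσ hσY hσV
  have hUW : U ≤ W := hU.1.1
  have hXW : X ≤ W := hXY.trans inf_le_left
  have hδi : δ⁻¹ ∈ F.autGroup W := Subgroup.inv_mem _ hδ
  have hδ'i : δ'⁻¹ ∈ F.autGroup W := Subgroup.inv_mem _ hδ'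
  have hX₀W : meetImg δ⁻¹ X ≤ W := meet_ind_img_le _ _
  have hUX₀ : U ≤ meetImg δ⁻¹ X := by
    have := meet_ind_img_mono δ⁻¹ hVX
    rwa [meet_ind_img_inv_img δ hUW] at this
  have hneX₀ : U ≠ meetImg δ⁻¹ X := by
    intro hEq
    apply hne
    rw [hEq, meet_ind_img_img_inv δ hXW]
  have hX₀Y : meetImg δ⁻¹ X ≤ normalizerIn W U := by
    have := meet_ind_img_mono δ⁻¹ hXY
    rwa [meet_cdp_img_normalizerIn δ⁻¹ (meet_ind_img_le δ U), meet_ind_img_inv_img δ hUW] at this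
  -- `δ` on `X₀`
  obtain ⟨φδ, hφδ, hφδr, hφδa⟩ := meet_ind_res hWS hδ hX₀W
  rw [meet_ind_img_img_inv δ hXW] at hφδr
  have hφδX : ∀ x : ↥(meetImg δ⁻¹ X), φδ x ∈ X := fun x => hφδr.le ⟨x, rfl⟩
  have hσW : ∀ x : X, σ x ∈ W := fun x => (hσY x).1
  have hδ'F := (Fusion.mem_autGroup_iff F hWS δ'⁻¹).mp hδ'i
  -- `γ := δ'⁻¹ σ δ`
  obtain ⟨γ, hγ, hγa⟩ : ∃ γ ∈ F.Hom (meetImg δ⁻¹ X), ∀ x : ↥(meetImg δ⁻¹ X),
      γ x = ((δ'⁻¹ ⟨σ ⟨φδ x, hφδX x⟩, hσW _⟩ : W) : Ω) :=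
    ⟨_, F.comp_mem (F.comp_mem hφδ hσ.1 hφδX) hδ'F (fun x => hσW _), fun x => rfl⟩
  have hγY : ∀ x : ↥(meetImg δ⁻¹ X), γ x ∈ normalizerIn W U := by
    intro x
    rw [hγa]
    have := meet_cdp_map_normalizerIn δ'⁻¹ (meetImg δ' U) (hσY ⟨φδ x, hφδX x⟩)
    rwa [meet_ind_img_inv_img δ' hUW] at this
  have hγU : ∀ x : ↥(meetImg δ⁻¹ X), (x : Ω) ∈ U → γ x ∈ U := by
    intro x hx
    rw [hγa]
    have h1 : φδ x ∈ meetImg δ U := by
      rw [hφδa]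
      exact meet_ind_mem_img_of_mem δ (hX₀W x.2) hx
    have h2 := hσV ⟨φδ x, hφδX x⟩ h1
    have h3 := (meet_ind_apply_mem_img δ'⁻¹ (meetImg δ' U) ⟨σ ⟨φδ x, hφδX x⟩, hσW _⟩).mpr h2
    rwa [meet_ind_img_inv_img δ' hUW] at h3
  have hγW : ∀ x : ↥(meetImg δ⁻¹ X), γ x ∈ W := fun x => (hγY x).1
  -- `(δ⁻¹ δ') γ = δ⁻¹ σ δ` is a map of `meetN`
  obtain ⟨χ, hχ, hχa⟩ := meet_conj_inv h X hXW σ hσ δ⁻¹ hδi
  have hN : meetTw (δ⁻¹ * δ') γ (fun x => (inf_le_left : normalizerIn W U ≤ W) (hγY x)) ∈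
      (meetN F W hWS A).Hom (meetImg δ⁻¹ X) := by
    have e : meetTw (δ⁻¹ * δ') γ (fun x => (inf_le_left : normalizerIn W U ≤ W) (hγY x)) = χ := by
      ext x
      rw [meetTw_apply]
      have e1 : (⟨γ x, hγW x⟩ : W) = δ'⁻¹ ⟨σ ⟨φδ x, hφδX x⟩, hσW _⟩ := Subtype.ext (hγa x)
      have e2 : (δ⁻¹ * δ') ⟨γ x, hγW x⟩ = δ⁻¹ ⟨σ ⟨φδ x, hφδX x⟩, hσW _⟩ := by
        rw [e1, MulAut.mul_apply]
        simp
      have e3 : (δ⁻¹ ⟨φδ x, hXW (hφδX x)⟩ : W) = ⟨x, hX₀W x.2⟩ := by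
        have : (⟨φδ x, hXW (hφδX x)⟩ : W) = δ ⟨x, hX₀W x.2⟩ := Subtype.ext (hφδa x)
        rw [this]
        simp
      have hmem : ((δ⁻¹ ⟨(⟨φδ x, hφδX x⟩ : X), hXW (hφδX x)⟩ : W) : Ω) ∈
          (X.subgroupOf W).map (W.subtype.comp (δ⁻¹).toMonoidHom) := by
        rw [e3]
        exact x.2
      have e4 := hχa ⟨φδ x, hφδX x⟩ (hσW _) hmem
      have e5 : (⟨((δ⁻¹ ⟨(⟨φδ x, hφδX x⟩ : X), hXW (hφδX x)⟩ : W) : Ω), hmem⟩ :
          ↥((X.subgroupOf W).map (W.subtype.comp (δ⁻¹).toMonoidHom))) = x :=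
        Subtype.ext (show ((δ⁻¹ ⟨φδ x, hXW (hφδX x)⟩ : W) : Ω) = (x : Ω) from congrArg Subtype.val e3)
      rw [e5] at e4
      exact (congrArg Subtype.val e2).trans e4.symm
    rw [e]
    exact hχ
  -- Claim D
  obtain ⟨η, -, hηN, a, ha, hγη⟩ := hD U hU hI (δ⁻¹ * δ') (Subgroup.mul_mem _ hδi hδ') (meetImg δ⁻¹ X)
    hUX₀ hneX₀ hX₀Y γ hγ hγY hγU hN
  -- `τ := δ (δ⁻¹ δ' η) δ⁻¹`
  obtain ⟨χ', hχ', hχ'a⟩ := meet_conj_inv h (normalizerIn W U) inf_le_left _ hηN δ hδ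
  obtain ⟨τ, hτ, hτχ⟩ := meet_ind_hom_of_eq (meetN F W hWS A) (meet_cdp_img_normalizerIn δ hUW) hχ'
  have hT : ∀ (y : ↥(normalizerIn W U)) (hy' : ((δ ⟨y, y.2.1⟩ : W) : Ω) ∈ normalizerIn W (meetImg δ U)),
      τ ⟨((δ ⟨y, y.2.1⟩ : W) : Ω), hy'⟩ = ((δ' ⟨((η y : ↥(normalizerIn W U)) : Ω), (η y).2.1⟩ : W) : Ω) := by
    intro y hy'
    have hmem : ((δ ⟨y, y.2.1⟩ : W) : Ω) ∈ meetImg δ (normalizerIn W U) :=
      meet_ind_mem_img_of_mem δ y.2.1 y.2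
    rw [hτχ _ hmem hy']
    have hμW : meetTw (δ⁻¹ * δ') ((normalizerIn W U).subtype.comp η.toMonoidHom)
        (fun x => (inf_le_left : normalizerIn W U ≤ W) (η x).2) y ∈ W := by
      rw [meetTw_apply]
      exact ((δ⁻¹ * δ') _).2
    refine (hχ'a y hμW hmem).trans ?_
    congr 1
    have e1 : (⟨meetTw (δ⁻¹ * δ') ((normalizerIn W U).subtype.comp η.toMonoidHom)
        (fun x => (inf_le_left : normalizerIn W U ≤ W) (η x).2) y, hμW⟩ : W) =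
        (δ⁻¹ * δ') ⟨((η y : ↥(normalizerIn W U)) : Ω), (η y).2.1⟩ := Subtype.ext rfl
    rw [e1, MulAut.mul_apply]
    simp
  have hτY : ∀ x : ↥(normalizerIn W (meetImg δ U)), τ x ∈ normalizerIn W (meetImg δ' U) := by
    intro x
    have hx : (x : Ω) ∈ meetImg δ (normalizerIn W U) := by
      rw [meet_cdp_img_normalizerIn δ hUW]
      exact x.2
    obtain ⟨y, hy, hyx⟩ := (meet_ind_mem_img δ _ _).mp hx
    have e1 : x = ⟨((δ ⟨(⟨y, hy⟩ : ↥(normalizerIn W U)), hy.1⟩ : W) : Ω), hyx ▸ x.2⟩ := Subtype.ext hyx.symm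
    rw [e1, hT ⟨y, hy⟩]
    exact meet_cdp_map_normalizerIn δ' U (η ⟨y, hy⟩).2
  -- the element of `A(δ U)`
  obtain ⟨φU, hφU, hφUr, hφUa⟩ := meet_ind_res hWS hδ hUW
  have hinjU := F.injective_of_mem hφU
  have ha' := meet_ind_A_congr h hU.1 hφU hφUr ha
  have hUY : U ≤ normalizerIn W U := Fusion.le_normalizerIn hUW
  refine ⟨τ, hτ, hτY, _, ha', fun v hv => ?_⟩
  -- `v = δ u`
  have hvu : ((v : ↥(meetImg δ U)) : Ω) = ((δ ⟨((Fusion.equivOfRange φU hinjU hφUr).symm v : U),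
      hUW ((Fusion.equivOfRange φU hinjU hφUr).symm v).2⟩ : W) : Ω) := by
    rw [← hφUa]
    exact (Fusion.map_equivOfRange_symm φU hinjU hφUr v).symm
  have hu : ((a ((Fusion.equivOfRange φU hinjU hφUr).symm v) : U) : Ω) ∈ normalizerIn W U := hUY (a _).2
  have e1 : (((MulAut.congr (Fusion.equivOfRange φU hinjU hφUr) a) v : ↥(meetImg δ U)) : Ω) =
      ((δ ⟨((a ((Fusion.equivOfRange φU hinjU hφUr).symm v) : U) : Ω), hu.1⟩ : W) : Ω) := by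
    rw [← hφUa]
    rfl
  have e2 := hT ⟨((a ((Fusion.equivOfRange φU hinjU hφUr).symm v) : U) : Ω), hu⟩ (e1 ▸ hv)
  have e3 : (⟨(((MulAut.congr (Fusion.equivOfRange φU hinjU hφUr) a) v : ↥(meetImg δ U)) : Ω), hv⟩ :
      ↥(normalizerIn W (meetImg δ U))) =
      ⟨((δ ⟨((a ((Fusion.equivOfRange φU hinjU hφUr).symm v) : U) : Ω), hu.1⟩ : W) : Ω), e1 ▸ hv⟩ :=
    Subtype.ext e1
  rw [e3, e2]
  have e4 := hγη ((Fusion.equivOfRange φU hinjU hφUr).symm v) hu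
  have e5 := hγa ⟨((Fusion.equivOfRange φU hinjU hφUr).symm v : U), hUX₀ (Subtype.property _)⟩
  have e6 : φδ ⟨((Fusion.equivOfRange φU hinjU hφUr).symm v : U), hUX₀ (Subtype.property _)⟩ = (v : Ω) := by
    rw [hφδa, hvu]
  have e7 : (⟨φδ ⟨((Fusion.equivOfRange φU hinjU hφUr).symm v : U), hUX₀ (Subtype.property _)⟩, hφδX _⟩ : X) =
      ⟨v, hVX v.2⟩ := Subtype.ext e6
  rw [e7, e4] at e5
  -- `η (a u) = δ'⁻¹ (σ v)`
  have e8 : (⟨((η ⟨((a ((Fusion.equivOfRange φU hinjU hφUr).symm v) : U) : Ω), hu⟩ : ↥(normalizerIn W U)) : Ω),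
      (η _).2.1⟩ : W) = δ'⁻¹ ⟨σ ⟨v, hVX v.2⟩, hσW _⟩ := Subtype.ext e5
  rw [e8]
  simp

end Cfsg.Agent.MEET
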