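import Mathlib
import Cfsg.Agent.MEET.ClaimDp

set_option autoImplicit false

/-!
# Project MEET: Claim D (model-free form, `notes/MEET_helper8.md` section 11), part A

The reduction step: by (E3) a map `γ : X → N_W(U)` of `F` with `γ(U) = U` and `α ∘ γ` in `meetN` may be replaced by the
restriction of an automorphism `η₀` of `N_W(U)` in `F`, at the cost of an element of `A(U)`.
-/

namespace Cfsg.Agent.MEET

open Cfsg Cfsg.FusionSystem Cfsg.Agent.Lead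

universe u

variable {Ω : Type u} [Group Ω] {S : Subgroup Ω} {p : ℕ} {F : FusionSystem S} {W : Subgroup Ω} {hWS : W ≤ S}
  {A : ∀ P : Subgroup Ω, Subgroup (MulAut P)}

/-- The restriction of an automorphism of `Y` to `X ≤ Y`, as a homomorphism into the ambient group. -/
def meetCdqRes {Y X : Subgroup Ω} (η : MulAut Y) (hXY : X ≤ Y) : X →* Ω :=
  (Y.subtype.comp η.toMonoidHom).comp (Subgroup.inclusion hXY)

theorem meetCdqRes_apply {Y X : Subgroup Ω} (η : MulAut Y) (hXY : X ≤ Y) (x : X) :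
    meetCdqRes η hXY x = ((η (Subgroup.inclusion hXY x) : Y) : Ω) := rfl

theorem meet_cdq_res_mem (F : FusionSystem S) {Y X : Subgroup Ω} (hYS : Y ≤ S) {η : MulAut Y}
    (hη : η ∈ F.autGroup Y) (hXY : X ≤ Y) : meetCdqRes η hXY ∈ F.Hom X :=
  Fusion.restrict_mem F ((Fusion.mem_autGroup_iff F hYS η).mp hη) hXY

theorem meet_cdq_res_mem_Y {Y X : Subgroup Ω} (η : MulAut Y) (hXY : X ≤ Y) (x : X) :
    meetCdqRes η hXY x ∈ Y := (η _).2

/-- `σ₀ ∘ ψ⁻¹` on the range of `ψ`. -/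
theorem meet_cdq_push_self {T : Subgroup Ω} (N : FusionSystem T) {X : Subgroup Ω} {ψ σ₀ : X →* Ω}
    (hψ : ψ ∈ N.Hom X) (hσ₀ : σ₀ ∈ N.Hom X) :
    ∃ σ ∈ N.Hom ψ.range, ∀ x : X, σ ⟨ψ x, ⟨x, rfl⟩⟩ = σ₀ x := by
  obtain ⟨ρ, hρ, hinv, hr⟩ := Fusion.exists_inv N hψ rfl
  have hρX : ∀ y, ρ y ∈ X := fun y => hr.le ⟨y, rfl⟩
  refine ⟨σ₀.comp (ρ.codRestrict X hρX), N.comp_mem hρ hσ₀ hρX, fun x => ?_⟩
  show σ₀ ⟨ρ ⟨ψ x, ⟨x, rfl⟩⟩, _⟩ = σ₀ x
  congr 1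
  exact Subtype.ext (hinv x ⟨x, rfl⟩)

/-- The base case of Claim D: `X = N_W(U)`. -/
theorem meet_cdq_base [Finite S] {U : Subgroup Ω} (α : MulAut W)
    (γ : ↥(normalizerIn W U) →* Ω) (hγ : γ ∈ F.Hom (normalizerIn W U))
    (hγY : ∀ x : ↥(normalizerIn W U), γ x ∈ normalizerIn W U)
    (hN : meetTw α γ (fun x => (inf_le_left : normalizerIn W U ≤ W) (hγY x)) ∈
      (meetN F W hWS A).Hom (normalizerIn W U)) :
    ∃ η : MulAut ↥(normalizerIn W U), η ∈ F.autGroup (normalizerIn W U) ∧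
      meetTw α ((normalizerIn W U).subtype.comp η.toMonoidHom)
        (fun x => (inf_le_left : normalizerIn W U ≤ W) (η x).2) ∈ (meetN F W hWS A).Hom (normalizerIn W U) ∧
      ∀ x : ↥(normalizerIn W U), γ x = ((η x : ↥(normalizerIn W U)) : Ω) := by
  obtain ⟨η, hη, hηγ⟩ := meet_ind_aut_of_hom F hγ hγY
  refine ⟨η, hη, ?_, fun x => (hηγ x).symm⟩
  have e : meetTw α ((normalizerIn W U).subtype.comp η.toMonoidHom)
      (fun x => (inf_le_left : normalizerIn W U ≤ W) (η x).2) =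
      meetTw α γ (fun x => (inf_le_left : normalizerIn W U ≤ W) (hγY x)) := by
    ext x
    rw [meetTw_apply, meetTw_apply]
    congr 2
    exact Subtype.ext (hηγ x)
  rw [e]
  exact hN

/-- The reduction step (S1): by (E3), `γ = η₀ ∘ ν` with `ν` in `meetN` inducing `a₀ ∈ A(U)` on `U`; replace `(X, γ)` by
`(ν(X), η₀|)`. -/
theorem meet_cdq_red [Finite S] (h : MeetEng p F W hWS A) {U : Subgroup Ω} (hU : U ∈ meetUf F W) (α : MulAut W)
    (X : Subgroup Ω) (hUX : U ≤ X) (hXY : X ≤ normalizerIn W U)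
    (γ : X →* Ω) (hγ : γ ∈ F.Hom X) (hγY : ∀ x : X, γ x ∈ normalizerIn W U)
    (hγU : ∀ x : X, (x : Ω) ∈ U → γ x ∈ U)
    (hN : meetTw α γ (fun x => (inf_le_left : normalizerIn W U ≤ W) (hγY x)) ∈ (meetN F W hWS A).Hom X) :
    ∃ (X' : Subgroup Ω) (_ : U ≤ X') (hX'Y : X' ≤ normalizerIn W U), Nat.card X' = Nat.card X ∧
      ∃ η₀ ∈ F.autGroup (normalizerIn W U),
        meetTw α (meetCdqRes η₀ hX'Y) (fun x => (inf_le_left : normalizerIn W U ≤ W) (meet_cdq_res_mem_Y η₀ hX'Y x)) ∈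
          (meetN F W hWS A).Hom X' ∧
        ∃ a₀ ∈ A U, ∀ (u : U) (hu : ((a₀ u : U) : Ω) ∈ normalizerIn W U),
          γ ⟨u, hUX u.2⟩ = ((η₀ ⟨((a₀ u : U) : Ω), hu⟩ : ↥(normalizerIn W U)) : Ω) := by
  have hUW : U ≤ W := hU.1.1
  have hfinU : Finite U := Fusion.finite_of_le (hUW.trans hWS)
  obtain ⟨η₀, hη₀, ν, hν, a₀, ha₀, hνU, hγν⟩ := h.fr U hU.1 hU.2 X hUX hXY γ hγ hγY hγU
  have hνY : ∀ x : X, ν x ∈ normalizerIn W U := by
    intro x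
    refine ⟨hν.2.2.1 x, ?_⟩
    apply Subgroup.mem_normalizer_fintype
    intro u hu
    have e1 : ν ⟨(a₀.symm ⟨u, hu⟩ : U), hUX (a₀.symm ⟨u, hu⟩).2⟩ = u := by
      rw [hνU, MulEquiv.apply_symm_apply]
    have hc : (x : Ω) * ((a₀.symm ⟨u, hu⟩ : U) : Ω) * (x : Ω)⁻¹ ∈ U :=
      (Subgroup.mem_normalizer_iff.mp (hXY x.2).2 _).mp (a₀.symm ⟨u, hu⟩).2
    have e2 : ν x * u * (ν x)⁻¹ = ν ⟨(x : Ω) * ((a₀.symm ⟨u, hu⟩ : U) : Ω) * (x : Ω)⁻¹, hUX hc⟩ := by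
      have e1' : ν x * ν ⟨(a₀.symm ⟨u, hu⟩ : U), hUX (a₀.symm ⟨u, hu⟩).2⟩ * (ν x)⁻¹ =
          ν ⟨(x : Ω) * ((a₀.symm ⟨u, hu⟩ : U) : Ω) * (x : Ω)⁻¹, hUX hc⟩ := by
        rw [← map_inv, ← map_mul, ← map_mul]
        rfl
      rw [e1] at e1'
      exact e1'
    rw [e2, hνU ⟨_, hc⟩]
    exact (a₀ _).2
  have hUX' : U ≤ ν.range := by
    intro u hu
    exact ⟨⟨(a₀.symm ⟨u, hu⟩ : U), hUX (a₀.symm ⟨u, hu⟩).2⟩, by rw [hνU, MulEquiv.apply_symm_apply]⟩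
  have hX'Y : ν.range ≤ normalizerIn W U := by
    rintro _ ⟨x, rfl⟩
    exact hνY x
  have hνinj := (meetN F W hWS A).injective_of_mem hν
  refine ⟨ν.range, hUX', hX'Y, (Nat.card_congr (MonoidHom.ofInjective hνinj).toEquiv).symm, η₀, hη₀, ?_,
    a₀, ha₀, fun u hu => ?_⟩
  · obtain ⟨σ, hσ, hσν⟩ := meet_cdq_push_self (meetN F W hWS A) hν hN
    have e : meetTw α (meetCdqRes η₀ hX'Y)
        (fun x => (inf_le_left : normalizerIn W U ≤ W) (meet_cdq_res_mem_Y η₀ hX'Y x)) = σ := by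
      ext ⟨_, x, rfl⟩
      rw [hσν x, meetTw_apply, meetTw_apply]
      congr 2
      apply Subtype.ext
      exact (hγν x (hνY x)).symm
    rw [e]
    exact hσ
  · rw [hγν ⟨u, hUX u.2⟩ (hνY _)]
    congr 2
    exact Subtype.ext (hνU u)

end Cfsg.Agent.MEET
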