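import Mathlib
import Cfsg.Agent.MEET.ClaimDqA

set_option autoImplicit false

/-!
# Project MEET: Claim D (model-free form), part B: the extension step

`U` fully normalized in the family, `Y = N_W(U)`, `U < X < Y`, `η₀ ∈ Aut_F(Y)` with `α ∘ η₀|_X` in `meetN`.  Then there is a
map `γ₁ : N_Y(X) → Y` of `F` with `γ₁|_X = η₀|_X` and `α ∘ γ₁` in `meetN`.
-/

namespace Cfsg.Agent.MEET

open Cfsg Cfsg.FusionSystem Cfsg.Agent.Lead

universe u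

variable {Ω : Type u} [Group Ω] {S : Subgroup Ω} {p : ℕ} {F : FusionSystem S} {W : Subgroup Ω} {hWS : W ≤ S}
  {A : ∀ P : Subgroup Ω, Subgroup (MulAut P)}

/-- A homomorphism defined on `Y` maps the normalizer of `X` in `Y` into the normalizer of the image of `X`. -/
theorem meet_cdq_map_normalizer {Y X : Subgroup Ω} (μ : Y →* Ω) (hXY : X ≤ Y) (y : Y)
    (hy : (y : Ω) ∈ Subgroup.normalizer (X : Set Ω)) :
    μ y ∈ Subgroup.normalizer (((μ.comp (Subgroup.inclusion hXY)).range : Subgroup Ω) : Set Ω) := by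
  have key : ∀ y' : Y, (y' : Ω) ∈ Subgroup.normalizer (X : Set Ω) →
      ∀ z ∈ (μ.comp (Subgroup.inclusion hXY)).range, μ y' * z * (μ y')⁻¹ ∈ (μ.comp (Subgroup.inclusion hXY)).range := by
    rintro y' hy' _ ⟨x, rfl⟩
    have hc : (y' : Ω) * (x : Ω) * (y' : Ω)⁻¹ ∈ X := (Subgroup.mem_normalizer_iff.mp hy' x).mp x.2
    refine ⟨⟨_, hc⟩, ?_⟩
    show μ (Subgroup.inclusion hXY ⟨_, hc⟩) = μ y' * μ (Subgroup.inclusion hXY x) * (μ y')⁻¹
    rw [← map_inv, ← map_mul, ← map_mul]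
    rfl
  apply mem_normalizer_of_conj_mem
  · exact key y hy
  · intro z hz
    have h1 := key y⁻¹ (Subgroup.inv_mem _ hy) z hz
    rw [map_inv, inv_inv] at h1
    exact h1

theorem meet_cdq_comm_of_conj {G : Type*} [Group G] (a b v : G) (h : b * v * b⁻¹ = a * v * a⁻¹) :
    v * (a⁻¹ * b) = a⁻¹ * b * v := by
  calc v * (a⁻¹ * b) = a⁻¹ * (a * v * a⁻¹) * b := by group
    _ = a⁻¹ * (b * v * b⁻¹) * b := by rw [h]
    _ = a⁻¹ * b * v := by group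

/-- The extension step (S2). -/
theorem meet_cdq_ext [Finite S] [Fact p.Prime] (h : MeetEng p F W hWS A) {U : Subgroup Ω} (hU : U ∈ meetUf F W)
    (hI : MeetI F W hWS A (Nat.card U)) {α : MulAut W} (hα : α ∈ F.autGroup W)
    (X : Subgroup Ω) (hUX : U ≤ X) (hne : U ≠ X) (hXY : X ≤ normalizerIn W U) (hXneY : X ≠ normalizerIn W U)
    (η₀ : MulAut ↥(normalizerIn W U)) (hη₀ : η₀ ∈ F.autGroup (normalizerIn W U))
    (hN : meetTw α (meetCdqRes η₀ hXY)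
      (fun x => (inf_le_left : normalizerIn W U ≤ W) (meet_cdq_res_mem_Y η₀ hXY x)) ∈ (meetN F W hWS A).Hom X) :
    ∃ (X₁ : Subgroup Ω) (hXX₁ : X ≤ X₁) (_ : X₁ ≤ normalizerIn W U), X ≠ X₁ ∧
      ∃ γ₁ ∈ F.Hom X₁, ∃ hγ₁Y : ∀ y : X₁, γ₁ y ∈ normalizerIn W U,
        (∀ x : X, γ₁ (Subgroup.inclusion hXX₁ x) = meetCdqRes η₀ hXY x) ∧
        meetTw α γ₁ (fun y => (inf_le_left : normalizerIn W U ≤ W) (hγ₁Y y)) ∈ (meetN F W hWS A).Hom X₁ := by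
  have hUW : U ≤ W := hU.1.1
  have hYW : normalizerIn W U ≤ W := inf_le_left
  have hYS : normalizerIn W U ≤ S := hYW.trans hWS
  have hfinY : Finite ↥(normalizerIn W U) := Fusion.finite_of_le hYS
  have hYp : IsPGroup p ↥(normalizerIn W U) := h.hS.to_le hYS
  have hfinX : Finite X := Fusion.finite_of_le (hXY.trans hYS)
  have hη₀F : (normalizerIn W U).subtype.comp η₀.toMonoidHom ∈ F.Hom (normalizerIn W U) :=
    (Fusion.mem_autGroup_iff F hYS η₀).mp hη₀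
  have hαF := (Fusion.mem_autGroup_iff F hWS α).mp hα
  -- `μ = α ∘ η₀ : Y → W`
  obtain ⟨μ, hμ, hμa⟩ : ∃ μ ∈ F.Hom (normalizerIn W U), ∀ y : ↥(normalizerIn W U),
      μ y = ((α ⟨((η₀ y : ↥(normalizerIn W U)) : Ω), hYW (η₀ y).2⟩ : W) : Ω) :=
    ⟨_, F.comp_mem hη₀F hαF (fun y => hYW (η₀ y).2), fun y => rfl⟩
  have hκμ : ∀ x : X, meetTw α (meetCdqRes η₀ hXY)
      (fun x => (inf_le_left : normalizerIn W U ≤ W) (meet_cdq_res_mem_Y η₀ hXY x)) x =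
      μ (Subgroup.inclusion hXY x) := fun x => (hμa _).symm
  have hκr : (meetTw α (meetCdqRes η₀ hXY)
      (fun x => (inf_le_left : normalizerIn W U ≤ W) (meet_cdq_res_mem_Y η₀ hXY x))).range =
      (μ.comp (Subgroup.inclusion hXY)).range := by
    ext z
    constructor
    · rintro ⟨x, rfl⟩
      exact ⟨x, (hκμ x).symm⟩
    · rintro ⟨x, rfl⟩
      exact ⟨x, hκμ x⟩
  -- `X'' = μ(X)` is in the family
  have hκinj := (meetN F W hWS A).injective_of_mem hN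
  have hX''W : (μ.comp (Subgroup.inclusion hXY)).range ≤ W := by
    rintro _ ⟨x, rfl⟩
    show μ (Subgroup.inclusion hXY x) ∈ W
    rw [hμa]
    exact (α _).2
  have hUY : U ≤ normalizerIn W U := Fusion.le_normalizerIn hUW
  have hX''H : (μ.comp (Subgroup.inclusion hXY)).range ∈ meetH F W := by
    have h1 := Fusion.restrict_mem F hμ hUY
    have h2 : (μ.comp (Subgroup.inclusion hUY)).range ∈ meetH F W :=
      meet_ind_H_of_isConj h.sc hU.1 ⟨_, h1, rfl⟩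
    refine meet_ind_H_of_le h2 ?_ hX''W
    rintro _ ⟨u, rfl⟩
    exact ⟨⟨u, hUX u.2⟩, rfl⟩
  have hcardX'' : Nat.card ↥(μ.comp (Subgroup.inclusion hXY)).range = Nat.card X := by
    rw [← hκr]
    exact (Nat.card_congr (MonoidHom.ofInjective hκinj).toEquiv).symm
  have hcardUX : Nat.card U < Nat.card X := by
    exact card_lt_of_lt (lt_of_le_of_ne hUX hne)
  -- the reference map
  obtain ⟨V, hV, ρ, hρ, hρN, hρV⟩ := meet_ref h hX''H
  have hVH : V ∈ meetH F W := meet_ind_Ustar_H h.sc hV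
  have hX''N : (μ.comp (Subgroup.inclusion hXY)).range ≤ normalizerIn W (μ.comp (Subgroup.inclusion hXY)).range :=
    Fusion.le_normalizerIn hX''W
  obtain ⟨hρX'', hρX''r⟩ := meet_ind_res_range (meetN F W hWS A) hρ hX''N hρV
  have hcardV : Nat.card V = Nat.card X := by
    rw [← hcardX'']
    exact (Nat.card_congr (Fusion.equivOfRange _ ((meetN F W hWS A).injective_of_mem hρX'') hρX''r).toEquiv).symm
  obtain ⟨-, hrec⟩ := hI V hV (hcardV ▸ hcardUX)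
  -- `φ = ρ ∘ μ|_X`
  have hμXN : ∀ x : X, μ (Subgroup.inclusion hXY x) ∈ normalizerIn W (μ.comp (Subgroup.inclusion hXY)).range :=
    fun x => hX''N ⟨x, rfl⟩
  have hκN : ∀ x : X, meetTw α (meetCdqRes η₀ hXY)
      (fun x => (inf_le_left : normalizerIn W U ≤ W) (meet_cdq_res_mem_Y η₀ hXY x)) x ∈
      normalizerIn W (μ.comp (Subgroup.inclusion hXY)).range := fun x => by
    rw [hκμ]
    exact hμXN x
  have hφ := (meetN F W hWS A).comp_mem hN hρ hκN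
  have hφa : ∀ x : X, (ρ.comp ((meetTw α (meetCdqRes η₀ hXY)
      (fun x => (inf_le_left : normalizerIn W U ≤ W) (meet_cdq_res_mem_Y η₀ hXY x))).codRestrict _ hκN)) x =
      ρ ⟨μ (Subgroup.inclusion hXY x), hμXN x⟩ := by
    intro x
    show ρ ⟨_, hκN x⟩ = ρ ⟨_, hμXN x⟩
    congr 1
    exact Subtype.ext (hκμ x)
  have hφr : (ρ.comp ((meetTw α (meetCdqRes η₀ hXY)
      (fun x => (inf_le_left : normalizerIn W U ≤ W) (meet_cdq_res_mem_Y η₀ hXY x))).codRestrict _ hκN)).range = V := by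
    rw [← hρX''r]
    ext z
    constructor
    · rintro ⟨x, rfl⟩
      rw [hφa]
      exact ⟨⟨μ (Subgroup.inclusion hXY x), ⟨x, rfl⟩⟩, rfl⟩
    · rintro ⟨⟨_, x, rfl⟩, rfl⟩
      exact ⟨x, hφa x⟩
  obtain ⟨ξ₀, hξ₀, hξ₀φ⟩ := hrec.2 X _ hφ hφr
  -- `X₁ = N_Y(X)` and `Φ = ρ ∘ μ|_{X₁}`
  obtain ⟨n, hn, hnX⟩ := Fusion.exists_mem_normalizerIn_not_mem (S := normalizerIn W U) hYp hXY hXneY
  have hXX₁ : X ≤ normalizerIn (normalizerIn W U) X := Fusion.le_normalizerIn hXY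
  have hX₁Y : normalizerIn (normalizerIn W U) X ≤ normalizerIn W U := inf_le_left
  have hXneX₁ : X ≠ normalizerIn (normalizerIn W U) X := by
    intro hEq
    apply hnX
    rw [hEq]
    exact hn
  have hμN : ∀ y : ↥(normalizerIn (normalizerIn W U) X), (μ.comp (Subgroup.inclusion hX₁Y)) y ∈
      normalizerIn W (μ.comp (Subgroup.inclusion hXY)).range := by
    intro y
    refine ⟨?_, meet_cdq_map_normalizer μ hXY (Subgroup.inclusion hX₁Y y) y.2.2⟩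
    show μ (Subgroup.inclusion hX₁Y y) ∈ W
    rw [hμa]
    exact (α _).2
  have hμX₁ := Fusion.restrict_mem F hμ hX₁Y
  have hΦ := F.comp_mem hμX₁ hρ.1 hμN
  have hΦa : ∀ y : ↥(normalizerIn (normalizerIn W U) X),
      (ρ.comp ((μ.comp (Subgroup.inclusion hX₁Y)).codRestrict _ hμN)) y =
      ρ ⟨μ (Subgroup.inclusion hX₁Y y), hμN y⟩ := fun y => rfl
  have hΦφ : ∀ x : X, (ρ.comp ((μ.comp (Subgroup.inclusion hX₁Y)).codRestrict _ hμN)) (Subgroup.inclusion hXX₁ x) =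
      (ρ.comp ((meetTw α (meetCdqRes η₀ hXY)
      (fun x => (inf_le_left : normalizerIn W U ≤ W) (meet_cdq_res_mem_Y η₀ hXY x))).codRestrict _ hκN)) x := by
    intro x
    rw [hφa, hΦa]
    rfl
  have hΦW : ∀ y : ↥(normalizerIn (normalizerIn W U) X),
      (ρ.comp ((μ.comp (Subgroup.inclusion hX₁Y)).codRestrict _ hμN)) y ∈ W := fun y => (hρN _).1
  -- `X₁` lies in the extender of `φ`
  have hX₁E : normalizerIn (normalizerIn W U) X ≤ extender W X (ρ.comp ((meetTw α (meetCdqRes η₀ hXY)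
      (fun x => (inf_le_left : normalizerIn W U ≤ W) (meet_cdq_res_mem_Y η₀ hXY x))).codRestrict _ hκN)) := by
    intro y hy
    rw [Cfsg.Agent.Helper6.Bcglo.mem_extender_iff]
    refine ⟨hYW hy.1, hy.2, _, hΦW ⟨y, hy⟩, fun x hx => ?_⟩
    have e1 : (⟨y * (x : Ω) * y⁻¹, hx⟩ : X) = ⟨y * (x : Ω) * y⁻¹, hx⟩ := rfl
    rw [← hΦφ ⟨y * (x : Ω) * y⁻¹, hx⟩, ← hΦφ x]
    have e2 : Subgroup.inclusion hXX₁ ⟨y * (x : Ω) * y⁻¹, hx⟩ =
        (⟨y, hy⟩ : ↥(normalizerIn (normalizerIn W U) X)) * Subgroup.inclusion hXX₁ x * (⟨y, hy⟩)⁻¹ :=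
      Subtype.ext rfl
    rw [e2, map_mul, map_mul, map_inv]
  have hξ := Fusion.restrict_mem (meetN F W hWS A) hξ₀ hX₁E
  have hξφ : ∀ x : X, (ξ₀.comp (Subgroup.inclusion hX₁E)) (Subgroup.inclusion hXX₁ x) =
      (ρ.comp ((meetTw α (meetCdqRes η₀ hXY)
      (fun x => (inf_le_left : normalizerIn W U ≤ W) (meet_cdq_res_mem_Y η₀ hXY x))).codRestrict _ hκN)) x := by
    intro x
    exact hξ₀φ x x.2 (hX₁E (hXX₁ x.2))
  -- `ξ(X₁) ≤ Φ(X₁)`
  have hξΦ : ∀ y : ↥(normalizerIn (normalizerIn W U) X), (ξ₀.comp (Subgroup.inclusion hX₁E)) y ∈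
      (ρ.comp ((μ.comp (Subgroup.inclusion hX₁Y)).codRestrict _ hμN)).range := by
    intro y
    -- `c = Φ(y)⁻¹ ξ(y)` centralizes `V`
    have hconj : ∀ x : X, (y : Ω) * (x : Ω) * (y : Ω)⁻¹ ∈ X :=
      fun x => (Subgroup.mem_normalizer_iff.mp y.2.2 x).mp x.2
    have hcV : ((ρ.comp ((μ.comp (Subgroup.inclusion hX₁Y)).codRestrict _ hμN)) y)⁻¹ *
        (ξ₀.comp (Subgroup.inclusion hX₁E)) y ∈ centralizerIn W V := by
      refine ⟨W.mul_mem (W.inv_mem (hΦW y)) (hξ.2.2.1 y), Subgroup.mem_centralizer_iff.mpr ?_⟩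
      intro v hv
      rw [← hφr] at hv
      obtain ⟨x, rfl⟩ := hv
      have e2 : Subgroup.inclusion hXX₁ ⟨(y : Ω) * (x : Ω) * (y : Ω)⁻¹, hconj x⟩ =
          y * Subgroup.inclusion hXX₁ x * y⁻¹ := Subtype.ext rfl
      have e3 := hξφ ⟨(y : Ω) * (x : Ω) * (y : Ω)⁻¹, hconj x⟩
      have e4 := hΦφ ⟨(y : Ω) * (x : Ω) * (y : Ω)⁻¹, hconj x⟩
      rw [e2, map_mul, map_mul, map_inv, hξφ x] at e3
      rw [e2, map_mul, map_mul, map_inv, hΦφ x] at e4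
      have e5 := e3.trans e4.symm
      exact meet_cdq_comm_of_conj _ _ _ e5
    have hc := hVH.2 V (Fusion.isConj_refl F (hVH.1.trans hWS)) hcV
    rw [← hφr] at hc
    obtain ⟨x₀, hx₀⟩ := hc
    refine ⟨y * Subgroup.inclusion hXX₁ x₀, ?_⟩
    rw [map_mul, hΦφ x₀, hx₀]
    group
  -- the inverse of `Φ`
  obtain ⟨Φi, hΦi, hΦinv, hΦir⟩ := Fusion.exists_inv F hΦ rfl
  have hz : ∀ y : ↥(normalizerIn (normalizerIn W U) X),
      Φi ⟨(ξ₀.comp (Subgroup.inclusion hX₁E)) y, hξΦ y⟩ ∈ normalizerIn (normalizerIn W U) X :=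
    fun y => hΦir.le ⟨_, rfl⟩
  have hΦz : ∀ y : ↥(normalizerIn (normalizerIn W U) X),
      (ρ.comp ((μ.comp (Subgroup.inclusion hX₁Y)).codRestrict _ hμN))
        ⟨Φi ⟨(ξ₀.comp (Subgroup.inclusion hX₁E)) y, hξΦ y⟩, hz y⟩ = (ξ₀.comp (Subgroup.inclusion hX₁E)) y := by
    intro y
    obtain ⟨y', hy'⟩ := hξΦ y
    have e1 : (⟨(ξ₀.comp (Subgroup.inclusion hX₁E)) y, hξΦ y⟩ :
        ↥(ρ.comp ((μ.comp (Subgroup.inclusion hX₁Y)).codRestrict _ hμN)).range) =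
        ⟨(ρ.comp ((μ.comp (Subgroup.inclusion hX₁Y)).codRestrict _ hμN)) y', ⟨y', rfl⟩⟩ := Subtype.ext hy'.symm
    have e2 : Φi ⟨(ξ₀.comp (Subgroup.inclusion hX₁E)) y, hξΦ y⟩ = (y' : Ω) := by
      rw [e1]
      exact hΦinv y' ⟨y', rfl⟩
    have e3 : (⟨Φi ⟨(ξ₀.comp (Subgroup.inclusion hX₁E)) y, hξΦ y⟩, hz y⟩ :
        ↥(normalizerIn (normalizerIn W U) X)) = y' := Subtype.ext e2
    rw [e3]
    exact hy'
  -- `γ₁ = η₀ ∘ Φ⁻¹ ∘ ξ`
  have hη₀X₁ := meet_cdq_res_mem F hYS hη₀ hX₁Y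
  have hγ₁ := F.comp_mem (F.comp_mem hξ.1 hΦi hξΦ) hη₀X₁ hz
  have hγ₁a : ∀ y : ↥(normalizerIn (normalizerIn W U) X),
      ((meetCdqRes η₀ hX₁Y).comp ((Φi.comp ((ξ₀.comp (Subgroup.inclusion hX₁E)).codRestrict _ hξΦ)).codRestrict _ hz)) y =
      meetCdqRes η₀ hX₁Y ⟨Φi ⟨(ξ₀.comp (Subgroup.inclusion hX₁E)) y, hξΦ y⟩, hz y⟩ := fun y => rfl
  have hγ₁Y : ∀ y : ↥(normalizerIn (normalizerIn W U) X),
      ((meetCdqRes η₀ hX₁Y).comp ((Φi.comp ((ξ₀.comp (Subgroup.inclusion hX₁E)).codRestrict _ hξΦ)).codRestrict _ hz)) y ∈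
      normalizerIn W U := fun y => meet_cdq_res_mem_Y η₀ hX₁Y _
  refine ⟨normalizerIn (normalizerIn W U) X, hXX₁, hX₁Y, hXneX₁, _, hγ₁, hγ₁Y, fun x => ?_, ?_⟩
  · -- `γ₁|_X = η₀|_X`
    rw [hγ₁a]
    have e1 : (⟨(ξ₀.comp (Subgroup.inclusion hX₁E)) (Subgroup.inclusion hXX₁ x), hξΦ _⟩ :
        ↥(ρ.comp ((μ.comp (Subgroup.inclusion hX₁Y)).codRestrict _ hμN)).range) =
        ⟨(ρ.comp ((μ.comp (Subgroup.inclusion hX₁Y)).codRestrict _ hμN)) (Subgroup.inclusion hXX₁ x), ⟨_, rfl⟩⟩ :=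
      Subtype.ext ((hξφ x).trans (hΦφ x).symm)
    have e2 : Φi ⟨(ξ₀.comp (Subgroup.inclusion hX₁E)) (Subgroup.inclusion hXX₁ x), hξΦ _⟩ = (x : Ω) := by
      rw [e1]
      exact hΦinv (Subgroup.inclusion hXX₁ x) ⟨_, rfl⟩
    have e3 : (⟨Φi ⟨(ξ₀.comp (Subgroup.inclusion hX₁E)) (Subgroup.inclusion hXX₁ x), hξΦ _⟩, hz _⟩ :
        ↥(normalizerIn (normalizerIn W U) X)) = Subgroup.inclusion hXX₁ x := Subtype.ext e2
    rw [e3]
    rfl
  · -- `α ∘ γ₁ = ρ⁻¹ ∘ ξ` is a map of `meetN`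
    obtain ⟨ρi, hρi, hρinv, -⟩ := Fusion.exists_inv (meetN F W hWS A) hρ rfl
    have hξρ : ∀ y : ↥(normalizerIn (normalizerIn W U) X), (ξ₀.comp (Subgroup.inclusion hX₁E)) y ∈ ρ.range := by
      intro y
      rw [← hΦz y, hΦa]
      exact ⟨_, rfl⟩
    have hψN := (meetN F W hWS A).comp_mem hξ hρi hξρ
    have e : meetTw α ((meetCdqRes η₀ hX₁Y).comp
        ((Φi.comp ((ξ₀.comp (Subgroup.inclusion hX₁E)).codRestrict _ hξΦ)).codRestrict _ hz))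
        (fun y => (inf_le_left : normalizerIn W U ≤ W) (hγ₁Y y)) =
        ρi.comp ((ξ₀.comp (Subgroup.inclusion hX₁E)).codRestrict ρ.range hξρ) := by
      ext y
      rw [meetTw_apply]
      have e1 : (⟨(ξ₀.comp (Subgroup.inclusion hX₁E)) y, hξρ y⟩ : ↥ρ.range) =
          ⟨ρ ⟨μ (Subgroup.inclusion hX₁Y ⟨Φi ⟨(ξ₀.comp (Subgroup.inclusion hX₁E)) y, hξΦ y⟩, hz y⟩), hμN _⟩,
            ⟨_, rfl⟩⟩ := Subtype.ext ((hΦz y).symm.trans (hΦa _))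
      show _ = ρi ⟨(ξ₀.comp (Subgroup.inclusion hX₁E)) y, hξρ y⟩
      rw [e1, hρinv _ ⟨_, rfl⟩]
      show _ = μ (Subgroup.inclusion hX₁Y ⟨Φi ⟨(ξ₀.comp (Subgroup.inclusion hX₁E)) y, hξΦ y⟩, hz y⟩)
      rw [hμa]
      rfl
    rw [e]
    exact hψN

end Cfsg.Agent.MEET
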