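import Mathlib
import Cfsg.Agent.MEET.ClaimDqB

set_option autoImplicit false

/-!
# Project MEET: Claim D (model-free form), part C: the downward induction, and the engine without further hypotheses
-/

namespace Cfsg.Agent.MEET

open Cfsg Cfsg.FusionSystem Cfsg.Agent.Lead

universe u

variable {Ω : Type u} [Group Ω] {S : Subgroup Ω} {p : ℕ} {F : FusionSystem S} {W : Subgroup Ω} {hWS : W ≤ S}
  {A : ∀ P : Subgroup Ω, Subgroup (MulAut P)}

theorem meet_cdq_main [Finite S] [Fact p.Prime] (h : MeetEng p F W hWS A) {U : Subgroup Ω} (hU : U ∈ meetUf F W)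
    (hI : MeetI F W hWS A (Nat.card U)) {α : MulAut W} (hα : α ∈ F.autGroup W) :
    ∀ (n : ℕ) (X : Subgroup Ω) (hUX : U ≤ X), U ≠ X → ∀ (_ : X ≤ normalizerIn W U),
    Nat.card ↥(normalizerIn W U) - Nat.card X = n →
    ∀ (γ : X →* Ω), γ ∈ F.Hom X → ∀ (hγY : ∀ x : X, γ x ∈ normalizerIn W U),
    (∀ x : X, (x : Ω) ∈ U → γ x ∈ U) →
    meetTw α γ (fun x => (inf_le_left : normalizerIn W U ≤ W) (hγY x)) ∈ (meetN F W hWS A).Hom X →
    ∃ η : MulAut ↥(normalizerIn W U), η ∈ F.autGroup (normalizerIn W U) ∧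
      meetTw α ((normalizerIn W U).subtype.comp η.toMonoidHom)
        (fun x => (inf_le_left : normalizerIn W U ≤ W) (η x).2) ∈ (meetN F W hWS A).Hom (normalizerIn W U) ∧
      ∃ a ∈ A U, ∀ (u : U) (hu : ((a u : U) : Ω) ∈ normalizerIn W U),
        γ ⟨u, hUX u.2⟩ = ((η ⟨((a u : U) : Ω), hu⟩ : ↥(normalizerIn W U)) : Ω) := by
  have hUW : U ≤ W := hU.1.1
  have hYS : normalizerIn W U ≤ S := (inf_le_left : normalizerIn W U ≤ W).trans hWS
  have hfinY : Finite ↥(normalizerIn W U) := Fusion.finite_of_le hYS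
  have hUY : U ≤ normalizerIn W U := Fusion.le_normalizerIn hUW
  intro n
  induction n using Nat.strong_induction_on with
  | _ n ih =>
    intro X hUX hne hXY hn γ hγ hγY hγU hN
    by_cases hXeq : X = normalizerIn W U
    · subst hXeq
      obtain ⟨η, hη, hηN, hηγ⟩ := meet_cdq_base α γ hγ hγY hN
      refine ⟨η, hη, hηN, 1, Subgroup.one_mem _, fun u hu => ?_⟩
      rw [hηγ]
      rfl
    · have hfinX : Finite X := Fusion.finite_of_le (hXY.trans hYS)
      have hcardUX : Nat.card U < Nat.card X := card_lt_of_lt (lt_of_le_of_ne hUX hne)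
      have hcardXY : Nat.card X < Nat.card ↥(normalizerIn W U) := card_lt_of_lt (lt_of_le_of_ne hXY hXeq)
      obtain ⟨X', hUX', hX'Y, hcard, η₀, hη₀, hN', a₀, ha₀, hγa₀⟩ :=
        meet_cdq_red h hU α X hUX hXY γ hγ hγY hγU hN
      have hneX' : U ≠ X' := by
        intro hEq
        rw [← hEq] at hcard
        omega
      have hX'ne : X' ≠ normalizerIn W U := by
        intro hEq
        rw [hEq] at hcard
        omega
      obtain ⟨X₁, hX'X₁, hX₁Y, hX'neX₁, γ₁, hγ₁, hγ₁Y, hγ₁X', hN₁⟩ :=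
        meet_cdq_ext h hU hI hα X' hUX' hneX' hX'Y hX'ne η₀ hη₀ hN'
      have hfinX₁ : Finite X₁ := Fusion.finite_of_le (hX₁Y.trans hYS)
      have hcardX'X₁ : Nat.card X' < Nat.card X₁ := card_lt_of_lt (lt_of_le_of_ne hX'X₁ hX'neX₁)
      have hcardX₁Y : Nat.card X₁ ≤ Nat.card ↥(normalizerIn W U) := Subgroup.card_le_of_le hX₁Y
      have hUX₁ : U ≤ X₁ := hUX'.trans hX'X₁
      have hneX₁ : U ≠ X₁ := by
        intro hEq
        have : Nat.card U = Nat.card X₁ := by rw [← hEq]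
        omega
      have hγ₁U : ∀ y : X₁, (y : Ω) ∈ U → γ₁ y ∈ U := by
        intro y hy
        have e1 : y = Subgroup.inclusion hX'X₁ ⟨(y : Ω), hUX' hy⟩ := Subtype.ext rfl
        rw [e1, hγ₁X', meetCdqRes_apply]
        have e2 := hγa₀ (a₀.symm ⟨y, hy⟩) (hUY (a₀ _).2)
        have e3 : (⟨((a₀ (a₀.symm ⟨(y : Ω), hy⟩) : U) : Ω), hUY (a₀ _).2⟩ : ↥(normalizerIn W U)) =
            Subgroup.inclusion hX'Y ⟨(y : Ω), hUX' hy⟩ := by
          apply Subtype.ext
          show ((a₀ (a₀.symm ⟨(y : Ω), hy⟩) : U) : Ω) = y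
          rw [MulEquiv.apply_symm_apply]
        rw [e3] at e2
        rw [← e2]
        exact hγU _ (a₀.symm ⟨(y : Ω), hy⟩).2
      obtain ⟨η, hη, hηN, a₁, ha₁, h₁⟩ := ih (Nat.card ↥(normalizerIn W U) - Nat.card X₁) (by omega) X₁ hUX₁
        hneX₁ hX₁Y rfl γ₁ hγ₁ hγ₁Y hγ₁U hN₁
      refine ⟨η, hη, hηN, a₁ * a₀, Subgroup.mul_mem _ ha₁ ha₀, fun u hu => ?_⟩
      rw [hγa₀ u (hUY (a₀ u).2)]
      have e1 := hγ₁X' ⟨((a₀ u : U) : Ω), hUX' (a₀ u).2⟩
      rw [meetCdqRes_apply] at e1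
      have e2 := h₁ (a₀ u) hu
      have e3 : Subgroup.inclusion hX'Y ⟨((a₀ u : U) : Ω), hUX' (a₀ u).2⟩ =
          (⟨((a₀ u : U) : Ω), hUY (a₀ u).2⟩ : ↥(normalizerIn W U)) := Subtype.ext rfl
      rw [e3] at e1
      rw [← e1]
      exact e2

/-- CLAIM D (model-free form), as the bundled statement. -/
theorem meet_claimDq [Finite S] [Fact p.Prime] (h : MeetEng p F W hWS A) : MeetClaimD F W hWS A := by
  intro U hU hI α hα X hUX hne hXY γ hγ hγY hγU hN
  exact meet_cdq_main h hU hI hα _ X hUX hne hXY rfl γ hγ hγY hγU hN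

/-- THE ENGINE, with no hypothesis left besides `MeetEng`. -/
theorem meet_engine_q [Finite S] [Fact p.Prime] (h : MeetEng p F W hWS A) :
    (meetN F W hWS A).IsSaturated p ∧ (meetN F W hWS A).IsInvariantIn F ∧
      ∀ P ∈ meetH F W, (meetN F W hWS A).autGroup P = A P :=
  meet_engine_of_claimD h (meet_claimDp_of h (meet_claimDq h))

end Cfsg.Agent.MEET
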