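import Mathlib
import Cfsg.Agent.GFS.Transfer

set_option autoImplicit false

/-!
# MEET, P0-core: the group theorem (GT)

Pure finite group theory, no fusion systems (notes/MEET_P0_helper4.md, section 1).

`G` a finite group, `S` a `p`-subgroup of index prime to `p`, `T ≤ S` strongly closed in `S` with respect to `G`,
`C ≤ S` normal in `G`, and `⟨T^G⟩ ∩ S ≤ T C`.  Then `⟨T^G⟩ ∩ S = T` (`meet_gt`).

The engine is the transfer `⟨T^G⟩ → X / T` (`X = ⟨T^G⟩ ∩ S`), which is trivial on every `G`-conjugate of an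
element of `T` (strong closure) and is the `index`-th power on `X ∩ C` (`[C, ⟨T^G⟩] ≤ T`).
-/

namespace Cfsg.Agent.MEET

open Subgroup MonoidHom

/-- **Core transfer lemma, normal-closure form.**  `ϕ : Sig →* A`, `A` a commutative `p`-group, `Sig` of index prime
to `p` in `B`.  If `k ∈ Sig` is central modulo `ker ϕ` and lies in the subgroup generated by a set `Gen` of elements
all of whose `B`-conjugates of powers inside `Sig` are killed by `ϕ`, then `ϕ k = 1`. -/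
theorem meet_transfer_core {B : Type*} [Group B] [Finite B] (p : ℕ) [Fact p.Prime]
    (Sig : Subgroup B) (hidx : ¬ p ∣ Sig.index)
    {A : Type*} [CommGroup A] (hA : IsPGroup p A) (ϕ : Sig →* A)
    (k : Sig)
    (hk : ∀ (m : ℕ) (b : B) (h : b⁻¹ * (k : B) ^ m * b ∈ Sig),
      ϕ ⟨b⁻¹ * (k : B) ^ m * b, h⟩ = ϕ k ^ m)
    (Gen : Set B)
    (hGen : ∀ y ∈ Gen, ∀ (m : ℕ) (b : B) (h : b⁻¹ * y ^ m * b ∈ Sig), ϕ ⟨b⁻¹ * y ^ m * b, h⟩ = 1)
    (hx : (k : B) ∈ Subgroup.closure Gen) :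
    ϕ k = 1 := by
  classical
  have hker : Subgroup.closure Gen ≤ (MonoidHom.transfer ϕ).ker := by
    rw [Subgroup.closure_le]
    intro y hy
    rw [SetLike.mem_coe, MonoidHom.mem_ker]
    exact Cfsg.Agent.GFS.gfs_transfer_eq_one Sig ϕ y (hGen y hy)
  have h1 : MonoidHom.transfer ϕ (k : B) = 1 := MonoidHom.mem_ker.1 (hker hx)
  rw [Cfsg.Agent.GFS.gfs_transfer_eq_pow Sig ϕ k hk] at h1
  obtain ⟨j, hj⟩ := hA (ϕ k)
  have hcop : Nat.Coprime (p ^ j) Sig.index :=
    Nat.Coprime.pow_left j ((Nat.Prime.coprime_iff_not_dvd Fact.out).2 hidx)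
  have := pow_gcd_eq_one.2 ⟨hj, h1⟩
  rwa [hcop.gcd_eq_one, pow_one] at this

/-- **Subgroup form.**  `Sig ≤ B` a `p`-group of index prime to `p`, `Sig = Th K`, `K` central modulo `Th`,
`Th` strongly closed in `Sig` with respect to `B`, `Gen` a set of elements all of whose `B`-conjugates of powers
inside `Sig` lie in `Th`.  Then `⟨Gen⟩ ∩ K ≤ Th`. -/
theorem meet_transfer_ncl {B : Type*} [Group B] [Finite B] (p : ℕ) [Fact p.Prime]
    (Sig Th K : Subgroup B) (hSigp : IsPGroup p Sig) (hidx : ¬ p ∣ Sig.index)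
    (hTh : Th ≤ Sig) (hK : K ≤ Sig) (hsup : Sig ≤ Th ⊔ K)
    (hcen : ∀ b : B, ∀ k ∈ K, k⁻¹ * (b⁻¹ * k * b) ∈ Th)
    (hcl : ∀ b : B, ∀ t ∈ Th, b⁻¹ * t * b ∈ Sig → b⁻¹ * t * b ∈ Th)
    (Gen : Set B)
    (hGen : ∀ y ∈ Gen, ∀ (m : ℕ) (b : B), b⁻¹ * y ^ m * b ∈ Sig → b⁻¹ * y ^ m * b ∈ Th)
    {x : B} (hxK : x ∈ K) (hx : x ∈ Subgroup.closure Gen) : x ∈ Th := by
  classical
  have hn : ∀ s ∈ Sig, ∀ t ∈ Th, s * t * s⁻¹ ∈ Th := by
    intro s hs t ht
    have h1 : s⁻¹⁻¹ * t * s⁻¹ ∈ Sig :=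
      Sig.mul_mem (Sig.mul_mem (Sig.inv_mem (Sig.inv_mem hs)) (hTh ht)) (Sig.inv_mem hs)
    have := hcl s⁻¹ t ht h1
    rwa [inv_inv] at this
  have hnorm : (Th.subgroupOf Sig).Normal := by
    refine ⟨fun n hnm g => ?_⟩
    rw [Subgroup.mem_subgroupOf] at hnm ⊢
    simpa using hn g g.2 n hnm
  have hmk1 : ∀ (t : Sig), (t : B) ∈ Th → (QuotientGroup.mk t : Sig ⧸ Th.subgroupOf Sig) = 1 := by
    intro t ht
    rw [QuotientGroup.eq_one_iff, Subgroup.mem_subgroupOf]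
    exact ht
  have hcomm : ∀ x y : Sig ⧸ Th.subgroupOf Sig, x * y = y * x := by
    intro x y
    obtain ⟨a, rfl⟩ := QuotientGroup.mk_surjective x
    obtain ⟨b, rfl⟩ := QuotientGroup.mk_surjective y
    obtain ⟨t1, ht1, k1, hk1, ha⟩ := Cfsg.Agent.GFS.gfs_mem_mul_of_le_sup Sig Th K hK hsup hn a.2
    obtain ⟨t2, ht2, k2, hk2, hb⟩ := Cfsg.Agent.GFS.gfs_mem_mul_of_le_sup Sig Th K hK hsup hn b.2
    have ea : a = ⟨t1, hTh ht1⟩ * ⟨k1, hK hk1⟩ := Subtype.ext ha
    have eb : b = ⟨t2, hTh ht2⟩ * ⟨k2, hK hk2⟩ := Subtype.ext hb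
    have hkk : (QuotientGroup.mk ((⟨k1, hK hk1⟩ : Sig) * ⟨k2, hK hk2⟩) : Sig ⧸ Th.subgroupOf Sig) =
        QuotientGroup.mk ((⟨k2, hK hk2⟩ : Sig) * ⟨k1, hK hk1⟩) := by
      rw [eq_comm, QuotientGroup.eq, Subgroup.mem_subgroupOf]
      have := hcen k2 k1 hk1
      simpa [mul_assoc] using this
    rw [ea, eb]
    simp only [QuotientGroup.mk_mul] at hkk ⊢
    rw [hmk1 ⟨t1, hTh ht1⟩ ht1, hmk1 ⟨t2, hTh ht2⟩ ht2, one_mul, one_mul, hkk]
  let _ : CommGroup (Sig ⧸ Th.subgroupOf Sig) :=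
    { (inferInstance : Group (Sig ⧸ Th.subgroupOf Sig)) with mul_comm := hcomm }
  have hA : IsPGroup p (Sig ⧸ Th.subgroupOf Sig) := IsPGroup.to_quotient hSigp (Th.subgroupOf Sig)
  have key := meet_transfer_core p Sig hidx hA (QuotientGroup.mk' (Th.subgroupOf Sig))
    ⟨x, hK hxK⟩
    (fun m b h => by
      rw [← map_pow, eq_comm, QuotientGroup.mk'_apply, QuotientGroup.mk'_apply, QuotientGroup.eq,
        Subgroup.mem_subgroupOf]
      simpa using hcen b (x ^ m) (K.pow_mem hxK m))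
    Gen
    (fun y hy m b h => by
      rw [QuotientGroup.mk'_apply, QuotientGroup.eq_one_iff, Subgroup.mem_subgroupOf]
      exact hGen y hy m b h)
    hx
  rw [QuotientGroup.mk'_apply, QuotientGroup.eq_one_iff, Subgroup.mem_subgroupOf] at key
  exact key

/-- For `M` normal, the relative index of `S` in `M` divides the index of `S`. -/
theorem meet_relIndex_dvd_index_of_normal {G : Type*} [Group G] [Finite G] (S M : Subgroup G) [M.Normal] :
    S.relIndex M ∣ S.index := by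
  have h1 : (S ⊓ M).relIndex M * M.index = (S ⊓ M).index := Subgroup.relIndex_mul_index inf_le_right
  have h2 : (S ⊓ M).relIndex S * S.index = (S ⊓ M).index := Subgroup.relIndex_mul_index inf_le_left
  rw [Subgroup.inf_relIndex_right] at h1
  rw [Subgroup.inf_relIndex_left] at h2
  obtain ⟨d, hd⟩ := Subgroup.relIndex_dvd_index_of_normal M S
  have hne : M.relIndex S ≠ 0 := by
    rw [Subgroup.relIndex]; exact Subgroup.index_ne_zero_of_finite
  refine ⟨d, ?_⟩
  have : M.relIndex S * S.index = M.relIndex S * (S.relIndex M * d) := by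
    rw [h2, ← h1, hd]; ring
  exact Nat.eq_of_mul_eq_mul_left (Nat.pos_of_ne_zero hne) this

/-- `[C, ⟨T^G⟩] ≤ T ∩ C` when `C` is normal in `G`, `T` is strongly closed in `S ≥ C`. -/
theorem meet_gt_comm {G : Type*} [Group G] (S T C : Subgroup G) (hTS : T ≤ S)
    (hsc : ∀ g : G, ∀ t ∈ T, g⁻¹ * t * g ∈ S → g⁻¹ * t * g ∈ T)
    (hCS : C ≤ S) [hCn : C.Normal] :
    ∀ b ∈ Subgroup.normalClosure (T : Set G), ∀ k ∈ C, k⁻¹ * (b⁻¹ * k * b) ∈ T ⊓ C := by
  have hCTn : (T ⊓ C).Normal := by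
    refine ⟨fun n hn g => ⟨?_, hCn.conj_mem n hn.2 g⟩⟩
    have h1 : g * n * g⁻¹ ∈ S := hCS (hCn.conj_mem n hn.2 g)
    have := hsc g⁻¹ n hn.1 (by simpa using h1)
    simpa using this
  let q := QuotientGroup.mk' (T ⊓ C)
  have hCq : (C.map q).Normal := Subgroup.Normal.map hCn q (QuotientGroup.mk'_surjective _)
  let N : Subgroup G := (Subgroup.centralizer ((C.map q : Subgroup (G ⧸ (T ⊓ C))) : Set (G ⧸ (T ⊓ C)))).comap q
  have hNn : N.Normal := Subgroup.Normal.comap (Subgroup.normal_centralizer) q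
  have hTN : (T : Set G) ⊆ N := by
    intro t ht
    show q t ∈ Subgroup.centralizer _
    rw [Subgroup.mem_centralizer_iff]
    rintro y ⟨c, hc, rfl⟩
    show q c * q t = q t * q c
    rw [← map_mul, ← map_mul]
    show (QuotientGroup.mk (c * t) : G ⧸ (T ⊓ C)) = QuotientGroup.mk (t * c)
    rw [QuotientGroup.eq]
    refine ⟨?_, ?_⟩
    · have h1 : c⁻¹ * t * c ∈ T := hsc c t ht (S.mul_mem (S.mul_mem (S.inv_mem (hCS hc)) (hTS ht)) (hCS hc))
      have : (c * t)⁻¹ * (t * c) = t⁻¹ * (c⁻¹ * t * c) := by group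
      rw [this]
      exact T.mul_mem (T.inv_mem ht) h1
    · have h1 : t⁻¹ * c⁻¹ * t⁻¹⁻¹ ∈ C := hCn.conj_mem c⁻¹ (C.inv_mem hc) t⁻¹
      have : (c * t)⁻¹ * (t * c) = (t⁻¹ * c⁻¹ * t⁻¹⁻¹) * c := by group
      rw [this]
      exact C.mul_mem h1 hc
  have hMN : Subgroup.normalClosure (T : Set G) ≤ N := Subgroup.normalClosure_le_normal hTN
  intro b hb k hk
  have hbN : q b ∈ Subgroup.centralizer ((C.map q : Subgroup (G ⧸ (T ⊓ C))) : Set (G ⧸ (T ⊓ C))) := hMN hb
  rw [Subgroup.mem_centralizer_iff] at hbN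
  have h1 : q k * q b = q b * q k := hbN (q k) ⟨k, hk, rfl⟩
  rw [← map_mul, ← map_mul] at h1
  have h2 : (QuotientGroup.mk (b * k) : G ⧸ (T ⊓ C)) = QuotientGroup.mk (k * b) := h1.symm
  rw [QuotientGroup.eq] at h2
  have : k⁻¹ * (b⁻¹ * k * b) = (b * k)⁻¹ * (k * b) := by group
  rw [this]
  exact h2

/-- **(GT)**  `G` finite, `S` a `p`-subgroup of index prime to `p`, `T ≤ S` strongly closed in `S` with respect
to `G`, `C ≤ S` normal in `G`, and `⟨T^G⟩ ∩ S ≤ T C`.  Then `⟨T^G⟩ ∩ S ≤ T`: the normal closure of `T` has Sylow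
`p`-subgroup `T`. -/
theorem meet_gt {G : Type*} [Group G] [Finite G] (p : ℕ) [Fact p.Prime] (S T C : Subgroup G)
    (hSp : IsPGroup p S) (hSidx : ¬ p ∣ S.index) (hTS : T ≤ S)
    (hsc : ∀ g : G, ∀ t ∈ T, g⁻¹ * t * g ∈ S → g⁻¹ * t * g ∈ T)
    (hCS : C ≤ S) [hCn : C.Normal]
    (him : Subgroup.normalClosure (T : Set G) ⊓ S ≤ T ⊔ C) :
    Subgroup.normalClosure (T : Set G) ⊓ S ≤ T := by
  classical
  have hTM : T ≤ Subgroup.normalClosure (T : Set G) := Subgroup.subset_normalClosure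
  have hcen0 := meet_gt_comm S T C hTS hsc hCS
  -- the ambient group is now `M = ⟨T^G⟩`
  have hidx : ¬ p ∣ (S.subgroupOf (Subgroup.normalClosure (T : Set G))).index := fun h =>
    hSidx (dvd_trans h (meet_relIndex_dvd_index_of_normal S (Subgroup.normalClosure (T : Set G))))
  have hgen : Subgroup.closure (((↑) : Subgroup.normalClosure (T : Set G) → G) ⁻¹'
      (Group.conjugatesOfSet (T : Set G))) = ⊤ :=
    Subgroup.closure_closure_coe_preimage (k := Group.conjugatesOfSet (T : Set G))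
  have key : ∀ c : G, ∀ hcM : c ∈ Subgroup.normalClosure (T : Set G), c ∈ C → c ∈ T := by
    intro c hcM hcC
    have := meet_transfer_ncl (B := Subgroup.normalClosure (T : Set G)) p
      (S.subgroupOf _) (T.subgroupOf _) ((C ⊓ S).subgroupOf _)
      (hSp.comap_subtype) hidx
      (fun x hx => hTS hx) (fun x hx => hx.2)
      (fun x hx => by
        have hx' : (x : G) ∈ T ⊔ C := him ⟨x.2, hx⟩
        have hx'' : (x : G) ∈ ((T ⊔ C : Subgroup G) : Set G) := hx'
        rw [Subgroup.mul_normal T C] at hx''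
        obtain ⟨t, ht, c', hc', htc⟩ := Set.mem_mul.1 hx''
        have hcM' : c' ∈ Subgroup.normalClosure (T : Set G) := by
          have : c' = t⁻¹ * (x : G) := by rw [← htc]; group
          rw [this]
          exact Subgroup.mul_mem _ (Subgroup.inv_mem _ (hTM ht)) x.2
        have hxe : x = (⟨t, hTM ht⟩ : Subgroup.normalClosure (T : Set G)) * ⟨c', hcM'⟩ := Subtype.ext htc.symm
        rw [hxe]
        refine Subgroup.mul_mem_sup ?_ ?_
        · exact ht
        · refine ⟨hc', ?_⟩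
          have : c' = t⁻¹ * (x : G) := by rw [← htc]; group
          show c' ∈ S
          rw [this]
          exact S.mul_mem (S.inv_mem (hTS ht)) hx)
      (fun b k hk => (hcen0 (b : G) b.2 (k : G) hk.1).1)
      (fun b t ht h => hsc (b : G) (t : G) ht h)
      (((↑) : Subgroup.normalClosure (T : Set G) → G) ⁻¹' (Group.conjugatesOfSet (T : Set G)))
      (fun y hy m b h => by
        have hy' : (y : G) ∈ Group.conjugatesOfSet (T : Set G) := hy
        rw [Group.mem_conjugatesOfSet_iff] at hy'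
        obtain ⟨t, ht, htc⟩ := hy'
        obtain ⟨c, hc⟩ := isConj_iff.1 htc
        have e : ((b⁻¹ * y ^ m * b : Subgroup.normalClosure (T : Set G)) : G) =
            (c⁻¹ * (b : G))⁻¹ * t ^ m * (c⁻¹ * (b : G)) := by
          push_cast
          rw [← hc, conj_pow]
          group
        show ((b⁻¹ * y ^ m * b : Subgroup.normalClosure (T : Set G)) : G) ∈ T
        have h' : ((b⁻¹ * y ^ m * b : Subgroup.normalClosure (T : Set G)) : G) ∈ S := h
        rw [e] at h' ⊢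
        exact hsc _ (t ^ m) (T.pow_mem ht m) h')
      (x := ⟨c, hcM⟩) ?_ (by rw [hgen]; exact Subgroup.mem_top _)
    · exact this
    · exact ⟨hcC, hCS hcC⟩
  rintro x ⟨hxM, hxS⟩
  have hx' : x ∈ ((T ⊔ C : Subgroup G) : Set G) := him ⟨hxM, hxS⟩
  rw [Subgroup.mul_normal T C] at hx'
  obtain ⟨t, ht, c', hc', htc⟩ := Set.mem_mul.1 hx'
  have hcM' : c' ∈ Subgroup.normalClosure (T : Set G) := by
    have : c' = t⁻¹ * x := by rw [← htc]; group
    rw [this]
    exact Subgroup.mul_mem _ (Subgroup.inv_mem _ (hTM ht)) hxM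
  rw [← htc]
  exact T.mul_mem ht (key c' hcM' hc')

end Cfsg.Agent.MEET
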