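import Mathlib
import Cfsg.Agent.MEET.NclGroup

set_option autoImplicit false
set_option linter.style.haveILetI false
set_option linter.unusedSectionVars false

/-!
# Project MEET, (CM-a): finite group theory (Sylow subgroups of normalizers)
-/

namespace Cfsg.Agent.MEET

variable {G : Type*} [Group G]

/-- For `K ≤ L` normal in `L`: `|K : P ∩ K|` divides `|L : P ∩ L|`. -/
theorem meet_cm_relIndex_dvd [Finite G] (P L K : Subgroup G) (hKL : K ≤ L)
    (hn : L ≤ Subgroup.normalizer (K : Set G)) : (P ⊓ K).relIndex K ∣ (P ⊓ L).relIndex L := by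
  haveI : (K.subgroupOf L).Normal := by
    rw [Subgroup.normal_subgroupOf_iff hKL]
    intro h k hh hk
    exact (Subgroup.mem_normalizer_iff.mp (hn hk) h).mp hh
  have h := meet_relIndex_dvd_index_of_normal ((P ⊓ L).subgroupOf L) (K.subgroupOf L)
  rw [Subgroup.relIndex_subgroupOf hKL] at h
  have e : (P ⊓ L).relIndex K = (P ⊓ K).relIndex K := by
    rw [← Subgroup.inf_relIndex_right (P ⊓ L) K, inf_assoc, inf_eq_right.mpr hKL, Subgroup.inf_relIndex_right]
  rw [e] at h
  exact h

theorem meet_cm_not_dvd_of_normal [Finite G] (p : ℕ) (P L K : Subgroup G) (hKL : K ≤ L)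
    (hn : L ≤ Subgroup.normalizer (K : Set G)) (h : ¬ p ∣ (P ⊓ L).relIndex L) : ¬ p ∣ (P ⊓ K).relIndex K :=
  fun h' => h (dvd_trans h' (meet_cm_relIndex_dvd P L K hKL hn))

/-- a `p`-subgroup of `K` is not larger than a subgroup of `K` of index prime to `p`. -/
theorem meet_cm_card_le_of_not_dvd [Finite G] (p : ℕ) [Fact p.Prime] (A K P' : Subgroup G) (hAK : A ≤ K)
    (h : ¬ p ∣ A.relIndex K) (hP' : IsPGroup p P') (hP'K : P' ≤ K) : Nat.card P' ≤ Nat.card A := by
  obtain ⟨n, hn⟩ := IsPGroup.iff_card.mp hP'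
  have h1 : Nat.card P' ∣ Nat.card K := Subgroup.card_dvd_of_le hP'K
  have h2 : Nat.card K = Nat.card A * A.relIndex K := by
    have := Subgroup.card_mul_index (A.subgroupOf K)
    rw [← this, Nat.card_congr (Subgroup.subgroupOfEquivOfLe hAK).toEquiv]
    rfl
  rw [h2, hn] at h1
  have hcop : Nat.Coprime (p ^ n) (A.relIndex K) :=
    Nat.Coprime.pow_left n ((Fact.out : p.Prime).coprime_iff_not_dvd.mpr h)
  have h3 : p ^ n ∣ Nat.card A := hcop.dvd_of_dvd_mul_right h1
  rw [hn]
  exact Nat.le_of_dvd Nat.card_pos h3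

/-- the normalizer of `H` normalizes the centralizer of `H`. -/
theorem meet_cm_normalizer_le_centralizer (H : Subgroup G) :
    Subgroup.normalizer (H : Set G) ≤ Subgroup.normalizer ((Subgroup.centralizer (H : Set G) : Subgroup G) : Set G) := by
  have key : ∀ l : G, l ∈ Subgroup.normalizer (H : Set G) → ∀ c ∈ Subgroup.centralizer (H : Set G),
      l * c * l⁻¹ ∈ Subgroup.centralizer (H : Set G) := by
    intro l hl c hc
    rw [Subgroup.mem_centralizer_iff]
    intro h hh
    have h1 : l⁻¹ * h * l ∈ H := by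
      have hl' := Subgroup.inv_mem _ hl
      have := (Subgroup.mem_normalizer_iff.mp hl' h).mp hh
      simpa using this
    have h2 := (Subgroup.mem_centralizer_iff.mp hc) _ h1
    calc h * (l * c * l⁻¹) = l * ((l⁻¹ * h * l) * c) * l⁻¹ := by group
      _ = l * (c * (l⁻¹ * h * l)) * l⁻¹ := by rw [h2]
      _ = l * c * l⁻¹ * h := by group
  intro l hl
  rw [Subgroup.mem_normalizer_iff]
  intro c
  constructor
  · exact key l hl c
  · intro hc
    have := key l⁻¹ (Subgroup.inv_mem _ hl) _ hc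
    simpa [mul_assoc] using this

/-- `L` normalizes `J ∩ L` for `J` normal. -/
theorem meet_cm_normalizer_le_inf (J L : Subgroup G) [J.Normal] :
    L ≤ Subgroup.normalizer ((J ⊓ L : Subgroup G) : Set G) := by
  intro l hl
  rw [Subgroup.mem_normalizer_iff]
  intro c
  constructor
  · rintro ⟨h1, h2⟩
    exact ⟨Subgroup.Normal.conj_mem inferInstance c h1 l, L.mul_mem (L.mul_mem hl h2) (L.inv_mem hl)⟩
  · rintro ⟨h1, h2⟩
    constructor
    · have := Subgroup.Normal.conj_mem (inferInstance : J.Normal) _ h1 l⁻¹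
      simpa [mul_assoc] using this
    · have := L.mul_mem (L.mul_mem (L.inv_mem hl) h2) hl
      simpa [mul_assoc] using this

/-- Every `p`-subgroup `H` of a finite group has a conjugate `H'` inside a given Sylow `p`-subgroup `P` such that
`P ∩ N_G(H')` has index prime to `p` in `N_G(H')`. -/
theorem meet_cm_sylow_conj [Finite G] (p : ℕ) [Fact p.Prime] (P : Sylow p G) (H : Subgroup G) (hH : IsPGroup p H) :
    ∃ g : G, H.map (MulAut.conj g).toMonoidHom ≤ P ∧
      ¬ p ∣ ((P : Subgroup G) ⊓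
          Subgroup.normalizer ((H.map (MulAut.conj g).toMonoidHom : Subgroup G) : Set G)).relIndex
        (Subgroup.normalizer ((H.map (MulAut.conj g).toMonoidHom : Subgroup G) : Set G)) := by
  set L : Subgroup G := Subgroup.normalizer (H : Set G) with hL
  have hHL : H ≤ L := Subgroup.le_normalizer
  have hHp : IsPGroup p (H.subgroupOf L) := hH.comap_subtype
  obtain ⟨Q₁, hQ₁⟩ := hHp.exists_le_sylow
  have hQ₁p : IsPGroup p ((Q₁ : Subgroup L).map L.subtype) := Q₁.isPGroup'.map L.subtype
  obtain ⟨Q, hQ⟩ := hQ₁p.exists_le_sylow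
  obtain ⟨g, hg⟩ := MulAction.exists_smul_eq G Q P
  have hgP : ∀ x ∈ (Q : Subgroup G), g * x * g⁻¹ ∈ (P : Subgroup G) := by
    intro x hx
    rw [← hg, Sylow.coe_subgroup_smul]
    exact ⟨x, hx, rfl⟩
  set c := (MulAut.conj g).toMonoidHom with hc
  have hcL : L.map c = Subgroup.normalizer ((H.map c : Subgroup G) : Set G) :=
    Subgroup.map_equiv_normalizer_eq H (MulAut.conj g)
  refine ⟨g, ?_, ?_⟩
  · rintro _ ⟨x, hx, rfl⟩
    apply hgP
    apply hQ
    exact ⟨⟨x, hHL hx⟩, hQ₁ (Subgroup.mem_subgroupOf.mpr hx), rfl⟩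
  · rw [← hcL]
    -- the image of `Q₁` under `c` is a subgroup of `P ∩ c(L)` of order the `p`-part of `|L| = |c(L)|`
    set Q₂ : Subgroup G := ((Q₁ : Subgroup L).map L.subtype).map c with hQ₂
    have hQ₂P : Q₂ ≤ (P : Subgroup G) ⊓ L.map c := by
      rintro _ ⟨_, ⟨x, hx, rfl⟩, rfl⟩
      refine ⟨hgP _ (hQ ⟨x, hx, rfl⟩), ?_⟩
      exact ⟨x, x.2, rfl⟩
    have hcinj : Function.Injective c := (MulAut.conj g).injective
    have hcardQ₂ : Nat.card Q₂ = p ^ (Nat.card L).factorization p := by
      rw [hQ₂, Subgroup.card_map_of_injective hcinj,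
        Subgroup.card_map_of_injective (Subgroup.subtype_injective L)]
      exact Q₁.card_eq_multiplicity
    have hcardL : Nat.card (L.map c) = Nat.card L := Subgroup.card_map_of_injective hcinj
    intro hdvd
    -- `|c(L)| = |P ∩ c(L)| * relIndex` and `|Q₂|` divides `|P ∩ c(L)|`
    have h2 : Nat.card (L.map c) = Nat.card ((P : Subgroup G) ⊓ L.map c : Subgroup G) *
        ((P : Subgroup G) ⊓ L.map c).relIndex (L.map c) := by
      have := Subgroup.card_mul_index (((P : Subgroup G) ⊓ L.map c).subgroupOf (L.map c))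
      rw [← this, Nat.card_congr (Subgroup.subgroupOfEquivOfLe inf_le_right).toEquiv]
      rfl
    have h3 : Nat.card Q₂ ∣ Nat.card ((P : Subgroup G) ⊓ L.map c : Subgroup G) := Subgroup.card_dvd_of_le hQ₂P
    have h3' : p ^ (Nat.card L).factorization p ∣ Nat.card ((P : Subgroup G) ⊓ L.map c : Subgroup G) := by
      rw [← hcardQ₂]; exact h3
    have h6 : Nat.card L = Nat.card ((P : Subgroup G) ⊓ L.map c : Subgroup G) *
        ((P : Subgroup G) ⊓ L.map c).relIndex (L.map c) := hcardL.symm.trans h2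
    have h4 : p ^ ((Nat.card L).factorization p + 1) ∣ Nat.card L := by
      have h5 := Nat.mul_dvd_mul h3' hdvd
      rw [pow_succ]
      exact dvd_trans h5 (dvd_of_eq h6.symm)
    exact Nat.pow_succ_factorization_not_dvd Nat.card_pos.ne' Fact.out h4

end Cfsg.Agent.MEET
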