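import Mathlib
import Cfsg.Agent.MEET.EngDefs

set_option autoImplicit false

/-!
# Project MEET, part II: the concrete automizers and the local groups (definitions)

`E₁, E₂` are normal subsystems of the saturated system `F` over `T₁, T₂`, `W = T₁ ⊓ T₂`.  For `U ≤ W` put
`Q_U = U C_S(U)` (`meetQ S U`) and `Q_i^U = U C_{T_i}(U)` (`meetQ T_i U`).  `meetB0` is the set of the automorphisms `b` of
`Q_U` in `F` of order prime to `p` with `[Q_U, b] ≤ U` whose restriction to `Q_i^U` is a map of `E_i` (`i = 1, 2`);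
`meetA0 U` is generated by the restrictions to `U` of these `b` and by `Aut_W(U)`; `meetA P` is the transport of `meetA0 U`
to `P` along the isomorphisms of `F` from `P` onto the fully normalized members `U` of the family.
`MeetLocGrp` is the interface of the local group `G(U)` (a model of `N_{N_F(U)}(Q_U)`), see `notes/MEET_helper8.md`
sections 1, 2, 12.
-/

namespace Cfsg.Agent.MEET

open Cfsg Cfsg.FusionSystem

universe u

variable {Ω : Type u} [Group Ω] {S : Subgroup Ω}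

/-- `Q_U = U C_S(U)`. -/
def meetQ (S U : Subgroup Ω) : Subgroup Ω := U ⊔ centralizerIn S U

theorem meet_le_Q (S U : Subgroup Ω) : U ≤ meetQ S U := le_sup_left

/-- The restriction of the automorphism `b` of `Q` to `R ≤ Q` is a map of `E` (with values in `R`). -/
def MeetResIn {T : Subgroup Ω} (E : FusionSystem T) {Q : Subgroup Ω} (b : MulAut Q) (R : Subgroup Ω) : Prop :=
  ∃ hRQ : R ≤ Q, (Q.subtype.comp b.toMonoidHom).comp (Subgroup.inclusion hRQ) ∈ E.Hom R ∧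
    ∀ x : R, ((b (Subgroup.inclusion hRQ x) : Q) : Ω) ∈ R

/-- `B0(U)`: the automorphisms `b` of `Q_U` in `F` of order prime to `p` with `[Q_U, b] ≤ U` inducing maps of `E_i` on
`Q_i^U = U C_{T_i}(U)`. -/
def meetB0 (p : ℕ) (F : FusionSystem S) {T₁ T₂ : Subgroup Ω} (E₁ : FusionSystem T₁) (E₂ : FusionSystem T₂)
    (U : Subgroup Ω) : Set (MulAut ↥(meetQ S U)) :=
  {b | b ∈ F.autGroup (meetQ S U) ∧ (orderOf b).Coprime p ∧
    (∀ x : ↥(meetQ S U), (x : Ω)⁻¹ * ((b x : ↥(meetQ S U)) : Ω) ∈ U) ∧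
    MeetResIn E₁ b (meetQ T₁ U) ∧ MeetResIn E₂ b (meetQ T₂ U)}

/-- `A0(U) = ⟨ b|_U : b ∈ B0(U) ⟩ Aut_W(U)`. -/
def meetA0 (p : ℕ) (F : FusionSystem S) {T₁ T₂ : Subgroup Ω} (E₁ : FusionSystem T₁) (E₂ : FusionSystem T₂)
    (U : Subgroup Ω) : Subgroup (MulAut U) :=
  Subgroup.closure {β : MulAut U | ∃ b ∈ meetB0 p F E₁ E₂ U, MeetRes (meet_le_Q S U) b β} ⊔
    autInducedBy (T₁ ⊓ T₂) U

/-- `A(P)`: the transport of `A0(U)` along the isomorphisms of `F` from `P` onto fully normalized members `U` of the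
family. -/
def meetA (p : ℕ) (F : FusionSystem S) {T₁ T₂ : Subgroup Ω} (E₁ : FusionSystem T₁) (E₂ : FusionSystem T₂)
    (P : Subgroup Ω) : Subgroup (MulAut P) :=
  Subgroup.closure {β : MulAut P | ∃ U ∈ meetUf F (T₁ ⊓ T₂), ∃ φ ∈ F.Hom P, φ.range = U ∧
    ∃ a ∈ meetA0 p F E₁ E₂ U, MeetTr φ β a}

/-- The map `φ : X → N` is induced by `g ∈ G` through `ι : N →* G`: `ι(φ x) = g ι(x) g⁻¹`. -/
def MeetInd {N : Subgroup Ω} {G : Type u} [Group G] (ι : N →* G) (g : G) {X : Subgroup Ω} (hX : X ≤ N)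
    (φ : X →* Ω) (hφ : ∀ x : X, φ x ∈ N) : Prop :=
  ∀ x : X, ι ⟨φ x, hφ x⟩ = g * ι ⟨x, hX x.2⟩ * g⁻¹

/-- The local group `G(U)` of a fully normalized member `U` of the family, through `ι : N_S(U) →* G`. -/
structure MeetLocGrp (p : ℕ) (F : FusionSystem S) (W U : Subgroup Ω) {G : Type u} [Group G]
    (ι : ↥(normalizerIn S U) →* G) : Prop where
  fin : Finite G
  inj : Function.Injective ι
  /-- `N_S(U)` is a Sylow `p`-subgroup of `G`. -/
  syl : ∃ P : Sylow p G, (P : Subgroup G) = ι.range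
  hQ : meetQ S U ≤ normalizerIn S U
  /-- `U` and `Q_U` are normal in `G`, `Q_U` contains its centralizer. -/
  normU : ∀ (g : G) (x : ↥(normalizerIn S U)), (x : Ω) ∈ U → ∃ y : ↥(normalizerIn S U), (y : Ω) ∈ U ∧ ι y = g * ι x * g⁻¹
  normQ : ∀ (g : G) (x : ↥(normalizerIn S U)), (x : Ω) ∈ meetQ S U →
    ∃ y : ↥(normalizerIn S U), (y : Ω) ∈ meetQ S U ∧ ι y = g * ι x * g⁻¹
  cent : ∀ g : G, (∀ x : ↥(normalizerIn S U), (x : Ω) ∈ meetQ S U → g * ι x = ι x * g) →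
    ∃ y : ↥(normalizerIn S U), (y : Ω) ∈ meetQ S U ∧ ι y = g
  /-- conjugation by an element of `G` between subgroups of `N_S(U)` is a map of `F`. -/
  hom : ∀ (g : G) (X : Subgroup Ω) (hX : X ≤ normalizerIn S U) (φ : X →* Ω) (hφ : ∀ x : X, φ x ∈ normalizerIn S U),
    MeetInd ι g hX φ hφ → φ ∈ F.Hom X
  /-- every automorphism of `Q_U` in `F` normalizing `U` is induced by `G`. -/
  realQ : ∀ b : MulAut ↥(meetQ S U), b ∈ F.autGroup (meetQ S U) →
    (∀ x : ↥(meetQ S U), (x : Ω) ∈ U → ((b x : ↥(meetQ S U)) : Ω) ∈ U) →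
    ∃ g : G, MeetInd ι g hQ ((meetQ S U).subtype.comp b.toMonoidHom) (fun x => hQ (b x).2)
  /-- (ND): every map of `F` between overgroups of `U` in `N_W(U)` carrying `U` to `U` is induced by `G`. -/
  nd : ∀ (X : Subgroup Ω) (hUX : U ≤ X) (hXY : X ≤ normalizerIn W U) (hWS : W ≤ S) (ψ : X →* Ω), ψ ∈ F.Hom X →
    ∀ (hψ : ∀ x : X, ψ x ∈ normalizerIn W U), (∀ x : X, (x : Ω) ∈ U → ψ x ∈ U) →
    ∃ g : G, MeetInd ι g (hXY.trans (inf_le_inf_right _ hWS)) ψ
      (fun x => (inf_le_inf_right _ hWS : normalizerIn W U ≤ normalizerIn S U) (hψ x))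

/-- `Gen_T(U)`: the elements `g` of `G` of order prime to `p` inducing on `Q_U` an automorphism `b` in `F` with
`[Q_U, b] ≤ Q_T^U = U C_T(U)` whose restriction to `Q_T^U` is a map of `E`. -/
def meetGen (p : ℕ) (F : FusionSystem S) {T : Subgroup Ω} (E : FusionSystem T) (U : Subgroup Ω) {G : Type u} [Group G]
    (ι : ↥(normalizerIn S U) →* G) (hQ : meetQ S U ≤ normalizerIn S U) : Set G :=
  {g | (orderOf g).Coprime p ∧ ∃ b : MulAut ↥(meetQ S U), b ∈ F.autGroup (meetQ S U) ∧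
    MeetInd ι g hQ ((meetQ S U).subtype.comp b.toMonoidHom) (fun x => hQ (b x).2) ∧
    (∀ x : ↥(meetQ S U), (x : Ω)⁻¹ * ((b x : ↥(meetQ S U)) : Ω) ∈ meetQ T U) ∧ MeetResIn E b (meetQ T U)}

/-- `H_T(U)`: the subgroup of `G` generated by `Gen_T(U)` and the conjugates of `N_T(U)`. -/
def meetHi (p : ℕ) (F : FusionSystem S) {T : Subgroup Ω} (E : FusionSystem T) (U : Subgroup Ω) {G : Type u} [Group G]
    (ι : ↥(normalizerIn S U) →* G) (hQ : meetQ S U ≤ normalizerIn S U) : Subgroup G :=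
  Subgroup.closure (meetGen p F E U ι hQ ∪
    {x | ∃ (g : G) (t : ↥(normalizerIn S U)), (t : Ω) ∈ T ∧ x = g * ι t * g⁻¹})

/-- `J(U) = H_1(U) ∩ H_2(U)`. -/
def meetJ (p : ℕ) (F : FusionSystem S) {T₁ T₂ : Subgroup Ω} (E₁ : FusionSystem T₁) (E₂ : FusionSystem T₂)
    (U : Subgroup Ω) {G : Type u} [Group G] (ι : ↥(normalizerIn S U) →* G) (hQ : meetQ S U ≤ normalizerIn S U) :
    Subgroup G :=
  meetHi p F E₁ U ι hQ ⊓ meetHi p F E₂ U ι hQ

/-- `β ∈ Aut(U)` is induced by `g ∈ G`. -/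
def MeetIndU {U : Subgroup Ω} {G : Type u} [Group G] (ι : ↥(normalizerIn S U) →* G) (hU : U ≤ normalizerIn S U)
    (g : G) (β : MulAut U) : Prop :=
  ∀ x : U, ι ⟨((β x : U) : Ω), hU (β x).2⟩ = g * ι ⟨x, hU x.2⟩ * g⁻¹

end Cfsg.Agent.MEET
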