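import Mathlib
import Cfsg.Agent.MEET.LocDefs

set_option autoImplicit false
set_option linter.style.haveILetI false
set_option linter.unusedSectionVars false

/-!
# Project MEET, (CM-a) and (LOC): toolkit on the maps induced by the elements of a local group

`ι : N →* G` is an injective homomorphism from a subgroup `N` of `Ω` to a group `G`.  For `X ≤ N` an automorphism `β` of `X`
is *induced* by `g ∈ G` (`MeetCmA ι hX g β`) if `ι(β x) = g ι(x) g⁻¹`.  This file contains the calculus of induced maps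
(existence, uniqueness, products, inverses, powers, restrictions) and the subgroup `meetCmS` of the elements of `G` inducing
an element of a given subgroup of `Aut(X)`.
-/

namespace Cfsg.Agent.MEET

open Cfsg Cfsg.FusionSystem

universe u

variable {Ω : Type u} [Group Ω] {N : Subgroup Ω} {G : Type u} [Group G] {ι : N →* G}

/-- `β ∈ Aut(X)` is induced by `g ∈ G` through `ι`. -/
def MeetCmA (ι : N →* G) {X : Subgroup Ω} (hX : X ≤ N) (g : G) (β : MulAut X) : Prop :=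
  ∀ x : X, ι ⟨((β x : X) : Ω), hX (β x).2⟩ = g * ι ⟨x, hX x.2⟩ * g⁻¹

theorem meet_cm_A_iff {X : Subgroup Ω} (hX : X ≤ N) (g : G) (β : MulAut X) :
    MeetCmA ι hX g β ↔ MeetInd ι g hX (X.subtype.comp β.toMonoidHom) (fun x => hX (β x).2) := Iff.rfl

/-- congruence for functions on a subgroup. -/
theorem meet_cm_app_congr {H : Subgroup Ω} {M : Type*} (f : H → M) {x y : Ω} (hx : x ∈ H) (hy : y ∈ H)
    (h : x = y) : f ⟨x, hx⟩ = f ⟨y, hy⟩ := by
  subst h; rfl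

/-- An element of `G` conjugating `ι(X)` into `ι(N)` induces a homomorphism `X → N`. -/
theorem meet_cm_ind_exists (hinj : Function.Injective ι) (g : G) {X : Subgroup Ω} (hX : X ≤ N)
    (h : ∀ x : X, ∃ y : N, ι y = g * ι ⟨x, hX x.2⟩ * g⁻¹) :
    ∃ (φ : X →* Ω) (hφ : ∀ x : X, φ x ∈ N), MeetInd ι g hX φ hφ := by
  choose f hf using h
  have hmul : ∀ a b : X, f (a * b) = f a * f b := by
    intro a b
    apply hinj
    rw [hf, map_mul, hf, hf]
    have e : (⟨((a * b : X) : Ω), hX (a * b).2⟩ : N) = ⟨a, hX a.2⟩ * ⟨b, hX b.2⟩ := rfl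
    rw [e, map_mul]
    group
  exact ⟨N.subtype.comp (MonoidHom.mk' f hmul), fun x => (f x).2, fun x => hf x⟩

theorem meet_cm_ind_unique (hinj : Function.Injective ι) {g : G} {X : Subgroup Ω} {hX : X ≤ N}
    {φ φ' : X →* Ω} {hφ : ∀ x : X, φ x ∈ N} {hφ' : ∀ x : X, φ' x ∈ N}
    (h : MeetInd ι g hX φ hφ) (h' : MeetInd ι g hX φ' hφ') : φ = φ' := by
  ext x
  exact congrArg Subtype.val (hinj ((h x).trans (h' x).symm))

theorem meet_cm_ind_injective (hinj : Function.Injective ι) {g : G} {X : Subgroup Ω} {hX : X ≤ N}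
    {φ : X →* Ω} {hφ : ∀ x : X, φ x ∈ N} (h : MeetInd ι g hX φ hφ) : Function.Injective φ := by
  intro a b hab
  have h2 : ι ⟨φ a, hφ a⟩ = ι ⟨φ b, hφ b⟩ := meet_cm_app_congr ι (hφ a) (hφ b) hab
  rw [h a, h b] at h2
  have h3 := hinj (mul_left_cancel (mul_right_cancel h2))
  exact Subtype.ext (Subtype.mk.inj h3)

theorem meet_cm_ind_comp {g h : G} {X Z : Subgroup Ω} {hX : X ≤ N} {hZ : Z ≤ N} {φ : X →* Ω}
    {hφ : ∀ x : X, φ x ∈ N} {ψ : Z →* Ω} {hψ : ∀ z : Z, ψ z ∈ N}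
    (h1 : MeetInd ι g hX φ hφ) (h2 : MeetInd ι h hZ ψ hψ) (hφZ : ∀ x : X, φ x ∈ Z) :
    MeetInd ι (h * g) hX (ψ.comp (φ.codRestrict Z hφZ)) (fun _ => hψ _) := by
  intro x
  have e1 := h2 (φ.codRestrict Z hφZ x)
  have e2 := h1 x
  calc ι ⟨(ψ.comp (φ.codRestrict Z hφZ)) x, hψ _⟩ = h * ι ⟨φ x, hφ x⟩ * h⁻¹ := e1
    _ = h * (g * ι ⟨x, hX x.2⟩ * g⁻¹) * h⁻¹ := by rw [e2]
    _ = h * g * ι ⟨x, hX x.2⟩ * (h * g)⁻¹ := by group

/-- the restriction of an induced map is induced. -/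
theorem meet_cm_ind_restrict {g : G} {X Z : Subgroup Ω} {hX : X ≤ N} (hZX : Z ≤ X) {φ : X →* Ω}
    {hφ : ∀ x : X, φ x ∈ N} (h1 : MeetInd ι g hX φ hφ) :
    MeetInd ι g (hZX.trans hX) (φ.comp (Subgroup.inclusion hZX)) (fun _ => hφ _) :=
  fun z => h1 (Subgroup.inclusion hZX z)

/-- the inverse of an induced map is induced by the inverse element. -/
theorem meet_cm_ind_inv {g : G} {X Z : Subgroup Ω} {hX : X ≤ N} {hZ : Z ≤ N}
    {φ : X →* Ω} {hφ : ∀ x : X, φ x ∈ N} (h1 : MeetInd ι g hX φ hφ) {ψ : Z →* Ω}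
    (hψ : ∀ z : Z, ψ z ∈ N) (hinv : ∀ z : Z, ∃ x : X, φ x = (z : Ω) ∧ ψ z = (x : Ω)) :
    MeetInd ι g⁻¹ hZ ψ hψ := by
  intro z
  obtain ⟨x, hx1, hx2⟩ := hinv z
  have e := h1 x
  have e1 : ι ⟨ψ z, hψ z⟩ = ι ⟨x, hX x.2⟩ := meet_cm_app_congr ι (hψ z) (hX x.2) hx2
  have e2 : ι ⟨φ x, hφ x⟩ = ι ⟨z, hZ z.2⟩ := meet_cm_app_congr ι (hφ x) (hZ z.2) hx1
  rw [e1, ← e2, e]
  group

/-! ### induced automorphisms -/

theorem meet_cm_A_exists (hinj : Function.Injective ι) (g : G) {X : Subgroup Ω} (hX : X ≤ N) [Finite X]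
    (h : ∀ x : X, ∃ y : N, (y : Ω) ∈ X ∧ ι y = g * ι ⟨x, hX x.2⟩ * g⁻¹) :
    ∃ β : MulAut X, MeetCmA ι hX g β := by
  obtain ⟨φ, hφ, hind⟩ := meet_cm_ind_exists hinj g hX (fun x => (h x).imp fun y hy => hy.2)
  have hφX : ∀ x : X, φ x ∈ X := by
    intro x
    obtain ⟨y, hyX, hy⟩ := h x
    have h1 : (⟨φ x, hφ x⟩ : N) = y := hinj ((hind x).trans hy.symm)
    have h2 : φ x = (y : Ω) := congrArg Subtype.val h1
    rw [h2]; exact hyX
  have hinjφ : Function.Injective (φ.codRestrict X hφX) := by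
    intro a b hab
    exact meet_cm_ind_injective hinj hind (congrArg Subtype.val hab)
  have hbij : Function.Bijective (φ.codRestrict X hφX) := Finite.injective_iff_bijective.mp hinjφ
  exact ⟨MulEquiv.ofBijective (φ.codRestrict X hφX) hbij, fun x => hind x⟩

theorem meet_cm_A_one {X : Subgroup Ω} (hX : X ≤ N) : MeetCmA ι hX 1 (1 : MulAut X) := by
  intro x
  simp

theorem meet_cm_A_mul {X : Subgroup Ω} {hX : X ≤ N} {g h : G} {β β' : MulAut X} (h1 : MeetCmA ι hX g β)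
    (h2 : MeetCmA ι hX h β') : MeetCmA ι hX (g * h) (β * β') := by
  intro x
  have e1 := h1 (β' x)
  have e2 := h2 x
  calc ι ⟨(((β * β') x : X) : Ω), hX ((β * β') x).2⟩
      = g * ι ⟨((β' x : X) : Ω), hX (β' x).2⟩ * g⁻¹ := e1
    _ = g * (h * ι ⟨x, hX x.2⟩ * h⁻¹) * g⁻¹ := by rw [e2]
    _ = g * h * ι ⟨x, hX x.2⟩ * (g * h)⁻¹ := by group

theorem meet_cm_A_inv {X : Subgroup Ω} {hX : X ≤ N} {g : G} {β : MulAut X} (h1 : MeetCmA ι hX g β) :
    MeetCmA ι hX g⁻¹ β⁻¹ := by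
  intro x
  have e1 : ι ⟨x, hX x.2⟩ = g * ι ⟨((β⁻¹ x : X) : Ω), hX (β⁻¹ x).2⟩ * g⁻¹ := by
    have := h1 (β⁻¹ x)
    simpa using this
  rw [e1]
  group

theorem meet_cm_A_pow {X : Subgroup Ω} {hX : X ≤ N} {g : G} {β : MulAut X} (h1 : MeetCmA ι hX g β) (n : ℕ) :
    MeetCmA ι hX (g ^ n) (β ^ n) := by
  induction n with
  | zero => simpa using meet_cm_A_one (ι := ι) hX
  | succ n ih =>
    rw [pow_succ, pow_succ]
    exact meet_cm_A_mul ih h1

theorem meet_cm_A_unique (hinj : Function.Injective ι) {X : Subgroup Ω} {hX : X ≤ N} {g : G} {β β' : MulAut X}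
    (h1 : MeetCmA ι hX g β) (h2 : MeetCmA ι hX g β') : β = β' := by
  apply MulEquiv.ext
  intro x
  apply Subtype.ext
  exact Subtype.mk.inj (hinj ((h1 x).trans (h2 x).symm))

theorem meet_cm_A_pow_eq_one (hinj : Function.Injective ι) {X : Subgroup Ω} {hX : X ≤ N} {g : G} {β : MulAut X}
    (h1 : MeetCmA ι hX g β) {m : ℕ} (hm : g ^ m = 1) : β ^ m = 1 := by
  have h2 := meet_cm_A_pow h1 m
  rw [hm] at h2
  exact meet_cm_A_unique hinj h2 (meet_cm_A_one hX)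

/-- an induced automorphism of `p'`-order has order prime to `p`. -/
theorem meet_cm_A_order (hinj : Function.Injective ι) {p : ℕ} {X : Subgroup Ω} {hX : X ≤ N} {g : G} {β : MulAut X}
    (h1 : MeetCmA ι hX g β) (hg : ∃ m : ℕ, m.Coprime p ∧ g ^ m = 1) : (orderOf β).Coprime p := by
  obtain ⟨m, hm, hgm⟩ := hg
  exact Nat.Coprime.coprime_dvd_left (orderOf_dvd_of_pow_eq_one (meet_cm_A_pow_eq_one hinj h1 hgm)) hm

/-- restriction of an automorphism to an invariant subgroup. -/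
theorem meet_cm_res_exists {X Z : Subgroup Ω} [Finite Z] (hZX : Z ≤ X) (β : MulAut X)
    (h : ∀ z : Z, ((β (Subgroup.inclusion hZX z) : X) : Ω) ∈ Z) : ∃ β' : MulAut Z, MeetRes hZX β β' := by
  set f : Z →* Z := ((X.subtype.comp β.toMonoidHom).comp (Subgroup.inclusion hZX)).codRestrict Z h with hf
  have hinj : Function.Injective f := by
    intro a b hab
    have h0 : ((f a : Z) : Ω) = ((f b : Z) : Ω) := by rw [hab]
    have h1 : ((β (Subgroup.inclusion hZX a) : X) : Ω) = ((β (Subgroup.inclusion hZX b) : X) : Ω) := h0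
    have h2 := β.injective (Subtype.ext h1)
    exact Subgroup.inclusion_injective hZX h2
  have hbij : Function.Bijective f := Finite.injective_iff_bijective.mp hinj
  exact ⟨MulEquiv.ofBijective f hbij, fun z => rfl⟩

theorem meet_cm_A_res {X Z : Subgroup Ω} {hX : X ≤ N} (hZX : Z ≤ X) {g : G} {β : MulAut X} {β' : MulAut Z}
    (h1 : MeetCmA ι hX g β) (hr : MeetRes hZX β β') : MeetCmA ι (hZX.trans hX) g β' := by
  intro z
  have e := h1 (Subgroup.inclusion hZX z)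
  exact (meet_cm_app_congr ι (hX ((hZX.trans le_rfl) (β' z).2)) (hX (β (Subgroup.inclusion hZX z)).2) (hr z)).trans e

theorem meet_cm_A_res_of (hinj : Function.Injective ι) {X Z : Subgroup Ω} {hX : X ≤ N} (hZX : Z ≤ X) {g : G}
    {β : MulAut X} {β' : MulAut Z} (h1 : MeetCmA ι hX g β) (h2 : MeetCmA ι (hZX.trans hX) g β') :
    MeetRes hZX β β' := by
  intro z
  exact congrArg Subtype.val (hinj ((h2 z).trans (h1 (Subgroup.inclusion hZX z)).symm))

/-- an induced automorphism maps `Z ≤ X` into `Z` as soon as `g` conjugates `ι(Z)` into itself. -/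
theorem meet_cm_A_mem (hinj : Function.Injective ι) {X Z : Subgroup Ω} {hX : X ≤ N} (hZX : Z ≤ X) {g : G}
    {β : MulAut X} (h1 : MeetCmA ι hX g β)
    (h : ∀ z : Z, ∃ y : N, (y : Ω) ∈ Z ∧ ι y = g * ι ⟨z, hX (hZX z.2)⟩ * g⁻¹) (z : Z) :
    ((β (Subgroup.inclusion hZX z) : X) : Ω) ∈ Z := by
  obtain ⟨y, hyZ, hy⟩ := h z
  have e := h1 (Subgroup.inclusion hZX z)
  have h2 : (⟨((β (Subgroup.inclusion hZX z) : X) : Ω), hX (β (Subgroup.inclusion hZX z)).2⟩ : N) = y :=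
    hinj (e.trans hy.symm)
  have h3 : ((β (Subgroup.inclusion hZX z) : X) : Ω) = (y : Ω) := congrArg Subtype.val h2
  rw [h3]; exact hyZ

/-- The elements of `G` inducing on `X` an element of the subgroup `A` of `Aut(X)`. -/
def meetCmS (ι : N →* G) {X : Subgroup Ω} (hX : X ≤ N) (A : Subgroup (MulAut X)) : Subgroup G where
  carrier := {g | ∃ β ∈ A, MeetCmA ι hX g β}
  one_mem' := ⟨1, A.one_mem, meet_cm_A_one hX⟩
  mul_mem' := by
    rintro g h ⟨β, hβ, h1⟩ ⟨β', hβ', h2⟩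
    exact ⟨β * β', A.mul_mem hβ hβ', meet_cm_A_mul h1 h2⟩
  inv_mem' := by
    rintro g ⟨β, hβ, h1⟩
    exact ⟨β⁻¹, A.inv_mem hβ, meet_cm_A_inv h1⟩

theorem meet_cm_mem_S {X : Subgroup Ω} {hX : X ≤ N} {A : Subgroup (MulAut X)} {g : G} :
    g ∈ meetCmS ι hX A ↔ ∃ β ∈ A, MeetCmA ι hX g β := Iff.rfl

theorem meet_cm_S_mem (hinj : Function.Injective ι) {X : Subgroup Ω} {hX : X ≤ N} {A : Subgroup (MulAut X)} {g : G}
    (hg : g ∈ meetCmS ι hX A) {β : MulAut X} (hβ : MeetCmA ι hX g β) : β ∈ A := by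
  obtain ⟨β', hβ', h'⟩ := hg
  rw [meet_cm_A_unique hinj hβ h']
  exact hβ'

/-! ### the image of a subgroup of `N` in `G` -/

/-- `ι(X ∩ N)`. -/
def meetCmIm (ι : N →* G) (X : Subgroup Ω) : Subgroup G := (X.subgroupOf N).map ι

theorem meet_cm_mem_im {X : Subgroup Ω} {g : G} : g ∈ meetCmIm ι X ↔ ∃ x : N, (x : Ω) ∈ X ∧ ι x = g := by
  simp [meetCmIm, Subgroup.mem_map, Subgroup.mem_subgroupOf]

theorem meet_cm_map_mem_im (hinj : Function.Injective ι) {X : Subgroup Ω} (x : N) :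
    ι x ∈ meetCmIm ι X ↔ (x : Ω) ∈ X := by
  rw [meet_cm_mem_im]
  constructor
  · rintro ⟨y, hy, h⟩
    rw [← hinj h]; exact hy
  · intro h
    exact ⟨x, h, rfl⟩

theorem meet_cm_im_mono {X Z : Subgroup Ω} (h : X ≤ Z) : meetCmIm ι X ≤ meetCmIm ι Z := by
  intro g hg
  obtain ⟨x, hx, rfl⟩ := meet_cm_mem_im.mp hg
  exact meet_cm_mem_im.mpr ⟨x, h hx, rfl⟩

theorem meet_cm_im_le_range (X : Subgroup Ω) : meetCmIm ι X ≤ ι.range := by
  intro g hg
  obtain ⟨x, -, rfl⟩ := meet_cm_mem_im.mp hg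
  exact ⟨x, rfl⟩

theorem meet_cm_im_self : meetCmIm ι N = ι.range := by
  apply le_antisymm (meet_cm_im_le_range N)
  rintro _ ⟨x, rfl⟩
  exact meet_cm_mem_im.mpr ⟨x, x.2, rfl⟩

theorem meet_cm_im_card (hinj : Function.Injective ι) {X : Subgroup Ω} (hX : X ≤ N) :
    Nat.card (meetCmIm ι X) = Nat.card X := by
  unfold meetCmIm
  rw [Subgroup.card_map_of_injective hinj]
  exact Nat.card_congr (Subgroup.subgroupOfEquivOfLe hX).toEquiv

/-- `g` induces an automorphism of `X` iff it normalizes `ι(X)`. -/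
theorem meet_cm_A_normalizer {X : Subgroup Ω} {hX : X ≤ N} {g : G} {β : MulAut X} (h1 : MeetCmA ι hX g β) :
    g ∈ Subgroup.normalizer ((meetCmIm ι X : Subgroup G) : Set G) := by
  have key : ∀ (g : G) (β : MulAut X), MeetCmA ι hX g β → ∀ z ∈ meetCmIm ι X, g * z * g⁻¹ ∈ meetCmIm ι X := by
    intro g β h1 z hz
    obtain ⟨x, hx, rfl⟩ := meet_cm_mem_im.mp hz
    have e := h1 ⟨x, hx⟩
    rw [meet_cm_mem_im]
    exact ⟨⟨((β ⟨x, hx⟩ : X) : Ω), hX (β ⟨x, hx⟩).2⟩, (β ⟨x, hx⟩).2, e⟩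
  rw [Subgroup.mem_normalizer_iff]
  intro z
  constructor
  · exact key g β h1 z
  · intro hz
    have := key g⁻¹ β⁻¹ (meet_cm_A_inv h1) _ hz
    simpa [mul_assoc] using this

theorem meet_cm_A_of_normalizer (hinj : Function.Injective ι) {X : Subgroup Ω} (hX : X ≤ N) [Finite X] {g : G}
    (hg : g ∈ Subgroup.normalizer ((meetCmIm ι X : Subgroup G) : Set G)) : ∃ β : MulAut X, MeetCmA ι hX g β := by
  apply meet_cm_A_exists hinj g hX
  intro x
  have h1 : ι ⟨x, hX x.2⟩ ∈ meetCmIm ι X := meet_cm_mem_im.mpr ⟨⟨x, hX x.2⟩, x.2, rfl⟩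
  have h2 := (Subgroup.mem_normalizer_iff.mp hg _).mp h1
  obtain ⟨y, hy, hy2⟩ := meet_cm_mem_im.mp h2
  exact ⟨y, hy, hy2⟩

end Cfsg.Agent.MEET
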