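import Mathlib
import Cfsg.Agent.MEET.LocDefs
import Cfsg.Agent.Lead.FusionConj
import Cfsg.Agent.Lead.FusionSat
import Cfsg.Agent.Lead.FusionExtT

/-!
# Project MEET, file Pc, part 1: transport of automorphisms along isomorphisms of the system

Generic lemmas on `MeetTr` / `MeetRes` (definitions of `EngDefs`), on the images of `Q_K(U) = U C_K(U)` under an
isomorphism `ω : N → N'` of the system carrying `U` onto `U'`, `K` strongly closed.
-/

set_option autoImplicit false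
set_option linter.unusedSectionVars false
set_option linter.unusedVariables false

namespace Cfsg.Agent.MEET

open Cfsg Cfsg.FusionSystem Cfsg.Agent.Lead

universe u

variable {Ω : Type u} [Group Ω] {S : Subgroup Ω}

/-- `MeetTr φ a β` determines `β`: it is the transport of `a` along the isomorphism `P ≃ P'` given by `φ`. -/
theorem meet_pc_tr_eq {P P' : Subgroup Ω} (φ : P →* Ω) (hinj : Function.Injective φ) (hr : φ.range = P')
    (a : MulAut P) (β : MulAut P') (h : MeetTr φ a β) :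
    β = MulAut.congr (Fusion.equivOfRange φ hinj hr) a := by
  ext y
  set e := Fusion.equivOfRange φ hinj hr with he
  have h1 : φ (e.symm y) = y := Fusion.map_equivOfRange_symm φ hinj hr y
  have h2 := h (e.symm y) (h1 ▸ y.2)
  have h3 : (⟨φ (e.symm y), h1 ▸ y.2⟩ : P') = y := Subtype.ext h1
  rw [h3] at h2
  rw [h2]
  rfl

/-- the transport along `φ` satisfies `MeetTr`. -/
theorem meet_pc_tr_congr {P P' : Subgroup Ω} (φ : P →* Ω) (hinj : Function.Injective φ) (hr : φ.range = P')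
    (a : MulAut P) : MeetTr φ a (MulAut.congr (Fusion.equivOfRange φ hinj hr) a) := by
  intro x hx
  set e := Fusion.equivOfRange φ hinj hr with he
  have h1 : (⟨φ x, hx⟩ : P') = e x := Subtype.ext rfl
  rw [h1]
  show ((e (a (e.symm (e x))) : P') : Ω) = φ (a x)
  rw [MulEquiv.symm_apply_apply]
  rfl

theorem meet_pc_tr_iff {P P' : Subgroup Ω} (φ : P →* Ω) (hinj : Function.Injective φ) (hr : φ.range = P')
    (a : MulAut P) (β : MulAut P') :
    MeetTr φ a β ↔ β = MulAut.congr (Fusion.equivOfRange φ hinj hr) a :=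
  ⟨meet_pc_tr_eq φ hinj hr a β, fun h => h ▸ meet_pc_tr_congr φ hinj hr a⟩

/-- Transport of a subgroup generated by a set: it is enough to transport the generators. -/
theorem meet_pc_tr_closure {P P' : Subgroup Ω} (φ : P →* Ω) (hinj : Function.Injective φ) (hr : φ.range = P')
    (gens : Set (MulAut P)) (A' : Subgroup (MulAut P'))
    (hgen : ∀ a ∈ gens, ∀ β : MulAut P', MeetTr φ a β → β ∈ A')
    (a : MulAut P) (ha : a ∈ Subgroup.closure gens) (β : MulAut P') (hβ : MeetTr φ a β) : β ∈ A' := by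
  rw [meet_pc_tr_eq φ hinj hr a β hβ]
  set e := Fusion.equivOfRange φ hinj hr with he
  have hle : Subgroup.closure gens ≤ A'.comap (MulAut.congr e).toMonoidHom := by
    rw [Subgroup.closure_le]
    intro a' ha'
    exact hgen a' ha' _ (meet_pc_tr_congr φ hinj hr a')
  exact hle ha

/-- Transport of a join. -/
theorem meet_pc_tr_sup {P P' : Subgroup Ω} (φ : P →* Ω) (hinj : Function.Injective φ) (hr : φ.range = P')
    (A₁ A₂ : Subgroup (MulAut P)) (A' : Subgroup (MulAut P'))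
    (h₁ : ∀ a ∈ A₁, ∀ β : MulAut P', MeetTr φ a β → β ∈ A')
    (h₂ : ∀ a ∈ A₂, ∀ β : MulAut P', MeetTr φ a β → β ∈ A')
    (a : MulAut P) (ha : a ∈ A₁ ⊔ A₂) (β : MulAut P') (hβ : MeetTr φ a β) : β ∈ A' := by
  rw [meet_pc_tr_eq φ hinj hr a β hβ]
  set e := Fusion.equivOfRange φ hinj hr with he
  have hle : A₁ ⊔ A₂ ≤ A'.comap (MulAut.congr e).toMonoidHom := by
    refine sup_le ?_ ?_
    · intro a' ha'
      exact h₁ a' ha' _ (meet_pc_tr_congr φ hinj hr a')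
    · intro a' ha'
      exact h₂ a' ha' _ (meet_pc_tr_congr φ hinj hr a')
  exact hle ha

/-- `MeetTr` along a composite. -/
theorem meet_pc_tr_comp {P P' P'' : Subgroup Ω} (φ : P →* Ω) (hφ : ∀ x : P, φ x ∈ P') (ψ : P' →* Ω)
    (a : MulAut P) (β : MulAut P') (γ : MulAut P'') (h₁ : MeetTr φ a β) (h₂ : MeetTr ψ β γ) :
    MeetTr (ψ.comp (φ.codRestrict P' hφ)) a γ := by
  intro x hx
  have h3 := h₂ ⟨φ x, hφ x⟩ hx
  have h4 := h₁ x (hφ x)
  show ((γ ⟨ψ ⟨φ x, hφ x⟩, hx⟩ : P'') : Ω) = ψ ⟨φ (a x), hφ (a x)⟩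
  rw [h3]
  congr 1
  exact Subtype.ext h4

/-- `S` itself is strongly closed. -/
theorem meet_pc_stronglyClosed_top (F : FusionSystem S) : F.StronglyClosed S :=
  ⟨le_rfl, fun _ _ _ hφ x => (F.le_of_mem hφ).2 x⟩

/-- `C_K(U) ≤ N_S(U)` for `K ≤ S`. -/
theorem meet_pc_centralizerIn_le {K U : Subgroup Ω} (hKS : K ≤ S) : centralizerIn K U ≤ normalizerIn S U := by
  intro x hx
  exact ⟨hKS hx.1, Subgroup.centralizer_le_normalizer _ hx.2⟩

/-- `Q_K(U) ≤ N_S(U)` for `K ≤ S`, `U ≤ S`. -/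
theorem meet_pc_Q_le {K U : Subgroup Ω} (hKS : K ≤ S) (hUS : U ≤ S) : meetQ K U ≤ normalizerIn S U :=
  sup_le (Fusion.le_normalizerIn hUS) (meet_pc_centralizerIn_le hKS)

/-- `Q_K(U) ≤ Q_S(U)` for `K ≤ S`. -/
theorem meet_pc_Q_mono {K U : Subgroup Ω} (hKS : K ≤ S) : meetQ K U ≤ meetQ S U :=
  sup_le_sup_left (inf_le_inf_right _ hKS) U

/-- `Q_K(U) ≤ K` for `U ≤ K`. -/
theorem meet_pc_Q_le_K {K U : Subgroup Ω} (hUK : U ≤ K) : meetQ K U ≤ K :=
  sup_le hUK inf_le_left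

/-- Forward image: a map `ω` of the system defined on `N ≥ Q_K(U)` which carries `U` onto `U'` maps `Q_K(U)` into
`Q_K(U')` (`K` strongly closed). -/
theorem meet_pc_map_Q (F : FusionSystem S) {K : Subgroup Ω} (hK : F.StronglyClosed K)
    {N U U' : Subgroup Ω} {ω : N →* Ω} (hω : ω ∈ F.Hom N)
    (hUN : U ≤ N) (hCN : centralizerIn K U ≤ N) (hωU : ∀ x : N, (x : Ω) ∈ U → ω x ∈ U')
    (hωU' : ∀ y ∈ U', ∃ x : N, (x : Ω) ∈ U ∧ ω x = y)
    (x : N) (hx : (x : Ω) ∈ meetQ K U) : ω x ∈ meetQ K U' := by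
  have hU : U ≤ ((meetQ K U').comap ω).map N.subtype := by
    intro u hu
    exact ⟨⟨u, hUN hu⟩, (le_sup_left : U' ≤ meetQ K U') (hωU ⟨u, hUN hu⟩ hu), rfl⟩
  have hC : centralizerIn K U ≤ ((meetQ K U').comap ω).map N.subtype := by
    intro c hc
    refine ⟨⟨c, hCN hc⟩, (le_sup_right : centralizerIn K U' ≤ meetQ K U') ⟨?_, ?_⟩, rfl⟩
    · exact Fusion.map_mem_of_stronglyClosed F hK hω ⟨c, hCN hc⟩ hc.1
    · refine Subgroup.mem_centralizer_iff.mpr ?_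
      intro y hy
      obtain ⟨u, hu, rfl⟩ := hωU' y hy
      have hcu : (u : Ω) * c = c * (u : Ω) := (Subgroup.mem_centralizer_iff.mp hc.2) u hu
      have : u * ⟨c, hCN hc⟩ = ⟨c, hCN hc⟩ * u := Subtype.ext hcu
      rw [← map_mul, ← map_mul, this]
  have hle : meetQ K U ≤ ((meetQ K U').comap ω).map N.subtype := sup_le hU hC
  obtain ⟨z, hz, hzx⟩ := hle hx
  have : z = x := Subtype.ext hzx
  rw [← this]
  exact hz

/-- The image of `Q_K(U)` under an isomorphism `ω : N → N'` of the system with inverse `ω'`, `ω(U) = U'`, is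
`Q_K(U')`. -/
theorem meet_pc_range_Q (F : FusionSystem S) {K : Subgroup Ω} (hK : F.StronglyClosed K)
    {N N' U U' : Subgroup Ω} {ω : N →* Ω} (hω : ω ∈ F.Hom N) {ω' : N' →* Ω} (hω' : ω' ∈ F.Hom N')
    (hωN' : ∀ x : N, ω x ∈ N') (hω'N : ∀ y : N', ω' y ∈ N)
    (hinv' : ∀ y : N', ω ⟨ω' y, hω'N y⟩ = y)
    (hUN : U ≤ N) (hU'N' : U' ≤ N') (hCN : centralizerIn K U ≤ N) (hCN' : centralizerIn K U' ≤ N')
    (hωU : ∀ x : N, (x : Ω) ∈ U → ω x ∈ U') (hω'U : ∀ y : N', (y : Ω) ∈ U' → ω' y ∈ U)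
    (hinv : ∀ x : N, ω' ⟨ω x, hωN' x⟩ = x)
    (hQN : meetQ K U ≤ N) :
    (ω.comp (Subgroup.inclusion hQN)).range = meetQ K U' := by
  have hQN' : meetQ K U' ≤ N' := sup_le hU'N' hCN'
  apply le_antisymm
  · rintro _ ⟨x, rfl⟩
    refine meet_pc_map_Q F hK hω hUN hCN hωU ?_ (Subgroup.inclusion hQN x) x.2
    intro y hy
    exact ⟨⟨ω' ⟨y, hU'N' hy⟩, hω'N _⟩, hω'U ⟨y, hU'N' hy⟩ hy, hinv' ⟨y, hU'N' hy⟩⟩
  · intro y hy
    have h1 : ω' ⟨y, hQN' hy⟩ ∈ meetQ K U := by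
      refine meet_pc_map_Q F hK hω' hU'N' hCN' hω'U ?_ ⟨y, hQN' hy⟩ hy
      intro x hx
      exact ⟨⟨ω ⟨x, hUN hx⟩, hωN' _⟩, hωU ⟨x, hUN hx⟩ hx, hinv ⟨x, hUN hx⟩⟩
    exact ⟨⟨ω' ⟨y, hQN' hy⟩, h1⟩, hinv' ⟨y, hQN' hy⟩⟩

end Cfsg.Agent.MEET
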