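import Mathlib
import Cfsg.Agent.MEET.PcTr
import Cfsg.Agent.Lead.FusionStrongInvD
import Cfsg.Agent.Lead.FusionSat3

/-!
# Project MEET, file Pc, part 2: (INV), model-free half

An isomorphism `ω : N_S(U) → N_S(U')` of `F` with `ω(U) = U'` transports `B0(U)` onto `B0(U')`, restrictions to
restrictions and `Aut_W(U)` into `Aut_W(U')`; hence `A0(U)` into `A0(U')` (`meet_pc_A0_tr`).
-/

set_option autoImplicit false
set_option linter.unusedSectionVars false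
set_option linter.unusedVariables false

namespace Cfsg.Agent.MEET

open Cfsg Cfsg.FusionSystem Cfsg.Agent.Lead Cfsg.Agent.Lead.StrongInv

universe u

variable {Ω : Type u} [Group Ω] {S : Subgroup Ω}

/-- Transport of `MeetResIn` along a map `ψ : Q → Q'` of `F` (`E` strongly invariant). -/
theorem meet_pc_resIn_tr {T : Subgroup Ω} (F : FusionSystem S) (E : FusionSystem T) (hSI : SI F E)
    {Q Q' R R' : Subgroup Ω} (ψ : Q →* Ω) (hψ : ψ ∈ F.Hom Q) (hrQ : ψ.range = Q') (hRT : R ≤ T)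
    (b : MulAut Q) (b' : MulAut Q') (htr : MeetTr ψ b b') (hres : MeetResIn E b R)
    (hrR : ∀ hRQ : R ≤ Q, (ψ.comp (Subgroup.inclusion hRQ)).range = R') :
    MeetResIn E b' R' := by
  obtain ⟨hRQ, hφ, hval⟩ := hres
  have hrR' := hrR hRQ
  have hψR : ψ.comp (Subgroup.inclusion hRQ) ∈ F.Hom R := Fusion.restrict_mem F hψ hRQ
  have hR'Q' : R' ≤ Q' := by
    rw [← hrR', ← hrQ]
    rintro _ ⟨x, rfl⟩
    exact ⟨Subgroup.inclusion hRQ x, rfl⟩
  obtain ⟨χ, hχ, hχv⟩ := hSI R R le_rfl hRT _ hφ hval _ hψR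
  have heq : (R.subgroupOf R).map (ψ.comp (Subgroup.inclusion hRQ)) = R' := by
    rw [← hrR']
    ext y
    constructor
    · rintro ⟨x, -, rfl⟩
      exact ⟨x, rfl⟩
    · rintro ⟨x, rfl⟩
      exact ⟨x, by rw [SetLike.mem_coe, Subgroup.mem_subgroupOf]; exact x.2, rfl⟩
  obtain ⟨χ', hχ', hχ'v⟩ := Fusion.exists_hom_of_eq E heq hχ
  have hsurj : ∀ y : R', ∃ x : R, (ψ.comp (Subgroup.inclusion hRQ)) x = y := by
    intro y
    have h : (y : Ω) ∈ (ψ.comp (Subgroup.inclusion hRQ)).range := by rw [hrR']; exact y.2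
    exact h
  have hkey : ∀ (x : R) (hy : (ψ.comp (Subgroup.inclusion hRQ)) x ∈ R'),
      ((b' (Subgroup.inclusion hR'Q' ⟨(ψ.comp (Subgroup.inclusion hRQ)) x, hy⟩) : Q') : Ω) =
        ψ (b (Subgroup.inclusion hRQ x)) := by
    intro x hy
    exact htr (Subgroup.inclusion hRQ x) (hR'Q' hy)
  refine ⟨hR'Q', ?_, ?_⟩
  · convert hχ' using 1
    ext y
    obtain ⟨x, hx⟩ := hsurj y
    have hy : (ψ.comp (Subgroup.inclusion hRQ)) x ∈ R' := hx ▸ y.2
    have hye : y = ⟨(ψ.comp (Subgroup.inclusion hRQ)) x, hy⟩ := Subtype.ext hx.symm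
    rw [hye]
    show ((b' (Subgroup.inclusion hR'Q' ⟨(ψ.comp (Subgroup.inclusion hRQ)) x, hy⟩) : Q') : Ω) = _
    rw [hkey x hy]
    have hmem : (ψ.comp (Subgroup.inclusion hRQ)) x ∈ (R.subgroupOf R).map (ψ.comp (Subgroup.inclusion hRQ)) :=
      heq ▸ hy
    rw [hχ'v _ hmem hy]
    exact (hχv x hmem).symm
  · intro y
    obtain ⟨x, hx⟩ := hsurj y
    have hy : (ψ.comp (Subgroup.inclusion hRQ)) x ∈ R' := hx ▸ y.2
    have hye : y = ⟨(ψ.comp (Subgroup.inclusion hRQ)) x, hy⟩ := Subtype.ext hx.symm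
    rw [hye, hkey x hy, ← hrR']
    exact ⟨⟨_, hval x⟩, rfl⟩

/-- Restriction commutes with transport. -/
theorem meet_pc_res_tr {Q Q' U U' : Subgroup Ω} (ψ : Q →* Ω) (hUQ : U ≤ Q) (hU'Q' : U' ≤ Q')
    (b : MulAut Q) (b' : MulAut Q') (htr : MeetTr ψ b b')
    (β : MulAut U) (β' : MulAut U') (hres : MeetRes hUQ b β)
    (htrU : MeetTr (ψ.comp (Subgroup.inclusion hUQ)) β β')
    (hsurj : ∀ y : U', ∃ x : U, ψ (Subgroup.inclusion hUQ x) = y) :
    MeetRes hU'Q' b' β' := by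
  intro y
  obtain ⟨x, hx⟩ := hsurj y
  have hy : (ψ.comp (Subgroup.inclusion hUQ)) x ∈ U' := hx ▸ y.2
  have hye : y = ⟨(ψ.comp (Subgroup.inclusion hUQ)) x, hy⟩ := Subtype.ext hx.symm
  rw [hye]
  have h1 := htrU x hy
  rw [h1]
  have h2 := htr (Subgroup.inclusion hUQ x) (hU'Q' hy)
  have h3 : (Subgroup.inclusion hU'Q' ⟨(ψ.comp (Subgroup.inclusion hUQ)) x, hy⟩ : Q') =
      ⟨ψ (Subgroup.inclusion hUQ x), hU'Q' hy⟩ := rfl
  rw [h3, h2]
  show ψ (Subgroup.inclusion hUQ (β x)) = ψ (b (Subgroup.inclusion hUQ x))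
  congr 1
  exact Subtype.ext (hres x)

/-- Transport of `Aut_W(P)` along a map `χ` of `F` defined on `N ≤ S`, `P ≤ N`, `N_W(P) ≤ N`: the transported
automorphism is induced by an element of `W` (`W` strongly closed). -/
theorem meet_pc_autW_tr (F : FusionSystem S) {W : Subgroup Ω} (hW : F.StronglyClosed W)
    {N P P' : Subgroup Ω} (χ : N →* Ω) (hχ : χ ∈ F.Hom N) (hPN : P ≤ N)
    (hNWN : normalizerIn W P ≤ N) [Finite P]
    (hsurj : ∀ y : P', ∃ x : P, χ (Subgroup.inclusion hPN x) = y)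
    (α : MulAut P) (hα : α ∈ autInducedBy W P) (β : MulAut P')
    (htr : MeetTr (χ.comp (Subgroup.inclusion hPN)) α β) : β ∈ autInducedBy W P' := by
  rw [mem_autInducedBy_iff] at hα ⊢
  obtain ⟨g, hgW, hg⟩ := hα
  have hgN : g ∈ Subgroup.normalizer (P : Set Ω) := by
    apply mem_normalizer_of_conj_mem_of_finite P g
    intro y hy
    have := hg ⟨y, hy⟩
    rw [← this]
    exact (α ⟨y, hy⟩).2
  have hgN' : g ∈ N := hNWN ⟨hgW, hgN⟩
  refine ⟨χ ⟨g, hgN'⟩, Fusion.map_mem_of_stronglyClosed F hW hχ ⟨g, hgN'⟩ hgW, ?_⟩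
  intro y
  obtain ⟨x, hx⟩ := hsurj y
  have hy : (χ.comp (Subgroup.inclusion hPN)) x ∈ P' := hx ▸ y.2
  have hye : y = ⟨(χ.comp (Subgroup.inclusion hPN)) x, hy⟩ := Subtype.ext hx.symm
  rw [hye, htr x hy]
  show χ (Subgroup.inclusion hPN (α x)) = χ ⟨g, hgN'⟩ * χ (Subgroup.inclusion hPN x) * (χ ⟨g, hgN'⟩)⁻¹
  rw [← map_inv, ← map_mul, ← map_mul]
  congr 1
  exact Subtype.ext (hg x)

/-- A pair of mutually inverse isomorphisms `ω : N_S(U) → N_S(U')`, `ω' : N_S(U') → N_S(U)` of `F` with `ω(U) = U'`. -/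
structure MeetNIso (F : FusionSystem S) (U U' : Subgroup Ω) (ω : ↥(normalizerIn S U) →* Ω)
    (ω' : ↥(normalizerIn S U') →* Ω) : Prop where
  hω : ω ∈ F.Hom (normalizerIn S U)
  hω' : ω' ∈ F.Hom (normalizerIn S U')
  hωN : ∀ x : ↥(normalizerIn S U), ω x ∈ normalizerIn S U'
  hω'N : ∀ y : ↥(normalizerIn S U'), ω' y ∈ normalizerIn S U
  hinv : ∀ x : ↥(normalizerIn S U), ω' ⟨ω x, hωN x⟩ = x
  hinv' : ∀ y : ↥(normalizerIn S U'), ω ⟨ω' y, hω'N y⟩ = y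
  hωU : ∀ x : ↥(normalizerIn S U), (x : Ω) ∈ U → ω x ∈ U'
  hω'U : ∀ y : ↥(normalizerIn S U'), (y : Ω) ∈ U' → ω' y ∈ U

theorem MeetNIso.symm {F : FusionSystem S} {U U' : Subgroup Ω} {ω : ↥(normalizerIn S U) →* Ω}
    {ω' : ↥(normalizerIn S U') →* Ω} (h : MeetNIso F U U' ω ω') : MeetNIso F U' U ω' ω :=
  ⟨h.hω', h.hω, h.hω'N, h.hωN, h.hinv', h.hinv, h.hω'U, h.hωU⟩

/-- the image of `Q_K(U)` under `ω` is `Q_K(U')`. -/
theorem MeetNIso.range_Q {F : FusionSystem S} {U U' : Subgroup Ω} {ω : ↥(normalizerIn S U) →* Ω}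
    {ω' : ↥(normalizerIn S U') →* Ω} (h : MeetNIso F U U' ω ω') (hUS : U ≤ S) (hU'S : U' ≤ S)
    {K : Subgroup Ω} (hK : F.StronglyClosed K) (hQN : meetQ K U ≤ normalizerIn S U) :
    (ω.comp (Subgroup.inclusion hQN)).range = meetQ K U' :=
  meet_pc_range_Q F hK h.hω h.hω' h.hωN h.hω'N h.hinv' (Fusion.le_normalizerIn hUS)
    (Fusion.le_normalizerIn hU'S) (meet_pc_centralizerIn_le hK.1) (meet_pc_centralizerIn_le hK.1)
    h.hωU h.hω'U h.hinv hQN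

/-- the image of `U` under `ω` is `U'`. -/
theorem MeetNIso.range_U {F : FusionSystem S} {U U' : Subgroup Ω} {ω : ↥(normalizerIn S U) →* Ω}
    {ω' : ↥(normalizerIn S U') →* Ω} (h : MeetNIso F U U' ω ω') (hUS : U ≤ S) (hU'S : U' ≤ S)
    (hUN : U ≤ normalizerIn S U) :
    (ω.comp (Subgroup.inclusion hUN)).range = U' := by
  apply le_antisymm
  · rintro _ ⟨x, rfl⟩
    exact h.hωU _ x.2
  · intro y hy
    have hyN : y ∈ normalizerIn S U' := Fusion.le_normalizerIn hU'S hy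
    exact ⟨⟨ω' ⟨y, hyN⟩, h.hω'U ⟨y, hyN⟩ hy⟩, h.hinv' ⟨y, hyN⟩⟩

/-- **Transport of `B0`** along `ω`. -/
theorem meet_pc_B0_tr (p : ℕ) {F : FusionSystem S} {T₁ T₂ : Subgroup Ω} {E₁ : FusionSystem T₁}
    {E₂ : FusionSystem T₂} (hE₁ : E₁.IsInvariantIn F) (hE₂ : E₂.IsInvariantIn F)
    {U U' : Subgroup Ω} {ω : ↥(normalizerIn S U) →* Ω} {ω' : ↥(normalizerIn S U') →* Ω}
    (h : MeetNIso F U U' ω ω') (hUW : U ≤ T₁ ⊓ T₂) (hU'W : U' ≤ T₁ ⊓ T₂)
    (hQN : meetQ S U ≤ normalizerIn S U)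
    (b : MulAut ↥(meetQ S U)) (hb : b ∈ meetB0 p F E₁ E₂ U) (b' : MulAut ↥(meetQ S U'))
    (htr : MeetTr (ω.comp (Subgroup.inclusion hQN)) b b') : b' ∈ meetB0 p F E₁ E₂ U' := by
  have hT₁ : F.StronglyClosed T₁ := hE₁.2.1
  have hT₂ : F.StronglyClosed T₂ := hE₂.2.1
  have hUS : U ≤ S := hUW.trans (inf_le_left.trans hT₁.1)
  have hU'S : U' ≤ S := hU'W.trans (inf_le_left.trans hT₁.1)
  have hSsc := meet_pc_stronglyClosed_top F
  have hψ : ω.comp (Subgroup.inclusion hQN) ∈ F.Hom (meetQ S U) := Fusion.restrict_mem F h.hω hQN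
  have hinj := F.injective_of_mem hψ
  have hrQ : (ω.comp (Subgroup.inclusion hQN)).range = meetQ S U' := h.range_Q hUS hU'S hSsc hQN
  obtain ⟨hbF, hbo, hbU, hb₁, hb₂⟩ := hb
  have hbe := meet_pc_tr_eq _ hinj hrQ b b' htr
  have hsurj : ∀ y : ↥(meetQ S U'), ∃ x : ↥(meetQ S U), ω (Subgroup.inclusion hQN x) = y := by
    intro y
    have hy : (y : Ω) ∈ (ω.comp (Subgroup.inclusion hQN)).range := by rw [hrQ]; exact y.2
    exact hy
  refine ⟨?_, ?_, ?_, ?_, ?_⟩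
  · rw [hbe]
    exact Fusion.congr_mem_autGroup F hψ hrQ b hbF
  · rw [hbe, MulEquiv.orderOf_eq]
    exact hbo
  · intro y
    obtain ⟨x, hx⟩ := hsurj y
    have hy : (ω.comp (Subgroup.inclusion hQN)) x ∈ meetQ S U' := hx ▸ y.2
    have hye : y = ⟨(ω.comp (Subgroup.inclusion hQN)) x, hy⟩ := Subtype.ext hx.symm
    rw [hye, htr x hy]
    show (ω (Subgroup.inclusion hQN x))⁻¹ * ω (Subgroup.inclusion hQN (b x)) ∈ U'
    rw [← map_inv, ← map_mul]
    exact h.hωU _ (hbU x)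
  · have hRT : meetQ T₁ U ≤ T₁ := meet_pc_Q_le_K (hUW.trans inf_le_left)
    refine meet_pc_resIn_tr F E₁ (SI_of_invariant F E₁ hE₁) _ hψ hrQ hRT b b' htr hb₁ ?_
    intro hRQ
    have hQ1N : meetQ T₁ U ≤ normalizerIn S U := hRQ.trans hQN
    exact h.range_Q hUS hU'S hT₁ hQ1N
  · have hRT : meetQ T₂ U ≤ T₂ := meet_pc_Q_le_K (hUW.trans inf_le_right)
    refine meet_pc_resIn_tr F E₂ (SI_of_invariant F E₂ hE₂) _ hψ hrQ hRT b b' htr hb₂ ?_
    intro hRQ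
    have hQ2N : meetQ T₂ U ≤ normalizerIn S U := hRQ.trans hQN
    exact h.range_Q hUS hU'S hT₂ hQ2N

/-- **Transport of `A0`** along `ω`. -/
theorem meet_pc_A0_tr [Finite S] (p : ℕ) {F : FusionSystem S} {T₁ T₂ : Subgroup Ω} {E₁ : FusionSystem T₁}
    {E₂ : FusionSystem T₂} (hE₁ : E₁.IsInvariantIn F) (hE₂ : E₂.IsInvariantIn F)
    (hW : F.StronglyClosed (T₁ ⊓ T₂))
    {U U' : Subgroup Ω} {ω : ↥(normalizerIn S U) →* Ω} {ω' : ↥(normalizerIn S U') →* Ω}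
    (h : MeetNIso F U U' ω ω') (hUW : U ≤ T₁ ⊓ T₂) (hU'W : U' ≤ T₁ ⊓ T₂)
    (hUN : U ≤ normalizerIn S U)
    (a : MulAut U) (ha : a ∈ meetA0 p F E₁ E₂ U) (β : MulAut U')
    (hβ : MeetTr (ω.comp (Subgroup.inclusion hUN)) a β) : β ∈ meetA0 p F E₁ E₂ U' := by
  have hWS : T₁ ⊓ T₂ ≤ S := hW.1
  have hUS : U ≤ S := hUW.trans hWS
  have hU'S : U' ≤ S := hU'W.trans hWS
  have hfinU : Finite U := Fusion.finite_of_le hUS
  have hQN : meetQ S U ≤ normalizerIn S U := meet_pc_Q_le le_rfl hUS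
  have hφ : ω.comp (Subgroup.inclusion hUN) ∈ F.Hom U := Fusion.restrict_mem F h.hω hUN
  have hinj := F.injective_of_mem hφ
  have hr : (ω.comp (Subgroup.inclusion hUN)).range = U' := h.range_U hUS hU'S hUN
  have hψ : ω.comp (Subgroup.inclusion hQN) ∈ F.Hom (meetQ S U) := Fusion.restrict_mem F h.hω hQN
  have hinjQ := F.injective_of_mem hψ
  have hrQ : (ω.comp (Subgroup.inclusion hQN)).range = meetQ S U' :=
    h.range_Q hUS hU'S (meet_pc_stronglyClosed_top F) hQN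
  have hsurjU : ∀ y : U', ∃ x : U, ω (Subgroup.inclusion hUN x) = y := by
    intro y
    have hy : (y : Ω) ∈ (ω.comp (Subgroup.inclusion hUN)).range := by rw [hr]; exact y.2
    exact hy
  unfold meetA0 at ha
  refine meet_pc_tr_sup _ hinj hr _ _ _ ?_ ?_ a ha β hβ
  · intro a₁ ha₁ β₁ hβ₁
    refine meet_pc_tr_closure _ hinj hr _ _ ?_ a₁ ha₁ β₁ hβ₁
    rintro β₀ ⟨b, hb, hres⟩ β' hβ'
    have htr := meet_pc_tr_congr _ hinjQ hrQ b
    have hb' := meet_pc_B0_tr p hE₁ hE₂ h hUW hU'W hQN b hb _ htr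
    refine (le_sup_left : _ ≤ meetA0 p F E₁ E₂ U') (Subgroup.subset_closure ⟨_, hb', ?_⟩)
    refine meet_pc_res_tr (ω.comp (Subgroup.inclusion hQN)) (meet_le_Q S U) (meet_le_Q S U') b _ htr β₀ β' hres
      (fun x hx => hβ' x hx) ?_
    intro y
    obtain ⟨x, hx⟩ := hsurjU y
    exact ⟨x, hx⟩
  · intro a₂ ha₂ β₂ hβ₂
    refine (le_sup_right : _ ≤ meetA0 p F E₁ E₂ U') ?_
    refine meet_pc_autW_tr F hW ω h.hω hUN ?_ ?_ a₂ ha₂ β₂ hβ₂
    · exact inf_le_inf_right _ hWS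
    · intro y
      obtain ⟨x, hx⟩ := hsurjU y
      exact ⟨x, hx⟩

/-- Two conjugate fully normalized subgroups: there is an isomorphism of `F` between their normalizers. -/
theorem meet_pc_exists_niso [Finite S] (p : ℕ) [Fact p.Prime] (hS : IsPGroup p S) (F : FusionSystem S)
    (hF : F.IsSaturated p) {U U' : Subgroup Ω} (hU : F.IsFullyNormalized U) (hU' : F.IsFullyNormalized U')
    (hconj : F.IsConj U U') :
    ∃ (ω : ↥(normalizerIn S U) →* Ω) (ω' : ↥(normalizerIn S U') →* Ω), MeetNIso F U U' ω ω' := by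
  obtain ⟨hfc, hfa⟩ := Fusion.fullyCentralized_fullyAutomized_of_fullyNormalized p hS F hF hU'
  have hrec : F.IsReceptive U' := Fusion.receptive_of_fullyCentralized p hS F hF hfc
  obtain ⟨ω, hω, hωN, hωU⟩ := Fusion.exists_hom_normalizerIn p hS F hfa hrec hconj
  have hinj := F.injective_of_mem hω
  have hfinN : Finite ↥(normalizerIn S U) := Fusion.finite_of_le inf_le_left
  have hfinN' : Finite ↥(normalizerIn S U') := Fusion.finite_of_le inf_le_left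
  have hcard : Nat.card ↥(normalizerIn S U') ≤ Nat.card ↥(normalizerIn S U) := hU.2 U' hconj
  have hr : ω.range = normalizerIn S U' := by
    have hle : ω.range ≤ normalizerIn S U' := by
      rintro _ ⟨x, rfl⟩
      exact hωN x
    have hc : Nat.card ω.range = Nat.card ↥(normalizerIn S U) :=
      (Nat.card_congr (Equiv.ofInjective ω hinj)).symm
    exact Subgroup.eq_of_le_of_card_ge hle (by rw [hc]; exact hcard)
  obtain ⟨ω', hω', hinv, hr'⟩ := Fusion.exists_inv F hω hr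
  have hω'N : ∀ y : ↥(normalizerIn S U'), ω' y ∈ normalizerIn S U := by
    intro y
    rw [← hr']
    exact ⟨y, rfl⟩
  have hinv' : ∀ y : ↥(normalizerIn S U'), ω ⟨ω' y, hω'N y⟩ = y := by
    intro y
    have hy : (y : Ω) ∈ ω.range := by rw [hr]; exact y.2
    obtain ⟨x, hx⟩ := hy
    have h1 : y = ⟨ω x, hωN x⟩ := Subtype.ext hx.symm
    rw [h1]
    congr 1
    exact Subtype.ext (hinv x (hωN x))
  have hωU1 : ∀ x : ↥(normalizerIn S U), (x : Ω) ∈ U → ω x ∈ U' := by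
    intro x hx
    rw [← hωU]
    exact ⟨x, hx, rfl⟩
  refine ⟨ω, ω', hω, hω', hωN, hω'N, fun x => hinv x (hωN x), hinv', hωU1, ?_⟩
  intro y hy
  have hy' : (y : Ω) ∈ (U.subgroupOf (normalizerIn S U)).map ω := by rw [hωU]; exact hy
  obtain ⟨x, hx, hxy⟩ := hy'
  have h1 : y = ⟨ω x, hωN x⟩ := Subtype.ext hxy.symm
  rw [h1, hinv x (hωN x)]
  exact hx

/-- **(INV)**, given that `A0(U')` is normalized by `Aut_F(U')`: every isomorphism of `F` between fully normalized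
members of the family transports `A0`. -/
theorem meet_pc_A0_inv_of_normal [Finite S] (p : ℕ) [Fact p.Prime] (hS : IsPGroup p S) {F : FusionSystem S}
    (hF : F.IsSaturated p) {T₁ T₂ : Subgroup Ω} {E₁ : FusionSystem T₁} {E₂ : FusionSystem T₂}
    (hE₁ : E₁.IsInvariantIn F) (hE₂ : E₂.IsInvariantIn F) (hW : F.StronglyClosed (T₁ ⊓ T₂))
    {U U' : Subgroup Ω} (hU : U ∈ meetUf F (T₁ ⊓ T₂)) (hU' : U' ∈ meetUf F (T₁ ⊓ T₂))
    (hnorm : ∀ α ∈ F.autGroup U', ∀ β ∈ meetA0 p F E₁ E₂ U', α * β * α⁻¹ ∈ meetA0 p F E₁ E₂ U')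
    (φ : U →* Ω) (hφ : φ ∈ F.Hom U) (hr : φ.range = U') (a : MulAut U) (ha : a ∈ meetA0 p F E₁ E₂ U)
    (β : MulAut U') (hβ : MeetTr φ a β) : β ∈ meetA0 p F E₁ E₂ U' := by
  have hUW : U ≤ T₁ ⊓ T₂ := hU.1.1
  have hU'W : U' ≤ T₁ ⊓ T₂ := hU'.1.1
  have hUS : U ≤ S := hUW.trans hW.1
  have hU'S : U' ≤ S := hU'W.trans hW.1
  have hUN : U ≤ normalizerIn S U := Fusion.le_normalizerIn hUS
  obtain ⟨ω, ω', hiso⟩ := meet_pc_exists_niso p hS F hF hU.2 hU'.2 ⟨φ, hφ, hr⟩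
  have hφ₀ : ω.comp (Subgroup.inclusion hUN) ∈ F.Hom U := Fusion.restrict_mem F hiso.hω hUN
  have hinj₀ := F.injective_of_mem hφ₀
  have hr₀ : (ω.comp (Subgroup.inclusion hUN)).range = U' := hiso.range_U hUS hU'S hUN
  have hinj := F.injective_of_mem hφ
  set e₀ := Fusion.equivOfRange (ω.comp (Subgroup.inclusion hUN)) hinj₀ hr₀ with he₀
  set e := Fusion.equivOfRange φ hinj hr with he
  have hβ₀ : MulAut.congr e₀ a ∈ meetA0 p F E₁ E₂ U' :=
    meet_pc_A0_tr p hE₁ hE₂ hW hiso hUW hU'W hUN a ha _ (meet_pc_tr_congr _ hinj₀ hr₀ a)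
  -- the automorphism `α = φ φ₀⁻¹` of `U'`
  have hα : (e₀.symm.trans e : MulAut U') ∈ F.autGroup U' := by
    rw [Fusion.mem_autGroup_iff F hU'S]
    have h1 := Fusion.equivOfRange_symm_mem F hφ₀ hr₀
    have h2 := F.comp_mem h1 hφ (fun y => (e₀.symm y).2)
    convert h2 using 1
    ext y
    rfl
  have hβe : β = (e₀.symm.trans e : MulAut U') * MulAut.congr e₀ a * (e₀.symm.trans e : MulAut U')⁻¹ := by
    rw [meet_pc_tr_eq φ hinj hr a β hβ]
    ext y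
    show ((e (a (e.symm y)) : U') : Ω) = ((e (e₀.symm (e₀ (a (e₀.symm (e₀ (e.symm y)))))) : U') : Ω)
    rw [MulEquiv.symm_apply_apply, MulEquiv.symm_apply_apply]
  rw [hβe]
  exact hnorm _ hα _ hβ₀

end Cfsg.Agent.MEET
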