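import Mathlib
import Cfsg.Agent.MEET.PcInv
import Cfsg.Agent.MEET.Frat
import Cfsg.Agent.MEET.CmA1
import Cfsg.Agent.Lead.FusionSat2

set_option autoImplicit false
set_option linter.style.haveILetI false
set_option linter.unusedSectionVars false
set_option linter.unusedVariables false

/-!
# Project MEET, (CM-a), step (iv): transport of `B0(R)` to a fully normalized conjugate of a fully centralized `R`

If `R` is a member of the family which is fully centralized in `F`, then the restriction to `R` of every `b ∈ B0(R)` lies in `A(R)`.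
-/

namespace Cfsg.Agent.MEET

open Cfsg Cfsg.FusionSystem Cfsg.Agent.Lead Cfsg.Agent.Lead.StrongInv

universe u

variable {Ω : Type u} [Group Ω] {S : Subgroup Ω}

/-- Transport of `B0` along an isomorphism `ψ : Q_U → Q_{U'}` of `F` with `ψ(U) ≤ U'` and `ψ(Q_i^U) = Q_i^{U'}`. -/
theorem meet_cm_B0_tr (p : ℕ) {F : FusionSystem S} {T₁ T₂ : Subgroup Ω} {E₁ : FusionSystem T₁}
    {E₂ : FusionSystem T₂} (hE₁ : E₁.IsInvariantIn F) (hE₂ : E₂.IsInvariantIn F) {U U' : Subgroup Ω}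
    (hUW : U ≤ T₁ ⊓ T₂) (ψ : ↥(meetQ S U) →* Ω) (hψ : ψ ∈ F.Hom (meetQ S U)) (hrQ : ψ.range = meetQ S U')
    (hψU : ∀ x : ↥(meetQ S U), (x : Ω) ∈ U → ψ x ∈ U')
    (hr₁ : ∀ h : meetQ T₁ U ≤ meetQ S U, (ψ.comp (Subgroup.inclusion h)).range = meetQ T₁ U')
    (hr₂ : ∀ h : meetQ T₂ U ≤ meetQ S U, (ψ.comp (Subgroup.inclusion h)).range = meetQ T₂ U')
    (b : MulAut ↥(meetQ S U)) (hb : b ∈ meetB0 p F E₁ E₂ U) (b' : MulAut ↥(meetQ S U'))
    (htr : MeetTr ψ b b') : b' ∈ meetB0 p F E₁ E₂ U' := by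
  have hinj := F.injective_of_mem hψ
  obtain ⟨hbF, hbo, hbU, hb₁, hb₂⟩ := hb
  have hbe := meet_pc_tr_eq _ hinj hrQ b b' htr
  have hsurj : ∀ y : ↥(meetQ S U'), ∃ x : ↥(meetQ S U), ψ x = y := by
    intro y
    have hy : (y : Ω) ∈ ψ.range := by rw [hrQ]; exact y.2
    exact hy
  refine ⟨?_, ?_, ?_, ?_, ?_⟩
  · rw [hbe]
    exact Fusion.congr_mem_autGroup F hψ hrQ b hbF
  · rw [hbe, MulEquiv.orderOf_eq]
    exact hbo
  · intro y
    obtain ⟨x, hx⟩ := hsurj y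
    have hy : ψ x ∈ meetQ S U' := hx ▸ y.2
    have hye : y = ⟨ψ x, hy⟩ := Subtype.ext hx.symm
    rw [hye, htr x hy]
    show (ψ x)⁻¹ * ψ (b x) ∈ U'
    rw [← map_inv, ← map_mul]
    exact hψU _ (hbU x)
  · have hRT : meetQ T₁ U ≤ T₁ := meet_pc_Q_le_K (hUW.trans inf_le_left)
    exact meet_pc_resIn_tr F E₁ (SI_of_invariant F E₁ hE₁) ψ hψ hrQ hRT b b' htr hb₁ hr₁
  · have hRT : meetQ T₂ U ≤ T₂ := meet_pc_Q_le_K (hUW.trans inf_le_right)
    exact meet_pc_resIn_tr F E₂ (SI_of_invariant F E₂ hE₂) ψ hψ hrQ hRT b b' htr hb₂ hr₂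

/-- The image of `Q_K(R)` under a map `ρ` of `F` defined on `N_S(R)` with `ρ(R) = R0` and `ρ(C_S(R)) = C_S(R0)`. -/
theorem meet_cm_range_Q (F : FusionSystem S) {K : Subgroup Ω} (hK : F.StronglyClosed K) {R R0 : Subgroup Ω}
    (hRS : R ≤ S) {ρ : ↥(normalizerIn S R) →* Ω} (hρ : ρ ∈ F.Hom (normalizerIn S R))
    (hρU : ∀ x : ↥(normalizerIn S R), (x : Ω) ∈ R → ρ x ∈ R0)
    (hρU' : ∀ y ∈ R0, ∃ x : ↥(normalizerIn S R), (x : Ω) ∈ R ∧ ρ x = y)
    (hC : ∀ y ∈ centralizerIn S R0, ∃ x : ↥(normalizerIn S R), (x : Ω) ∈ centralizerIn S R ∧ ρ x = y)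
    (hQN : meetQ K R ≤ normalizerIn S R) :
    (ρ.comp (Subgroup.inclusion hQN)).range = meetQ K R0 := by
  have hRN : R ≤ normalizerIn S R := Fusion.le_normalizerIn hRS
  have hCN : centralizerIn K R ≤ normalizerIn S R := meet_pc_centralizerIn_le hK.1
  apply le_antisymm
  · rintro _ ⟨x, rfl⟩
    exact meet_pc_map_Q F hK hρ hRN hCN hρU hρU' (Subgroup.inclusion hQN x) x.2
  · refine sup_le ?_ ?_
    · intro y hy
      obtain ⟨x, hx, rfl⟩ := hρU' y hy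
      exact ⟨⟨x, (le_sup_left : R ≤ meetQ K R) hx⟩, rfl⟩
    · intro y hy
      obtain ⟨x, hx, rfl⟩ := hC y ⟨hK.1 hy.1, hy.2⟩
      -- `x ∈ C_S(R)`; it lies in `K` because the inverse of `ρ` is a map of `F`
      obtain ⟨ρ', hρ', hinv, -⟩ := Fusion.exists_inv F hρ rfl
      have hxK : (x : Ω) ∈ K := by
        have h1 := Fusion.map_mem_of_stronglyClosed F hK hρ' ⟨ρ x, ⟨x, rfl⟩⟩ hy.1
        rw [hinv x ⟨x, rfl⟩] at h1
        exact h1
      exact ⟨⟨x, (le_sup_right : centralizerIn K R ≤ meetQ K R) ⟨hxK, hx.2⟩⟩, rfl⟩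

/-- **(CM-a), step (iv).**  For a fully centralized member `R` of the family the restriction to `R` of an element of `B0(R)`
lies in `A(R)`. -/
theorem meet_cm_tr [Finite S] (p : ℕ) [Fact p.Prime] (hS : IsPGroup p S) {F : FusionSystem S} (hF : F.IsSaturated p)
    {T₁ T₂ : Subgroup Ω} {E₁ : FusionSystem T₁} {E₂ : FusionSystem T₂} (hE₁ : E₁.IsInvariantIn F)
    (hE₂ : E₂.IsInvariantIn F) {R : Subgroup Ω} (hR : R ∈ meetH F (T₁ ⊓ T₂))
    (hfc : ∀ R' : Subgroup Ω, F.IsConj R R' → Nat.card (centralizerIn S R') ≤ Nat.card (centralizerIn S R))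
    (b : MulAut ↥(meetQ S R)) (hb : b ∈ meetB0 p F E₁ E₂ R) (β : MulAut R)
    (hres : MeetRes (meet_le_Q S R) b β) : β ∈ meetA p F E₁ E₂ R := by
  have hT₁ : F.StronglyClosed T₁ := hE₁.2.1
  have hT₂ : F.StronglyClosed T₂ := hE₂.2.1
  have hW : F.StronglyClosed (T₁ ⊓ T₂) :=
    ⟨inf_le_left.trans hT₁.1, fun P hP φ hφ x =>
      ⟨hT₁.2 P (hP.trans inf_le_left) φ hφ x, hT₂.2 P (hP.trans inf_le_right) φ hφ x⟩⟩
  have hRW : R ≤ T₁ ⊓ T₂ := hR.1
  have hRS : R ≤ S := hRW.trans hW.1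
  obtain ⟨R0, hconj, hfn⟩ := Fusion.exists_isConj_fullyNormalized F hRS
  have hR0 : R0 ∈ meetH F (T₁ ⊓ T₂) := meet_H_conj hW hR hconj
  have hR0S : R0 ≤ S := hfn.1
  obtain ⟨hfc0, hfa0⟩ := Fusion.fullyCentralized_fullyAutomized_of_fullyNormalized p hS F hF hfn
  have hrec := Fusion.receptive_of_fullyCentralized p hS F hF hfc0
  obtain ⟨ρ, hρ, hρN, hρR⟩ := Fusion.exists_hom_normalizerIn p hS F hfa0 hrec hconj
  have hρinj := F.injective_of_mem hρ
  have hRN : R ≤ normalizerIn S R := Fusion.le_normalizerIn hRS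
  have hQN : meetQ S R ≤ normalizerIn S R := meet_pc_Q_le le_rfl hRS
  have hρU : ∀ x : ↥(normalizerIn S R), (x : Ω) ∈ R → ρ x ∈ R0 := by
    intro x hx
    rw [← hρR]
    exact ⟨x, Subgroup.mem_subgroupOf.mpr hx, rfl⟩
  have hρU' : ∀ y ∈ R0, ∃ x : ↥(normalizerIn S R), (x : Ω) ∈ R ∧ ρ x = y := by
    intro y hy
    rw [← hρR] at hy
    obtain ⟨x, hx, rfl⟩ := hy
    exact ⟨x, Subgroup.mem_subgroupOf.mp hx, rfl⟩
  -- `ρ(C_S(R)) = C_S(R0)` by orders
  have hCN : centralizerIn S R ≤ normalizerIn S R := meet_pc_centralizerIn_le le_rfl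
  have hfinN : Finite ↥(normalizerIn S R) := Fusion.finite_of_le inf_le_left
  have hfinC0 : Finite ↥(centralizerIn S R0) := Fusion.finite_of_le inf_le_left
  have hCle : ((centralizerIn S R).subgroupOf (normalizerIn S R)).map ρ ≤ centralizerIn S R0 := by
    rintro _ ⟨c, hc, rfl⟩
    have hc' : (c : Ω) ∈ centralizerIn S R := Subgroup.mem_subgroupOf.mp hc
    refine ⟨(F.le_of_mem hρ).2 c, Subgroup.mem_centralizer_iff.mpr ?_⟩
    intro y hy
    obtain ⟨x, hx, rfl⟩ := hρU' y hy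
    have hcomm : x * c = c * x := by
      apply Subtype.ext
      exact (Subgroup.mem_centralizer_iff.mp hc'.2) _ hx
    rw [← map_mul, ← map_mul, hcomm]
  have hCeq : ((centralizerIn S R).subgroupOf (normalizerIn S R)).map ρ = centralizerIn S R0 := by
    apply Subgroup.eq_of_le_of_card_ge hCle
    rw [Subgroup.card_map_of_injective hρinj,
      Nat.card_congr (Subgroup.subgroupOfEquivOfLe hCN).toEquiv]
    exact hfc R0 hconj
  have hC : ∀ y ∈ centralizerIn S R0, ∃ x : ↥(normalizerIn S R), (x : Ω) ∈ centralizerIn S R ∧ ρ x = y := by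
    intro y hy
    rw [← hCeq] at hy
    obtain ⟨x, hx, rfl⟩ := hy
    exact ⟨x, Subgroup.mem_subgroupOf.mp hx, rfl⟩
  -- the isomorphism `ψ : Q_R → Q_{R0}`
  have hψ : ρ.comp (Subgroup.inclusion hQN) ∈ F.Hom (meetQ S R) := Fusion.restrict_mem F hρ hQN
  have hψinj := F.injective_of_mem hψ
  have hrQ : (ρ.comp (Subgroup.inclusion hQN)).range = meetQ S R0 :=
    meet_cm_range_Q F (meet_pc_stronglyClosed_top F) hRS hρ hρU hρU' hC hQN
  have htr := meet_pc_tr_congr _ hψinj hrQ b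
  have hb' : MulAut.congr (Fusion.equivOfRange _ hψinj hrQ) b ∈ meetB0 p F E₁ E₂ R0 := by
    refine meet_cm_B0_tr p hE₁ hE₂ hRW _ hψ hrQ (fun x hx => hρU _ hx) ?_ ?_ b hb _ htr
    · intro h
      exact meet_cm_range_Q F hT₁ hRS hρ hρU hρU' hC (h.trans hQN)
    · intro h
      exact meet_cm_range_Q F hT₂ hRS hρ hρU hρU' hC (h.trans hQN)
  -- the restriction of the transported automorphism to `R0`
  have hfinR0 : Finite R0 := Fusion.finite_of_le hR0S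
  have hb'R0 : ∀ z : R0, ((MulAut.congr (Fusion.equivOfRange _ hψinj hrQ) b
      (Subgroup.inclusion (meet_le_Q S R0) z) : ↥(meetQ S R0)) : Ω) ∈ R0 := by
    intro z
    have h1 := hb'.2.2.1 (Subgroup.inclusion (meet_le_Q S R0) z)
    have h2 := R0.mul_mem z.2 h1
    simpa using h2
  obtain ⟨β0, hβ0⟩ := meet_cm_res_exists (meet_le_Q S R0) _ hb'R0
  have hβ0A : β0 ∈ meetA0 p F E₁ E₂ R0 :=
    (le_sup_left : _ ≤ meetA0 p F E₁ E₂ R0) (Subgroup.subset_closure ⟨_, hb', hβ0⟩)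
  have hφ : ρ.comp (Subgroup.inclusion hRN) ∈ F.Hom R := Fusion.restrict_mem F hρ hRN
  have hφr : (ρ.comp (Subgroup.inclusion hRN)).range = R0 := by
    apply le_antisymm
    · rintro _ ⟨x, rfl⟩
      exact hρU _ x.2
    · intro y hy
      obtain ⟨x, hx, rfl⟩ := hρU' y hy
      exact ⟨⟨x, hx⟩, rfl⟩
  refine Subgroup.subset_closure ⟨R0, ⟨hR0, hfn⟩, _, hφ, hφr, β0, hβ0A, ?_⟩
  intro x hx
  -- `β0 (ρ x) = b' (ρ x) = ρ (b x) = ρ (β x)`
  have h1 := hβ0 ⟨(ρ.comp (Subgroup.inclusion hRN)) x, hx⟩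
  rw [h1]
  have hxQ : (ρ.comp (Subgroup.inclusion hQN)) (Subgroup.inclusion (meet_le_Q S R) x) ∈ meetQ S R0 :=
    (meet_le_Q S R0) hx
  have h2 := htr (Subgroup.inclusion (meet_le_Q S R) x) hxQ
  have h3 : (Subgroup.inclusion (meet_le_Q S R0) ⟨(ρ.comp (Subgroup.inclusion hRN)) x, hx⟩ : ↥(meetQ S R0)) =
      ⟨(ρ.comp (Subgroup.inclusion hQN)) (Subgroup.inclusion (meet_le_Q S R) x), hxQ⟩ := Subtype.ext rfl
  rw [h3, h2]
  have h4 := hres x
  show ρ (Subgroup.inclusion hQN (b (Subgroup.inclusion (meet_le_Q S R) x))) = ρ (Subgroup.inclusion hRN (β x))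
  congr 1
  exact Subtype.ext h4.symm

end Cfsg.Agent.MEET
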