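import Mathlib
import Cfsg.Prelude.Def_FusionComponents
import Cfsg.Agent.Lead.FusionInvariant
import Cfsg.Agent.Lead.FusionSat2
import Cfsg.Agent.Lead.FusionSat3
import Cfsg.Agent.Lead.FusionKNorm6
import Cfsg.Agent.Lead.FusionSub
import Cfsg.Agent.S5096
import Cfsg.Agent.Lead.FusionSat
import Cfsg.Agent.Lead.ConjAutDef

/-!
MEET project, Route Q (`notes/MEET_helper8.md` section 12), piece (im) of (Q2) (helper2).

`E` saturated over `T`, `U` fully `E`-normalized, `U ≤ Qi ≤ N_T(U)` with `Qi` normal in `N_T(U)`.  Then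
`Aut_{N_T(U)}(Qi)` is a Sylow `p`-subgroup of `N_{Aut_E(Qi)}(U)`: every `p`-subgroup of `Aut_E(Qi)` normalizing `U` and
containing `Aut_{N_T(U)}(Qi)` is equal to it (`meet_hgen_sylow`).  Consequence (`meet_hgen_im`): an element `s` of
`N_S(U) ∩ N_S(Qi)` inducing an automorphism of `Qi` in `E` acts on `Qi` like an element of `N_T(U)`.
-/

set_option autoImplicit false
set_option linter.unusedSectionVars false
set_option linter.unusedVariables false
set_option linter.style.haveILetI false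

namespace Cfsg.Agent.MEET

open Cfsg Cfsg.FusionSystem Cfsg.Agent.Lead

variable {Ω : Type*} [Group Ω] {T : Subgroup Ω}

/-- `Aut_{N_T(U)}(Qi)` is a Sylow `p`-subgroup of the stabilizer of `U` in `Aut_E(Qi)`. -/
theorem meet_hgen_sylow [Finite T] (p : ℕ) [Fact p.Prime] (hT : IsPGroup p T) (E : FusionSystem T)
    (hE : E.IsSaturated p) {U Qi : Subgroup Ω} (hUfn : E.IsFullyNormalized U) (hUQ : U ≤ Qi)
    (hQN : Qi ≤ normalizerIn T U) (hQn : normalizerIn T U ≤ Subgroup.normalizer (Qi : Set Ω))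
    (P : Subgroup (MulAut Qi)) (hPp : IsPGroup p P) (hPE : P ≤ E.autGroup Qi)
    (hPU : ∀ a ∈ P, ∀ x : Qi, (x : Ω) ∈ U → ((a x : Qi) : Ω) ∈ U)
    (hle : autInducedBy (normalizerIn T U) Qi ≤ P) :
    P ≤ autInducedBy (normalizerIn T U) Qi := by
  have hUT : U ≤ T := hUfn.1
  obtain ⟨EU, hEU⟩ := Cfsg.Agent.S5096.result E U hUT
  have hNT : normalizerIn T U ≤ T := inf_le_left
  haveI : Finite ↥(normalizerIn T U) := Fusion.finite_of_le hNT
  have hNp : IsPGroup p ↥(normalizerIn T U) := hT.to_le hNT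
  have hEUsat : EU.IsSaturated p := Fusion.normalizerSystem_isSaturated p hT E hE U hUfn EU hEU
  have hQT : Qi ≤ T := hQN.trans hNT
  haveI : Finite Qi := Fusion.finite_of_le hQT
  have hQfn : EU.IsFullyNormalized Qi := by
    refine ⟨hQN, fun Q' _ => ?_⟩
    have hle' : normalizerIn (normalizerIn T U) Q' ≤ normalizerIn (normalizerIn T U) Qi :=
      le_inf inf_le_left (inf_le_left.trans hQn)
    haveI : Finite ↥(normalizerIn (normalizerIn T U) Qi) :=
      Fusion.finite_of_le ((inf_le_left : normalizerIn (normalizerIn T U) Qi ≤ _).trans hNT)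
    exact Nat.card_le_card_of_injective (Subgroup.inclusion hle') (Subgroup.inclusion_injective hle')
  obtain ⟨-, Rs, hRs⟩ :=
    (Fusion.fullyCentralized_fullyAutomized_of_fullyNormalized p hNp EU hEUsat hQfn).2
  have hPEU : P ≤ EU.autGroup Qi := by
    intro a ha
    rw [Fusion.mem_autGroup_iff EU hQN, hEU Qi]
    have haE := (Fusion.mem_autGroup_iff E hQT a).mp (hPE ha)
    have hsup : Qi = Qi ⊔ U := (sup_eq_left.mpr hUQ).symm
    obtain ⟨ψ, hψ, hψa⟩ := Fusion.exists_hom_of_eq E hsup haE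
    refine ⟨haE, hQN, fun x => hQN (a x).2, ψ, hψ, fun x => ?_, ?_⟩
    · exact hψa x.1 x.2 _
    · apply le_antisymm
      · rintro _ ⟨z, hz, rfl⟩
        rw [SetLike.mem_coe, Subgroup.mem_subgroupOf] at hz
        have hzQ : (z : Ω) ∈ Qi := hUQ hz
        rw [hψa z.1 hzQ z.2]
        exact hPU a ha ⟨z.1, hzQ⟩ hz
      · intro u hu
        have huQ : u ∈ Qi := hUQ hu
        have h1 := hPU a⁻¹ (P.inv_mem ha) ⟨u, huQ⟩ hu
        refine ⟨⟨((a⁻¹ ⟨u, huQ⟩ : Qi) : Ω), (le_sup_left : Qi ≤ Qi ⊔ U) (a⁻¹ ⟨u, huQ⟩).2⟩, ?_, ?_⟩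
        · rw [SetLike.mem_coe, Subgroup.mem_subgroupOf]
          exact h1
        · rw [hψa _ (a⁻¹ ⟨u, huQ⟩).2 _]
          show ((a (a⁻¹ ⟨u, huQ⟩) : Qi) : Ω) = u
          rw [MulAut.apply_inv_self]
  have hP'p : IsPGroup p (P.subgroupOf (EU.autGroup Qi)) := hPp.comap_subtype
  have hRsle : (Rs : Subgroup (EU.autGroup Qi)) ≤ P.subgroupOf (EU.autGroup Qi) := by
    rw [hRs]
    intro x hx
    rw [Subgroup.mem_subgroupOf] at hx ⊢
    exact hle hx
  have heq := Rs.is_maximal' hP'p hRsle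
  intro a ha
  have h1 : (⟨a, hPEU ha⟩ : EU.autGroup Qi) ∈ P.subgroupOf (EU.autGroup Qi) :=
    Subgroup.mem_subgroupOf.mpr ha
  rw [heq, hRs, Subgroup.mem_subgroupOf] at h1
  exact h1

/-- (im): an element of `N_S(U)` inducing on `Qi` an automorphism of `E` acts on `Qi` like an element of `N_T(U)`. -/
theorem meet_hgen_im {S : Subgroup Ω} [Finite S] (p : ℕ) [Fact p.Prime] (hS : IsPGroup p S)
    (hTS : T ≤ S) (E : FusionSystem T) (hE : E.IsSaturated p) {U Qi : Subgroup Ω}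
    (hUfn : E.IsFullyNormalized U) (hUQ : U ≤ Qi) (hQN : Qi ≤ normalizerIn T U)
    (hQn : normalizerIn S U ≤ Subgroup.normalizer (Qi : Set Ω)) (s : Ω)
    (hs : s ∈ normalizerIn S U) (hsE : conjAutHom Qi ⟨s, hQn hs⟩ ∈ E.autGroup Qi) :
    ∃ t ∈ normalizerIn T U, ∀ x ∈ Qi, t * x * t⁻¹ = s * x * s⁻¹ := by
  haveI : Finite T := Fusion.finite_of_le hTS
  have hT : IsPGroup p T := hS.to_le hTS
  have hNS : normalizerIn S U ≤ S := inf_le_left
  have hNp : IsPGroup p ↥(normalizerIn S U) := hS.to_le hNS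
  have hNTS : normalizerIn T U ≤ normalizerIn S U := inf_le_inf_right _ hTS
  have hQT : Qi ≤ T := hQN.trans inf_le_left
  have hPp : IsPGroup p ↥(autInducedBy (normalizerIn S U) Qi ⊓ E.autGroup Qi) :=
    (Fusion.isPGroup_autInducedBy p hNp Qi).to_le inf_le_left
  have hmem := meet_hgen_sylow p hT E hE hUfn hUQ hQN (hNTS.trans hQn)
    (autInducedBy (normalizerIn S U) Qi ⊓ E.autGroup Qi) hPp inf_le_right ?_ ?_
    (Subgroup.mem_inf.mpr ⟨Fusion.conjAutHom_mem_autInducedBy Qi ⟨s, hQn hs⟩ hs, hsE⟩)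
  · rw [mem_autInducedBy_iff] at hmem
    obtain ⟨t, ht, htx⟩ := hmem
    exact ⟨t, ht, fun x hx => (htx ⟨x, hx⟩).symm⟩
  · intro a ha x hx
    obtain ⟨g, hg, hgx⟩ := (mem_autInducedBy_iff _ _ a).mp (Subgroup.mem_inf.mp ha).1
    rw [hgx]
    exact (Subgroup.mem_normalizer_iff.mp (Subgroup.mem_inf.mp hg).2 x).mp hx
  · intro a ha
    obtain ⟨g, hg, hgx⟩ := (mem_autInducedBy_iff _ _ a).mp ha
    refine Subgroup.mem_inf.mpr ⟨(mem_autInducedBy_iff _ _ a).mpr ⟨g, hNTS hg, hgx⟩, ?_⟩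
    exact Fusion.autInducedBy_le_autGroup E hQT
      ((mem_autInducedBy_iff _ _ a).mpr ⟨g, (Subgroup.mem_inf.mp hg).1, hgx⟩)

end Cfsg.Agent.MEET
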