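import Mathlib
import Cfsg.Agent.MEET.NclGroup

set_option autoImplicit false

/-!
# MEET, Route Q: the group theorem (GT') = (GT) with `p'`-generators added

`G` a finite group, `S` a `p`-subgroup of index prime to `p`, `T ≤ S` strongly closed in `S` with respect to `G`,
`C ≤ S` normal in `G`, `PP` a set of `p'`-elements of `G` with `[C, g] ≤ T` for `g ∈ PP`,
`H := ⟨(PP ∪ T)^G⟩` and `H ∩ S ≤ T C`.  Then `H ∩ S = T` (`meet_gtp`, `meet_gtp_eq`).

Proof of (GT) verbatim (`Cfsg.Agent.MEET.meet_gt`): `[C, H] ≤ T ∩ C` holds on the new generators by hypothesis,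
and the transfer into the `p`-group `X / T` kills the conjugates of powers of `p'`-elements lying in `S`,
because these are trivial.
-/

namespace Cfsg.Agent.MEET

open Subgroup MonoidHom

/-- A `p'`-element of a `p`-group is trivial. -/
theorem meet_gtp_eq_one_of_pprime {G : Type*} [Group G] (p : ℕ) [Fact p.Prime] (S : Subgroup G)
    (hSp : IsPGroup p S) (z : G) (hz : z ∈ S) (m : ℕ) (hm : m.Coprime p) (hzm : z ^ m = 1) : z = 1 := by
  obtain ⟨j, hj⟩ := hSp ⟨z, hz⟩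
  have hj' : z ^ (p ^ j) = 1 := by simpa using congrArg Subtype.val hj
  have hcop : Nat.Coprime m (p ^ j) := Nat.Coprime.pow_right j hm
  have := pow_gcd_eq_one.2 ⟨hzm, hj'⟩
  rwa [hcop.gcd_eq_one, pow_one] at this

/-- `[C, ⟨(PP ∪ T)^G⟩] ≤ T ∩ C` when `C` is normal in `G`, `T` is strongly closed in `S ≥ C` and `[C, g] ≤ T`
for `g ∈ PP`. -/
theorem meet_gtp_comm {G : Type*} [Group G] (S T C : Subgroup G) (hTS : T ≤ S)
    (hsc : ∀ g : G, ∀ t ∈ T, g⁻¹ * t * g ∈ S → g⁻¹ * t * g ∈ T)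
    (hCS : C ≤ S) [hCn : C.Normal] (PP : Set G)
    (hPPC : ∀ g ∈ PP, ∀ k ∈ C, k⁻¹ * (g⁻¹ * k * g) ∈ T) :
    ∀ b ∈ Subgroup.normalClosure (PP ∪ (T : Set G)), ∀ k ∈ C, k⁻¹ * (b⁻¹ * k * b) ∈ T ⊓ C := by
  have hCTn : (T ⊓ C).Normal := by
    refine ⟨fun n hn g => ⟨?_, hCn.conj_mem n hn.2 g⟩⟩
    have h1 : g * n * g⁻¹ ∈ S := hCS (hCn.conj_mem n hn.2 g)
    have := hsc g⁻¹ n hn.1 (by simpa using h1)
    simpa using this
  let q := QuotientGroup.mk' (T ⊓ C)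
  have hCq : (C.map q).Normal := Subgroup.Normal.map hCn q (QuotientGroup.mk'_surjective _)
  let N : Subgroup G := (Subgroup.centralizer ((C.map q : Subgroup (G ⧸ (T ⊓ C))) : Set (G ⧸ (T ⊓ C)))).comap q
  have hNn : N.Normal := Subgroup.Normal.comap (Subgroup.normal_centralizer) q
  have hTN : (T : Set G) ⊆ N := by
    intro t ht
    show q t ∈ Subgroup.centralizer _
    rw [Subgroup.mem_centralizer_iff]
    rintro y ⟨c, hc, rfl⟩
    show q c * q t = q t * q c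
    rw [← map_mul, ← map_mul]
    show (QuotientGroup.mk (c * t) : G ⧸ (T ⊓ C)) = QuotientGroup.mk (t * c)
    rw [QuotientGroup.eq]
    refine ⟨?_, ?_⟩
    · have h1 : c⁻¹ * t * c ∈ T := hsc c t ht (S.mul_mem (S.mul_mem (S.inv_mem (hCS hc)) (hTS ht)) (hCS hc))
      have : (c * t)⁻¹ * (t * c) = t⁻¹ * (c⁻¹ * t * c) := by group
      rw [this]
      exact T.mul_mem (T.inv_mem ht) h1
    · have h1 : t⁻¹ * c⁻¹ * t⁻¹⁻¹ ∈ C := hCn.conj_mem c⁻¹ (C.inv_mem hc) t⁻¹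
      have : (c * t)⁻¹ * (t * c) = (t⁻¹ * c⁻¹ * t⁻¹⁻¹) * c := by group
      rw [this]
      exact C.mul_mem h1 hc
  have hPN : PP ⊆ N := by
    intro g hg
    show q g ∈ Subgroup.centralizer _
    rw [Subgroup.mem_centralizer_iff]
    rintro y ⟨c, hc, rfl⟩
    show q c * q g = q g * q c
    rw [← map_mul, ← map_mul]
    show (QuotientGroup.mk (c * g) : G ⧸ (T ⊓ C)) = QuotientGroup.mk (g * c)
    rw [QuotientGroup.eq]
    -- (c g)⁻¹ (g c) = g⁻¹ c⁻¹ g c = (c⁻¹ (g⁻¹ c g))^{...}: use the hypothesis for `c⁻¹`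
    have h0 := hPPC g hg c⁻¹ (C.inv_mem hc)
    -- h0 : c⁻¹⁻¹ * (g⁻¹ * c⁻¹ * g) ∈ T,  i.e.  c * g⁻¹ * c⁻¹ * g ∈ T
    have hCmem : c * (g⁻¹ * c⁻¹ * g) ∈ C :=
      C.mul_mem hc (by simpa using hCn.conj_mem c⁻¹ (C.inv_mem hc) g⁻¹)
    have hTC : c * (g⁻¹ * c⁻¹ * g) ∈ T ⊓ C := ⟨by simpa using h0, hCmem⟩
    have h1 := hCTn.conj_mem _ hTC c⁻¹
    have e : (c * g)⁻¹ * (g * c) = c⁻¹ * (c * (g⁻¹ * c⁻¹ * g)) * c⁻¹⁻¹ := by group
    have e2 : (c * g)⁻¹ * (g * c) = (c⁻¹ * (c * (g⁻¹ * c⁻¹ * g)) * c⁻¹⁻¹) := e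
    -- careful: (c g)⁻¹ (g c) = g⁻¹ c⁻¹ g c, and c⁻¹ (c g⁻¹ c⁻¹ g) c = g⁻¹ c⁻¹ g c
    rw [e2]
    exact h1
  have hMN : Subgroup.normalClosure (PP ∪ (T : Set G)) ≤ N :=
    Subgroup.normalClosure_le_normal (Set.union_subset hPN hTN)
  intro b hb k hk
  have hbN : q b ∈ Subgroup.centralizer ((C.map q : Subgroup (G ⧸ (T ⊓ C))) : Set (G ⧸ (T ⊓ C))) := hMN hb
  rw [Subgroup.mem_centralizer_iff] at hbN
  have h1 : q k * q b = q b * q k := hbN (q k) ⟨k, hk, rfl⟩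
  rw [← map_mul, ← map_mul] at h1
  have h2 : (QuotientGroup.mk (b * k) : G ⧸ (T ⊓ C)) = QuotientGroup.mk (k * b) := h1.symm
  rw [QuotientGroup.eq] at h2
  have : k⁻¹ * (b⁻¹ * k * b) = (b * k)⁻¹ * (k * b) := by group
  rw [this]
  exact h2

/-- **(GT')**  `G` finite, `S` a `p`-subgroup of index prime to `p`, `T ≤ S` strongly closed in `S` with respect
to `G`, `C ≤ S` normal in `G`, `PP` a set of `p'`-elements with `[C, g] ≤ T` for `g ∈ PP`, `H := ⟨(PP ∪ T)^G⟩` and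
`H ∩ S ≤ T C`.  Then `H ∩ S ≤ T`. -/
theorem meet_gtp {G : Type*} [Group G] [Finite G] (p : ℕ) [Fact p.Prime] (S T C : Subgroup G)
    (hSp : IsPGroup p S) (hSidx : ¬ p ∣ S.index) (hTS : T ≤ S)
    (hsc : ∀ g : G, ∀ t ∈ T, g⁻¹ * t * g ∈ S → g⁻¹ * t * g ∈ T)
    (hCS : C ≤ S) [hCn : C.Normal] (PP : Set G)
    (hPPo : ∀ g ∈ PP, ∃ m : ℕ, m.Coprime p ∧ g ^ m = 1)
    (hPPC : ∀ g ∈ PP, ∀ k ∈ C, k⁻¹ * (g⁻¹ * k * g) ∈ T)
    (him : Subgroup.normalClosure (PP ∪ (T : Set G)) ⊓ S ≤ T ⊔ C) :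
    Subgroup.normalClosure (PP ∪ (T : Set G)) ⊓ S ≤ T := by
  classical
  have hTM : T ≤ Subgroup.normalClosure (PP ∪ (T : Set G)) := fun t ht =>
    Subgroup.subset_normalClosure (Or.inr ht)
  have hcen0 := meet_gtp_comm S T C hTS hsc hCS PP hPPC
  have hidx : ¬ p ∣ (S.subgroupOf (Subgroup.normalClosure (PP ∪ (T : Set G)))).index := fun h =>
    hSidx (dvd_trans h (meet_relIndex_dvd_index_of_normal S (Subgroup.normalClosure (PP ∪ (T : Set G)))))
  have hgen : Subgroup.closure (((↑) : Subgroup.normalClosure (PP ∪ (T : Set G)) → G) ⁻¹'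
      (Group.conjugatesOfSet (PP ∪ (T : Set G)))) = ⊤ :=
    Subgroup.closure_closure_coe_preimage (k := Group.conjugatesOfSet (PP ∪ (T : Set G)))
  have key : ∀ c : G, ∀ hcM : c ∈ Subgroup.normalClosure (PP ∪ (T : Set G)), c ∈ C → c ∈ T := by
    intro c hcM hcC
    have := meet_transfer_ncl (B := Subgroup.normalClosure (PP ∪ (T : Set G))) p
      (S.subgroupOf _) (T.subgroupOf _) ((C ⊓ S).subgroupOf _)
      (hSp.comap_subtype) hidx
      (fun x hx => hTS hx) (fun x hx => hx.2)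
      (fun x hx => by
        have hx' : (x : G) ∈ T ⊔ C := him ⟨x.2, hx⟩
        have hx'' : (x : G) ∈ ((T ⊔ C : Subgroup G) : Set G) := hx'
        rw [Subgroup.mul_normal T C] at hx''
        obtain ⟨t, ht, c', hc', htc⟩ := Set.mem_mul.1 hx''
        have hcM' : c' ∈ Subgroup.normalClosure (PP ∪ (T : Set G)) := by
          have : c' = t⁻¹ * (x : G) := by rw [← htc]; group
          rw [this]
          exact Subgroup.mul_mem _ (Subgroup.inv_mem _ (hTM ht)) x.2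
        have hxe : x = (⟨t, hTM ht⟩ : Subgroup.normalClosure (PP ∪ (T : Set G))) * ⟨c', hcM'⟩ :=
          Subtype.ext htc.symm
        rw [hxe]
        refine Subgroup.mul_mem_sup ?_ ?_
        · exact ht
        · refine ⟨hc', ?_⟩
          have : c' = t⁻¹ * (x : G) := by rw [← htc]; group
          show c' ∈ S
          rw [this]
          exact S.mul_mem (S.inv_mem (hTS ht)) hx)
      (fun b k hk => (hcen0 (b : G) b.2 (k : G) hk.1).1)
      (fun b t ht h => hsc (b : G) (t : G) ht h)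
      (((↑) : Subgroup.normalClosure (PP ∪ (T : Set G)) → G) ⁻¹' (Group.conjugatesOfSet (PP ∪ (T : Set G))))
      (fun y hy m b h => by
        have hy' : (y : G) ∈ Group.conjugatesOfSet (PP ∪ (T : Set G)) := hy
        rw [Group.mem_conjugatesOfSet_iff] at hy'
        obtain ⟨t, ht, htc⟩ := hy'
        obtain ⟨c, hc⟩ := isConj_iff.1 htc
        have e : ((b⁻¹ * y ^ m * b : Subgroup.normalClosure (PP ∪ (T : Set G))) : G) =
            (c⁻¹ * (b : G))⁻¹ * t ^ m * (c⁻¹ * (b : G)) := by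
          push_cast
          rw [← hc, conj_pow]
          group
        show ((b⁻¹ * y ^ m * b : Subgroup.normalClosure (PP ∪ (T : Set G))) : G) ∈ T
        have h' : ((b⁻¹ * y ^ m * b : Subgroup.normalClosure (PP ∪ (T : Set G))) : G) ∈ S := h
        rw [e] at h' ⊢
        rcases ht with ht | ht
        · -- a conjugate of a power of a `p'`-element inside the `p`-group `S` is trivial
          obtain ⟨m', hm', htm'⟩ := hPPo t ht
          have hz : ((c⁻¹ * (b : G))⁻¹ * t ^ m * (c⁻¹ * (b : G))) ^ m' = 1 := by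
            have e3 : (c⁻¹ * (b : G))⁻¹ * t ^ m * (c⁻¹ * (b : G))
                = (c⁻¹ * (b : G))⁻¹ * t ^ m * (c⁻¹ * (b : G))⁻¹⁻¹ := by simp
            rw [e3, conj_pow, ← pow_mul, mul_comm m m', pow_mul, htm', one_pow]
            simp
          rw [meet_gtp_eq_one_of_pprime p S hSp _ h' m' hm' hz]
          exact T.one_mem
        · exact hsc _ (t ^ m) (T.pow_mem ht m) h')
      (x := ⟨c, hcM⟩) ?_ (by rw [hgen]; exact Subgroup.mem_top _)
    · exact this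
    · exact ⟨hcC, hCS hcC⟩
  rintro x ⟨hxM, hxS⟩
  have hx' : x ∈ ((T ⊔ C : Subgroup G) : Set G) := him ⟨hxM, hxS⟩
  rw [Subgroup.mul_normal T C] at hx'
  obtain ⟨t, ht, c', hc', htc⟩ := Set.mem_mul.1 hx'
  have hcM' : c' ∈ Subgroup.normalClosure (PP ∪ (T : Set G)) := by
    have : c' = t⁻¹ * x := by rw [← htc]; group
    rw [this]
    exact Subgroup.mul_mem _ (Subgroup.inv_mem _ (hTM ht)) hxM
  rw [← htc]
  exact T.mul_mem ht (key c' hcM' hc')

/-- **(GT')**, equality form: `⟨(PP ∪ T)^G⟩ ∩ S = T`. -/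
theorem meet_gtp_eq {G : Type*} [Group G] [Finite G] (p : ℕ) [Fact p.Prime] (S T C : Subgroup G)
    (hSp : IsPGroup p S) (hSidx : ¬ p ∣ S.index) (hTS : T ≤ S)
    (hsc : ∀ g : G, ∀ t ∈ T, g⁻¹ * t * g ∈ S → g⁻¹ * t * g ∈ T)
    (hCS : C ≤ S) [hCn : C.Normal] (PP : Set G)
    (hPPo : ∀ g ∈ PP, ∃ m : ℕ, m.Coprime p ∧ g ^ m = 1)
    (hPPC : ∀ g ∈ PP, ∀ k ∈ C, k⁻¹ * (g⁻¹ * k * g) ∈ T)
    (him : Subgroup.normalClosure (PP ∪ (T : Set G)) ⊓ S ≤ T ⊔ C) :
    Subgroup.normalClosure (PP ∪ (T : Set G)) ⊓ S = T :=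
  le_antisymm (meet_gtp p S T C hSp hSidx hTS hsc hCS PP hPPo hPPC him)
    (le_inf (fun _ ht => Subgroup.subset_normalClosure (Or.inr ht)) hTS)

end Cfsg.Agent.MEET
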