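import Mathlib
import Cfsg.Agent.MEET.NclGroupP

/-!
MEET project, Route Q (`notes/MEET_helper8.md` section 12), the group-theoretic core of (Q1)-(Q3) (helper2).

`G` a finite group with Sylow `p`-subgroup `S₀`, `T ≤ S₀` strongly closed in `S₀` with respect to `G`, `Qi ≤ Q` normal
subgroups of `G` with `Q ≤ S₀`, `Qi ≤ T`, and `Λ` a normal subgroup of `G` containing `T` with `[Q, Λ] ≤ Qi`
(in use `Λ = {g : c_g|_{Qi} ∈ Aut_E(Qi), [Q, g] ≤ Qi}`).  `meetHgen p Λ T` is the normal closure of `T` and the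
`p'`-elements of `Λ`.  Then `meetHgen ≤ Λ` (Q1), a `p'`-element lies in `meetHgen` iff it lies in `Λ` (PC), and
`meetHgen ∩ S₀ = T` as soon as every element of `Λ ∩ S₀` acts on `Qi` like an element of `T` and
`C_{S₀}(Qi) ≤ Q` (H-syl, from helper4's `meet_gtp_eq`).
-/

set_option autoImplicit false
set_option linter.unusedSectionVars false
set_option linter.unusedVariables false
set_option linter.style.haveILetI false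

namespace Cfsg.Agent.MEET

variable {G : Type*} [Group G]

/-- The `p'`-elements of `Λ`. -/
def meetHgenPP (p : ℕ) (Λ : Subgroup G) : Set G := {g | g ∈ Λ ∧ ∃ m : ℕ, m.Coprime p ∧ g ^ m = 1}

/-- `H := ⟨(p'-elements of Λ) ∪ T⟩^G`. -/
def meetHgen (p : ℕ) (Λ T : Subgroup G) : Subgroup G :=
  Subgroup.normalClosure (meetHgenPP p Λ ∪ (T : Set G))

instance meetHgen_normal (p : ℕ) (Λ T : Subgroup G) : (meetHgen p Λ T).Normal :=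
  Subgroup.normalClosure_normal

theorem meet_hgen_grp_T_le (p : ℕ) (Λ T : Subgroup G) : T ≤ meetHgen p Λ T := fun _ ht =>
  Subgroup.subset_normalClosure (Or.inr ht)

/-- (Q1): `H ≤ Λ`. -/
theorem meet_hgen_grp_le (p : ℕ) (Λ T : Subgroup G) [Λ.Normal] (hTΛ : T ≤ Λ) : meetHgen p Λ T ≤ Λ := by
  apply Subgroup.normalClosure_le_normal
  rintro g (hg | hg)
  · exact hg.1
  · exact hTΛ hg

/-- (PC): a `p'`-element lies in `H` iff it lies in `Λ`. -/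
theorem meet_hgen_grp_pc (p : ℕ) (Λ T : Subgroup G) [Λ.Normal] (hTΛ : T ≤ Λ) (g : G)
    (hg : ∃ m : ℕ, m.Coprime p ∧ g ^ m = 1) : g ∈ meetHgen p Λ T ↔ g ∈ Λ :=
  ⟨fun h => meet_hgen_grp_le p Λ T hTΛ h, fun h => Subgroup.subset_normalClosure (Or.inl ⟨h, hg⟩)⟩

/-- (H-syl): `H ∩ S₀ = T`. -/
theorem meet_hgen_grp_syl [Finite G] (p : ℕ) [Fact p.Prime] (S₀ T Q Qi Λ : Subgroup G)
    (hSp : IsPGroup p S₀) (hSidx : ¬ p ∣ S₀.index) (hTS : T ≤ S₀)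
    (hsc : ∀ g : G, ∀ t ∈ T, g⁻¹ * t * g ∈ S₀ → g⁻¹ * t * g ∈ T)
    [hQn : Q.Normal] [hQin : Qi.Normal] [hΛn : Λ.Normal] (hQS : Q ≤ S₀) (hQiT : Qi ≤ T)
    (hTΛ : T ≤ Λ) (hΛQ : ∀ g ∈ Λ, ∀ k ∈ Q, k⁻¹ * (g⁻¹ * k * g) ∈ Qi)
    (hCQ : S₀ ⊓ Subgroup.centralizer (Qi : Set G) ≤ Q)
    (him : ∀ s ∈ Λ ⊓ S₀, ∃ t ∈ T, t⁻¹ * s ∈ Subgroup.centralizer (Qi : Set G)) :
    meetHgen p Λ T ⊓ S₀ = T := by
  haveI : (Q ⊓ Subgroup.centralizer (Qi : Set G)).Normal := Subgroup.normal_inf_normal _ _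
  refine meet_gtp_eq p S₀ T (Q ⊓ Subgroup.centralizer (Qi : Set G)) hSp hSidx hTS hsc
    (inf_le_left.trans hQS) (meetHgenPP p Λ) (fun g hg => hg.2) ?_ ?_
  · intro g hg k hk
    exact hQiT (hΛQ g hg.1 k hk.1)
  · intro s hs
    have hsΛ : s ∈ Λ := meet_hgen_grp_le p Λ T hTΛ hs.1
    obtain ⟨t, ht, hts⟩ := him s ⟨hsΛ, hs.2⟩
    have h1 : t⁻¹ * s ∈ S₀ := S₀.mul_mem (S₀.inv_mem (hTS ht)) hs.2
    have h2 : t⁻¹ * s ∈ Q ⊓ Subgroup.centralizer (Qi : Set G) := ⟨hCQ ⟨h1, hts⟩, hts⟩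
    have e : s = t * (t⁻¹ * s) := by group
    rw [e]
    exact Subgroup.mul_mem_sup ht h2

/-- (B0), group form: the `p'`-elements of `H₁ ∩ H₂` are the `p'`-elements of `Λ₁ ∩ Λ₂`. -/
theorem meet_hgen_grp_b0 (p : ℕ) (Λ₁ T₁ Λ₂ T₂ : Subgroup G) [Λ₁.Normal] [Λ₂.Normal] (h₁ : T₁ ≤ Λ₁)
    (h₂ : T₂ ≤ Λ₂) (g : G) (hg : ∃ m : ℕ, m.Coprime p ∧ g ^ m = 1) :
    g ∈ meetHgen p Λ₁ T₁ ⊓ meetHgen p Λ₂ T₂ ↔ g ∈ Λ₁ ⊓ Λ₂ := by
  rw [Subgroup.mem_inf, Subgroup.mem_inf, meet_hgen_grp_pc p Λ₁ T₁ h₁ g hg, meet_hgen_grp_pc p Λ₂ T₂ h₂ g hg]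

end Cfsg.Agent.MEET
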