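import Mathlib
import Cfsg.Prelude.Def_FusionComponents
import Cfsg.Agent.MEET.LocDefs
import Cfsg.Agent.Lead.Fusion
import Cfsg.Agent.Lead.FusionAut
import Cfsg.Agent.Lead.FusionSat
import Cfsg.Agent.Lead.FusionStab
import Cfsg.Agent.Lead.FusionKNorm6
import Cfsg.Agent.CSE.Largest

/-!
MEET project, Route Q (`notes/MEET_helper8.md` section 12), dictionary for the local group (helper2).

`ι : N_S(U) →* G` with `hG : MeetLocGrp p F W U ι`.  Conjugation by `g : G` on a subgroup `X ≤ N_S(U)` whose image is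
carried into `ι(N_S(U))` comes from a homomorphism `X →* Ω` (`meet_hgen_exists_ind`), a map of `F` by `hG.hom`.
`meetAct hG : G →* MulAut Q_U` is the action of `G` on `Q_U = U C_S(U)`; its values are automorphisms in `F`
normalizing `U`.
-/

set_option autoImplicit false
set_option linter.unusedSectionVars false
set_option linter.unusedVariables false
set_option linter.style.haveILetI false

namespace Cfsg.Agent.MEET

open Cfsg Cfsg.FusionSystem Cfsg.Agent.Lead Cfsg.Agent.CSE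

universe u

variable {Ω : Type u} [Group Ω] {S : Subgroup Ω}

/-- Conjugation by `g` on `X ≤ N`, read through the injective `ι : N →* G`, is a homomorphism `X →* Ω` as soon as it
carries `ι(X)` into `ι(N)`. -/
theorem meet_hgen_exists_ind {N : Subgroup Ω} {G : Type u} [Group G] (ι : N →* G)
    (hinj : Function.Injective ι) (g : G) {X : Subgroup Ω} (hX : X ≤ N)
    (h : ∀ x : X, ∃ y : N, ι y = g * ι ⟨x, hX x.2⟩ * g⁻¹) :
    ∃ (φ : X →* Ω) (hφ : ∀ x : X, φ x ∈ N), MeetInd ι g hX φ hφ := by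
  classical
  choose f hf using h
  have hmul : ∀ x y : X, f (x * y) = f x * f y := by
    intro x y
    apply hinj
    rw [map_mul, hf, hf, hf]
    have : (⟨((x * y : X) : Ω), hX (x * y).2⟩ : N) = ⟨x, hX x.2⟩ * ⟨y, hX y.2⟩ := rfl
    rw [this, map_mul]
    group
  have hone : f 1 = 1 := by
    apply hinj
    rw [hf, map_one]
    have : (⟨((1 : X) : Ω), hX (1 : X).2⟩ : N) = 1 := rfl
    rw [this, map_one]
    group
  refine ⟨N.subtype.comp ⟨⟨f, hone⟩, hmul⟩, fun x => (f x).2, fun x => ?_⟩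
  exact hf x

/-- Two homomorphisms induced by the same element agree. -/
theorem meet_hgen_ind_unique {N : Subgroup Ω} {G : Type u} [Group G] (ι : N →* G)
    (hinj : Function.Injective ι) (g : G) {X : Subgroup Ω} (hX : X ≤ N) (φ φ' : X →* Ω)
    (hφ : ∀ x : X, φ x ∈ N) (hφ' : ∀ x : X, φ' x ∈ N) (h : MeetInd ι g hX φ hφ)
    (h' : MeetInd ι g hX φ' hφ') : φ = φ' := by
  ext x
  have h1 := (h x).trans (h' x).symm
  exact congrArg Subtype.val (hinj h1)

section

variable {p : ℕ} {F : FusionSystem S} {W U : Subgroup Ω} {G : Type u} [Group G]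
  {ι : ↥(normalizerIn S U) →* G}

/-- Conjugation by `g : G` on `Q_U` is an automorphism of `Q_U` in `F`. -/
theorem meet_hgen_act_exists [Finite S] (hG : MeetLocGrp p F W U ι) (g : G) :
    ∃ b : MulAut ↥(meetQ S U), b ∈ F.autGroup (meetQ S U) ∧
      MeetInd ι g hG.hQ ((meetQ S U).subtype.comp b.toMonoidHom) (fun x => hG.hQ (b x).2) := by
  have h1 : ∀ x : ↥(meetQ S U), ∃ y : ↥(normalizerIn S U), ι y = g * ι ⟨x, hG.hQ x.2⟩ * g⁻¹ := by
    intro x
    obtain ⟨y, -, hy⟩ := hG.normQ g ⟨x, hG.hQ x.2⟩ x.2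
    exact ⟨y, hy⟩
  obtain ⟨φ, hφN, hφ⟩ := meet_hgen_exists_ind ι hG.inj g hG.hQ h1
  have hφF : φ ∈ F.Hom (meetQ S U) := hG.hom g _ hG.hQ φ hφN hφ
  have hval : ∀ x : ↥(meetQ S U), φ x ∈ meetQ S U := by
    intro x
    obtain ⟨y, hyQ, hy⟩ := hG.normQ g ⟨x, hG.hQ x.2⟩ x.2
    have h2 : ι ⟨φ x, hφN x⟩ = ι y := (hφ x).trans hy.symm
    have h3 := hG.inj h2
    have h4 : φ x = (y : Ω) := congrArg Subtype.val h3
    rw [h4]
    exact hyQ
  obtain ⟨b, hb, hbφ⟩ := cse_aut_of_hom F φ hφF hval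
  refine ⟨b, hb, fun x => ?_⟩
  have h5 : (⟨((meetQ S U).subtype.comp b.toMonoidHom) x, hG.hQ (b x).2⟩ : ↥(normalizerIn S U)) =
      ⟨φ x, hφN x⟩ := Subtype.ext (hbφ x)
  rw [h5]
  exact hφ x

theorem meet_hgen_act_unique (hG : MeetLocGrp p F W U ι) (g : G) (b b' : MulAut ↥(meetQ S U))
    (h : MeetInd ι g hG.hQ ((meetQ S U).subtype.comp b.toMonoidHom) (fun x => hG.hQ (b x).2))
    (h' : MeetInd ι g hG.hQ ((meetQ S U).subtype.comp b'.toMonoidHom) (fun x => hG.hQ (b' x).2)) :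
    b = b' := by
  have h1 := meet_hgen_ind_unique ι hG.inj g hG.hQ _ _ _ _ h h'
  ext x
  exact congrArg (fun f : ↥(meetQ S U) →* Ω => f x) h1

/-- The action of `G` on `Q_U`. -/
noncomputable def meetAct [Finite S] (hG : MeetLocGrp p F W U ι) : G →* MulAut ↥(meetQ S U) where
  toFun g := Classical.choose (meet_hgen_act_exists hG g)
  map_one' := by
    apply meet_hgen_act_unique hG 1 _ _ (Classical.choose_spec (meet_hgen_act_exists hG 1)).2
    intro x
    simp
  map_mul' := by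
    intro g h
    apply meet_hgen_act_unique hG (g * h) _ _
      (Classical.choose_spec (meet_hgen_act_exists hG (g * h))).2
    intro x
    have h1 := (Classical.choose_spec (meet_hgen_act_exists hG h)).2 x
    have h2 := (Classical.choose_spec (meet_hgen_act_exists hG g)).2
      (Classical.choose (meet_hgen_act_exists hG h) x)
    show ι ⟨((Classical.choose (meet_hgen_act_exists hG g)
      (Classical.choose (meet_hgen_act_exists hG h) x) : ↥(meetQ S U)) : Ω), _⟩ = _
    have h3 : g * h * ι ⟨x, hG.hQ x.2⟩ * (g * h)⁻¹ =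
        g * (h * ι ⟨x, hG.hQ x.2⟩ * h⁻¹) * g⁻¹ := by group
    rw [h3, ← h1]
    exact h2

theorem meet_hgen_act_mem [Finite S] (hG : MeetLocGrp p F W U ι) (g : G) :
    meetAct hG g ∈ F.autGroup (meetQ S U) :=
  (Classical.choose_spec (meet_hgen_act_exists hG g)).1

theorem meet_hgen_act_spec [Finite S] (hG : MeetLocGrp p F W U ι) (g : G) (x : ↥(meetQ S U)) :
    ι ⟨((meetAct hG g x : ↥(meetQ S U)) : Ω), hG.hQ (meetAct hG g x).2⟩ =
      g * ι ⟨x, hG.hQ x.2⟩ * g⁻¹ :=
  (Classical.choose_spec (meet_hgen_act_exists hG g)).2 x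

theorem meet_hgen_act_eq [Finite S] (hG : MeetLocGrp p F W U ι) (g : G) (b : MulAut ↥(meetQ S U))
    (h : MeetInd ι g hG.hQ ((meetQ S U).subtype.comp b.toMonoidHom) (fun x => hG.hQ (b x).2)) :
    b = meetAct hG g :=
  meet_hgen_act_unique hG g _ _ h (fun x => meet_hgen_act_spec hG g x)

/-- The action normalizes `U`. -/
theorem meet_hgen_act_U [Finite S] (hG : MeetLocGrp p F W U ι) (g : G) (x : ↥(meetQ S U))
    (hx : (x : Ω) ∈ U) : ((meetAct hG g x : ↥(meetQ S U)) : Ω) ∈ U := by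
  obtain ⟨y, hyU, hy⟩ := hG.normU g ⟨x, hG.hQ x.2⟩ hx
  have h1 := (meet_hgen_act_spec hG g x).trans hy.symm
  have h2 := congrArg Subtype.val (hG.inj h1)
  have h3 : ((meetAct hG g x : ↥(meetQ S U)) : Ω) = (y : Ω) := h2
  rw [h3]
  exact hyU

end

end Cfsg.Agent.MEET
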