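import Mathlib
import Cfsg.Prelude.Def_FusionComponents
import Cfsg.Agent.MEET.LocDefs
import Cfsg.Agent.MEET.HgenC
import Cfsg.Agent.Lead.FusionRestrict
import Cfsg.Agent.Lead.FusionStrongInvB
import Cfsg.Agent.Lead.FusionStrongInvD

/-!
MEET project, Route Q (`notes/MEET_helper8.md` section 12), the subgroup `Λ_T(U)` of the local group (helper2).

`meetLamAut F E U` is the group of the automorphisms `b` of `Q_U` in `F` with `[Q_U, b] ≤ Q_T^U = U C_T(U)` whose restriction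
to `Q_T^U` is an automorphism in `E`; `meetLam` is its preimage in `G` under the action `meetAct`.  It is a normal
subgroup of `G` (`meet_hgen_lam_normal`), and `meetGen` is the set of its elements of order prime to `p`
(`meet_hgen_mem_gen_iff`).
-/

set_option autoImplicit false
set_option linter.unusedSectionVars false
set_option linter.unusedVariables false
set_option linter.style.haveILetI false

namespace Cfsg.Agent.MEET

open Cfsg Cfsg.FusionSystem Cfsg.Agent.Lead Cfsg.Agent.Lead.StrongInv Cfsg.Agent.CSE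

universe u

variable {Ω : Type u} [Group Ω] {S : Subgroup Ω}

/-- `b|_R` is an automorphism of `R` in `E`. -/
def MeetResAut {T : Subgroup Ω} (E : FusionSystem T) {Q : Subgroup Ω} (b : MulAut Q) (R : Subgroup Ω)
    (hRQ : R ≤ Q) : Prop :=
  ∃ a ∈ E.autGroup R, ∀ x : R, ((a x : R) : Ω) = ((b (Subgroup.inclusion hRQ x) : Q) : Ω)

theorem meet_hgen_resAut_of_resIn {T : Subgroup Ω} [Finite T] (E : FusionSystem T) {Q : Subgroup Ω}
    (b : MulAut Q) (R : Subgroup Ω) (h : MeetResIn E b R) : ∃ hRQ : R ≤ Q, MeetResAut E b R hRQ := by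
  obtain ⟨hRQ, hφ, hval⟩ := h
  obtain ⟨a, ha, hax⟩ := cse_aut_of_hom E _ hφ hval
  exact ⟨hRQ, a, ha, fun x => hax x⟩

theorem meet_hgen_resIn_of_resAut {T : Subgroup Ω} (E : FusionSystem T) {Q : Subgroup Ω}
    (b : MulAut Q) (R : Subgroup Ω) (hRT : R ≤ T) (hRQ : R ≤ Q) (h : MeetResAut E b R hRQ) :
    MeetResIn E b R := by
  obtain ⟨a, ha, hax⟩ := h
  refine ⟨hRQ, ?_, fun x => ?_⟩
  · have h1 := (Fusion.mem_autGroup_iff E hRT a).mp ha
    have e : (Q.subtype.comp b.toMonoidHom).comp (Subgroup.inclusion hRQ) =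
        R.subtype.comp a.toMonoidHom := by
      ext x
      exact (hax x).symm
    rw [e]
    exact h1
  · rw [← hax x]
    exact (a x).2

theorem meet_hgen_resAut_one {T : Subgroup Ω} (E : FusionSystem T) (Q R : Subgroup Ω) (hRQ : R ≤ Q) :
    MeetResAut E (1 : MulAut Q) R hRQ := ⟨1, (E.autGroup R).one_mem, fun _ => rfl⟩

theorem meet_hgen_resAut_mul {T : Subgroup Ω} (E : FusionSystem T) {Q : Subgroup Ω} (b₁ b₂ : MulAut Q)
    (R : Subgroup Ω) (hRQ : R ≤ Q) (h₁ : MeetResAut E b₁ R hRQ) (h₂ : MeetResAut E b₂ R hRQ) :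
    MeetResAut E (b₁ * b₂) R hRQ := by
  obtain ⟨a₁, ha₁, h₁x⟩ := h₁
  obtain ⟨a₂, ha₂, h₂x⟩ := h₂
  refine ⟨a₁ * a₂, (E.autGroup R).mul_mem ha₁ ha₂, fun x => ?_⟩
  rw [MulAut.mul_apply, MulAut.mul_apply, h₁x]
  have e : Subgroup.inclusion hRQ (a₂ x) = b₂ (Subgroup.inclusion hRQ x) := Subtype.ext (h₂x x)
  rw [e]

theorem meet_hgen_resAut_inv {T : Subgroup Ω} (E : FusionSystem T) {Q : Subgroup Ω} (b : MulAut Q)
    (R : Subgroup Ω) (hRQ : R ≤ Q) (h : MeetResAut E b R hRQ) : MeetResAut E b⁻¹ R hRQ := by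
  obtain ⟨a, ha, hx⟩ := h
  refine ⟨a⁻¹, (E.autGroup R).inv_mem ha, fun x => ?_⟩
  have e : b (Subgroup.inclusion hRQ (a⁻¹ x)) = Subgroup.inclusion hRQ x := by
    apply Subtype.ext
    rw [← hx, MulAut.apply_inv_self]
    rfl
  have e2 : b⁻¹ (Subgroup.inclusion hRQ x) = Subgroup.inclusion hRQ (a⁻¹ x) := by
    rw [MulAut.inv_apply, MulEquiv.symm_apply_eq, e]
  rw [e2]
  rfl

/-- `Λ`-automorphisms: `b ∈ Aut_F(Q_U)` with `[Q_U, b] ≤ Q_T^U` and `b|_{Q_T^U} ∈ Aut_E(Q_T^U)`. -/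
def meetLamAut (F : FusionSystem S) {T : Subgroup Ω} (E : FusionSystem T) (U : Subgroup Ω)
    (hTQ : meetQ T U ≤ meetQ S U) : Subgroup (MulAut ↥(meetQ S U)) where
  carrier := {b | b ∈ F.autGroup (meetQ S U) ∧
    (∀ x : ↥(meetQ S U), (x : Ω)⁻¹ * ((b x : ↥(meetQ S U)) : Ω) ∈ meetQ T U) ∧
    MeetResAut E b (meetQ T U) hTQ}
  one_mem' := ⟨(F.autGroup _).one_mem, fun x => by
    show (x : Ω)⁻¹ * (x : Ω) ∈ _
    rw [inv_mul_cancel]
    exact Subgroup.one_mem _, meet_hgen_resAut_one E _ _ hTQ⟩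
  mul_mem' := by
    rintro b₁ b₂ ⟨h₁, h₁c, h₁r⟩ ⟨h₂, h₂c, h₂r⟩
    refine ⟨(F.autGroup _).mul_mem h₁ h₂, fun x => ?_, meet_hgen_resAut_mul E b₁ b₂ _ hTQ h₁r h₂r⟩
    rw [MulAut.mul_apply]
    have e : (x : Ω)⁻¹ * ((b₁ (b₂ x) : ↥(meetQ S U)) : Ω) =
        ((x : Ω)⁻¹ * ((b₂ x : ↥(meetQ S U)) : Ω)) *
          (((b₂ x : ↥(meetQ S U)) : Ω)⁻¹ * ((b₁ (b₂ x) : ↥(meetQ S U)) : Ω)) := by group
    rw [e]
    exact Subgroup.mul_mem _ (h₂c x) (h₁c (b₂ x))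
  inv_mem' := by
    rintro b ⟨h, hc, hr⟩
    refine ⟨(F.autGroup _).inv_mem h, fun x => ?_, meet_hgen_resAut_inv E b _ hTQ hr⟩
    have h1 := hc (b⁻¹ x)
    rw [MulAut.apply_inv_self] at h1
    have e : (x : Ω)⁻¹ * ((b⁻¹ x : ↥(meetQ S U)) : Ω) =
        (((b⁻¹ x : ↥(meetQ S U)) : Ω)⁻¹ * (x : Ω))⁻¹ := by group
    rw [e]
    exact Subgroup.inv_mem _ h1

theorem meet_hgen_mem_lamAut (F : FusionSystem S) {T : Subgroup Ω} (E : FusionSystem T) (U : Subgroup Ω)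
    (hTQ : meetQ T U ≤ meetQ S U) (b : MulAut ↥(meetQ S U)) :
    b ∈ meetLamAut F E U hTQ ↔ b ∈ F.autGroup (meetQ S U) ∧
      (∀ x : ↥(meetQ S U), (x : Ω)⁻¹ * ((b x : ↥(meetQ S U)) : Ω) ∈ meetQ T U) ∧
      MeetResAut E b (meetQ T U) hTQ := Iff.rfl

theorem meet_hgen_QT_le_T {T U : Subgroup Ω} (hUT : U ≤ T) : meetQ T U ≤ T :=
  sup_le hUT inf_le_left

theorem meet_hgen_QT_le_Q {T U : Subgroup Ω} (hTS : T ≤ S) : meetQ T U ≤ meetQ S U :=
  sup_le_sup_left (inf_le_inf_right _ hTS) U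

theorem meet_hgen_Q_le_S {U : Subgroup Ω} (hUS : U ≤ S) : meetQ S U ≤ S :=
  sup_le hUS inf_le_left

/-- An automorphism of `Q_U` in `F` normalizing `U` maps `Q_T^U` into itself (`T` strongly closed). -/
theorem meet_hgen_map_QT [Finite S] (F : FusionSystem S) {T U : Subgroup Ω} (hT : F.StronglyClosed T)
    (hUS : U ≤ S) (γ : MulAut ↥(meetQ S U)) (hγ : γ ∈ F.autGroup (meetQ S U))
    (hγU : ∀ x : ↥(meetQ S U), (x : Ω) ∈ U → ((γ x : ↥(meetQ S U)) : Ω) ∈ U)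
    (x : ↥(meetQ S U)) (hx : (x : Ω) ∈ meetQ T U) : ((γ x : ↥(meetQ S U)) : Ω) ∈ meetQ T U := by
  have hQS : meetQ S U ≤ S := meet_hgen_Q_le_S hUS
  haveI : Finite ↥(meetQ S U) := Fusion.finite_of_le hQS
  haveI : Finite U := Fusion.finite_of_le hUS
  have hUQ : U ≤ meetQ S U := meet_le_Q S U
  -- `γ` maps `U` onto `U`
  have hsurj : ∀ u ∈ U, ∃ u' : ↥(meetQ S U), (u' : Ω) ∈ U ∧ ((γ u' : ↥(meetQ S U)) : Ω) = u := by
    intro u hu
    set f : U → U := fun y => ⟨((γ ⟨y, hUQ y.2⟩ : ↥(meetQ S U)) : Ω), hγU _ y.2⟩ with hf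
    have hinj : Function.Injective f := by
      intro y z hyz
      have h1 : ((γ ⟨y, hUQ y.2⟩ : ↥(meetQ S U)) : Ω) = ((γ ⟨z, hUQ z.2⟩ : ↥(meetQ S U)) : Ω) :=
        congrArg (fun w : U => (w : Ω)) hyz
      have h2 := γ.injective (Subtype.ext h1)
      exact Subtype.ext (congrArg (fun w : ↥(meetQ S U) => (w : Ω)) h2)
    obtain ⟨y, hy⟩ := (Finite.injective_iff_surjective.mp hinj) ⟨u, hu⟩
    exact ⟨⟨y, hUQ y.2⟩, y.2, congrArg Subtype.val hy⟩
  have hle : meetQ T U ≤ (((meetQ T U).subgroupOf (meetQ S U)).comap γ.toMonoidHom).map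
      (meetQ S U).subtype := by
    apply sup_le
    · intro u hu
      refine ⟨⟨u, hUQ hu⟩, ?_, rfl⟩
      rw [SetLike.mem_coe, Subgroup.mem_comap, Subgroup.mem_subgroupOf]
      exact (le_sup_left : U ≤ meetQ T U) (hγU ⟨u, hUQ hu⟩ hu)
    · intro c hc
      have hcS : c ∈ centralizerIn S U := Subgroup.mem_inf.mpr ⟨hT.1 hc.1, hc.2⟩
      have hcQ : c ∈ meetQ S U := (le_sup_right : centralizerIn S U ≤ meetQ S U) hcS
      refine ⟨⟨c, hcQ⟩, ?_, rfl⟩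
      rw [SetLike.mem_coe, Subgroup.mem_comap, Subgroup.mem_subgroupOf]
      apply (le_sup_right : centralizerIn T U ≤ meetQ T U)
      refine Subgroup.mem_inf.mpr ⟨Fusion.aut_mem_of_stronglyClosed F hQS hT γ hγ ⟨c, hcQ⟩ hc.1, ?_⟩
      rw [Subgroup.mem_centralizer_iff]
      intro u hu
      obtain ⟨u', hu'U, hu'⟩ := hsurj u hu
      have hcomm : u' * (⟨c, hcQ⟩ : ↥(meetQ S U)) = ⟨c, hcQ⟩ * u' := by
        apply Subtype.ext
        exact (Subgroup.mem_centralizer_iff.mp hc.2) (u' : Ω) hu'U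
      have h1 := congrArg (fun w : ↥(meetQ S U) => ((γ w : ↥(meetQ S U)) : Ω)) hcomm
      simp only [map_mul, Subgroup.coe_mul] at h1
      rw [hu'] at h1
      exact h1
  obtain ⟨y, hy, hyx⟩ := hle hx
  rw [SetLike.mem_coe, Subgroup.mem_comap, Subgroup.mem_subgroupOf] at hy
  have : y = x := Subtype.ext hyx
  rw [← this]
  exact hy

/-- `meetLamAut` is normalized by the automorphisms of `Q_U` in `F` normalizing `U`. -/
theorem meet_hgen_lamAut_conj [Finite S] (F : FusionSystem S) {T : Subgroup Ω} (E : FusionSystem T)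
    (hinv : E.IsInvariantIn F) {U : Subgroup Ω} (hUT : U ≤ T) (γ : MulAut ↥(meetQ S U))
    (hγ : γ ∈ F.autGroup (meetQ S U))
    (hγU : ∀ x : ↥(meetQ S U), (x : Ω) ∈ U → ((γ x : ↥(meetQ S U)) : Ω) ∈ U)
    (b : MulAut ↥(meetQ S U))
    (hb : b ∈ meetLamAut F E U (meet_hgen_QT_le_Q hinv.2.1.1)) :
    γ * b * γ⁻¹ ∈ meetLamAut F E U (meet_hgen_QT_le_Q hinv.2.1.1) := by
  have hT : F.StronglyClosed T := hinv.2.1
  have hTS : T ≤ S := hT.1
  have hUS : U ≤ S := hUT.trans hTS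
  have hQS : meetQ S U ≤ S := meet_hgen_Q_le_S hUS
  have hTQ : meetQ T U ≤ meetQ S U := meet_hgen_QT_le_Q hTS
  have hQT : meetQ T U ≤ T := meet_hgen_QT_le_T hUT
  haveI : Finite ↥(meetQ S U) := Fusion.finite_of_le hQS
  haveI : Finite ↥(meetQ T U) := Fusion.finite_of_le (hTQ.trans hQS)
  obtain ⟨hbF, hbc, a, ha, hax⟩ := hb
  have hγQT := meet_hgen_map_QT F hT hUS γ hγ hγU
  have hγ' : γ⁻¹ ∈ F.autGroup (meetQ S U) := (F.autGroup _).inv_mem hγ
  obtain ⟨γT, hγT, hγTx⟩ := Fusion.exists_restrict_aut F hQS hTQ γ hγ hγQT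
  have hincl : ∀ x : ↥(meetQ T U), γ (Subgroup.inclusion hTQ x) = Subgroup.inclusion hTQ (γT x) :=
    fun x => Subtype.ext (hγTx x).symm
  have hincl' : ∀ x : ↥(meetQ T U), γ⁻¹ (Subgroup.inclusion hTQ x) =
      Subgroup.inclusion hTQ (γT⁻¹ x) := by
    intro x
    rw [MulAut.inv_apply, MulEquiv.symm_apply_eq, hincl, MulAut.apply_inv_self]
  have hγinvQT : ∀ x : ↥(meetQ S U), (x : Ω) ∈ meetQ T U →
      ((γ⁻¹ x : ↥(meetQ S U)) : Ω) ∈ meetQ T U := by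
    intro x hx
    have h1 := hincl' ⟨x, hx⟩
    have h2 : Subgroup.inclusion hTQ (⟨(x : Ω), hx⟩ : ↥(meetQ T U)) = x := Subtype.ext rfl
    rw [h2] at h1
    rw [h1]
    exact (γT⁻¹ ⟨x, hx⟩).2
  refine ⟨(F.autGroup _).mul_mem ((F.autGroup _).mul_mem hγ hbF) hγ', fun x => ?_, ?_⟩
  · rw [MulAut.mul_apply, MulAut.mul_apply]
    have h1 := hbc (γ⁻¹ x)
    have h2 : (((γ⁻¹ x)⁻¹ * b (γ⁻¹ x) : ↥(meetQ S U)) : Ω) ∈ meetQ T U := h1
    have h3 := hγQT _ h2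
    rw [map_mul, map_inv, MulAut.apply_inv_self] at h3
    exact h3
  · have hSI := SI_of_invariant F E hinv
    refine ⟨γT * a * γT⁻¹, conj_mem_autGroup F E hSI hTS hQT γT a hγT ha, fun x => ?_⟩
    rw [MulAut.mul_apply, MulAut.mul_apply, MulAut.mul_apply, MulAut.mul_apply, hincl', hγTx]
    congr 2
    apply Subtype.ext
    exact hax (γT⁻¹ x)

section

variable {p : ℕ} {F : FusionSystem S} {W U : Subgroup Ω} {G : Type u} [Group G]
  {ι : ↥(normalizerIn S U) →* G}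

/-- `Λ_T(U)`: the elements of `G` acting on `Q_U` as elements of `meetLamAut`. -/
noncomputable def meetLam [Finite S] (hG : MeetLocGrp p F W U ι) {T : Subgroup Ω} (E : FusionSystem T)
    (hTQ : meetQ T U ≤ meetQ S U) : Subgroup G :=
  (meetLamAut F E U hTQ).comap (meetAct hG)

theorem meet_hgen_mem_lam [Finite S] (hG : MeetLocGrp p F W U ι) {T : Subgroup Ω} (E : FusionSystem T)
    (hTQ : meetQ T U ≤ meetQ S U) (g : G) :
    g ∈ meetLam hG E hTQ ↔ meetAct hG g ∈ meetLamAut F E U hTQ := Iff.rfl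

theorem meet_hgen_lam_normal [Finite S] (hG : MeetLocGrp p F W U ι) {T : Subgroup Ω}
    (E : FusionSystem T) (hinv : E.IsInvariantIn F) (hUT : U ≤ T) :
    (meetLam hG E (meet_hgen_QT_le_Q hinv.2.1.1)).Normal := by
  refine ⟨fun n hn g => ?_⟩
  rw [meet_hgen_mem_lam] at hn ⊢
  rw [map_mul, map_mul, map_inv]
  exact meet_hgen_lamAut_conj F E hinv hUT _ (meet_hgen_act_mem hG g) (meet_hgen_act_U hG g) _ hn

/-- `meetGen` is the set of the elements of `Λ_T(U)` of order prime to `p`. -/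
theorem meet_hgen_mem_gen_iff [Finite S] (hG : MeetLocGrp p F W U ι) {T : Subgroup Ω}
    (E : FusionSystem T) (hTS : T ≤ S) (hUT : U ≤ T) (g : G) :
    g ∈ meetGen p F E U ι hG.hQ ↔
      (orderOf g).Coprime p ∧ g ∈ meetLam hG E (meet_hgen_QT_le_Q hTS) := by
  haveI : Finite T := Fusion.finite_of_le hTS
  constructor
  · rintro ⟨ho, b, hb, hind, hc, hr⟩
    refine ⟨ho, ?_⟩
    rw [meet_hgen_mem_lam, ← meet_hgen_act_eq hG g b hind]
    obtain ⟨hRQ, hra⟩ := meet_hgen_resAut_of_resIn E b _ hr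
    exact ⟨hb, hc, hra⟩
  · rintro ⟨ho, hg⟩
    obtain ⟨hb, hc, hr⟩ := hg
    exact ⟨ho, meetAct hG g, hb, fun x => meet_hgen_act_spec hG g x, hc,
      meet_hgen_resIn_of_resAut E _ _ (meet_hgen_QT_le_T hUT) _ hr⟩

end

end Cfsg.Agent.MEET
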