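import Mathlib
import Cfsg.Prelude.Def_FusionComponents
import Cfsg.Agent.MEET.LocDefs
import Cfsg.Agent.MEET.HgenA
import Cfsg.Agent.MEET.HgenB
import Cfsg.Agent.MEET.HgenC
import Cfsg.Agent.MEET.HgenD
import Cfsg.Agent.Lead.FusionSub

/-!
MEET project, Route Q (`notes/MEET_helper8.md` section 12): (Q1) and (Q2) (helper2).

`meet_hgen_normal`: `H_T(U)` is normal in the local group `G`.  `meet_hgen_syl`: `H_T(U) ∩ N_S(U) = N_T(U)`.
Frozen headers of `notes/MEET_headers2.lean.txt`.  `H_T(U) = meetHgen p Λ_T(U) ι(N_T(U))` (`meet_hgen_Hi_eq`), so both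
follow from the group-theoretic core `MEET/HgenB.lean` (helper4's (GT')) and the dictionary `MEET/HgenC/D.lean`;
the hypothesis (im) of (GT') is `meet_hgen_im` (`MEET/HgenA.lean`).
-/

set_option autoImplicit false
set_option linter.unusedSectionVars false
set_option linter.unusedVariables false
set_option linter.style.haveILetI false

namespace Cfsg.Agent.MEET

open Cfsg Cfsg.FusionSystem Cfsg.Agent.Lead Cfsg.Agent.Lead.StrongInv Cfsg.Agent.CSE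

universe u

variable {Ω : Type u} [Group Ω] {S : Subgroup Ω}

theorem meet_hgen_pprime_iff {G : Type*} [Group G] (p : ℕ) (g : G) :
    (orderOf g).Coprime p ↔ ∃ m : ℕ, m.Coprime p ∧ g ^ m = 1 :=
  ⟨fun h => ⟨orderOf g, h, pow_orderOf_eq_one g⟩, fun ⟨m, hm, hgm⟩ =>
    Nat.Coprime.coprime_dvd_left (orderOf_dvd_of_pow_eq_one hgm) hm⟩

/-- The closure of a set stable under conjugation is normal. -/
theorem meet_hgen_closure_normal {G : Type*} [Group G] (s : Set G)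
    (h : ∀ x ∈ s, ∀ g : G, g * x * g⁻¹ ∈ s) : (Subgroup.closure s).Normal := by
  have e : Group.conjugatesOfSet s = s := by
    apply Set.Subset.antisymm
    · intro x hx
      obtain ⟨a, ha, hax⟩ := Group.mem_conjugatesOfSet_iff.mp hx
      obtain ⟨c, hc⟩ := isConj_iff.mp hax
      rw [← hc]
      exact h a ha c
    · exact Group.subset_conjugatesOfSet
  have e2 : Subgroup.closure s = Subgroup.normalClosure s := by
    unfold Subgroup.normalClosure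
    rw [e]
  rw [e2]
  exact Subgroup.normalClosure_normal

section

variable {p : ℕ} {F : FusionSystem S} {W U : Subgroup Ω} {G : Type u} [Group G]
  {ι : ↥(normalizerIn S U) →* G}

/-- The image of `X ∩ N_S(U)` in `G`. -/
def meetIm (ι : ↥(normalizerIn S U) →* G) (X : Subgroup Ω) : Subgroup G :=
  (X.subgroupOf (normalizerIn S U)).map ι

theorem meet_hgen_mem_im (ι : ↥(normalizerIn S U) →* G) (X : Subgroup Ω) (g : G) :
    g ∈ meetIm ι X ↔ ∃ x : ↥(normalizerIn S U), (x : Ω) ∈ X ∧ ι x = g := by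
  unfold meetIm
  constructor
  · rintro ⟨x, hx, rfl⟩
    exact ⟨x, Subgroup.mem_subgroupOf.mp hx, rfl⟩
  · rintro ⟨x, hx, rfl⟩
    exact ⟨x, Subgroup.mem_subgroupOf.mpr hx, rfl⟩

theorem meet_hgen_im_le_range (ι : ↥(normalizerIn S U) →* G) (X : Subgroup Ω) :
    meetIm ι X ≤ ι.range := by
  rintro _ ⟨x, -, rfl⟩
  exact ⟨x, rfl⟩

/-- The value of the action of `ι s` on `Q_U`. -/
theorem meet_hgen_act_iota [Finite S] (hG : MeetLocGrp p F W U ι) (s : ↥(normalizerIn S U))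
    (x : ↥(meetQ S U)) :
    ((meetAct hG (ι s) x : ↥(meetQ S U)) : Ω) = (s : Ω) * (x : Ω) * (s : Ω)⁻¹ := by
  have h1 := meet_hgen_act_spec hG (ι s) x
  have h2 : ι s * ι ⟨x, hG.hQ x.2⟩ * (ι s)⁻¹ = ι (s * ⟨x, hG.hQ x.2⟩ * s⁻¹) := by
    rw [map_mul, map_mul, map_inv]
  rw [h2] at h1
  exact congrArg Subtype.val (hG.inj h1)

/-- `g ι(x) g⁻¹ = ι(meetAct g x)`. -/
theorem meet_hgen_conj_iota [Finite S] (hG : MeetLocGrp p F W U ι) (g : G)
    (x : ↥(normalizerIn S U)) (hx : (x : Ω) ∈ meetQ S U) :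
    g * ι x * g⁻¹ = ι ⟨((meetAct hG g ⟨x, hx⟩ : ↥(meetQ S U)) : Ω),
      hG.hQ (meetAct hG g ⟨x, hx⟩).2⟩ :=
  (meet_hgen_act_spec hG g ⟨x, hx⟩).symm

/-- `[Q_U, t] ≤ Q_T^U` for `t ∈ N_T(U)`. -/
theorem meet_hgen_comm_QT {T U : Subgroup Ω} (hTS : T ≤ S)
    (hTn : S ≤ Subgroup.normalizer (T : Set Ω)) (t : Ω) (htT : t ∈ T)
    (htN : t ∈ Subgroup.normalizer (U : Set Ω)) (x : Ω) (hx : x ∈ meetQ S U) :
    x⁻¹ * (t * x * t⁻¹) ∈ meetQ T U := by
  have hmul := Subgroup.coe_mul_of_right_le_normalizer_left U (centralizerIn S U)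
    ((inf_le_right : centralizerIn S U ≤ _).trans (Subgroup.centralizer_le_normalizer _))
  have hx' : x ∈ ((U ⊔ centralizerIn S U : Subgroup Ω) : Set Ω) := hx
  rw [hmul] at hx'
  obtain ⟨u, hu, c, hc, rfl⟩ := hx'
  have hcS : c ∈ S := hc.1
  have hcC : ∀ y ∈ U, y * c = c * y := fun y hy => Subgroup.mem_centralizer_iff.mp hc.2 y hy
  have hu' : u⁻¹ * (t * u * t⁻¹) ∈ U :=
    U.mul_mem (U.inv_mem hu) ((Subgroup.mem_normalizer_iff.mp htN u).mp hu)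
  have hc1 : c⁻¹ * t * c ∈ T := by
    have h1 := (Subgroup.mem_normalizer_iff.mp (hTn (S.inv_mem hcS)) t).mp htT
    rwa [inv_inv] at h1
  have hc2 : c⁻¹ * t * c * t⁻¹ ∈ centralizerIn T U := by
    refine Subgroup.mem_inf.mpr ⟨T.mul_mem hc1 (T.inv_mem htT), ?_⟩
    rw [Subgroup.mem_centralizer_iff]
    intro y hy
    have hy1 : t⁻¹ * y * t ∈ U := by
      have h1 := (Subgroup.mem_normalizer_iff.mp (Subgroup.inv_mem _ htN) y).mp hy
      rwa [inv_inv] at h1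
    have h2 := hcC _ hy1
    have h3 := hcC y hy
    have h3' : c⁻¹ * y = y * c⁻¹ := by
      have : y = c * y * c⁻¹ := by rw [← h3]; group
      calc c⁻¹ * y = c⁻¹ * (c * y * c⁻¹) := by rw [← this]
        _ = y * c⁻¹ := by group
    calc y * (c⁻¹ * t * c * t⁻¹) = (y * c⁻¹) * t * c * t⁻¹ := by group
      _ = (c⁻¹ * y) * t * c * t⁻¹ := by rw [h3']
      _ = c⁻¹ * t * ((t⁻¹ * y * t) * c) * t⁻¹ := by group
      _ = c⁻¹ * t * (c * (t⁻¹ * y * t)) * t⁻¹ := by rw [h2]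
      _ = c⁻¹ * t * c * t⁻¹ * y := by group
  have hcu : c⁻¹ * (u⁻¹ * (t * u * t⁻¹)) * c = u⁻¹ * (t * u * t⁻¹) := by
    have h1 := hcC _ hu'
    calc c⁻¹ * (u⁻¹ * (t * u * t⁻¹)) * c = c⁻¹ * ((u⁻¹ * (t * u * t⁻¹)) * c) := by group
      _ = c⁻¹ * (c * (u⁻¹ * (t * u * t⁻¹))) := by rw [h1]
      _ = u⁻¹ * (t * u * t⁻¹) := by group
  have e : (u * c)⁻¹ * (t * (u * c) * t⁻¹) =
      (c⁻¹ * (u⁻¹ * (t * u * t⁻¹)) * c) * (c⁻¹ * t * c * t⁻¹) := by group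
  rw [e, hcu]
  exact Subgroup.mul_mem_sup hu' hc2

/-- An element of `N_S(U)` normalizes `Q_T^U` (`T` normal in `S`). -/
theorem meet_hgen_normalizer_QT {T U : Subgroup Ω} [Finite S] (hTS : T ≤ S)
    (hTn : S ≤ Subgroup.normalizer (T : Set Ω)) (hUT : U ≤ T) :
    normalizerIn S U ≤ Subgroup.normalizer ((meetQ T U : Subgroup Ω) : Set Ω) := by
  intro s hs
  haveI : Finite ↥(meetQ T U) := Fusion.finite_of_le ((meet_hgen_QT_le_T hUT).trans hTS)
  apply mem_normalizer_of_conj_mem_of_finite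
  have hsN := hs.2
  have hle : meetQ T U ≤ (meetQ T U).comap (MulAut.conj s).toMonoidHom := by
    apply sup_le
    · intro u hu
      rw [Subgroup.mem_comap]
      exact (le_sup_left : U ≤ meetQ T U) ((Subgroup.mem_normalizer_iff.mp hsN u).mp hu)
    · intro c hc
      rw [Subgroup.mem_comap]
      apply (le_sup_right : centralizerIn T U ≤ meetQ T U)
      refine Subgroup.mem_inf.mpr ⟨(Subgroup.mem_normalizer_iff.mp (hTn hs.1) c).mp hc.1, ?_⟩
      rw [Subgroup.mem_centralizer_iff]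
      intro y hy
      have hy1 : s⁻¹ * y * s ∈ U := by
        have h1 := (Subgroup.mem_normalizer_iff.mp (Subgroup.inv_mem _ hsN) y).mp hy
        rwa [inv_inv] at h1
      have h2 := Subgroup.mem_centralizer_iff.mp hc.2 _ hy1
      show y * (s * c * s⁻¹) = s * c * s⁻¹ * y
      calc y * (s * c * s⁻¹) = s * ((s⁻¹ * y * s) * c) * s⁻¹ := by group
        _ = s * (c * (s⁻¹ * y * s)) * s⁻¹ := by rw [h2]
        _ = s * c * s⁻¹ * y := by group
  intro y hy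
  exact hle hy

/-- `ι(N_T(U)) ≤ Λ_T(U)`. -/
theorem meet_hgen_imT_le_lam [Finite S] (hG : MeetLocGrp p F W U ι) {T : Subgroup Ω}
    (E : FusionSystem T) (hT : F.StronglyClosed T) (hUT : U ≤ T) :
    meetIm ι T ≤ meetLam hG E (meet_hgen_QT_le_Q hT.1) := by
  intro g hg
  obtain ⟨t, htT, rfl⟩ := (meet_hgen_mem_im ι T g).mp hg
  rw [meet_hgen_mem_lam, meet_hgen_mem_lamAut]
  have hTn := Fusion.le_normalizer_of_stronglyClosed F hT
  refine ⟨meet_hgen_act_mem hG _, fun x => ?_, ?_⟩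
  · rw [meet_hgen_act_iota]
    exact meet_hgen_comm_QT hT.1 hTn t htT t.2.2 x x.2
  · have htN : (t : Ω) ∈ Subgroup.normalizer ((meetQ T U : Subgroup Ω) : Set Ω) :=
      meet_hgen_normalizer_QT hT.1 hTn hUT t.2
    refine ⟨conjAutHom (meetQ T U) ⟨t, htN⟩, ?_, fun x => ?_⟩
    · exact Fusion.autInducedBy_le_autGroup E (meet_hgen_QT_le_T hUT)
        (Fusion.conjAutHom_mem_autInducedBy _ _ htT)
    · rw [meet_hgen_act_iota]
      rfl

/-- `ι(N_T(U))` is strongly closed in `ι(N_S(U))` with respect to `G`. -/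
theorem meet_hgen_sc' [Finite S] (hG : MeetLocGrp p F W U ι) {T : Subgroup Ω}
    (hT : F.StronglyClosed T) (h : G) (t : G) (ht : t ∈ meetIm ι T)
    (hr : h * t * h⁻¹ ∈ ι.range) : h * t * h⁻¹ ∈ meetIm ι T := by
  obtain ⟨t₀, ht₀, rfl⟩ := (meet_hgen_mem_im ι T t).mp ht
  obtain ⟨y, hy⟩ := hr
  have hX : Subgroup.zpowers (t₀ : Ω) ≤ normalizerIn S U := Subgroup.zpowers_le.mpr t₀.2
  have h1 : ∀ x : ↥(Subgroup.zpowers (t₀ : Ω)), ∃ z : ↥(normalizerIn S U),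
      ι z = h * ι ⟨x, hX x.2⟩ * h⁻¹ := by
    intro x
    obtain ⟨k, hk⟩ := Subgroup.mem_zpowers_iff.mp x.2
    refine ⟨y ^ k, ?_⟩
    have e : (⟨(x : Ω), hX x.2⟩ : ↥(normalizerIn S U)) = t₀ ^ k := by
      apply Subtype.ext
      rw [Subgroup.coe_zpow]
      exact hk.symm
    rw [map_zpow, hy, e, map_zpow, conj_zpow]
  obtain ⟨φ, hφN, hφ⟩ := meet_hgen_exists_ind ι hG.inj h hX h1
  have hφF : φ ∈ F.Hom (Subgroup.zpowers (t₀ : Ω)) := hG.hom h _ hX φ hφN hφ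
  have hXT : Subgroup.zpowers (t₀ : Ω) ≤ T := Subgroup.zpowers_le.mpr ht₀
  have h2 : φ ⟨t₀, Subgroup.mem_zpowers _⟩ ∈ T := hT.2 _ hXT φ hφF _
  have h3 := hφ ⟨t₀, Subgroup.mem_zpowers _⟩
  exact (meet_hgen_mem_im ι T _).mpr ⟨⟨φ ⟨t₀, Subgroup.mem_zpowers _⟩, hφN _⟩, h2, h3⟩

theorem meet_hgen_sc [Finite S] (hG : MeetLocGrp p F W U ι) {T : Subgroup Ω}
    (hT : F.StronglyClosed T) : ∀ g : G, ∀ t ∈ meetIm ι T, g⁻¹ * t * g ∈ ι.range →
      g⁻¹ * t * g ∈ meetIm ι T := by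
  intro g t ht hr
  have h1 := meet_hgen_sc' hG hT g⁻¹ t ht (by rwa [inv_inv])
  rwa [inv_inv] at h1

theorem meet_hgen_imQ_normal [Finite S] (hG : MeetLocGrp p F W U ι) :
    (meetIm ι (meetQ S U)).Normal := by
  refine ⟨fun n hn g => ?_⟩
  obtain ⟨x, hx, rfl⟩ := (meet_hgen_mem_im ι _ n).mp hn
  rw [meet_hgen_conj_iota hG g x hx]
  exact (meet_hgen_mem_im ι _ _).mpr ⟨_, (meetAct hG g ⟨x, hx⟩).2, rfl⟩

theorem meet_hgen_imQT_normal [Finite S] (hG : MeetLocGrp p F W U ι) {T : Subgroup Ω}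
    (hT : F.StronglyClosed T) (hUT : U ≤ T) : (meetIm ι (meetQ T U)).Normal := by
  refine ⟨fun n hn g => ?_⟩
  obtain ⟨x, hx, rfl⟩ := (meet_hgen_mem_im ι _ n).mp hn
  have hxQ : (x : Ω) ∈ meetQ S U := meet_hgen_QT_le_Q hT.1 hx
  rw [meet_hgen_conj_iota hG g x hxQ]
  refine (meet_hgen_mem_im ι _ _).mpr ⟨_, ?_, rfl⟩
  exact meet_hgen_map_QT F hT (hUT.trans hT.1) _ (meet_hgen_act_mem hG g) (meet_hgen_act_U hG g)
    ⟨x, hxQ⟩ hx

/-- `[Q_U, Λ_T(U)] ≤ Q_T^U`, in `G`. -/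
theorem meet_hgen_lam_comm [Finite S] (hG : MeetLocGrp p F W U ι) {T : Subgroup Ω}
    (E : FusionSystem T) (hTS : T ≤ S) (g : G) (hg : g ∈ meetLam hG E (meet_hgen_QT_le_Q hTS))
    (k : G) (hk : k ∈ meetIm ι (meetQ S U)) : k⁻¹ * (g⁻¹ * k * g) ∈ meetIm ι (meetQ T U) := by
  obtain ⟨x, hx, rfl⟩ := (meet_hgen_mem_im ι _ k).mp hk
  have hg' : g⁻¹ ∈ meetLam hG E (meet_hgen_QT_le_Q hTS) := Subgroup.inv_mem _ hg
  obtain ⟨-, hc, -⟩ := hg'
  have h1 := meet_hgen_conj_iota hG g⁻¹ x hx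
  rw [inv_inv] at h1
  rw [h1, ← map_inv, ← map_mul]
  exact (meet_hgen_mem_im ι _ _).mpr ⟨_, hc ⟨x, hx⟩, rfl⟩

/-- `C_{N_S(U)}(Q_T^U) ≤ Q_U`, in `G`. -/
theorem meet_hgen_cent_le [Finite S] (hG : MeetLocGrp p F W U ι) {T : Subgroup Ω} (hUS : U ≤ S) :
    ι.range ⊓ Subgroup.centralizer ((meetIm ι (meetQ T U) : Subgroup G) : Set G) ≤
      meetIm ι (meetQ S U) := by
  rintro _ ⟨⟨s, rfl⟩, hc⟩
  refine (meet_hgen_mem_im ι _ _).mpr ⟨s, ?_, rfl⟩
  apply (le_sup_right : centralizerIn S U ≤ meetQ S U)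
  refine Subgroup.mem_inf.mpr ⟨s.2.1, ?_⟩
  rw [Subgroup.mem_centralizer_iff]
  intro u hu
  have huN : u ∈ normalizerIn S U := Subgroup.mem_inf.mpr ⟨hUS hu, Subgroup.le_normalizer hu⟩
  have h1 : ι ⟨u, huN⟩ ∈ meetIm ι (meetQ T U) :=
    (meet_hgen_mem_im ι _ _).mpr ⟨⟨u, huN⟩, (le_sup_left : U ≤ meetQ T U) hu, rfl⟩
  have h2 := (Subgroup.mem_centralizer_iff.mp hc) _ h1
  rw [← map_mul, ← map_mul] at h2
  exact congrArg Subtype.val (hG.inj h2)

/-- (im) in `G`: an element of `Λ_T(U) ∩ ι(N_S(U))` acts on `ι(Q_T^U)` like an element of `ι(N_T(U))`. -/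
theorem meet_hgen_im_grp [Finite S] [Fact p.Prime] (hS : IsPGroup p S) (hF : F.IsSaturated p)
    (hG : MeetLocGrp p F W U ι) {T : Subgroup Ω} (E : FusionSystem T) (hEsat : E.IsSaturated p)
    (hsub : E.IsSubsystemOf F) (hT : F.StronglyClosed T) (hUT : U ≤ T)
    (hUfn : F.IsFullyNormalized U) (s : G)
    (hs : s ∈ meetLam hG E (meet_hgen_QT_le_Q hT.1) ⊓ ι.range) :
    ∃ t ∈ meetIm ι T, t⁻¹ * s ∈ Subgroup.centralizer ((meetIm ι (meetQ T U) : Subgroup G) : Set G) := by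
  obtain ⟨hsΛ, s₀, rfl⟩ := hs
  have hTS := hT.1
  have hTn := Fusion.le_normalizer_of_stronglyClosed F hT
  have hUE : E.IsFullyNormalized U :=
    (Fusion.fully_of_subsystem p hS F hF T hT E hsub U hUT).2 hUfn
  have hQn := meet_hgen_normalizer_QT (S := S) hTS hTn hUT
  have hQN : meetQ T U ≤ normalizerIn T U :=
    sup_le (fun u hu => Subgroup.mem_inf.mpr ⟨hUT hu, Subgroup.le_normalizer hu⟩)
      (inf_le_inf_left _ (Subgroup.centralizer_le_normalizer _))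
  obtain ⟨-, -, a, ha, hax⟩ := hsΛ
  have hconj : conjAutHom (meetQ T U) ⟨(s₀ : Ω), hQn s₀.2⟩ ∈ E.autGroup (meetQ T U) := by
    have e : conjAutHom (meetQ T U) ⟨(s₀ : Ω), hQn s₀.2⟩ = a := by
      ext x
      rw [hax x, meet_hgen_act_iota]
      rfl
    rw [e]
    exact ha
  obtain ⟨t₀, ht₀, htx⟩ := meet_hgen_im p hS hTS E hEsat hUE (le_sup_left : U ≤ meetQ T U) hQN hQn
    (s₀ : Ω) s₀.2 hconj
  have ht₀N : t₀ ∈ normalizerIn S U := Subgroup.mem_inf.mpr ⟨hTS ht₀.1, ht₀.2⟩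
  refine ⟨ι ⟨t₀, ht₀N⟩, (meet_hgen_mem_im ι _ _).mpr ⟨⟨t₀, ht₀N⟩, ht₀.1, rfl⟩, ?_⟩
  rw [Subgroup.mem_centralizer_iff]
  intro h hh
  obtain ⟨x, hx, rfl⟩ := (meet_hgen_mem_im ι _ h).mp hh
  rw [← map_inv, ← map_mul, ← map_mul, ← map_mul]
  congr 1
  apply Subtype.ext
  have h1 := htx (x : Ω) hx
  show (x : Ω) * (t₀⁻¹ * (s₀ : Ω)) = t₀⁻¹ * (s₀ : Ω) * (x : Ω)
  have h2 : (x : Ω) = t₀⁻¹ * ((s₀ : Ω) * (x : Ω) * (s₀ : Ω)⁻¹) * t₀ := by
    rw [← h1]; group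
  calc (x : Ω) * (t₀⁻¹ * (s₀ : Ω)) = (t₀⁻¹ * ((s₀ : Ω) * (x : Ω) * (s₀ : Ω)⁻¹) * t₀) *
        (t₀⁻¹ * (s₀ : Ω)) := by rw [← h2]
    _ = t₀⁻¹ * (s₀ : Ω) * (x : Ω) := by group

/-- The generating set of `H_T(U)` is stable under conjugation. -/
theorem meet_hgen_gen_conj [Finite S] (hG : MeetLocGrp p F W U ι) {T : Subgroup Ω}
    (E : FusionSystem T) (hinv : E.IsInvariantIn F) (g : G)
    (hg : g ∈ meetGen p F E U ι hG.hQ) (h : G) : h * g * h⁻¹ ∈ meetGen p F E U ι hG.hQ := by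
  have hTS : T ≤ S := hinv.2.1.1
  have hUT : U ≤ T := by
    obtain ⟨-, b, -, -, -, hRQ, hφ, -⟩ := hg
    exact (le_sup_left : U ≤ meetQ T U).trans (E.le_of_mem hφ).1
  haveI := meet_hgen_lam_normal hG E hinv hUT
  rw [meet_hgen_mem_gen_iff hG E hTS hUT] at hg ⊢
  refine ⟨?_, Subgroup.Normal.conj_mem inferInstance g hg.2 h⟩
  have e : orderOf (h * g * h⁻¹) = orderOf g := by
    have := orderOf_injective (MulAut.conj h).toMonoidHom (MulAut.conj h).injective g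
    simpa using this
  rw [e]
  exact hg.1

/-- `H_T(U)` in the form of the group-theoretic core. -/
theorem meet_hgen_Hi_eq [Finite S] (hG : MeetLocGrp p F W U ι) {T : Subgroup Ω} (E : FusionSystem T)
    (hinv : E.IsInvariantIn F) (hUT : U ≤ T) :
    meetHi p F E U ι hG.hQ =
      meetHgen p (meetLam hG E (meet_hgen_QT_le_Q hinv.2.1.1)) (meetIm ι T) := by
  have hTS : T ≤ S := hinv.2.1.1
  haveI := meet_hgen_lam_normal hG E hinv hUT
  have hnorm : (meetHi p F E U ι hG.hQ).Normal := by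
    unfold meetHi
    apply meet_hgen_closure_normal
    rintro x (hx | ⟨g, t, ht, rfl⟩) k
    · exact Or.inl (meet_hgen_gen_conj hG E hinv x hx k)
    · refine Or.inr ⟨k * g, t, ht, ?_⟩
      group
  apply le_antisymm
  · unfold meetHi
    rw [Subgroup.closure_le]
    rintro x (hx | ⟨g, t, ht, rfl⟩)
    · apply Subgroup.subset_normalClosure
      left
      rw [meet_hgen_mem_gen_iff hG E hTS hUT] at hx
      exact ⟨hx.2, (meet_hgen_pprime_iff p x).mp hx.1⟩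
    · apply Subgroup.Normal.conj_mem inferInstance
      exact meet_hgen_grp_T_le p _ _ ((meet_hgen_mem_im ι T _).mpr ⟨t, ht, rfl⟩)
  · unfold meetHgen
    apply Subgroup.normalClosure_le_normal
    rintro x (hx | hx)
    · apply Subgroup.subset_closure
      left
      rw [meet_hgen_mem_gen_iff hG E hTS hUT]
      exact ⟨(meet_hgen_pprime_iff p x).mpr hx.2, hx.1⟩
    · obtain ⟨t, ht, rfl⟩ := (meet_hgen_mem_im ι T x).mp hx
      apply Subgroup.subset_closure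
      right
      exact ⟨1, t, ht, by group⟩

/-- (Q1) `H_T(U)` is normal in `G(U)`. -/
theorem meet_hgen_normal [Finite S] [Fact p.Prime] (hS : IsPGroup p S) (hF : F.IsSaturated p)
    {T : Subgroup Ω} (E : FusionSystem T) (hE : E.IsNormalIn F p) {W U : Subgroup Ω}
    (hU : U ∈ meetUf F W) {G : Type u} [Group G] {ι : ↥(normalizerIn S U) →* G}
    (hG : MeetLocGrp p F W U ι) : (meetHi p F E U ι hG.hQ).Normal := by
  unfold meetHi
  apply meet_hgen_closure_normal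
  rintro x (hx | ⟨g, t, ht, rfl⟩) k
  · exact Or.inl (meet_hgen_gen_conj hG E hE.1.2.2 x hx k)
  · refine Or.inr ⟨k * g, t, ht, ?_⟩
    group

/-- (Q2) (H-syl) `H_T(U) ∩ N_S(U) = N_T(U)`. -/
theorem meet_hgen_syl [Finite S] [Fact p.Prime] (hS : IsPGroup p S) (hF : F.IsSaturated p)
    {T : Subgroup Ω} (E : FusionSystem T) (hE : E.IsNormalIn F p) {W U : Subgroup Ω} (hWT : W ≤ T)
    (hU : U ∈ meetUf F W) {G : Type u} [Group G] {ι : ↥(normalizerIn S U) →* G}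
    (hG : MeetLocGrp p F W U ι) (x : ↥(normalizerIn S U)) :
    ι x ∈ meetHi p F E U ι hG.hQ ↔ (x : Ω) ∈ T := by
  have hinv := hE.1.2.2
  have hT : F.StronglyClosed T := hinv.2.1
  have hTS : T ≤ S := hT.1
  have hUT : U ≤ T := hU.1.1.trans hWT
  have hUS : U ≤ S := hUT.trans hTS
  rw [meet_hgen_Hi_eq hG E hinv hUT]
  constructor
  · intro hx
    haveI := hG.fin
    haveI := meet_hgen_lam_normal hG E hinv hUT
    haveI := meet_hgen_imQ_normal hG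
    haveI := meet_hgen_imQT_normal hG hT hUT
    obtain ⟨P, hP⟩ := hG.syl
    have hSp : IsPGroup p ι.range := hP ▸ P.isPGroup'
    have hSidx : ¬ p ∣ ι.range.index := hP ▸ P.not_dvd_index
    have hQiT : meetIm ι (meetQ T U) ≤ meetIm ι T := by
      intro g hg
      obtain ⟨y, hy, rfl⟩ := (meet_hgen_mem_im ι _ g).mp hg
      exact (meet_hgen_mem_im ι _ _).mpr ⟨y, meet_hgen_QT_le_T hUT hy, rfl⟩
    have heq := meet_hgen_grp_syl p ι.range (meetIm ι T) (meetIm ι (meetQ S U))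
      (meetIm ι (meetQ T U)) (meetLam hG E (meet_hgen_QT_le_Q hTS)) hSp hSidx
      (meet_hgen_im_le_range ι T) (meet_hgen_sc hG hT) (meet_hgen_im_le_range ι _) hQiT
      (meet_hgen_imT_le_lam hG E hT hUT) (meet_hgen_lam_comm hG E hTS) (meet_hgen_cent_le hG hUS)
      (meet_hgen_im_grp hS hF hG E hE.1.1 hinv.1 hT hUT hU.2)
    have h1 : ι x ∈ meetHgen p (meetLam hG E (meet_hgen_QT_le_Q hTS)) (meetIm ι T) ⊓ ι.range :=
      ⟨hx, x, rfl⟩
    rw [heq] at h1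
    obtain ⟨t, ht, htx⟩ := (meet_hgen_mem_im ι T _).mp h1
    rw [← hG.inj htx]
    exact ht
  · intro hx
    exact meet_hgen_grp_T_le p _ _ ((meet_hgen_mem_im ι T _).mpr ⟨x, hx, rfl⟩)

end

end Cfsg.Agent.MEET
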