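import Mathlib

/-!
# Project MEET, file Pc (group-theoretic core): (Xi), (PC) and `J = O^p(J) Y`

Pure finite group theory used by the p'-criterion (PC) and the description (B0) of
`notes/MEET_helper8.md`, section 2.

* `meet_pc_conj_pow` : if `x q x⁻¹ = z q` and `x` commutes with `z` then `xⁿ q x⁻ⁿ = zⁿ q`.
* `meet_pc_stab_pelem` : an element centralizing `Qi` and `Q/Qi` (`Qi ≤ Q` a finite `p`-group with
  `C_G(Q) ≤ Q`) is a `p`-element.
* `meet_pc_mem_of_pprime` : (Xi) in elementwise form: `g = h x`, `h ∈ H ⊴ G`, `x` a `p`-element,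
  `g` a `p'`-element `⇒ g ∈ H`.
* `meet_pc_xi` : (Xi): `p'`-elements of `H ⊔ Ξ` lie in `H` (`Ξ` a normal `p`-subgroup).
* `meet_pc_core` : (PC) `⇐`: a `p'`-element `g` with `[Q, g] ≤ Qi` inducing on `Qi` the same map as some
  `h ∈ H` (where `[Q, H] ≤ Qi`) lies in `H`.
* `meet_pc_gen` : a finite group is generated by its `p'`-elements and a Sylow `p`-subgroup.
-/

namespace Cfsg.Agent.MEET

open Subgroup Pointwise

variable {G : Type*} [Group G]

/-- If `x q x⁻¹ = z q` and `x` commutes with `z`, then `xⁿ q x⁻ⁿ = zⁿ q`. -/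
theorem meet_pc_conj_pow (x q z : G) (h1 : x * q * x⁻¹ = z * q) (h2 : x * z = z * x) (n : ℕ) :
    x ^ n * q * (x ^ n)⁻¹ = z ^ n * q := by
  induction n with
  | zero => simp
  | succ n ih =>
    have hc : Commute x z := h2
    calc x ^ (n + 1) * q * (x ^ (n + 1))⁻¹
        = x * (x ^ n * q * (x ^ n)⁻¹) * x⁻¹ := by
          rw [pow_succ']; simp [mul_assoc]
      _ = x * (z ^ n * q) * x⁻¹ := by rw [ih]
      _ = (x * z ^ n * x⁻¹) * (x * q * x⁻¹) := by simp [mul_assoc]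
      _ = z ^ n * (z * q) := by
          rw [h1, (hc.pow_right n).eq]; simp [mul_assoc]
      _ = z ^ (n + 1) * q := by rw [pow_succ]; simp [mul_assoc]

/-- An element centralizing `Qi` and `Q/Qi`, where `Qi ≤ Q`, `Q` a finite `p`-group containing its
centralizer, is a `p`-element. -/
theorem meet_pc_stab_pelem (p : ℕ) [Fact p.Prime] (Q Qi : Subgroup G) [Finite Q]
    (hQ : IsPGroup p Q) (hQi : Qi ≤ Q) (hC : Subgroup.centralizer (Q : Set G) ≤ Q)
    (x : G) (hx1 : ∀ z ∈ Qi, x * z = z * x) (hx2 : ∀ q ∈ Q, x * q * x⁻¹ * q⁻¹ ∈ Qi) :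
    ∃ n : ℕ, x ^ (p ^ n) = 1 := by
  obtain ⟨k, hk⟩ := IsPGroup.iff_card.mp hQ
  have hpow : ∀ z ∈ Q, z ^ (p ^ k) = 1 := by
    intro z hz
    have := pow_card_eq_one' (G := Q) (x := ⟨z, hz⟩)
    rw [hk] at this
    simpa using congrArg Subtype.val this
  have hcent : x ^ (p ^ k) ∈ Subgroup.centralizer (Q : Set G) := by
    rw [Subgroup.mem_centralizer_iff]
    intro q hq
    have hz := hx2 q hq
    have h1 : x * q * x⁻¹ = (x * q * x⁻¹ * q⁻¹) * q := by simp [mul_assoc]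
    have := meet_pc_conj_pow x q _ h1 (hx1 _ hz) (p ^ k)
    rw [hpow _ (hQi hz), one_mul] at this
    -- this : x ^ (p^k) * q * (x ^ (p^k))⁻¹ = q
    have h3 : x ^ (p ^ k) * q = q * x ^ (p ^ k) := by
      calc x ^ (p ^ k) * q = (x ^ (p ^ k) * q * (x ^ (p ^ k))⁻¹) * x ^ (p ^ k) := by simp [mul_assoc]
        _ = q * x ^ (p ^ k) := by rw [this]
    exact h3.symm
  refine ⟨k + k, ?_⟩
  rw [pow_add, pow_mul]
  exact hpow _ (hC hcent)

/-- (Xi), elementwise: `g = h x` with `h ∈ H ⊴ G`, `x` a `p`-element and `g` of order prime to `p`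
forces `g ∈ H`. -/
theorem meet_pc_mem_of_pprime (p : ℕ) [Fact p.Prime] (H : Subgroup G) [H.Normal]
    (g h x : G) (hh : h ∈ H) (hg : g = h * x) (hx : ∃ n : ℕ, x ^ (p ^ n) = 1)
    (hgo : ∃ m : ℕ, m.Coprime p ∧ g ^ m = 1) : g ∈ H := by
  obtain ⟨n, hn⟩ := hx
  obtain ⟨m, hm, hgm⟩ := hgo
  have hπ : (QuotientGroup.mk' H g) = QuotientGroup.mk' H x := by
    have h1 : QuotientGroup.mk' H h = 1 := (QuotientGroup.eq_one_iff (N := H) h).mpr hh
    rw [hg, map_mul, h1, one_mul]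
  have h1 : (QuotientGroup.mk' H g) ^ m = 1 := by rw [← map_pow, hgm, map_one]
  have h2 : (QuotientGroup.mk' H g) ^ (p ^ n) = 1 := by rw [hπ, ← map_pow, hn, map_one]
  have hcop : Nat.Coprime m (p ^ n) := Nat.Coprime.pow_right n hm
  have h3 : orderOf (QuotientGroup.mk' H g) ∣ 1 := by
    have := Nat.dvd_gcd (orderOf_dvd_of_pow_eq_one h1) (orderOf_dvd_of_pow_eq_one h2)
    rwa [hcop.gcd_eq_one] at this
  have h4 : QuotientGroup.mk' H g = 1 := by
    rw [← orderOf_eq_one_iff]; exact Nat.dvd_one.mp h3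
  exact (QuotientGroup.eq_one_iff (N := H) g).mp h4

/-- (Xi): for `H ⊴ G` and a normal `p`-subgroup `Ξ`, the `p'`-elements of `H ⊔ Ξ` lie in `H`. -/
theorem meet_pc_xi (p : ℕ) [Fact p.Prime] (H Ξ : Subgroup G) [H.Normal] [Ξ.Normal]
    (hΞ : IsPGroup p Ξ) (g : G) (hg : g ∈ H ⊔ Ξ)
    (hgo : ∃ m : ℕ, m.Coprime p ∧ g ^ m = 1) : g ∈ H := by
  have hg' : g ∈ (H : Set G) * (Ξ : Set G) := by
    rw [← Subgroup.mul_normal]; exact hg
  obtain ⟨h, hh, x, hx, rfl⟩ := Set.mem_mul.mp hg'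
  obtain ⟨n, hn⟩ := hΞ ⟨x, hx⟩
  exact meet_pc_mem_of_pprime p H _ h x hh rfl
    ⟨n, by simpa using congrArg Subtype.val hn⟩ hgo

/-- (PC), the implication `⇐`, in a group: `Q, Qi` normal `p`-subgroups, `Qi ≤ Q`, `C_G(Q) ≤ Q`,
`H ⊴ G` with `[Q, H] ≤ Qi`; a `p'`-element `g` with `[Q, g] ≤ Qi` which acts on `Qi` like some `h ∈ H`
lies in `H`. -/
theorem meet_pc_core (p : ℕ) [Fact p.Prime] (H Q Qi : Subgroup G) [H.Normal] [Qi.Normal] [Finite Q]
    (hQ : IsPGroup p Q) (hQi : Qi ≤ Q) (hC : Subgroup.centralizer (Q : Set G) ≤ Q)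
    (hHQ : ∀ h ∈ H, ∀ q ∈ Q, h * q * h⁻¹ * q⁻¹ ∈ Qi)
    (g : G) (hgo : ∃ m : ℕ, m.Coprime p ∧ g ^ m = 1)
    (hgQ : ∀ q ∈ Q, g * q * g⁻¹ * q⁻¹ ∈ Qi)
    (h : G) (hh : h ∈ H) (hgh : ∀ z ∈ Qi, g * z * g⁻¹ = h * z * h⁻¹) : g ∈ H := by
  have hx1 : ∀ z ∈ Qi, (h⁻¹ * g) * z = z * (h⁻¹ * g) := by
    intro z hz
    have := hgh z hz
    calc (h⁻¹ * g) * z = h⁻¹ * (g * z * g⁻¹) * g := by simp [mul_assoc]
      _ = h⁻¹ * (h * z * h⁻¹) * g := by rw [this]
      _ = z * (h⁻¹ * g) := by simp [mul_assoc]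
  have hx2 : ∀ q ∈ Q, (h⁻¹ * g) * q * (h⁻¹ * g)⁻¹ * q⁻¹ ∈ Qi := by
    intro q hq
    have e : (h⁻¹ * g) * q * (h⁻¹ * g)⁻¹ * q⁻¹
        = (h⁻¹ * (g * q * g⁻¹ * q⁻¹) * h⁻¹⁻¹) * (h⁻¹ * q * h⁻¹⁻¹ * q⁻¹) := by
      simp [mul_assoc]
    rw [e]
    refine Qi.mul_mem ?_ (hHQ _ (H.inv_mem hh) q hq)
    exact (inferInstance : Qi.Normal).conj_mem _ (hgQ q hq) _
  have hx := meet_pc_stab_pelem p Q Qi hQ hQi hC (h⁻¹ * g) hx1 hx2
  exact meet_pc_mem_of_pprime p H g h (h⁻¹ * g) hh (by simp) hx hgo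

/-- In a finite group `J` the subgroup generated by the `p'`-elements has `p`-power index. -/
theorem meet_pc_gen_index (p : ℕ) [Fact p.Prime] {J : Type*} [Group J] [Finite J] :
    ∃ n : ℕ, (Subgroup.closure {g : J | ∃ m : ℕ, m.Coprime p ∧ g ^ m = 1}).index = p ^ n := by
  set N : Subgroup J := Subgroup.closure {g : J | ∃ m : ℕ, m.Coprime p ∧ g ^ m = 1} with hN
  have hNn : N.Normal := by
    rw [hN, ← Subgroup.normalizer_eq_top_iff, eq_top_iff]
    refine le_trans ?_ (Subgroup.normalizer_le_normalizer_closure _)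
    intro a _
    rw [Subgroup.mem_set_normalizer_iff]
    intro g
    constructor
    · rintro ⟨m, hm, hgm⟩
      exact ⟨m, hm, by rw [conj_pow, hgm]; simp⟩
    · rintro ⟨m, hm, hgm⟩
      refine ⟨m, hm, ?_⟩
      rw [conj_pow] at hgm
      have := congrArg (fun t => a⁻¹ * t * a) hgm
      simpa [mul_assoc] using this
  have hP : IsPGroup p (J ⧸ N) := by
    intro x
    induction x using QuotientGroup.induction_on with
    | H g =>
      obtain ⟨k, m, hm, hkm⟩ := Nat.exists_eq_pow_mul_and_not_dvd (orderOf_pos g).ne' p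
        (Fact.out : p.Prime).ne_one
      refine ⟨k, ?_⟩
      have hmem : g ^ (p ^ k) ∈ N := by
        refine Subgroup.subset_closure ⟨m, ?_, ?_⟩
        · exact (Nat.Coprime.symm ((Fact.out : p.Prime).coprime_iff_not_dvd.mpr hm))
        · rw [← pow_mul, ← hkm, pow_orderOf_eq_one]
      rw [← QuotientGroup.mk_pow]
      exact (QuotientGroup.eq_one_iff _).mpr hmem
  obtain ⟨n, hn⟩ := IsPGroup.iff_card.mp hP
  exact ⟨n, by rw [Subgroup.index_eq_card]; exact hn⟩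

/-- A finite group is generated by its `p'`-elements together with any subgroup of index prime
to `p` (e.g. a Sylow `p`-subgroup): `J = O^p(J) Y`. -/
theorem meet_pc_gen (p : ℕ) [Fact p.Prime] {J : Type*} [Group J] [Finite J] (Y : Subgroup J)
    (hY : ¬ p ∣ Y.index) :
    Subgroup.closure {g : J | ∃ m : ℕ, m.Coprime p ∧ g ^ m = 1} ⊔ Y = ⊤ := by
  obtain ⟨n, hn⟩ := meet_pc_gen_index p (J := J)
  set N : Subgroup J := Subgroup.closure {g : J | ∃ m : ℕ, m.Coprime p ∧ g ^ m = 1} with hN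
  have h1 : (N ⊔ Y).index ∣ p ^ n := hn ▸ Subgroup.index_dvd_of_le le_sup_left
  have h2 : (N ⊔ Y).index ∣ Y.index := Subgroup.index_dvd_of_le le_sup_right
  have hcop : Nat.Coprime (p ^ n) Y.index :=
    Nat.Coprime.pow_left n ((Fact.out : p.Prime).coprime_iff_not_dvd.mpr hY)
  have h3 : (N ⊔ Y).index ∣ 1 := by
    have := Nat.dvd_gcd h1 h2
    rwa [hcop.gcd_eq_one] at this
  exact Subgroup.index_eq_one.mp (Nat.dvd_one.mp h3)

/-- `J = O^p(J) Y` for subgroups `Y ≤ J` of a group `G`, `J` finite, `|J : Y|` prime to `p`. -/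
theorem meet_pc_gen_subgroup (p : ℕ) [Fact p.Prime] (J Y : Subgroup G) [Finite J] (hYJ : Y ≤ J)
    (hY : ¬ p ∣ Y.relIndex J) :
    Subgroup.closure {g : G | g ∈ J ∧ ∃ m : ℕ, m.Coprime p ∧ g ^ m = 1} ⊔ Y = J := by
  have h := meet_pc_gen p (Y.subgroupOf J) hY
  have h2 := congrArg (Subgroup.map J.subtype) h
  rw [Subgroup.map_sup, MonoidHom.map_closure, Subgroup.map_subgroupOf_eq_of_le hYJ,
    ← MonoidHom.range_eq_map, Subgroup.range_subtype] at h2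
  have hset : (J.subtype '' {g : J | ∃ m : ℕ, m.Coprime p ∧ g ^ m = 1})
      = {g : G | g ∈ J ∧ ∃ m : ℕ, m.Coprime p ∧ g ^ m = 1} := by
    ext g
    constructor
    · rintro ⟨⟨g', hg'⟩, ⟨m, hm, hgm⟩, rfl⟩
      exact ⟨hg', m, hm, by simpa using congrArg Subtype.val hgm⟩
    · rintro ⟨hg, m, hm, hgm⟩
      exact ⟨⟨g, hg⟩, ⟨m, hm, Subtype.ext (by simpa using hgm)⟩, rfl⟩
  rw [hset] at h2
  exact h2

end Cfsg.Agent.MEET
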