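import Mathlib
import Cfsg.Prelude.Def_FusionComponents
import Cfsg.Agent.MEET.LocDefs
import Cfsg.Agent.MEET.HgenE
import Cfsg.Agent.MEET.PcGroup
import Cfsg.Agent.MEET.NclGroup
import Cfsg.Agent.CSE.LocalA

/-!
MEET project, Route Q (`notes/MEET_helper8.md` section 12): (Q1) second half and (B0)/(L2) (helper2).

`meet_hgen_aut`: every element of `H_T(U)` induces on `Q_U` an automorphism in `F` with `[Q_U, b] ≤ Q_T^U` whose restriction
to `Q_T^U` is a map of `E`.  `meet_J_aut`: `A0(U)` is the group of the automorphisms of `U` induced by `J(U)`.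
Frozen headers of `notes/MEET_headers2.lean.txt`, `notes/MEET_headers3.lean.txt`.
-/

set_option autoImplicit false
set_option linter.unusedSectionVars false
set_option linter.unusedVariables false
set_option linter.style.haveILetI false

namespace Cfsg.Agent.MEET

open Cfsg Cfsg.FusionSystem Cfsg.Agent.Lead Cfsg.Agent.Lead.StrongInv Cfsg.Agent.CSE

universe u

variable {Ω : Type u} [Group Ω] {S : Subgroup Ω} {p : ℕ} {F : FusionSystem S}

/-- (Q1), second half. -/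
theorem meet_hgen_aut [Finite S] [Fact p.Prime] (hS : IsPGroup p S) (hF : F.IsSaturated p)
    {T : Subgroup Ω} (E : FusionSystem T) (hE : E.IsNormalIn F p) {W U : Subgroup Ω} (hWT : W ≤ T)
    (hU : U ∈ meetUf F W) {G : Type u} [Group G] {ι : ↥(normalizerIn S U) →* G}
    (hG : MeetLocGrp p F W U ι) (g : G) (hg : g ∈ meetHi p F E U ι hG.hQ) :
    ∃ b : MulAut ↥(meetQ S U), b ∈ F.autGroup (meetQ S U) ∧
      MeetInd ι g hG.hQ ((meetQ S U).subtype.comp b.toMonoidHom) (fun x => hG.hQ (b x).2) ∧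
      (∀ x : ↥(meetQ S U), (x : Ω)⁻¹ * ((b x : ↥(meetQ S U)) : Ω) ∈ meetQ T U) ∧
      MeetResIn E b (meetQ T U) := by
  have hinv := hE.1.2.2
  have hT : F.StronglyClosed T := hinv.2.1
  have hUT : U ≤ T := hU.1.1.trans hWT
  haveI := meet_hgen_lam_normal hG E hinv hUT
  rw [meet_hgen_Hi_eq hG E hinv hUT] at hg
  obtain ⟨hb, hc, hr⟩ := meet_hgen_grp_le p _ _ (meet_hgen_imT_le_lam hG E hT hUT) hg
  exact ⟨meetAct hG g, hb, fun x => meet_hgen_act_spec hG g x, hc,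
    meet_hgen_resIn_of_resAut E _ _ (meet_hgen_QT_le_T hUT) _ hr⟩

/-- `Q_1^U ∩ Q_2^U = U` when `C_W(U) ≤ U`, `W = T₁ ∩ T₂`. -/
theorem meet_hgen_Q_inf {T₁ T₂ U : Subgroup Ω} (hUW : U ≤ T₁ ⊓ T₂)
    (hc : centralizerIn (T₁ ⊓ T₂) U ≤ U) : meetQ T₁ U ⊓ meetQ T₂ U ≤ U := by
  rintro y ⟨h1, h2⟩
  have hmul := Subgroup.coe_mul_of_right_le_normalizer_left U (centralizerIn T₁ U)
    ((inf_le_right : centralizerIn T₁ U ≤ _).trans (Subgroup.centralizer_le_normalizer _))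
  have h1' : y ∈ ((U ⊔ centralizerIn T₁ U : Subgroup Ω) : Set Ω) := h1
  rw [hmul] at h1'
  obtain ⟨u, hu, c, hcc, rfl⟩ := h1'
  have hQ2T : meetQ T₂ U ≤ T₂ := sup_le (hUW.trans inf_le_right) inf_le_left
  have hcQ2 : c ∈ meetQ T₂ U := by
    have e : c = u⁻¹ * (u * c) := by group
    rw [e]
    exact Subgroup.mul_mem _ (Subgroup.inv_mem _ ((le_sup_left : U ≤ meetQ T₂ U) hu)) h2
  have hcW : c ∈ centralizerIn (T₁ ⊓ T₂) U := ⟨⟨hcc.1, hQ2T hcQ2⟩, hcc.2⟩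
  exact U.mul_mem hu (hc hcW)

section

variable {T₁ T₂ : Subgroup Ω} {E₁ : FusionSystem T₁} {E₂ : FusionSystem T₂} {U : Subgroup Ω}
  {G : Type u} [Group G] {ι : ↥(normalizerIn S U) →* G}

theorem meet_hgen_indU_unique (hinj : Function.Injective ι) (hUN : U ≤ normalizerIn S U) (g : G)
    (β β' : MulAut U) (h : MeetIndU ι hUN g β) (h' : MeetIndU ι hUN g β') : β = β' := by
  ext x
  have h1 := (h x).trans (h' x).symm
  have h2 : ((β x : U) : Ω) = ((β' x : U) : Ω) :=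
    congrArg (fun w : ↥(normalizerIn S U) => (w : Ω)) (hinj h1)
  exact h2

theorem meet_hgen_indU_one (hUN : U ≤ normalizerIn S U) : MeetIndU ι hUN 1 (1 : MulAut U) := by
  intro x
  simp

theorem meet_hgen_indU_mul (hUN : U ≤ normalizerIn S U) (g g' : G) (β β' : MulAut U)
    (h : MeetIndU ι hUN g β) (h' : MeetIndU ι hUN g' β') : MeetIndU ι hUN (g * g') (β * β') := by
  intro x
  have e1 := h (β' x)
  have e2 := h' x
  show ι ⟨((β (β' x) : U) : Ω), hUN (β (β' x)).2⟩ = _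
  rw [e1, e2]
  group

theorem meet_hgen_indU_inv (hUN : U ≤ normalizerIn S U) (g : G) (β : MulAut U)
    (h : MeetIndU ι hUN g β) : MeetIndU ι hUN g⁻¹ β⁻¹ := by
  intro x
  have h1 := h (β⁻¹ x)
  have e : (⟨((β (β⁻¹ x) : U) : Ω), hUN (β (β⁻¹ x)).2⟩ : ↥(normalizerIn S U)) = ⟨x, hUN x.2⟩ := by
    apply Subtype.ext
    show ((β (β⁻¹ x) : U) : Ω) = x
    rw [MulAut.apply_inv_self]
  rw [e] at h1
  rw [h1]
  group

/-- The automorphisms of `U` induced by a subgroup `J` of `G`. -/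
def meetAutOf (ι : ↥(normalizerIn S U) →* G) (hUN : U ≤ normalizerIn S U) (J : Subgroup G) :
    Subgroup (MulAut U) where
  carrier := {β | ∃ g ∈ J, MeetIndU ι hUN g β}
  one_mem' := ⟨1, J.one_mem, meet_hgen_indU_one hUN⟩
  mul_mem' := by
    rintro a b ⟨g, hg, hga⟩ ⟨g', hg', hgb⟩
    exact ⟨g * g', J.mul_mem hg hg', meet_hgen_indU_mul hUN g g' a b hga hgb⟩
  inv_mem' := by
    rintro a ⟨g, hg, hga⟩
    exact ⟨g⁻¹, J.inv_mem hg, meet_hgen_indU_inv hUN g a hga⟩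

/-- The elements of `G` inducing on `U` an element of a subgroup `A` of `Aut(U)`. -/
def meetPreOf (ι : ↥(normalizerIn S U) →* G) (hUN : U ≤ normalizerIn S U) (A : Subgroup (MulAut U)) :
    Subgroup G where
  carrier := {g | ∃ β ∈ A, MeetIndU ι hUN g β}
  one_mem' := ⟨1, A.one_mem, meet_hgen_indU_one hUN⟩
  mul_mem' := by
    rintro g g' ⟨a, ha, hga⟩ ⟨b, hb, hgb⟩
    exact ⟨a * b, A.mul_mem ha hb, meet_hgen_indU_mul hUN g g' a b hga hgb⟩
  inv_mem' := by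
    rintro g ⟨a, ha, hga⟩
    exact ⟨a⁻¹, A.inv_mem ha, meet_hgen_indU_inv hUN g a hga⟩

end

section

variable {T₁ T₂ : Subgroup Ω} {E₁ : FusionSystem T₁} {E₂ : FusionSystem T₂} {W U : Subgroup Ω}
  {G : Type u} [Group G] {ι : ↥(normalizerIn S U) →* G}

theorem meet_hgen_act_pow [Finite S] (hG : MeetLocGrp p F W U ι) (g : G) (n : ℕ) :
    meetAct hG (g ^ n) = meetAct hG g ^ n := map_pow _ _ _

/-- `p'`-lifting: an automorphism of `Q_U` in `F` of order prime to `p` normalizing `U` is induced by an element of `G`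
of order prime to `p`. -/
theorem meet_hgen_lift_pprime [Finite S] [Fact p.Prime] (hG : MeetLocGrp p F W U ι)
    (b : MulAut ↥(meetQ S U)) (hb : b ∈ F.autGroup (meetQ S U))
    (hbU : ∀ x : ↥(meetQ S U), (x : Ω) ∈ U → ((b x : ↥(meetQ S U)) : Ω) ∈ U)
    (hbo : (orderOf b).Coprime p) : ∃ g : G, (orderOf g).Coprime p ∧ meetAct hG g = b := by
  haveI := hG.fin
  obtain ⟨g₀, hg₀⟩ := hG.realQ b hb hbU
  have e₀ : b = meetAct hG g₀ := meet_hgen_act_eq hG g₀ b hg₀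
  obtain ⟨k, l, e, hk, hl, hkl⟩ := cse_locA_exists_parts p g₀
  refine ⟨g₀ ^ k, hk, ?_⟩
  rw [meet_hgen_act_pow, ← e₀]
  have hbl : b ^ l = 1 := by
    have h1 : (b ^ l) ^ p ^ e = 1 := by
      rw [e₀, ← meet_hgen_act_pow, ← meet_hgen_act_pow, hl, map_one]
    have h4 : orderOf (b ^ l) ∣ p ^ e := orderOf_dvd_of_pow_eq_one h1
    have h5 : orderOf (b ^ l) ∣ orderOf b := orderOf_pow_dvd l
    have h6 : (orderOf (b ^ l)).Coprime (p ^ e) :=
      Nat.Coprime.pow_right e (Nat.Coprime.coprime_dvd_left h5 hbo)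
    exact orderOf_eq_one_iff.mp (Nat.Coprime.eq_one_of_dvd h6 h4)
  have h2 : b ^ k * b ^ l = b := by
    conv_rhs => rw [e₀, ← hkl, map_mul, meet_hgen_act_pow, meet_hgen_act_pow, ← e₀]
  rw [hbl, mul_one] at h2
  exact h2

/-- `A0(U)` consists of automorphisms induced by `J(U)`. -/
theorem meet_hgen_A0_le [Finite S] [Fact p.Prime] (hS : IsPGroup p S) (hF : F.IsSaturated p)
    (h₁ : E₁.IsNormalIn F p) (h₂ : E₂.IsNormalIn F p) (hU : U ∈ meetUf F (T₁ ⊓ T₂))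
    (hG : MeetLocGrp p F (T₁ ⊓ T₂) U ι) (hUN : U ≤ normalizerIn S U) :
    meetA0 p F E₁ E₂ U ≤ meetAutOf ι hUN (meetJ p F E₁ E₂ U ι hG.hQ) := by
  have hT₁S : T₁ ≤ S := h₁.1.2.2.2.1.1
  have hUS : U ≤ S := (hU.1.1.trans inf_le_left).trans hT₁S
  haveI : Finite U := Fusion.finite_of_le hUS
  unfold meetA0
  apply sup_le
  · rw [Subgroup.closure_le]
    rintro β ⟨b, ⟨hbF, hbo, hbc, hb1, hb2⟩, hres⟩
    have hbU : ∀ x : ↥(meetQ S U), (x : Ω) ∈ U → ((b x : ↥(meetQ S U)) : Ω) ∈ U := by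
      intro x hx
      have e : ((b x : ↥(meetQ S U)) : Ω) = (x : Ω) * ((x : Ω)⁻¹ * ((b x : ↥(meetQ S U)) : Ω)) := by
        group
      rw [e]
      exact U.mul_mem hx (hbc x)
    obtain ⟨g, hgo, hgb⟩ := meet_hgen_lift_pprime hG b hbF hbU hbo
    subst hgb
    have hind : MeetInd ι g hG.hQ ((meetQ S U).subtype.comp (meetAct hG g).toMonoidHom)
        (fun x => hG.hQ (meetAct hG g x).2) := fun x => meet_hgen_act_spec hG g x
    refine ⟨g, ⟨?_, ?_⟩, ?_⟩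
    · apply Subgroup.subset_closure
      left
      exact ⟨hgo, meetAct hG g, hbF, hind, fun x => (le_sup_left : U ≤ meetQ T₁ U) (hbc x), hb1⟩
    · apply Subgroup.subset_closure
      left
      exact ⟨hgo, meetAct hG g, hbF, hind, fun x => (le_sup_left : U ≤ meetQ T₂ U) (hbc x), hb2⟩
    · intro x
      have h := hind (Subgroup.inclusion (meet_le_Q S U) x)
      have e : (⟨((β x : U) : Ω), hUN (β x).2⟩ : ↥(normalizerIn S U)) =
          ⟨((meetQ S U).subtype.comp (meetAct hG g).toMonoidHom)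
            (Subgroup.inclusion (meet_le_Q S U) x),
            hG.hQ (meetAct hG g (Subgroup.inclusion (meet_le_Q S U) x)).2⟩ :=
        Subtype.ext (hres x)
      rw [e]
      exact h
  · intro β hβ
    obtain ⟨w, hw, hwx⟩ := (mem_autInducedBy_iff _ _ β).mp hβ
    have hwN : w ∈ Subgroup.normalizer (U : Set Ω) := by
      apply mem_normalizer_of_conj_mem_of_finite U
      intro y hy
      have := hwx ⟨y, hy⟩
      rw [← this]
      exact (β _).2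
    have hwS : w ∈ S := hT₁S hw.1
    have hw' : w ∈ normalizerIn S U := Subgroup.mem_inf.mpr ⟨hwS, hwN⟩
    refine ⟨ι ⟨w, hw'⟩, ⟨?_, ?_⟩, ?_⟩
    · apply Subgroup.subset_closure
      right
      exact ⟨1, ⟨w, hw'⟩, hw.1, by group⟩
    · apply Subgroup.subset_closure
      right
      exact ⟨1, ⟨w, hw'⟩, hw.2, by group⟩
    · intro x
      rw [← map_inv, ← map_mul, ← map_mul]
      congr 1
      apply Subtype.ext
      exact hwx x

/-- `J(U)` induces on `U` automorphisms of `A0(U)`. -/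
theorem meet_hgen_J_le_pre [Finite S] [Fact p.Prime] (hS : IsPGroup p S) (hF : F.IsSaturated p)
    (h₁ : E₁.IsNormalIn F p) (h₂ : E₂.IsNormalIn F p) (hU : U ∈ meetUf F (T₁ ⊓ T₂))
    (hG : MeetLocGrp p F (T₁ ⊓ T₂) U ι) (hUN : U ≤ normalizerIn S U) :
    meetJ p F E₁ E₂ U ι hG.hQ ≤ meetPreOf ι hUN (meetA0 p F E₁ E₂ U) := by
  haveI := hG.fin
  have hT₁S : T₁ ≤ S := h₁.1.2.2.2.1.1
  have hUW : U ≤ T₁ ⊓ T₂ := hU.1.1
  have hUS : U ≤ S := (hUW.trans inf_le_left).trans hT₁S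
  haveI : Finite U := Fusion.finite_of_le hUS
  have hQS : meetQ S U ≤ S := meet_hgen_Q_le_S hUS
  have hcU : centralizerIn (T₁ ⊓ T₂) U ≤ U :=
    hU.1.2 U ⟨U.subtype, Fusion.subtype_mem F hUS, Subgroup.range_subtype U⟩
  haveI hn1 : (meetHi p F E₁ U ι hG.hQ).Normal := meet_hgen_normal hS hF E₁ h₁ hU hG
  haveI hn2 : (meetHi p F E₂ U ι hG.hQ).Normal := meet_hgen_normal hS hF E₂ h₂ hU hG
  haveI hnJ : (meetJ p F E₁ E₂ U ι hG.hQ).Normal := by
    unfold meetJ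
    exact Subgroup.normal_inf_normal _ _
  set J := meetJ p F E₁ E₂ U ι hG.hQ with hJ
  have hY : ¬ p ∣ (ι.range ⊓ J).relIndex J := by
    rw [Subgroup.inf_relIndex_right]
    intro hdiv
    obtain ⟨P, hP⟩ := hG.syl
    have h1 : ι.range.relIndex J ∣ ι.range.index := meet_relIndex_dvd_index_of_normal ι.range J
    have h2 : ¬ p ∣ ι.range.index := hP ▸ P.not_dvd_index
    exact h2 (hdiv.trans h1)
  have hgen := meet_pc_gen_subgroup p J (ι.range ⊓ J) inf_le_right hY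
  rw [← hgen]
  apply sup_le
  · rw [Subgroup.closure_le]
    rintro g ⟨hgJ, m, hm, hgm⟩
    have hg1 : g ∈ meetHi p F E₁ U ι hG.hQ := hgJ.1
    have hg2 : g ∈ meetHi p F E₂ U ι hG.hQ := hgJ.2
    obtain ⟨b₁, hb₁F, hb₁i, hb₁c, hb₁r⟩ :=
      meet_hgen_aut hS hF E₁ h₁ (inf_le_left : T₁ ⊓ T₂ ≤ T₁) hU hG g hg1
    obtain ⟨b₂, hb₂F, hb₂i, hb₂c, hb₂r⟩ :=
      meet_hgen_aut hS hF E₂ h₂ (inf_le_right : T₁ ⊓ T₂ ≤ T₂) hU hG g hg2
    have e₁ : b₁ = meetAct hG g := meet_hgen_act_eq hG g b₁ hb₁i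
    have e₂ : b₂ = meetAct hG g := meet_hgen_act_eq hG g b₂ hb₂i
    subst e₁
    rw [e₂] at hb₂c hb₂r
    have hbc : ∀ x : ↥(meetQ S U), (x : Ω)⁻¹ * ((meetAct hG g x : ↥(meetQ S U)) : Ω) ∈ U :=
      fun x => meet_hgen_Q_inf hUW hcU ⟨hb₁c x, hb₂c x⟩
    have hbo : (orderOf (meetAct hG g)).Coprime p := by
      have h1 : meetAct hG g ^ m = 1 := by
        rw [← meet_hgen_act_pow, hgm, map_one]
      exact Nat.Coprime.coprime_dvd_left (orderOf_dvd_of_pow_eq_one h1) hm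
    have hB0 : meetAct hG g ∈ meetB0 p F E₁ E₂ U := ⟨hb₁F, hbo, hbc, hb₁r, hb₂r⟩
    have hbU : ∀ x : ↥(meetQ S U), (x : Ω) ∈ U → ((meetAct hG g x : ↥(meetQ S U)) : Ω) ∈ U :=
      fun x hx => meet_hgen_act_U hG g x hx
    obtain ⟨γ, hγ, hγx⟩ := Fusion.exists_restrict_aut F hQS (meet_le_Q S U) (meetAct hG g) hb₁F hbU
    refine ⟨γ, ?_, ?_⟩
    · unfold meetA0
      apply (le_sup_left : _ ≤ _ ⊔ autInducedBy (T₁ ⊓ T₂) U)
      apply Subgroup.subset_closure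
      exact ⟨meetAct hG g, hB0, fun x => hγx x⟩
    · intro x
      have h := meet_hgen_act_spec hG g (Subgroup.inclusion (meet_le_Q S U) x)
      have e : (⟨((γ x : U) : Ω), hUN (γ x).2⟩ : ↥(normalizerIn S U)) =
          ⟨((meetAct hG g (Subgroup.inclusion (meet_le_Q S U) x) : ↥(meetQ S U)) : Ω),
            hG.hQ (meetAct hG g (Subgroup.inclusion (meet_le_Q S U) x)).2⟩ :=
        Subtype.ext (hγx x)
      rw [e]
      exact h
  · rintro g ⟨⟨s₀, rfl⟩, hgJ⟩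
    have hs1 : (s₀ : Ω) ∈ T₁ :=
      (meet_hgen_syl hS hF E₁ h₁ (inf_le_left : T₁ ⊓ T₂ ≤ T₁) hU hG s₀).mp hgJ.1
    have hs2 : (s₀ : Ω) ∈ T₂ :=
      (meet_hgen_syl hS hF E₂ h₂ (inf_le_right : T₁ ⊓ T₂ ≤ T₂) hU hG s₀).mp hgJ.2
    refine ⟨conjAutHom U ⟨(s₀ : Ω), s₀.2.2⟩, ?_, ?_⟩
    · unfold meetA0
      apply (le_sup_right : autInducedBy (T₁ ⊓ T₂) U ≤ _ ⊔ _)
      exact Fusion.conjAutHom_mem_autInducedBy U ⟨(s₀ : Ω), s₀.2.2⟩ ⟨hs1, hs2⟩
    · intro x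
      rw [← map_inv, ← map_mul, ← map_mul]
      congr 1

/-- (B0)/(L2): `A0(U)` is the group of the automorphisms of `U` induced by `J(U)`. -/
theorem meet_J_aut [Finite S] [Fact p.Prime] (hS : IsPGroup p S) (hF : F.IsSaturated p)
    (h₁ : E₁.IsNormalIn F p) (h₂ : E₂.IsNormalIn F p) {U : Subgroup Ω}
    (hU : U ∈ meetUf F (T₁ ⊓ T₂)) {G : Type u} [Group G] {ι : ↥(normalizerIn S U) →* G}
    (hG : MeetLocGrp p F (T₁ ⊓ T₂) U ι) (hUN : U ≤ normalizerIn S U) (β : MulAut U) :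
    β ∈ meetA0 p F E₁ E₂ U ↔ ∃ g ∈ meetJ p F E₁ E₂ U ι hG.hQ, MeetIndU ι hUN g β := by
  constructor
  · intro hβ
    exact meet_hgen_A0_le hS hF h₁ h₂ hU hG hUN hβ
  · rintro ⟨g, hg, hgβ⟩
    obtain ⟨β', hβ', hgβ'⟩ := meet_hgen_J_le_pre hS hF h₁ h₂ hU hG hUN hg
    have e : β = β' := meet_hgen_indU_unique hG.inj hUN g β β' hgβ hgβ'
    rw [e]
    exact hβ'

end

end Cfsg.Agent.MEET
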