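import Mathlib
import Cfsg.Agent.MEET.CmA1
import Cfsg.Agent.MEET.HgenF

set_option autoImplicit false
set_option linter.style.haveILetI false
set_option linter.unusedSectionVars false
set_option linter.unusedVariables false

/-!
# Project MEET, (CM-a), steps (L2) and (iii), first half

`U` is a fully normalized member of the family, `G = G(U)` its local group, `J = J(U)`.  For `U ≤ R ≤ N_W(U)` and `j ∈ J`
normalizing `ι(R)` the conjugation by `j` is an automorphism `b` of `Q_R = R C_S(R)` in `F` with `[Q_R, b] ≤ R`.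
-/

namespace Cfsg.Agent.MEET

open Cfsg Cfsg.FusionSystem Cfsg.Agent.Lead

universe u

variable {Ω : Type u} [Group Ω] {S : Subgroup Ω} {p : ℕ} {F : FusionSystem S}

/-- elements of a product `T Q` with `T` normalizing `Q`. -/
theorem meet_cm_mem_sup {T Q : Subgroup Ω} (h : T ≤ Subgroup.normalizer (Q : Set Ω)) {x : Ω} (hx : x ∈ T ⊔ Q) :
    ∃ t ∈ T, ∃ q ∈ Q, x = t * q := by
  have h1 := Subgroup.coe_mul_of_left_le_normalizer_right T Q h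
  have h2 : x ∈ ((T ⊔ Q : Subgroup Ω) : Set Ω) := hx
  rw [h1, Set.mem_mul] at h2
  obtain ⟨t, ht, q, hq, rfl⟩ := h2
  exact ⟨t, ht, q, hq, rfl⟩

theorem meet_cm_centralizerIn_le_normalizer (K R : Subgroup Ω) :
    centralizerIn K R ≤ Subgroup.normalizer (R : Set Ω) :=
  fun _ hc => Subgroup.centralizer_le_normalizer _ hc.2

/-- elements of `Q_K(R) = R C_K(R)` in the form `c r`. -/
theorem meet_cm_mem_Q {K R : Subgroup Ω} {x : Ω} (hx : x ∈ meetQ K R) :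
    ∃ c ∈ centralizerIn K R, ∃ r ∈ R, x = c * r := by
  unfold meetQ at hx
  rw [sup_comm] at hx
  exact meet_cm_mem_sup (meet_cm_centralizerIn_le_normalizer K R) hx

/-- `Q_U ∩ W = U` when `C_W(U) ≤ U`. -/
theorem meet_cm_Q_inf {W U : Subgroup Ω} (hUW : U ≤ W) (hcen : centralizerIn W U ≤ U) {x : Ω}
    (hxQ : x ∈ meetQ S U) (hxW : x ∈ W) : x ∈ U := by
  obtain ⟨c, hc, u, hu, rfl⟩ := meet_cm_mem_Q hxQ
  have hcW : c ∈ W := by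
    have := W.mul_mem hxW (W.inv_mem (hUW hu))
    simpa using this
  exact U.mul_mem (hcen ⟨hcW, hc.2⟩) hu

variable {T₁ T₂ : Subgroup Ω} {E₁ : FusionSystem T₁} {E₂ : FusionSystem T₂} {U : Subgroup Ω} {G : Type u} [Group G]
  {ι : ↥(normalizerIn S U) →* G}

/-- `J(U)` is normal in `G(U)`. -/
theorem meet_cm_J_normal [Finite S] [Fact p.Prime] (hS : IsPGroup p S) (hF : F.IsSaturated p)
    (h₁ : E₁.IsNormalIn F p) (h₂ : E₂.IsNormalIn F p) (hU : U ∈ meetUf F (T₁ ⊓ T₂))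
    (hG : MeetLocGrp p F (T₁ ⊓ T₂) U ι) : (meetJ p F E₁ E₂ U ι hG.hQ).Normal := by
  haveI := meet_hgen_normal hS hF E₁ h₁ hU hG
  haveI := meet_hgen_normal hS hF E₂ h₂ hU hG
  unfold meetJ
  infer_instance

/-- (L2) `J(U) ∩ ι(N_S(U)) = ι(N_W(U))`. -/
theorem meet_cm_J_mem_iff [Finite S] [Fact p.Prime] (hS : IsPGroup p S) (hF : F.IsSaturated p)
    (h₁ : E₁.IsNormalIn F p) (h₂ : E₂.IsNormalIn F p) (hU : U ∈ meetUf F (T₁ ⊓ T₂))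
    (hG : MeetLocGrp p F (T₁ ⊓ T₂) U ι) (x : ↥(normalizerIn S U)) :
    ι x ∈ meetJ p F E₁ E₂ U ι hG.hQ ↔ (x : Ω) ∈ T₁ ⊓ T₂ := by
  unfold meetJ
  rw [Subgroup.mem_inf, Subgroup.mem_inf, meet_hgen_syl hS hF E₁ h₁ inf_le_left hU hG x,
    meet_hgen_syl hS hF E₂ h₂ inf_le_right hU hG x]

/-- (L2) `[Q_U, J(U)] ≤ U`. -/
theorem meet_cm_comm_mem [Finite S] [Fact p.Prime] (hS : IsPGroup p S) (hF : F.IsSaturated p)
    (h₁ : E₁.IsNormalIn F p) (h₂ : E₂.IsNormalIn F p) (hU : U ∈ meetUf F (T₁ ⊓ T₂))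
    (hG : MeetLocGrp p F (T₁ ⊓ T₂) U ι) {j : G} (hj : j ∈ meetJ p F E₁ E₂ U ι hG.hQ)
    (x y : ↥(normalizerIn S U)) (hx : (x : Ω) ∈ meetQ S U) (hy : ι y = j * ι x * j⁻¹) :
    (x : Ω)⁻¹ * (y : Ω) ∈ U := by
  haveI := meet_cm_J_normal hS hF h₁ h₂ hU hG
  have hUS : U ≤ S := hU.2.1
  have hyQ : (y : Ω) ∈ meetQ S U := by
    obtain ⟨y', hy'Q, hy'⟩ := hG.normQ j x hx
    rw [hG.inj (hy.trans hy'.symm)]
    exact hy'Q
  have h1 : ι (x⁻¹ * y) ∈ meetJ p F E₁ E₂ U ι hG.hQ := by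
    rw [map_mul, map_inv, hy]
    have e : (ι x)⁻¹ * (j * ι x * j⁻¹) = ((ι x)⁻¹ * j * (ι x)⁻¹⁻¹) * j⁻¹ := by group
    rw [e]
    exact Subgroup.mul_mem _ (Subgroup.Normal.conj_mem inferInstance j hj _) (Subgroup.inv_mem _ hj)
  have h2 := (meet_cm_J_mem_iff hS hF h₁ h₂ hU hG (x⁻¹ * y)).mp h1
  exact meet_cm_Q_inf hU.1.1 (hU.1.2 U (Fusion.isConj_refl F hUS))
    ((meetQ S U).mul_mem ((meetQ S U).inv_mem hx) hyQ) h2

/-- `C_S(R) ≤ Q_U` for `U ≤ R`. -/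
theorem meet_cm_cent_le_Q {R : Subgroup Ω} (hUR : U ≤ R) : centralizerIn S R ≤ meetQ S U :=
  fun _ hc => (le_sup_right : centralizerIn S U ≤ meetQ S U)
    ⟨hc.1, Subgroup.centralizer_le (by exact_mod_cast hUR) hc.2⟩

/-- an element of `G` normalizing `ι(R)` normalizes `ι(C_S(R))`. -/
theorem meet_cm_cent_inv {W : Subgroup Ω} (hG : MeetLocGrp p F W U ι) {R : Subgroup Ω} (hUR : U ≤ R)
    (hRN : R ≤ normalizerIn S U) {j : G} {β : MulAut R} (hβ : MeetCmA ι hRN j β)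
    (c : ↥(normalizerIn S U)) (hc : (c : Ω) ∈ centralizerIn S R) :
    ∃ y : ↥(normalizerIn S U), (y : Ω) ∈ centralizerIn S R ∧ ι y = j * ι c * j⁻¹ := by
  obtain ⟨y, hyQ, hy⟩ := hG.normQ j c (meet_cm_cent_le_Q hUR hc)
  refine ⟨y, ⟨y.2.1, Subgroup.mem_centralizer_iff.mpr fun r hr => ?_⟩, hy⟩
  -- `r = β r₀`
  set r₀ : R := β⁻¹ ⟨r, hr⟩ with hr₀
  have e1 : ι ⟨r, hRN hr⟩ = j * ι ⟨r₀, hRN r₀.2⟩ * j⁻¹ := by
    have := hβ r₀
    have e0 : β r₀ = ⟨r, hr⟩ := by simp [hr₀]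
    rw [← this]
    exact meet_cm_app_congr ι _ _ (by rw [e0])
  have hcomm : (⟨r₀, hRN r₀.2⟩ : ↥(normalizerIn S U)) * c = c * ⟨r₀, hRN r₀.2⟩ := by
    apply Subtype.ext
    exact (Subgroup.mem_centralizer_iff.mp hc.2) _ r₀.2
  have e2 : ι (y * ⟨r, hRN hr⟩ * y⁻¹) = ι ⟨r, hRN hr⟩ := by
    rw [map_mul, map_mul, map_inv, hy, e1]
    have e3 : j * ι c * j⁻¹ * (j * ι ⟨r₀, hRN r₀.2⟩ * j⁻¹) * (j * ι c * j⁻¹)⁻¹ =
        j * (ι c * ι ⟨r₀, hRN r₀.2⟩ * (ι c)⁻¹) * j⁻¹ := by group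
    rw [e3, ← map_mul, ← hcomm, map_mul]
    group
  have e4 := congrArg Subtype.val (hG.inj e2)
  have e5 : (y : Ω) * r * (y : Ω)⁻¹ = r := e4
  calc r * (y : Ω) = ((y : Ω) * r * (y : Ω)⁻¹) * y := by rw [e5]
    _ = y * r := by group

/-- the decomposition of the action on `Q_R`. -/
theorem meet_cm_QR_decomp {W : Subgroup Ω} (hG : MeetLocGrp p F W U ι) {R : Subgroup Ω} (hUR : U ≤ R)
    (hRN : R ≤ normalizerIn S U) {j : G} {β : MulAut R} (hβ : MeetCmA ι hRN j β)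
    (hQRN : meetQ S R ≤ normalizerIn S U) {b : MulAut ↥(meetQ S R)} (hb : MeetCmA ι hQRN j b)
    (x : ↥(meetQ S R)) :
    ∃ (c y : ↥(normalizerIn S U)) (r : R), (c : Ω) ∈ centralizerIn S R ∧ (y : Ω) ∈ centralizerIn S R ∧
      ι y = j * ι c * j⁻¹ ∧ (x : Ω) = (c : Ω) * (r : Ω) ∧
      ((b x : ↥(meetQ S R)) : Ω) = (y : Ω) * ((β r : R) : Ω) := by
  obtain ⟨c, hc, r, hr, hxe⟩ := meet_cm_mem_Q x.2
  have hcN : c ∈ normalizerIn S U := hQRN ((le_sup_right : centralizerIn S R ≤ meetQ S R) hc)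
  obtain ⟨y, hyC, hy⟩ := meet_cm_cent_inv hG hUR hRN hβ ⟨c, hcN⟩ hc
  refine ⟨⟨c, hcN⟩, y, ⟨r, hr⟩, hc, hyC, hy, hxe, ?_⟩
  have e1 := hb x
  have e2 := hβ ⟨r, hr⟩
  have e3 : (⟨x, hQRN x.2⟩ : ↥(normalizerIn S U)) = ⟨c, hcN⟩ * ⟨r, hRN hr⟩ := Subtype.ext hxe
  have e4 : ι ⟨((b x : ↥(meetQ S R)) : Ω), hQRN (b x).2⟩ =
      ι (y * ⟨((β ⟨r, hr⟩ : R) : Ω), hRN (β ⟨r, hr⟩).2⟩) := by
    rw [e1, e3, map_mul, map_mul, hy, e2]
    group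
  exact congrArg Subtype.val (hG.inj e4)

/-- the conjugation by `j` on `Q_R` exists. -/
theorem meet_cm_QR_exists [Finite S] {W : Subgroup Ω} (hG : MeetLocGrp p F W U ι) {R : Subgroup Ω} (hUR : U ≤ R)
    (hRN : R ≤ normalizerIn S U) {j : G} {β : MulAut R} (hβ : MeetCmA ι hRN j β)
    (hQRN : meetQ S R ≤ normalizerIn S U) : ∃ b : MulAut ↥(meetQ S R), MeetCmA ι hQRN j b := by
  have hRS : R ≤ S := hRN.trans inf_le_left
  haveI : Finite ↥(meetQ S R) := Fusion.finite_of_le (sup_le hRS inf_le_left)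
  apply meet_cm_A_exists hG.inj j hQRN
  intro x
  obtain ⟨c, hc, r, hr, hxe⟩ := meet_cm_mem_Q x.2
  have hcN : c ∈ normalizerIn S U := hQRN ((le_sup_right : centralizerIn S R ≤ meetQ S R) hc)
  obtain ⟨y, hyC, hy⟩ := meet_cm_cent_inv hG hUR hRN hβ ⟨c, hcN⟩ hc
  refine ⟨y * ⟨((β ⟨r, hr⟩ : R) : Ω), hRN (β ⟨r, hr⟩).2⟩, ?_, ?_⟩
  · exact (meetQ S R).mul_mem ((le_sup_right : centralizerIn S R ≤ meetQ S R) hyC)
      ((le_sup_left : R ≤ meetQ S R) (β ⟨r, hr⟩).2)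
  · have e2 := hβ ⟨r, hr⟩
    have e3 : (⟨x, hQRN x.2⟩ : ↥(normalizerIn S U)) = ⟨c, hcN⟩ * ⟨r, hRN hr⟩ := Subtype.ext hxe
    rw [e3, map_mul, map_mul, hy, e2]
    group

/-- an induced automorphism is an automorphism in `F`. -/
theorem meet_cm_A_mem_aut {W : Subgroup Ω} (hG : MeetLocGrp p F W U ι) {X : Subgroup Ω}
    (hXN : X ≤ normalizerIn S U) {g : G} {β : MulAut X} (hβ : MeetCmA ι hXN g β) : β ∈ F.autGroup X := by
  rw [Fusion.mem_autGroup_iff F (hXN.trans inf_le_left)]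
  exact hG.hom g X hXN _ (fun x => hXN (β x).2) hβ

/-- **(CM-a)(iii), first half**: `[Q_R, b] ≤ R`. -/
theorem meet_cm_QR_comm [Finite S] [Fact p.Prime] (hS : IsPGroup p S) (hF : F.IsSaturated p)
    (h₁ : E₁.IsNormalIn F p) (h₂ : E₂.IsNormalIn F p) (hU : U ∈ meetUf F (T₁ ⊓ T₂))
    (hG : MeetLocGrp p F (T₁ ⊓ T₂) U ι) {R : Subgroup Ω} (hUR : U ≤ R)
    (hRN : R ≤ normalizerIn S U) {j : G} (hj : j ∈ meetJ p F E₁ E₂ U ι hG.hQ) {β : MulAut R}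
    (hβ : MeetCmA ι hRN j β) (hQRN : meetQ S R ≤ normalizerIn S U) {b : MulAut ↥(meetQ S R)}
    (hb : MeetCmA ι hQRN j b) (x : ↥(meetQ S R)) : (x : Ω)⁻¹ * ((b x : ↥(meetQ S R)) : Ω) ∈ R := by
  obtain ⟨c, y, r, hc, hyC, hy, hxe, hbx⟩ := meet_cm_QR_decomp hG hUR hRN hβ hQRN hb x
  have h1 : (c : Ω)⁻¹ * (y : Ω) ∈ U :=
    meet_cm_comm_mem hS hF h₁ h₂ hU hG hj c y (meet_cm_cent_le_Q hUR hc) hy
  rw [hxe, hbx]
  have e : ((c : Ω) * (r : Ω))⁻¹ * ((y : Ω) * ((β r : R) : Ω)) =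
      (r : Ω)⁻¹ * ((c : Ω)⁻¹ * (y : Ω)) * ((β r : R) : Ω) := by group
  rw [e]
  exact R.mul_mem (R.mul_mem (R.inv_mem r.2) (hUR h1)) (β r).2

end Cfsg.Agent.MEET
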