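import Mathlib
import Cfsg.Agent.MEET.PcTr
import Cfsg.Agent.Lead.FusionSat3

/-!
# Project MEET: `Q_T^U = U C_T(U)` is centric in `E` (the hypothesis `hcent` of `meet_sz`)

`F` saturated over `S`, `E` a subsystem of `F` over the strongly closed subgroup `T`, `U ≤ T` fully normalized in `F`.
Then every `E`-conjugate of `P = U C_T(U)` contains its centralizer in `T` (`meet_sz_centric`).

Proof: `φ : P → P'` in `E`, `U' = φ(U)`, `χ : N_S(U') → N_S(U)` in `F` with `χ(U') = U`.  `χ φ` maps `P` into `P`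
(`meet_pc_map_Q`), hence onto `P`; for `z ∈ C_T(P')`, `χ(z) ∈ T` centralizes `χ(P') = P ≥ U`, so `χ(z) ∈ C_T(U) ≤ P =
χ(P')` and `z ∈ P'` as `χ` is injective.
-/

set_option autoImplicit false
set_option linter.unusedSectionVars false
set_option linter.unusedVariables false

namespace Cfsg.Agent.MEET

open Cfsg Cfsg.FusionSystem Cfsg.Agent.Lead

universe u

variable {Ω : Type u} [Group Ω] {S : Subgroup Ω}

theorem meet_sz_centric [Finite S] {p : ℕ} [Fact p.Prime] (hS : IsPGroup p S) {F : FusionSystem S}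
    (hF : F.IsSaturated p) {T : Subgroup Ω}
    (E : FusionSystem T) (hEF : E.IsSubsystemOf F) (hT : F.StronglyClosed T) {U : Subgroup Ω}
    (hU : F.IsFullyNormalized U) (hUT : U ≤ T) : E.IsCentric (meetQ T U) := by
  classical
  have hTS : T ≤ S := hT.1
  have hUS : U ≤ S := hU.1
  have hPT : meetQ T U ≤ T := meet_pc_Q_le_K hUT
  have hPS : meetQ T U ≤ S := hPT.trans hTS
  have hUP : U ≤ meetQ T U := meet_le_Q T U
  have hCP : centralizerIn T U ≤ meetQ T U := le_sup_right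
  have hPN : meetQ T U ≤ normalizerIn S U := meet_pc_Q_le hTS hUS
  have hfinP : Finite ↥(meetQ T U) := Fusion.finite_of_le hPS
  have hfinU : Finite U := Fusion.finite_of_le hUS
  obtain ⟨hfc, hfa⟩ := Fusion.fullyCentralized_fullyAutomized_of_fullyNormalized p hS F hF hU
  have hrec : F.IsReceptive U := Fusion.receptive_of_fullyCentralized p hS F hF hfc
  refine ⟨hPT, ?_⟩
  rintro P' ⟨φ, hφ, hr⟩
  have hφF : φ ∈ F.Hom (meetQ T U) := hEF _ hφ
  have hφinj := F.injective_of_mem hφF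
  have hφT : ∀ x : ↥(meetQ T U), φ x ∈ T := (E.le_of_mem hφ).2
  -- `U' := φ(U)`
  set φU : U →* Ω := φ.comp (Subgroup.inclusion hUP) with hφUdef
  have hφU : φU ∈ F.Hom U := Fusion.restrict_mem F hφF hUP
  set U' : Subgroup Ω := φU.range with hU'def
  have hconj : F.IsConj U' U := Fusion.isConj_symm F ⟨φU, hφU, rfl⟩
  have hU'S : U' ≤ S := Fusion.isConj_src_le F hconj
  have hfinU' : Finite U' := Fusion.finite_of_le hU'S
  obtain ⟨χ, hχ, hχN, hχU⟩ := Fusion.exists_hom_normalizerIn p hS F hfa hrec hconj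
  have hχinj := F.injective_of_mem hχ
  -- Claim A: `φ(P) ≤ N_S(U')`
  have hconjU' : ∀ x : ↥(meetQ T U), ∀ y ∈ U', φ x * y * (φ x)⁻¹ ∈ U' := by
    rintro x _ ⟨u, rfl⟩
    have hxN : (x : Ω) ∈ Subgroup.normalizer (U : Set Ω) := (hPN x.2).2
    have hxu : (x : Ω) * u * (x : Ω)⁻¹ ∈ U := (hxN u).mp u.2
    refine ⟨⟨(x : Ω) * u * (x : Ω)⁻¹, hxu⟩, ?_⟩
    show φ (Subgroup.inclusion hUP ⟨(x : Ω) * u * (x : Ω)⁻¹, hxu⟩) = φ x * φ (Subgroup.inclusion hUP u) * (φ x)⁻¹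
    rw [← map_inv, ← map_mul, ← map_mul]
    congr 1
  have hA : ∀ x : ↥(meetQ T U), φ x ∈ normalizerIn S U' := by
    intro x
    refine ⟨hTS (hφT x), ?_⟩
    exact mem_normalizer_of_conj_mem_of_finite U' (φ x) (hconjU' x)
  -- `ω := χ ∘ φ`
  have hω := F.comp_mem hφF hχ hA
  set ω : ↥(meetQ T U) →* Ω := χ.comp (φ.codRestrict (normalizerIn S U') hA) with hωdef
  have hωinj := F.injective_of_mem hω
  have hU'N : U' ≤ normalizerIn S U' := Fusion.le_normalizerIn hU'S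
  have hχU' : ∀ (y : Ω) (hy : y ∈ U'), χ ⟨y, hU'N hy⟩ ∈ U := by
    intro y hy
    rw [← hχU]
    exact ⟨⟨y, hU'N hy⟩, hy, rfl⟩
  have hωU : ∀ x : ↥(meetQ T U), (x : Ω) ∈ U → ω x ∈ U := by
    intro x hx
    have h1 : φ x ∈ U' := ⟨⟨x, hx⟩, rfl⟩
    exact hχU' (φ x) h1
  -- surjectivity of `ω` on `U`
  have hωUsurj : ∀ y ∈ U, ∃ x : ↥(meetQ T U), (x : Ω) ∈ U ∧ ω x = y := by
    intro y hy
    have hinj : Function.Injective (fun u : U => (⟨ω (Subgroup.inclusion hUP u), hωU _ u.2⟩ : U)) := by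
      intro a b hab
      have h1 : ω (Subgroup.inclusion hUP a) = ω (Subgroup.inclusion hUP b) := congrArg Subtype.val hab
      have h2 := hωinj h1
      exact Subgroup.inclusion_injective hUP h2
    obtain ⟨u, hu⟩ := (Finite.injective_iff_surjective.mp hinj) ⟨y, hy⟩
    exact ⟨Subgroup.inclusion hUP u, u.2, congrArg Subtype.val hu⟩
  -- `ω` maps `P` into `P`, hence onto
  have hωP : ∀ x : ↥(meetQ T U), ω x ∈ meetQ T U := fun x =>
    meet_pc_map_Q F hT hω hUP hCP hωU hωUsurj x x.2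
  have hωPsurj : ∀ y ∈ meetQ T U, ∃ x : ↥(meetQ T U), ω x = y := by
    intro y hy
    have hinj : Function.Injective (fun x : ↥(meetQ T U) => (⟨ω x, hωP x⟩ : ↥(meetQ T U))) := by
      intro a b hab
      exact hωinj (congrArg Subtype.val hab)
    obtain ⟨x, hx⟩ := (Finite.injective_iff_surjective.mp hinj) ⟨y, hy⟩
    exact ⟨x, congrArg Subtype.val hx⟩
  -- Claim C
  intro z hz
  obtain ⟨hzT, hzC⟩ := hz
  rw [← hr] at hzC
  have hzC' := Subgroup.mem_centralizer_iff.mp hzC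
  have hzN : z ∈ normalizerIn S U' := by
    refine ⟨hTS hzT, Subgroup.centralizer_le_normalizer _ ?_⟩
    refine Subgroup.mem_centralizer_iff.mpr ?_
    rintro _ ⟨u, rfl⟩
    exact hzC' _ ⟨Subgroup.inclusion hUP u, rfl⟩
  have hχzT : χ ⟨z, hzN⟩ ∈ T := Fusion.map_mem_of_stronglyClosed F hT hχ ⟨z, hzN⟩ hzT
  have hχzC : χ ⟨z, hzN⟩ ∈ Subgroup.centralizer (U : Set Ω) := by
    refine Subgroup.mem_centralizer_iff.mpr ?_
    intro y hy
    obtain ⟨x, hxU, rfl⟩ := hωUsurj y hy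
    show χ ⟨φ x, hA x⟩ * χ ⟨z, hzN⟩ = χ ⟨z, hzN⟩ * χ ⟨φ x, hA x⟩
    rw [← map_mul, ← map_mul]
    congr 1
    exact Subtype.ext (hzC' (φ x) ⟨x, rfl⟩)
  have hχzP : χ ⟨z, hzN⟩ ∈ meetQ T U := hCP ⟨hχzT, hχzC⟩
  obtain ⟨x, hx⟩ := hωPsurj _ hχzP
  have h1 : (⟨φ x, hA x⟩ : ↥(normalizerIn S U')) = ⟨z, hzN⟩ := hχinj hx
  have h2 : φ x = z := congrArg Subtype.val h1
  rw [← hr, ← h2]
  exact ⟨x, rfl⟩

end Cfsg.Agent.MEET
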