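import Mathlib
import Cfsg.Prelude.Def_FusionComponents
import Cfsg.Agent.Lead.FusionExtT
import Cfsg.Agent.Lead.FusionInvariant
import Cfsg.Agent.Lead.FusionNormalCrit
import Cfsg.Agent.Lead.FusionSat3
import Cfsg.Agent.Lead.FusionStab
import Cfsg.Agent.CSE.LocalA
import Cfsg.Agent.CSE.LocalB
import Cfsg.Agent.CSE.Largest
import Cfsg.Agent.COP.LemmaXBase
import Cfsg.Agent.COP.LemmaX
import Cfsg.Agent.Helper6.BcgloA
import Cfsg.Agent.Helper1.Cores

/-!
MEET project, P0 second half (`notes/MEET_helper2_P0b.md`), part a (helper2): extension of automorphisms over a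
strongly closed subgroup `C` acting trivially on `R` and on `P / R`.

`R` and `C` are strongly closed in the saturated system `F`, `C` centralizes `R`, `R ≤ P ≤ S` and `[P, C] ≤ R`.
Then every automorphism of `P` in `F` extends to an automorphism of `P ⊔ C` in `F` (`meet_locb_ext`).
The elements of `C` induce on `P` elements of the stabilizer of the chain `1 ≤ R ≤ P`, a normal `p`-subgroup of
`Aut_F(P)`; for `P` fully automized this subgroup lies in `Aut_S(P)`, so `C` lies in the extender of every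
automorphism and receptivity gives the extension (`meet_locb_ext_fn`); the general case is transported along a map
`N_S(P) → S` of `F` sending `P` to a fully automized receptive subgroup.
-/

set_option autoImplicit false
set_option linter.unusedSectionVars false
set_option linter.unusedVariables false
set_option linter.style.haveILetI false

namespace Cfsg.Agent.MEET

open Cfsg Cfsg.FusionSystem Cfsg.Agent.Lead Cfsg.Agent.Lead.StrongInv Cfsg.Agent.CSE Cfsg.Agent.COP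
  Cfsg.Agent.Helper6.Bcglo

variable {Ω : Type*} [Group Ω] {S : Subgroup Ω}

/-- A normal `p`-subgroup of `Aut_F(P)` lies in `Aut_S(P)` when `P` is fully automized. -/
theorem meet_locb_normal_p_le (p : ℕ) [Fact p.Prime] (F : FusionSystem S) {P : Subgroup Ω}
    [Finite P] (hfa : F.IsFullyAutomized p P) (L : Subgroup (MulAut P)) (hLF : L ≤ F.autGroup P)
    (hLp : IsPGroup p L) (hLn : ∀ α ∈ F.autGroup P, ∀ b ∈ L, α * b * α⁻¹ ∈ L) :
    L ≤ autInducedBy S P := by
  obtain ⟨hPS, Rs, hRs⟩ := hfa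
  have : Finite (MulAut P) := inferInstance
  have hn : (L.subgroupOf (F.autGroup P)).Normal := ⟨fun n hn a => by
    rw [Subgroup.mem_subgroupOf] at hn ⊢
    exact hLn a.1 a.2 n.1 hn⟩
  have hp' : IsPGroup p (L.subgroupOf (F.autGroup P)) := hLp.comap_subtype
  have h1 : L.subgroupOf (F.autGroup P) ≤ Rs :=
    (Cfsg.Agent.Helper1.le_pCore hn hp').trans (Cfsg.Agent.Helper1.pCore_le_sylow Rs)
  intro b hb
  have h2 : (⟨b, hLF hb⟩ : F.autGroup P) ∈ (Rs : Subgroup (F.autGroup P)) :=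
    h1 (Subgroup.mem_subgroupOf.mpr hb)
  rw [hRs, Subgroup.mem_subgroupOf] at h2
  exact h2

/-- Membership in the extender of an automorphism. -/
theorem meet_locb_mem_extender {P : Subgroup Ω} (g : MulAut P) (x : Ω) (hxS : x ∈ S)
    (hxN : x ∈ Subgroup.normalizer (P : Set Ω)) (s : Ω) (hsS : s ∈ S)
    (h : ∀ y : P, ((g (conjAutHom P ⟨x, hxN⟩ y) : P) : Ω) = s * ((g y : P) : Ω) * s⁻¹) :
    x ∈ extender S P (P.subtype.comp g.toMonoidHom) := by
  apply Subgroup.subset_closure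
  refine ⟨hxS, hxN, s, hsS, fun y hy => ?_⟩
  exact h y

theorem meet_locb_mem_extender_of_conj {P : Subgroup Ω} (g : MulAut P) (x : Ω) (hxS : x ∈ S)
    (hxN : x ∈ Subgroup.normalizer (P : Set Ω))
    (h : g * conjAutHom P ⟨x, hxN⟩ * g⁻¹ ∈ autInducedBy S P) :
    x ∈ extender S P (P.subtype.comp g.toMonoidHom) := by
  rw [mem_autInducedBy_iff] at h
  obtain ⟨s, hsS, hs⟩ := h
  refine meet_locb_mem_extender g x hxS hxN s hsS (fun y => ?_)
  have h2 := hs (g y)
  rw [← h2]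
  simp only [MulAut.mul_apply, MulAut.inv_apply_self]

/-- Receptivity: an automorphism of `P` extends to `P ⊔ X` for `X` inside its extender. -/
theorem meet_locb_ext_receptive (F : FusionSystem S) {P X : Subgroup Ω}
    (hrec : F.IsReceptive P) (g : MulAut P) (hg : g ∈ F.autGroup P)
    (hX : X ≤ extender S P (P.subtype.comp g.toMonoidHom)) :
    ∃ ψ ∈ F.Hom (P ⊔ X), ∀ y : P, ψ (Subgroup.inclusion le_sup_left y) = ((g y : P) : Ω) := by
  have hPS := hrec.1
  have hghom := (Fusion.mem_autGroup_iff F hPS g).mp hg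
  obtain ⟨ψ', hψ', hext⟩ := hrec.2 P _ hghom (range_aut P g)
  have hPle : P ≤ extender S P (P.subtype.comp g.toMonoidHom) :=
    Fusion.le_extender P hPS _ (fun y => hPS (g y).2)
  have hle : P ⊔ X ≤ extender S P (P.subtype.comp g.toMonoidHom) := sup_le hPle hX
  refine ⟨ψ'.comp (Subgroup.inclusion hle), Fusion.restrict_mem F hψ' hle, fun y => ?_⟩
  exact hext y.1 y.2 (hle ((le_sup_left : P ≤ P ⊔ X) y.2))

/-! ### The stabilizer of the chain `1 ≤ R ≤ P` -/

/-- The chain `1 ≤ R ≤ ⊤`. -/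
def meetLocbChain (R : Subgroup Ω) : ℕ → Subgroup Ω
  | 0 => ⊥
  | 1 => R
  | _ => ⊤

theorem meet_locb_chain_inv (F : FusionSystem S) {R P : Subgroup Ω} (hRsc : F.StronglyClosed R)
    (hPS : P ≤ S) : ∀ i, ∀ α ∈ F.autGroup P, ∀ x : P, (x : Ω) ∈ meetLocbChain R i →
      ((α x : P) : Ω) ∈ meetLocbChain R i := by
  intro i α hα x hx
  match i with
  | 0 =>
    have h1 : (x : Ω) = 1 := Subgroup.mem_bot.mp hx
    have h2 : x = 1 := Subtype.ext h1
    rw [h2, map_one]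
    exact Subgroup.one_mem _
  | 1 => exact Fusion.aut_mem_of_stronglyClosed F hPS hRsc α hα x hx
  | (n + 2) => exact Subgroup.mem_top _

theorem meet_locb_mem_stabSet_iff (F : FusionSystem S) (R P : Subgroup Ω) (β : MulAut P) :
    β ∈ Fusion.stabSet F P (meetLocbChain R) ↔ β ∈ F.autGroup P ∧
      (∀ x : P, (x : Ω) ∈ R → β x = x) ∧ ∀ x : P, ((x⁻¹ * β x : P) : Ω) ∈ R := by
  constructor
  · rintro ⟨h1, h2⟩
    refine ⟨h1, fun x hx => ?_, fun x => h2 1 x (Subgroup.mem_top _)⟩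
    have h3 := h2 0 x hx
    have h4 : ((x⁻¹ * β x : P) : Ω) = 1 := Subgroup.mem_bot.mp h3
    have h5 : x⁻¹ * β x = 1 := Subtype.ext h4
    exact (inv_mul_eq_one.mp h5).symm
  · rintro ⟨h1, h2, h3⟩
    refine ⟨h1, fun i x hx => ?_⟩
    match i with
    | 0 =>
      rw [h2 x hx, inv_mul_cancel]
      exact Subgroup.one_mem _
    | 1 => exact h3 x
    | (n + 2) => exact Subgroup.mem_top _

/-- The stabilizer of the chain `1 ≤ R ≤ P` in `Aut_F(P)` consists of `p`-elements. -/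
theorem meet_locb_stab_pow (p : ℕ) [Fact p.Prime] (hS : IsPGroup p S) (F : FusionSystem S)
    {R P : Subgroup Ω} [Finite P] (hRsc : F.StronglyClosed R) (hPS : P ≤ S) {β : MulAut P}
    (hβ : β ∈ Fusion.stabSet F P (meetLocbChain R)) : ∃ k : ℕ, β ^ p ^ k = 1 := by
  refine Fusion.stabSet_pow_eq_one F P (meetLocbChain R) (meet_locb_chain_inv F hRsc hPS) p
    (hS.to_le hPS) 2 (fun x => Subgroup.mem_top _) ?_ hβ
  intro γ _
  refine ⟨0, fun x hx => ?_⟩
  have h1 : (x : Ω) = 1 := Subgroup.mem_bot.mp hx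
  have h2 : x = 1 := Subtype.ext h1
  rw [h2, map_one]

theorem meet_locb_stab_isPGroup (p : ℕ) [Fact p.Prime] (hS : IsPGroup p S) (F : FusionSystem S)
    {R P : Subgroup Ω} [Finite P] (hRsc : F.StronglyClosed R) (hPS : P ≤ S) :
    IsPGroup p (Fusion.stabSubgroup F P (meetLocbChain R) (meet_locb_chain_inv F hRsc hPS)) := by
  rintro ⟨β, hβ⟩
  obtain ⟨k, hk⟩ := meet_locb_stab_pow p hS F hRsc hPS hβ
  exact ⟨k, Subtype.ext hk⟩

/-- The stabilizer of the chain `1 ≤ R ≤ P` lies in `Aut_S(P)` for `P` fully automized. -/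
theorem meet_locb_stab_le (p : ℕ) [Fact p.Prime] (hS : IsPGroup p S) (F : FusionSystem S)
    {R P : Subgroup Ω} [Finite P] (hRsc : F.StronglyClosed R) (hfa : F.IsFullyAutomized p P)
    {β : MulAut P} (hβ : β ∈ Fusion.stabSet F P (meetLocbChain R)) : β ∈ autInducedBy S P := by
  have hPS := hfa.1
  have hinv := meet_locb_chain_inv F hRsc hPS
  refine meet_locb_normal_p_le p F hfa (Fusion.stabSubgroup F P (meetLocbChain R) hinv)
    (fun b hb => hb.1) (meet_locb_stab_isPGroup p hS F hRsc hPS) ?_ hβ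
  intro α hα b hb
  exact Fusion.stabSet_conj F P (meetLocbChain R) hinv hα hb

/-- An element of `S` centralizing `R` and acting trivially on `P / R` normalizes `P ≥ R`. -/
theorem meet_locb_mem_normalizer {R P : Subgroup Ω} [Finite P] (hRP : R ≤ P) (c : Ω)
    (hc : ∀ x ∈ P, x⁻¹ * (c * x * c⁻¹) ∈ R) : c ∈ Subgroup.normalizer (P : Set Ω) := by
  apply mem_normalizer_of_conj_mem_of_finite P
  intro y hy
  have h1 := hRP (hc y hy)
  have e : c * y * c⁻¹ = y * (y⁻¹ * (c * y * c⁻¹)) := by group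
  rw [e]
  exact P.mul_mem hy h1

/-- Conjugation by such an element lies in the stabilizer of the chain. -/
theorem meet_locb_conj_mem_stab (F : FusionSystem S) {R P : Subgroup Ω} (hPS : P ≤ S) (c : Ω)
    (hcS : c ∈ S) (hcN : c ∈ Subgroup.normalizer (P : Set Ω))
    (hcR : ∀ r ∈ R, c * r * c⁻¹ = r) (hc : ∀ x ∈ P, x⁻¹ * (c * x * c⁻¹) ∈ R) :
    conjAutHom P ⟨c, hcN⟩ ∈ Fusion.stabSet F P (meetLocbChain R) := by
  rw [meet_locb_mem_stabSet_iff]
  refine ⟨Fusion.autInducedBy_le_autGroup F hPS (Fusion.conjAutHom_mem_autInducedBy P _ hcS),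
    fun x hx => ?_, fun x => ?_⟩
  · apply Subtype.ext
    exact hcR x hx
  · exact hc x x.2

/-- (EXT), fully automized receptive case. -/
theorem meet_locb_ext_fn [Finite S] (p : ℕ) [Fact p.Prime] (hS : IsPGroup p S) (F : FusionSystem S)
    {R C P : Subgroup Ω} (hRsc : F.StronglyClosed R) (hCsc : F.StronglyClosed C)
    (hfa : F.IsFullyAutomized p P) (hrec : F.IsReceptive P) (hRP : R ≤ P)
    (hCR : ∀ c ∈ C, ∀ r ∈ R, c * r * c⁻¹ = r)
    (hPC : ∀ c ∈ C, ∀ x ∈ P, x⁻¹ * (c * x * c⁻¹) ∈ R)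
    (g : MulAut P) (hg : g ∈ F.autGroup P) :
    ∃ γ ∈ F.autGroup (P ⊔ C), ∀ x : P,
      γ (Subgroup.inclusion le_sup_left x) = Subgroup.inclusion le_sup_left (g x) := by
  have hPS := hfa.1
  have hCS := hCsc.1
  haveI : Finite P := Fusion.finite_of_le hPS
  have hinv := meet_locb_chain_inv F hRsc hPS
  have hX : C ≤ extender S P (P.subtype.comp g.toMonoidHom) := by
    intro c hc
    have hcN := meet_locb_mem_normalizer hRP c (hPC c hc)
    apply meet_locb_mem_extender_of_conj g c (hCS hc) hcN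
    apply meet_locb_stab_le p hS F hRsc hfa
    exact Fusion.stabSet_conj F P (meetLocbChain R) hinv hg
      (meet_locb_conj_mem_stab F hPS c (hCS hc) hcN (hCR c hc) (hPC c hc))
  obtain ⟨ψ, hψ, hψP⟩ := meet_locb_ext_receptive F hrec g hg hX
  have hval : ∀ y : ↥(P ⊔ C), ψ y ∈ P ⊔ C := by
    apply Fusion.sup_map_mem
    · intro x
      rw [hψP x]
      exact (le_sup_left : P ≤ P ⊔ C) (g x).2
    · intro c
      exact (le_sup_right : C ≤ P ⊔ C) (Fusion.map_mem_of_stronglyClosed F hCsc hψ _ c.2)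
  obtain ⟨γ, hγ, hγψ⟩ := cse_aut_of_hom F ψ hψ hval
  refine ⟨γ, hγ, fun x => ?_⟩
  apply Subtype.ext
  rw [hγψ, hψP]
  rfl

/-- (EXT): `R`, `C` strongly closed in the saturated system `F`, `C` centralizes `R`, `R ≤ P ≤ S`, `[P, C] ≤ R`.
Every automorphism of `P` in `F` extends to an automorphism of `P ⊔ C` in `F`. -/
theorem meet_locb_ext [Finite S] (p : ℕ) [Fact p.Prime] (hS : IsPGroup p S) (F : FusionSystem S)
    (hF : F.IsSaturated p) {R C P : Subgroup Ω} (hRsc : F.StronglyClosed R)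
    (hCsc : F.StronglyClosed C) (hPS : P ≤ S) (hRP : R ≤ P)
    (hCR : ∀ c ∈ C, ∀ r ∈ R, c * r * c⁻¹ = r)
    (hPC : ∀ c ∈ C, ∀ x ∈ P, x⁻¹ * (c * x * c⁻¹) ∈ R)
    (g : MulAut P) (hg : g ∈ F.autGroup P) :
    ∃ γ ∈ F.autGroup (P ⊔ C), ∀ x : P,
      γ (Subgroup.inclusion le_sup_left x) = Subgroup.inclusion le_sup_left (g x) := by
  have hCS := hCsc.1
  haveI : Finite P := Fusion.finite_of_le hPS
  obtain ⟨P', hconj, hfa', hrec'⟩ := hF P hPS
  obtain ⟨ρ, hρ, hρN, hρP⟩ := Fusion.exists_hom_normalizerIn p hS F hfa' hrec' hconj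
  have hPN : P ≤ normalizerIn S P := Fusion.le_normalizerIn hPS
  have hCN : C ≤ normalizerIn S P := fun c hc =>
    Subgroup.mem_inf.mpr ⟨hCS hc, meet_locb_mem_normalizer hRP c (hPC c hc)⟩
  have hWN : P ⊔ C ≤ normalizerIn S P := sup_le hPN hCN
  have hWS : P ⊔ C ≤ S := sup_le hPS hCS
  have hP'S : P' ≤ S := hfa'.1
  -- the restriction of `ρ` to `W = P ⊔ C`
  have hρW := Fusion.restrict_mem F hρ hWN
  obtain ⟨ρW, hρWdef⟩ : ∃ f : ↥(P ⊔ C) →* Ω, f = ρ.comp (Subgroup.inclusion hWN) := ⟨_, rfl⟩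
  rw [← hρWdef] at hρW
  have hρWx : ∀ w : ↥(P ⊔ C), ρW w = ρ ⟨w.1, hWN w.2⟩ := fun w => by rw [hρWdef]; rfl
  have hρWP : ∀ x : P, ρW (Subgroup.inclusion le_sup_left x) ∈ P' := by
    intro x
    rw [← hρP, hρWx]
    refine ⟨⟨x.1, hPN x.2⟩, ?_, rfl⟩
    rw [SetLike.mem_coe, Subgroup.mem_subgroupOf]
    exact x.2
  have hρWC : ∀ w : ↥(P ⊔ C), (w : Ω) ∈ C → ρW w ∈ C := fun w hw =>
    Fusion.map_mem_of_stronglyClosed F hCsc hρW w hw
  have hρWR : ∀ w : ↥(P ⊔ C), (w : Ω) ∈ R → ρW w ∈ R := fun w hw =>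
    Fusion.map_mem_of_stronglyClosed F hRsc hρW w hw
  have hP'pre : ∀ y ∈ P', ∃ x : P, ρW (Subgroup.inclusion le_sup_left x) = y := by
    intro y hy
    rw [← hρP] at hy
    obtain ⟨x, hx, rfl⟩ := hy
    rw [SetLike.mem_coe, Subgroup.mem_subgroupOf] at hx
    refine ⟨⟨x.1, hx⟩, ?_⟩
    rw [hρWx]
    rfl
  have hCpre : ∀ c ∈ C, ∃ (c' : Ω) (hc' : c' ∈ C),
      ρW ⟨c', (le_sup_right : C ≤ P ⊔ C) hc'⟩ = c := fun c hc =>
    Fusion.exists_preimage_of_stronglyClosed F hCsc le_sup_right hρW c hc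
  have hRW : R ≤ P ⊔ C := hRP.trans le_sup_left
  have hRpre : ∀ r ∈ R, ∃ (r' : Ω) (hr' : r' ∈ R), ρW ⟨r', hRW hr'⟩ = r := fun r hr =>
    Fusion.exists_preimage_of_stronglyClosed F hRsc hRW hρW r hr
  have hrW : ρW.range = P' ⊔ C := by
    apply le_antisymm
    · rintro _ ⟨w, rfl⟩
      revert w
      apply Fusion.sup_map_mem
      · intro x
        exact (le_sup_left : P' ≤ P' ⊔ C) (hρWP x)
      · intro c
        exact (le_sup_right : C ≤ P' ⊔ C) (hρWC _ c.2)
    · apply sup_le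
      · intro y hy
        obtain ⟨x, hx⟩ := hP'pre y hy
        exact ⟨_, hx⟩
      · intro c hc
        obtain ⟨c', hc', h⟩ := hCpre c hc
        exact ⟨_, h⟩
  -- the restriction of `ρ` to `P`
  have hρPm := Fusion.restrict_mem F hρW (le_sup_left : P ≤ P ⊔ C)
  obtain ⟨ρP, hρPdef⟩ : ∃ f : P →* Ω, f = ρW.comp (Subgroup.inclusion le_sup_left) := ⟨_, rfl⟩
  rw [← hρPdef] at hρPm
  have hρPx : ∀ x : P, ρP x = ρW (Subgroup.inclusion le_sup_left x) := fun x => by
    rw [hρPdef]; rfl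
  have hrP : ρP.range = P' := by
    apply le_antisymm
    · rintro _ ⟨x, rfl⟩
      rw [hρPx]
      exact hρWP x
    · intro y hy
      obtain ⟨x, hx⟩ := hP'pre y hy
      exact ⟨x, by rw [hρPx, hx]⟩
  set eW : ↥(P ⊔ C) ≃* ↥(P' ⊔ C) := Fusion.equivOfRange ρW (F.injective_of_mem hρW) hrW with heW
  set eP : P ≃* P' := Fusion.equivOfRange ρP (F.injective_of_mem hρPm) hrP with heP
  have heWiso : IsIso F eW := IsIso.of_hom hρW hrW
  have hePiso : IsIso F eP := IsIso.of_hom hρPm hrP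
  have heWx : ∀ w : ↥(P ⊔ C), ((eW w : ↥(P' ⊔ C)) : Ω) = ρW w := fun w => rfl
  have hePx : ∀ x : P, ((eP x : P') : Ω) = ρP x := fun x => rfl
  have heWP : ∀ x : P, eW (Subgroup.inclusion le_sup_left x) =
      Subgroup.inclusion le_sup_left (eP x) := by
    intro x
    apply Subtype.ext
    rw [heWx]
    show _ = ((eP x : P') : Ω)
    rw [hePx, hρPx]
  -- the hypotheses for `P'`
  have hRP' : R ≤ P' := by
    intro r hr
    obtain ⟨r', hr', h⟩ := hRpre r hr
    have h1 := hρWP ⟨r', hRP hr'⟩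
    have h2 : (Subgroup.inclusion le_sup_left (⟨r', hRP hr'⟩ : P) : ↥(P ⊔ C)) =
        ⟨r', hRW hr'⟩ := rfl
    rw [h2, h] at h1
    exact h1
  have hPC' : ∀ c ∈ C, ∀ x ∈ P', x⁻¹ * (c * x * c⁻¹) ∈ R := by
    intro c hc x hx
    obtain ⟨c', hc', h1⟩ := hCpre c hc
    obtain ⟨x', h2⟩ := hP'pre x hx
    have h3 : x⁻¹ * (c * x * c⁻¹) = ρW ((Subgroup.inclusion le_sup_left x')⁻¹ *
        (⟨c', (le_sup_right : C ≤ P ⊔ C) hc'⟩ * Subgroup.inclusion le_sup_left x' *
          (⟨c', (le_sup_right : C ≤ P ⊔ C) hc'⟩ : ↥(P ⊔ C))⁻¹)) := by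
      rw [map_mul, map_mul, map_mul, map_inv, map_inv, h1, h2]
    rw [h3]
    apply hρWR
    exact hPC c' hc' x' x'.2
  -- the transported automorphism and its extension
  have hg' : MulAut.congr eP g ∈ F.autGroup P' := hePiso.congr_mem hg
  obtain ⟨γ', hγ', hγ'P⟩ := meet_locb_ext_fn p hS F hRsc hCsc hfa' hrec' hRP' hCR hPC' _ hg'
  refine ⟨MulAut.congr eW.symm γ', heWiso.symm.congr_mem hγ', fun x => ?_⟩
  show eW.symm (γ' (eW.symm.symm (Subgroup.inclusion le_sup_left x))) = _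
  rw [MulEquiv.symm_symm, MulEquiv.symm_apply_eq, heWP, heWP, hγ'P]
  congr 1
  show eP (g (eP.symm (eP x))) = eP (g x)
  rw [MulEquiv.symm_apply_apply]

end Cfsg.Agent.MEET
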