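import Mathlib
import Cfsg.Agent.MEET.EngDefs
import Cfsg.Agent.MEET.PcGroup
import Cfsg.Agent.MEET.LocBa
import Cfsg.Agent.Lead.FusionSubsys
import Cfsg.Agent.Lead.FusionStrongInvD

/-!
# Project MEET, (SZ): a `p'`-automorphism whose restriction lies in `E` lies in `E`

`E` over `T` saturated and invariant in `F` over `S`.  `P ≤ T` centric in `E`, `P ≤ R ≤ N_T(P)`, `a ∈ Aut_F(R)` of
order prime to `p` with `a|_P = a₀ ∈ Aut_E(P)`.  Then `a ∈ Aut_E(R)`  (`meet_sz`).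

Proof (no Schur-Zassenhaus): `P` is receptive in `E` and `R` lies in the extender of `a₀`, so `a₀` extends to
`b ∈ Hom_E(R, T)`; `b(y) ∈ a(y) C_T(P) = a(y) Z(P)`, hence `b ∈ Aut_E(R)`, and `b⁻¹ a` centralizes `P` and `R / P`:
it is a `p`-element.  `Aut_E(R)` is normal in `Aut_F(R)`; in the quotient the image of `a` is both a `p`- and a
`p'`-element (`meet_pc_mem_of_pprime`).
-/

set_option autoImplicit false
set_option linter.unusedSectionVars false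
set_option linter.unusedVariables false

namespace Cfsg.Agent.MEET

open Cfsg Cfsg.FusionSystem Cfsg.Agent.Lead Cfsg.Agent.Lead.StrongInv

variable {Ω : Type*} [Group Ω] {S : Subgroup Ω}

/-- Powers of an automorphism stabilizing the chain `1 ≤ P ≤ R`. -/
theorem meet_sz_chain_pow_apply {P R : Subgroup Ω} (d : MulAut R)
    (h1 : ∀ x : R, (x : Ω) ∈ P → d x = x) (y : R) (hy : ((y⁻¹ * d y : R) : Ω) ∈ P) (n : ℕ) :
    (d ^ n) y = y * (y⁻¹ * d y) ^ n := by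
  induction n with
  | zero => simp
  | succ n ih =>
    have hz : d (y⁻¹ * d y) = y⁻¹ * d y := h1 _ hy
    calc (d ^ (n + 1)) y = d ((d ^ n) y) := by rw [pow_succ']; rfl
      _ = d (y * (y⁻¹ * d y) ^ n) := by rw [ih]
      _ = d y * (d (y⁻¹ * d y)) ^ n := by rw [map_mul, map_pow]
      _ = d y * (y⁻¹ * d y) ^ n := by rw [hz]
      _ = y * ((y⁻¹ * d y) * (y⁻¹ * d y) ^ n) := by rw [← mul_assoc, mul_inv_cancel_left]
      _ = y * (y⁻¹ * d y) ^ (n + 1) := by rw [pow_succ']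

/-- An automorphism of `R` centralizing `P` and `R / P` (`P` a finite `p`-group) is a `p`-element. -/
theorem meet_sz_chain_pow (p : ℕ) [Fact p.Prime] {P R : Subgroup Ω} [Finite P] (hP : IsPGroup p P)
    (d : MulAut R) (h1 : ∀ x : R, (x : Ω) ∈ P → d x = x)
    (h2 : ∀ y : R, ((y⁻¹ * d y : R) : Ω) ∈ P) : ∃ n : ℕ, d ^ (p ^ n) = 1 := by
  obtain ⟨k, hk⟩ := IsPGroup.iff_card.mp hP
  refine ⟨k, ?_⟩
  ext y
  rw [meet_sz_chain_pow_apply d h1 y (h2 y)]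
  have hz : ((y⁻¹ * d y : R) : Ω) ^ (p ^ k) = 1 := by
    have := pow_card_eq_one' (G := P) (x := ⟨_, h2 y⟩)
    rw [hk] at this
    simpa using congrArg Subtype.val this
  have hz' : (y⁻¹ * d y) ^ (p ^ k) = 1 := Subtype.ext (by simpa using hz)
  rw [hz']
  simp

/-- **(SZ)**  `E` over `T` saturated and invariant in `F`; `P` centric in `E`, `P ≤ R ≤ N_T(P)`; a `p'`-element
`a ∈ Aut_F(R)` whose restriction to `P` is an element `a₀` of `Aut_E(P)` lies in `Aut_E(R)`. -/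
theorem meet_sz [Finite S] (p : ℕ) [Fact p.Prime] (hS : IsPGroup p S)
    {T : Subgroup Ω} (F : FusionSystem S) (E : FusionSystem T)
    (hEsat : E.IsSaturated p) (hEinv : E.IsInvariantIn F)
    {P R : Subgroup Ω} (hPR : P ≤ R) (hRT : R ≤ T) (hRN : R ≤ Subgroup.normalizer (P : Set Ω))
    (hcent : E.IsCentric P)
    (a : MulAut R) (ha : a ∈ F.autGroup R)
    (hao : ∃ m : ℕ, m.Coprime p ∧ a ^ m = 1)
    (a₀ : MulAut P) (ha₀ : a₀ ∈ E.autGroup P) (hres : MeetRes hPR a a₀) :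
    a ∈ E.autGroup R := by
  classical
  have hTS : T ≤ S := hEinv.2.1.1
  have hfinT : Finite T := Fusion.finite_of_le hTS
  have hTp : IsPGroup p T := hS.to_le hTS
  have hPT : P ≤ T := hPR.trans hRT
  have hRS : R ≤ S := hRT.trans hTS
  have hfinR : Finite R := Fusion.finite_of_le hRS
  have hfinP : Finite P := Fusion.finite_of_le (hPT.trans hTS)
  have hPp : IsPGroup p P := hS.to_le (hPT.trans hTS)
  have hSI : SI F E := SI_of_invariant F E hEinv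
  -- `P` is receptive in `E`
  have hrec : E.IsReceptive P :=
    Fusion.receptive_of_fullyCentralized p hTp E hEsat (Fusion.fullyCentralized_of_isCentric E hcent)
  have hCP : centralizerIn T P ≤ P := hcent.2 P (Fusion.isConj_refl E hPT)
  -- restriction formula
  have hres' : ∀ (x : Ω) (hx : x ∈ P), ((a₀ ⟨x, hx⟩ : P) : Ω) = ((a ⟨x, hPR hx⟩ : R) : Ω) :=
    fun x hx => hres ⟨x, hx⟩
  -- `R` lies in the extender of `a₀`
  have hX : R ≤ extender T P (P.subtype.comp a₀.toMonoidHom) := by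
    intro y hy
    refine meet_locb_mem_extender a₀ y (hRT hy) (hRN hy) ((a ⟨y, hy⟩ : R) : Ω) (hRT (a ⟨y, hy⟩).2)
      (fun x => ?_)
    rw [hres' _ (conjAutHom P ⟨y, hRN hy⟩ x).2, hres' _ x.2]
    have e : (⟨((conjAutHom P ⟨y, hRN hy⟩ x : P) : Ω), hPR (conjAutHom P ⟨y, hRN hy⟩ x).2⟩ : R)
        = ⟨y, hy⟩ * ⟨x, hPR x.2⟩ * ⟨y, hy⟩⁻¹ := Subtype.ext (by simp)
    rw [e, map_mul, map_mul, map_inv]
    simp
  obtain ⟨ψ, hψ, hψP⟩ := meet_locb_ext_receptive E hrec a₀ ha₀ hX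
  have hle : R ≤ P ⊔ R := le_sup_right
  have hψR : ψ.comp (Subgroup.inclusion hle) ∈ E.Hom R := Fusion.restrict_mem E hψ hle
  set ψR : R →* Ω := ψ.comp (Subgroup.inclusion hle) with hψRdef
  have hψRP : ∀ (x : Ω) (hx : x ∈ P), ψR ⟨x, hPR hx⟩ = ((a₀ ⟨x, hx⟩ : P) : Ω) := by
    intro x hx
    have := hψP ⟨x, hx⟩
    rw [← this]
    rfl
  have hψRT : ∀ y : R, ψR y ∈ T := fun y => (E.le_of_mem hψR).2 y
  -- key: `a(y)⁻¹ ψR(y) ∈ C_T(P) ≤ P`
  have hkey : ∀ y : R, ((a y : R) : Ω)⁻¹ * ψR y ∈ P := by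
    intro y
    refine hCP ⟨T.mul_mem (T.inv_mem (hRT (a y).2)) (hψRT y), ?_⟩
    refine Subgroup.mem_centralizer_iff.mpr ?_
    intro x' hx'
    -- `x' = a₀ x` for some `x ∈ P`
    obtain ⟨x, rfl⟩ : ∃ x : P, ((a₀ x : P) : Ω) = x' := ⟨a₀.symm ⟨x', hx'⟩, by simp⟩
    -- conjugate of `x` by `y` inside `P`
    have hyx : (y : Ω) * x * (y : Ω)⁻¹ ∈ P := by
      have := (conjAutHom P ⟨y, hRN y.2⟩ x).2
      simpa using this
    have e1 : ψR (y * ⟨x, hPR x.2⟩ * y⁻¹) = ψR y * ((a₀ x : P) : Ω) * (ψR y)⁻¹ := by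
      rw [map_mul, map_mul, map_inv, hψRP _ x.2]
    have e2 : ψR (y * ⟨x, hPR x.2⟩ * y⁻¹) = ((a y : R) : Ω) * ((a₀ x : P) : Ω) * ((a y : R) : Ω)⁻¹ := by
      have e3 : (y * ⟨x, hPR x.2⟩ * y⁻¹ : R) = ⟨(y : Ω) * x * (y : Ω)⁻¹, hPR hyx⟩ := Subtype.ext (by simp)
      rw [e3, hψRP _ hyx, hres' _ hyx, hres' _ x.2]
      have e4 : (⟨(y : Ω) * x * (y : Ω)⁻¹, hPR hyx⟩ : R) = y * ⟨x, hPR x.2⟩ * y⁻¹ := e3.symm
      rw [e4, map_mul, map_mul, map_inv]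
      simp
    have e5 := e1.symm.trans e2
    -- ψR y * z * (ψR y)⁻¹ = a y * z * (a y)⁻¹
    calc ((a₀ x : P) : Ω) * (((a y : R) : Ω)⁻¹ * ψR y)
        = ((a y : R) : Ω)⁻¹ * (((a y : R) : Ω) * ((a₀ x : P) : Ω) * ((a y : R) : Ω)⁻¹) * ψR y := by group
      _ = ((a y : R) : Ω)⁻¹ * (ψR y * ((a₀ x : P) : Ω) * (ψR y)⁻¹) * ψR y := by rw [e5]
      _ = ((a y : R) : Ω)⁻¹ * ψR y * ((a₀ x : P) : Ω) := by group
  have hψRR : ∀ y : R, ψR y ∈ R := by
    intro y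
    have : ψR y = ((a y : R) : Ω) * (((a y : R) : Ω)⁻¹ * ψR y) := by group
    rw [this]
    exact R.mul_mem (a y).2 (hPR (hkey y))
  have hr : ψR.range = R := by
    have hle' : ψR.range ≤ R := by
      rintro _ ⟨y, rfl⟩
      exact hψRR y
    have hinj := E.injective_of_mem hψR
    have hcard : Nat.card ψR.range = Nat.card R :=
      (Nat.card_congr (Equiv.ofInjective ψR hinj)).symm
    exact Subgroup.eq_of_le_of_card_ge hle' (le_of_eq hcard.symm)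
  obtain ⟨b, hb, hbv⟩ := Fusion.exists_aut_of_range_eq E hψR hr
  have hbF : b ∈ F.autGroup R := autGroup_le_of_subsystem F E hEinv.1 R hb
  -- `d := b⁻¹ * a` stabilizes the chain `1 ≤ P ≤ R`
  have hbP : ∀ (x : Ω) (hx : x ∈ P), ((b ⟨x, hPR hx⟩ : R) : Ω) = ((a₀ ⟨x, hx⟩ : P) : Ω) := by
    intro x hx
    rw [hbv]
    exact hψRP x hx
  have hbinvP : ∀ z : R, (z : Ω) ∈ P → ((b⁻¹ z : R) : Ω) ∈ P := by
    intro z hz
    have h1 : b ⟨((a₀.symm ⟨z, hz⟩ : P) : Ω), hPR (a₀.symm ⟨z, hz⟩).2⟩ = z := by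
      apply Subtype.ext
      rw [hbP _ (a₀.symm ⟨z, hz⟩).2]
      simp
    have h2 : b⁻¹ z = ⟨((a₀.symm ⟨z, hz⟩ : P) : Ω), hPR (a₀.symm ⟨z, hz⟩).2⟩ := by
      show b.symm z = _
      rw [MulEquiv.symm_apply_eq]
      exact h1.symm
    rw [h2]
    exact (a₀.symm ⟨z, hz⟩).2
  have hd1 : ∀ x : R, (x : Ω) ∈ P → (b⁻¹ * a) x = x := by
    intro x hx
    have h1 : a x = b x := by
      apply Subtype.ext
      have := hbP x.1 hx
      have h2 := hres' x.1 hx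
      rw [h2] at this
      exact this.symm
    show b⁻¹ (a x) = x
    rw [h1]
    simp
  have hd2 : ∀ y : R, ((y⁻¹ * (b⁻¹ * a) y : R) : Ω) ∈ P := by
    intro y
    -- `a y = b y * z⁻¹` with `z := (a y)⁻¹ * b y ∈ P`
    have hz : (((a y)⁻¹ * b y : R) : Ω) ∈ P := by
      have := hkey y
      rw [← hbv] at this
      simpa using this
    have h1 : a y = b y * ((a y)⁻¹ * b y)⁻¹ := by group
    have h2 : (b⁻¹ * a) y = y * b⁻¹ (((a y)⁻¹ * b y)⁻¹) := by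
      show b⁻¹ (a y) = _
      conv_lhs => rw [h1]
      rw [map_mul]
      simp
    rw [h2]
    have h3 : y⁻¹ * (y * b⁻¹ (((a y)⁻¹ * b y)⁻¹)) = b⁻¹ (((a y)⁻¹ * b y)⁻¹) := by group
    rw [h3]
    exact hbinvP _ (by simpa using P.inv_mem hz)
  obtain ⟨n, hn⟩ := meet_sz_chain_pow p hPp (b⁻¹ * a) hd1 hd2
  -- the quotient trick inside `Aut_F(R)`
  have hnorm : ((E.autGroup R).subgroupOf (F.autGroup R)).Normal := ⟨fun x hx g => by
    rw [Subgroup.mem_subgroupOf] at hx ⊢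
    exact conj_mem_autGroup F E hSI hTS hRT g.1 x.1 g.2 hx⟩
  obtain ⟨m, hm, ham⟩ := hao
  have hfinal : (⟨a, ha⟩ : F.autGroup R) ∈ (E.autGroup R).subgroupOf (F.autGroup R) :=
    meet_pc_mem_of_pprime p _ (⟨a, ha⟩ : F.autGroup R) ⟨b, hbF⟩ (⟨b, hbF⟩⁻¹ * ⟨a, ha⟩)
      (Subgroup.mem_subgroupOf.mpr hb) (by group)
      ⟨n, Subtype.ext (by simpa using hn)⟩
      ⟨m, hm, Subtype.ext (by simpa using ham)⟩
  exact Subgroup.mem_subgroupOf.mp hfinal

end Cfsg.Agent.MEET
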