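import Mathlib
import Cfsg.Agent.MEET.CmA4
import Cfsg.Agent.MEET.SzExt
import Cfsg.Agent.MEET.SzCentric
import Cfsg.Agent.MEET.PcTr

set_option autoImplicit false
set_option linter.style.haveILetI false
set_option linter.unusedSectionVars false
set_option linter.unusedVariables false

/-!
# Project MEET, (CM-a), step (iii), second half: the restriction to `Q_T^R` is a map of `E`

`j ∈ H_T(U)` of order prime to `p` normalizing `ι(R)`, `U ≤ R ≤ N_W(U)`: the conjugation `b` by `j` on `Q_R` restricts to a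
map of `E` on `Q_T^R = R C_T(R)`.  Route (Q4): (SZ) with `P = Q_T^U`, `R' = R Q_T^U`.
-/

namespace Cfsg.Agent.MEET

open Cfsg Cfsg.FusionSystem Cfsg.Agent.Lead

universe u

variable {Ω : Type u} [Group Ω] {S : Subgroup Ω} {p : ℕ} {F : FusionSystem S}

theorem meet_cm_resIn [Finite S] [Fact p.Prime] (hS : IsPGroup p S) (hF : F.IsSaturated p) {T : Subgroup Ω}
    (E : FusionSystem T) (hE : E.IsNormalIn F p) {W U : Subgroup Ω} (hWT : W ≤ T) (hU : U ∈ meetUf F W)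
    {G : Type u} [Group G] {ι : ↥(normalizerIn S U) →* G} (hG : MeetLocGrp p F W U ι)
    {R : Subgroup Ω} (hUR : U ≤ R) (hRY : R ≤ normalizerIn W U) (hRN : R ≤ normalizerIn S U)
    {j : G} (hj : j ∈ meetHi p F E U ι hG.hQ) (hjo : ∃ m : ℕ, m.Coprime p ∧ j ^ m = 1) {β : MulAut R}
    (hβ : MeetCmA ι hRN j β) (hQRN : meetQ S R ≤ normalizerIn S U) {b : MulAut ↥(meetQ S R)}
    (hb : MeetCmA ι hQRN j b) : MeetResIn E b (meetQ T R) := by
  have hinv := hE.1.2.2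
  have hEsat := hE.1.1
  have hT : F.StronglyClosed T := hinv.2.1
  have hTS : T ≤ S := hT.1
  have hUW : U ≤ W := hU.1.1
  have hUT : U ≤ T := hUW.trans hWT
  have hUS : U ≤ S := hUT.trans hTS
  have hRW : R ≤ W := hRY.trans inf_le_left
  have hRT : R ≤ T := hRW.trans hWT
  have hRS : R ≤ S := hRT.trans hTS
  haveI := meet_hgen_normal hS hF E hE hU hG
  obtain ⟨b', hb'F, hb'ind, hb'comm, hb'res⟩ := meet_hgen_aut hS hF E hE hWT hU hG j hj
  obtain ⟨hPQ, hb'E, hb'P⟩ := hb'res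
  have hPN : meetQ T U ≤ normalizerIn S U := hPQ.trans hG.hQ
  have hPT : meetQ T U ≤ T := meet_pc_Q_le_K hUT
  have hTn : S ≤ Subgroup.normalizer (T : Set Ω) := Fusion.le_normalizer_of_stronglyClosed F hT
  have hNP : normalizerIn S U ≤ Subgroup.normalizer ((meetQ T U : Subgroup Ω) : Set Ω) :=
    meet_hgen_normalizer_QT hTS hTn hUT
  have hRP : R ≤ Subgroup.normalizer ((meetQ T U : Subgroup Ω) : Set Ω) := hRN.trans hNP
  have hR'N : R ⊔ meetQ T U ≤ normalizerIn S U := sup_le hRN hPN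
  have hR'T : R ⊔ meetQ T U ≤ T := sup_le hRT hPT
  haveI : Finite ↥(R ⊔ meetQ T U) := Fusion.finite_of_le (hR'T.trans hTS)
  have hjR' : ∀ x : ↥(R ⊔ meetQ T U), ∃ y : ↥(normalizerIn S U), (y : Ω) ∈ R ⊔ meetQ T U ∧
      ι y = j * ι ⟨x, hR'N x.2⟩ * j⁻¹ := by
    intro x
    obtain ⟨r, hr, q, hq, hxe⟩ := meet_cm_mem_sup hRP x.2
    have e1 := hβ ⟨r, hr⟩
    have e2 : ι ⟨((b' ⟨q, hPQ hq⟩ : ↥(meetQ S U)) : Ω), hG.hQ (b' ⟨q, hPQ hq⟩).2⟩ =
        j * ι ⟨q, hPN hq⟩ * j⁻¹ := hb'ind ⟨q, hPQ hq⟩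
    have hb'q : ((b' ⟨q, hPQ hq⟩ : ↥(meetQ S U)) : Ω) ∈ meetQ T U := hb'P ⟨q, hq⟩
    refine ⟨⟨((β ⟨r, hr⟩ : R) : Ω), hRN (β ⟨r, hr⟩).2⟩ *
      ⟨((b' ⟨q, hPQ hq⟩ : ↥(meetQ S U)) : Ω), hG.hQ (b' ⟨q, hPQ hq⟩).2⟩, ?_, ?_⟩
    · exact (R ⊔ meetQ T U).mul_mem ((le_sup_left : R ≤ R ⊔ meetQ T U) (β ⟨r, hr⟩).2)
        ((le_sup_right : meetQ T U ≤ R ⊔ meetQ T U) hb'q)
    · have e3 : (⟨x, hR'N x.2⟩ : ↥(normalizerIn S U)) = ⟨r, hRN hr⟩ * ⟨q, hPN hq⟩ := Subtype.ext hxe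
      rw [e3, map_mul, map_mul, e1, e2]
      group
  obtain ⟨a, ha⟩ := meet_cm_A_exists hG.inj j hR'N hjR'
  have haF : a ∈ F.autGroup (R ⊔ meetQ T U) := meet_cm_A_mem_aut hG hR'N ha
  have hao : ∃ m : ℕ, m.Coprime p ∧ a ^ m = 1 := by
    obtain ⟨m, hm, hjm⟩ := hjo
    exact ⟨m, hm, meet_cm_A_pow_eq_one hG.inj ha hjm⟩
  haveI : Finite ↥(meetQ T U) := Fusion.finite_of_le (hPT.trans hTS)
  obtain ⟨a₀, ha₀⟩ := meet_cm_res_exists hPQ b' hb'P
  have ha₀E : a₀ ∈ E.autGroup (meetQ T U) := by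
    rw [Fusion.mem_autGroup_iff E hPT]
    convert hb'E using 1
    ext x
    exact ha₀ x
  have hb'A : MeetCmA ι hG.hQ j b' := hb'ind
  have ha₀A : MeetCmA ι hPN j a₀ := meet_cm_A_res hPQ hb'A ha₀
  have hPR' : meetQ T U ≤ R ⊔ meetQ T U := le_sup_right
  have hres : MeetRes hPR' a a₀ := meet_cm_A_res_of hG.inj hPR' ha ha₀A
  have hR'nP : R ⊔ meetQ T U ≤ Subgroup.normalizer ((meetQ T U : Subgroup Ω) : Set Ω) :=
    sup_le hRP Subgroup.le_normalizer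
  have hcent : E.IsCentric (meetQ T U) := meet_sz_centric hS hF E hinv.1 hT hU.2 hUT
  have haE : a ∈ E.autGroup (R ⊔ meetQ T U) :=
    meet_sz p hS F E hEsat hinv hPR' hR'T hR'nP hcent a haF hao a₀ ha₀E hres
  have hQTR : meetQ T R ≤ R ⊔ meetQ T U :=
    sup_le le_sup_left (fun c hc => (le_sup_right : meetQ T U ≤ R ⊔ meetQ T U)
      ((le_sup_right : centralizerIn T U ≤ meetQ T U)
        ⟨hc.1, Subgroup.centralizer_le (by exact_mod_cast hUR) hc.2⟩))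
  have hle : meetQ T R ≤ meetQ S R := meet_pc_Q_mono hTS
  refine ⟨hle, ?_, ?_⟩
  · have h1 := Fusion.restrict_mem E ((Fusion.mem_autGroup_iff E hR'T a).mp haE) hQTR
    convert h1 using 1
    ext x
    have e1 := hb (Subgroup.inclusion hle x)
    have e2 := ha (Subgroup.inclusion hQTR x)
    exact congrArg Subtype.val (hG.inj (e1.trans e2.symm))
  · intro x
    obtain ⟨c, y, r, hc, hyC, hy, hxe, hbx⟩ :=
      meet_cm_QR_decomp hG hUR hRN hβ hQRN hb (Subgroup.inclusion hle x)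
    rw [hbx]
    have hxT : (x : Ω) ∈ T := meet_pc_Q_le_K hRT x.2
    have hxe' : (x : Ω) = (c : Ω) * (r : Ω) := hxe
    have hcT : (c : Ω) ∈ T := by
      have e : (c : Ω) = (x : Ω) * (r : Ω)⁻¹ := by rw [hxe']; group
      rw [e]
      exact T.mul_mem hxT (T.inv_mem (hRT r.2))
    have hyT : (y : Ω) ∈ T := by
      have h1 : ι (c⁻¹ * y) ∈ meetHi p F E U ι hG.hQ := by
        rw [map_mul, map_inv, hy]
        have e : (ι c)⁻¹ * (j * ι c * j⁻¹) = ((ι c)⁻¹ * j * (ι c)⁻¹⁻¹) * j⁻¹ := by group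
        rw [e]
        exact Subgroup.mul_mem _ (Subgroup.Normal.conj_mem inferInstance j hj _) (Subgroup.inv_mem _ hj)
      have h2 : ((c⁻¹ * y : ↥(normalizerIn S U)) : Ω) ∈ T :=
        (meet_hgen_syl hS hF E hE hWT hU hG (c⁻¹ * y)).mp h1
      have e : (y : Ω) = (c : Ω) * ((c : Ω)⁻¹ * (y : Ω)) := by group
      rw [e]
      exact T.mul_mem hcT h2
    exact (meetQ T R).mul_mem ((le_sup_right : centralizerIn T R ≤ meetQ T R) ⟨hyT, hyC.2⟩)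
      ((le_sup_left : R ≤ meetQ T R) (β r).2)

end Cfsg.Agent.MEET
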