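import Mathlib
import Cfsg.Agent.MEET.PcInv

/-!
# Project MEET, file Pc, part 3: the fields (E1a), (E1b), (E2a) of `MeetEng` for `meetA` (model-free)

* `meet_pc_A0_le_aut` : `A0(U) ≤ Aut_F(U)`.
* `meet_pc_sub` : `A(P) ≤ Aut_F(P)`   (frozen header of `notes/MEET_headers3.lean.txt`).
* `meet_pc_inv` : `A` is invariant under the isomorphisms of `F`   (frozen header).
* `meet_pc_autW_all`, `meet_pc_autW` : `Aut_W(P) ≤ A(P)`   (frozen headers).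
-/

set_option autoImplicit false
set_option linter.unusedSectionVars false
set_option linter.unusedVariables false

namespace Cfsg.Agent.MEET

open Cfsg Cfsg.FusionSystem Cfsg.Agent.Lead Cfsg.Agent.Lead.StrongInv

universe u

variable {Ω : Type u} [Group Ω] {S : Subgroup Ω} {p : ℕ} {F : FusionSystem S} {T₁ T₂ : Subgroup Ω}
  {E₁ : FusionSystem T₁} {E₂ : FusionSystem T₂}

/-- `Aut_K(P)` is monotone in `K`. -/
theorem meet_pc_autInducedBy_mono {K K' : Subgroup Ω} (h : K ≤ K') (P : Subgroup Ω) :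
    autInducedBy K P ≤ autInducedBy K' P := by
  unfold autInducedBy
  apply Subgroup.closure_mono
  rintro α ⟨g, hg, hα⟩
  exact ⟨g, h hg, hα⟩

/-- `A0(U) ≤ Aut_F(U)`. -/
theorem meet_pc_A0_le_aut (p : ℕ) (F : FusionSystem S) (E₁ : FusionSystem T₁) (E₂ : FusionSystem T₂)
    (hWS : T₁ ⊓ T₂ ≤ S) {U : Subgroup Ω} (hUS : U ≤ S) : meetA0 p F E₁ E₂ U ≤ F.autGroup U := by
  unfold meetA0
  refine sup_le ?_ ?_
  · rw [Subgroup.closure_le]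
    rintro β ⟨b, hb, hres⟩
    have hQS : meetQ S U ≤ S := sup_le hUS inf_le_left
    have hbF := (Fusion.mem_autGroup_iff F hQS b).mp hb.1
    have h1 := Fusion.restrict_mem F hbF (meet_le_Q S U)
    rw [SetLike.mem_coe, Fusion.mem_autGroup_iff F hUS]
    convert h1 using 1
    ext x
    exact hres x
  · exact (meet_pc_autInducedBy_mono hWS U).trans (Fusion.autInducedBy_le_autGroup F hUS)

/-- (E1a) `A(P) ≤ Aut_F(P)`. -/
theorem meet_pc_sub [Finite S] [Fact p.Prime] (hS : IsPGroup p S) (hF : F.IsSaturated p) (h₁ : E₁.IsNormalIn F p)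
    (h₂ : E₂.IsNormalIn F p) :
    ∀ P ∈ meetH F (T₁ ⊓ T₂), meetA p F E₁ E₂ P ≤ F.autGroup P := by
  intro P hP
  have hT₁ : F.StronglyClosed T₁ := h₁.1.2.2.2.1
  have hWS : T₁ ⊓ T₂ ≤ S := inf_le_left.trans hT₁.1
  have hPS : P ≤ S := hP.1.trans hWS
  unfold meetA
  rw [Subgroup.closure_le]
  rintro β ⟨U, hU, φ, hφ, hr, a, ha, htr⟩
  have hUS : U ≤ S := hU.1.1.trans hWS
  have haF : a ∈ F.autGroup U := meet_pc_A0_le_aut p F E₁ E₂ hWS hUS ha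
  have haF' := (Fusion.mem_autGroup_iff F hUS a).mp haF
  obtain ⟨ψ, hψ, hinv, hrψ⟩ := Fusion.exists_inv F hφ hr
  have hφU : ∀ x : P, φ x ∈ U := fun x => hr ▸ ⟨x, rfl⟩
  have h1 := F.comp_mem hφ haF' hφU
  have h2 := F.comp_mem h1 hψ (fun x => (a ⟨φ x, hφU x⟩).2)
  rw [SetLike.mem_coe, Fusion.mem_autGroup_iff F hPS]
  convert h2 using 1
  ext x
  show ((β x : P) : Ω) = ψ ⟨((a ⟨φ x, hφU x⟩ : U) : Ω), _⟩
  have h3 := htr x (hφU x)
  have h4 : (⟨((a ⟨φ x, hφU x⟩ : U) : Ω), (a ⟨φ x, hφU x⟩).2⟩ : U) = ⟨φ (β x), hφU (β x)⟩ := Subtype.ext h3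
  rw [h4]
  exact (hinv (β x) (hφU (β x))).symm

/-- (E1b) invariance of `A` under the isomorphisms of `F`. -/
theorem meet_pc_inv [Finite S] [Fact p.Prime] (hS : IsPGroup p S) (hF : F.IsSaturated p) (h₁ : E₁.IsNormalIn F p)
    (h₂ : E₂.IsNormalIn F p) :
    ∀ P ∈ meetH F (T₁ ⊓ T₂), ∀ (P' : Subgroup Ω) (φ : P →* Ω), φ ∈ F.Hom P → φ.range = P' →
      ∀ a ∈ meetA p F E₁ E₂ P, ∀ β : MulAut P', MeetTr φ a β → β ∈ meetA p F E₁ E₂ P' := by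
  intro P hP P' φ hφ hr a ha β hβ
  have hinj := F.injective_of_mem hφ
  unfold meetA at ha
  refine meet_pc_tr_closure φ hinj hr _ (meetA p F E₁ E₂ P') ?_ a ha β hβ
  rintro a₀ ⟨U, hU, φ₁, hφ₁, hr₁, a₁, ha₁, htr₁⟩ β₀ hβ₀
  obtain ⟨ψ, hψ, hinv, hrψ⟩ := Fusion.exists_inv F hφ hr
  have hψP : ∀ y : P', ψ y ∈ P := fun y => hrψ ▸ ⟨y, rfl⟩
  have hφP' : ∀ x : P, φ x ∈ P' := fun x => hr ▸ ⟨x, rfl⟩
  have hφ₂ := F.comp_mem hψ hφ₁ hψP
  have hsurj : ∀ y : P', ∃ x : P, φ x = y := by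
    intro y
    have hy : (y : Ω) ∈ φ.range := by rw [hr]; exact y.2
    exact hy
  have hval : ∀ x : P, (φ₁.comp (ψ.codRestrict P hψP)) ⟨φ x, hφP' x⟩ = φ₁ x := by
    intro x
    show φ₁ ⟨ψ ⟨φ x, hφP' x⟩, _⟩ = φ₁ x
    congr 1
    exact Subtype.ext (hinv x (hφP' x))
  refine Subgroup.subset_closure ⟨U, hU, φ₁.comp (ψ.codRestrict P hψP), hφ₂, ?_, a₁, ha₁, ?_⟩
  · rw [← hr₁]
    apply le_antisymm
    · rintro _ ⟨y, rfl⟩
      exact ⟨⟨ψ y, hψP y⟩, rfl⟩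
    · rintro _ ⟨x, rfl⟩
      exact ⟨⟨φ x, hφP' x⟩, hval x⟩
  · intro y hy
    obtain ⟨x, hx⟩ := hsurj y
    have hye : y = ⟨φ x, hφP' x⟩ := Subtype.ext hx.symm
    subst hye
    have h1 : β₀ ⟨φ x, hφP' x⟩ = ⟨φ (a₀ x), hφP' (a₀ x)⟩ := Subtype.ext (hβ₀ x (hφP' x))
    rw [h1, hval (a₀ x)]
    have hmem : φ₁ x ∈ U := hr₁ ▸ ⟨x, rfl⟩
    have h2 := htr₁ x hmem
    rw [← h2]
    congr 2
    exact Subtype.ext (hval x)

/-- `Aut_W(P) ≤ A(P)` for every member of the family. -/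
theorem meet_pc_autW_all [Finite S] [Fact p.Prime] (hS : IsPGroup p S) (hF : F.IsSaturated p) (h₁ : E₁.IsNormalIn F p)
    (h₂ : E₂.IsNormalIn F p) :
    ∀ P ∈ meetH F (T₁ ⊓ T₂), autInducedBy (T₁ ⊓ T₂) P ≤ meetA p F E₁ E₂ P := by
  intro P hP α hα
  have hT₁ : F.StronglyClosed T₁ := h₁.1.2.2.2.1
  have hT₂ : F.StronglyClosed T₂ := h₂.1.2.2.2.1
  have hW : F.StronglyClosed (T₁ ⊓ T₂) :=
    ⟨inf_le_left.trans hT₁.1, fun R hR φ hφ x =>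
      ⟨hT₁.2 R (hR.trans inf_le_left) φ hφ x, hT₂.2 R (hR.trans inf_le_right) φ hφ x⟩⟩
  have hWS : T₁ ⊓ T₂ ≤ S := hW.1
  have hPS : P ≤ S := hP.1.trans hWS
  have hfinP : Finite P := Fusion.finite_of_le hPS
  obtain ⟨U, hPU, hUfn⟩ := Fusion.exists_isConj_fullyNormalized F hPS
  have hUH : U ∈ meetH F (T₁ ⊓ T₂) := by
    refine ⟨?_, fun P'' hP'' => hP.2 P'' (Fusion.isConj_trans F hPU hP'')⟩
    obtain ⟨φ, hφ, hr⟩ := hPU
    rw [← hr]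
    rintro _ ⟨x, rfl⟩
    exact hW.2 P hP.1 φ hφ x
  obtain ⟨hfc, hfa⟩ := Fusion.fullyCentralized_fullyAutomized_of_fullyNormalized p hS F hF hUfn
  have hrec : F.IsReceptive U := Fusion.receptive_of_fullyCentralized p hS F hF hfc
  obtain ⟨χ, hχ, hχN, hχP⟩ := Fusion.exists_hom_normalizerIn p hS F hfa hrec hPU
  have hPN : P ≤ normalizerIn S P := Fusion.le_normalizerIn hPS
  have hφ : χ.comp (Subgroup.inclusion hPN) ∈ F.Hom P := Fusion.restrict_mem F hχ hPN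
  have hinj := F.injective_of_mem hφ
  have hr : (χ.comp (Subgroup.inclusion hPN)).range = U := by
    rw [← hχP]
    apply le_antisymm
    · rintro _ ⟨x, rfl⟩
      exact ⟨Subgroup.inclusion hPN x, x.2, rfl⟩
    · rintro _ ⟨x, hx, rfl⟩
      exact ⟨⟨x, hx⟩, rfl⟩
  have hsurj : ∀ y : U, ∃ x : P, χ (Subgroup.inclusion hPN x) = y := by
    intro y
    have hy : (y : Ω) ∈ (χ.comp (Subgroup.inclusion hPN)).range := by rw [hr]; exact y.2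
    exact hy
  have htr := meet_pc_tr_congr _ hinj hr α
  have ha : MulAut.congr (Fusion.equivOfRange _ hinj hr) α ∈ autInducedBy (T₁ ⊓ T₂) U :=
    meet_pc_autW_tr F hW χ hχ hPN (inf_le_inf_right _ hWS) hsurj α hα _ htr
  refine Subgroup.subset_closure ⟨U, ⟨hUH, hUfn⟩, _, hφ, hr, _, ?_, htr⟩
  exact (le_sup_right : _ ≤ meetA0 p F E₁ E₂ U) ha

/-- (E2a) `Aut_W(U) ≤ A(U)` for `U` fully normalized. -/
theorem meet_pc_autW [Finite S] [Fact p.Prime] (hS : IsPGroup p S) (hF : F.IsSaturated p) (h₁ : E₁.IsNormalIn F p)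
    (h₂ : E₂.IsNormalIn F p) :
    ∀ U ∈ meetH F (T₁ ⊓ T₂), F.IsFullyNormalized U → autInducedBy (T₁ ⊓ T₂) U ≤ meetA p F E₁ E₂ U :=
  fun U hU _ => meet_pc_autW_all hS hF h₁ h₂ U hU

end Cfsg.Agent.MEET
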