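import Mathlib
import Cfsg.Agent.MEET.CmA2
import Cfsg.Agent.MEET.CmA3
import Cfsg.Agent.MEET.CmA5
import Cfsg.Agent.MEET.PcEngA
import Cfsg.Agent.MEET.PcGroup

set_option autoImplicit false
set_option linter.style.haveILetI false
set_option linter.unusedSectionVars false
set_option linter.unusedVariables false

/-!
# Project MEET, (CM-a): assembly

`U` a fully normalized member of the family, `G = G(U)`, `J = J(U)`, `U ≤ R ≤ N_W(U)`, `j ∈ N_J(ι R)`.  Then `c_j|_R ∈ A(R)`.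
The statement (FC) `meet_loc_fc` enters as the hypothesis `hfcG`.
-/

namespace Cfsg.Agent.MEET

open Cfsg Cfsg.FusionSystem Cfsg.Agent.Lead

universe u

variable {Ω : Type u} [Group Ω] {S : Subgroup Ω} {p : ℕ} {F : FusionSystem S}

/-- the family is closed under overgroups inside `W`. -/
theorem meet_cm_H_of_le {W U R : Subgroup Ω} (hU : U ∈ meetH F W) (hUR : U ≤ R) (hRW : R ≤ W) :
    R ∈ meetH F W := by
  refine ⟨hRW, fun R' hRR' => ?_⟩
  obtain ⟨φ, hφ, hr⟩ := hRR'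
  have hφU := Fusion.restrict_mem F hφ hUR
  have hconj : F.IsConj U (φ.comp (Subgroup.inclusion hUR)).range := ⟨_, hφU, rfl⟩
  have h1 := hU.2 _ hconj
  have hU'R' : (φ.comp (Subgroup.inclusion hUR)).range ≤ R' := by
    rw [← hr]
    rintro _ ⟨x, rfl⟩
    exact ⟨Subgroup.inclusion hUR x, rfl⟩
  intro c hc
  apply hU'R'
  apply h1
  exact ⟨hc.1, Subgroup.centralizer_le (by exact_mod_cast hU'R') hc.2⟩

variable {T₁ T₂ : Subgroup Ω} {E₁ : FusionSystem T₁} {E₂ : FusionSystem T₂} {U : Subgroup Ω} {G : Type u} [Group G]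
  {ι : ↥(normalizerIn S U) →* G}

/-- **(CM-a) for `p'`-elements** and `R` fully centralized in `F`. -/
theorem meet_cm_a_pprime [Finite S] [Fact p.Prime] (hS : IsPGroup p S) (hF : F.IsSaturated p)
    (h₁ : E₁.IsNormalIn F p) (h₂ : E₂.IsNormalIn F p) (hWS : T₁ ⊓ T₂ ≤ S) (hU : U ∈ meetUf F (T₁ ⊓ T₂))
    (hG : MeetLocGrp p F (T₁ ⊓ T₂) U ι) {R : Subgroup Ω} (hUR : U ≤ R)
    (hRY : R ≤ normalizerIn (T₁ ⊓ T₂) U)
    (hfc : ∀ R' : Subgroup Ω, F.IsConj R R' → Nat.card (centralizerIn S R') ≤ Nat.card (centralizerIn S R))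
    {j : G} (hj : j ∈ meetJ p F E₁ E₂ U ι hG.hQ) (hjo : ∃ m : ℕ, m.Coprime p ∧ j ^ m = 1) {β : MulAut R}
    (hβ : MeetCmA ι (hRY.trans (inf_le_inf_right _ hWS)) j β) : β ∈ meetA p F E₁ E₂ R := by
  have hRN : R ≤ normalizerIn S U := hRY.trans (inf_le_inf_right _ hWS)
  have hQRN : meetQ S R ≤ normalizerIn S U := sup_le hRN ((meet_cm_cent_le_Q hUR).trans hG.hQ)
  obtain ⟨b, hb⟩ := meet_cm_QR_exists hG hUR hRN hβ hQRN
  have hj' := Subgroup.mem_inf.mp hj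
  have hbB0 : b ∈ meetB0 p F E₁ E₂ R :=
    ⟨meet_cm_A_mem_aut hG hQRN hb, meet_cm_A_order hG.inj hb hjo,
      meet_cm_QR_comm hS hF h₁ h₂ hU hG hUR hRN hj hβ hQRN hb,
      meet_cm_resIn hS hF E₁ h₁ inf_le_left hU hG hUR hRY hRN hj'.1 hjo hβ hQRN hb,
      meet_cm_resIn hS hF E₂ h₂ inf_le_right hU hG hUR hRY hRN hj'.2 hjo hβ hQRN hb⟩
  have hres : MeetRes (meet_le_Q S R) b β := meet_cm_A_res_of hG.inj (meet_le_Q S R) hb hβ
  have hRH : R ∈ meetH F (T₁ ⊓ T₂) := meet_cm_H_of_le hU.1 hUR (hRY.trans inf_le_left)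
  exact meet_cm_tr p hS hF h₁.1.2.2 h₂.1.2.2 hRH hfc b hbB0 β hres

/-- The shape of (FC) `meet_loc_fc` for the local group `G`. -/
def MeetCmFc (p : ℕ) (F : FusionSystem S) (W U : Subgroup Ω) {G : Type u} [Group G]
    (ι : ↥(normalizerIn S U) →* G) : Prop :=
  ∀ R : Subgroup Ω, U ≤ R → R ≤ normalizerIn W U →
    (∀ P : Subgroup G, IsPGroup p P →
      (∀ g ∈ P, ∀ x : ↥(normalizerIn S U), (x : Ω) ∈ R → g * ι x = ι x * g) →
        Nat.card P ≤ Nat.card (centralizerIn S R)) →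
    ∀ R' : Subgroup Ω, F.IsConj R R' → Nat.card (centralizerIn S R') ≤ Nat.card (centralizerIn S R)

/-- **(CM-a) for `R` fully normalized in the local group**: `ι(N_S(U)) ∩ N_G(ι R)` has index prime to `p` in `N_G(ι R)`. -/
theorem meet_cm_a_fn [Finite S] [Fact p.Prime] (hS : IsPGroup p S) (hF : F.IsSaturated p)
    (h₁ : E₁.IsNormalIn F p) (h₂ : E₂.IsNormalIn F p) (hWS : T₁ ⊓ T₂ ≤ S) (hU : U ∈ meetUf F (T₁ ⊓ T₂))
    (hG : MeetLocGrp p F (T₁ ⊓ T₂) U ι) (hfcG : MeetCmFc p F (T₁ ⊓ T₂) U ι) {R : Subgroup Ω} (hUR : U ≤ R)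
    (hRY : R ≤ normalizerIn (T₁ ⊓ T₂) U)
    (hFN : ¬ p ∣ (ι.range ⊓ Subgroup.normalizer ((meetCmIm ι R : Subgroup G) : Set G)).relIndex
      (Subgroup.normalizer ((meetCmIm ι R : Subgroup G) : Set G)))
    {j : G} (hj : j ∈ meetJ p F E₁ E₂ U ι hG.hQ) {β : MulAut R}
    (hβ : MeetCmA ι (hRY.trans (inf_le_inf_right _ hWS)) j β) : β ∈ meetA p F E₁ E₂ R := by
  haveI := hG.fin
  haveI := meet_cm_J_normal hS hF h₁ h₂ hU hG
  have hRN : R ≤ normalizerIn S U := hRY.trans (inf_le_inf_right _ hWS)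
  have hRS : R ≤ S := hRN.trans inf_le_left
  haveI : Finite R := Fusion.finite_of_le hRS
  have hRH : R ∈ meetH F (T₁ ⊓ T₂) := meet_cm_H_of_le hU.1 hUR (hRY.trans inf_le_left)
  have hCN : centralizerIn S R ≤ normalizerIn S U := (meet_cm_cent_le_Q hUR).trans hG.hQ
  -- `R` is fully centralized in `F`
  have hfc : ∀ R' : Subgroup Ω, F.IsConj R R' →
      Nat.card (centralizerIn S R') ≤ Nat.card (centralizerIn S R) := by
    apply hfcG R hUR hRY
    intro P' hP' hcomm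
    have hP'K : P' ≤ Subgroup.centralizer ((meetCmIm ι R : Subgroup G) : Set G) := by
      intro g hg
      rw [Subgroup.mem_centralizer_iff]
      intro z hz
      obtain ⟨x, hx, rfl⟩ := meet_cm_mem_im.mp hz
      exact (hcomm g hg x hx).symm
    have hidx := meet_cm_not_dvd_of_normal p ι.range _ _
      (Subgroup.centralizer_le_normalizer ((meetCmIm ι R : Subgroup G) : Set G))
      (meet_cm_normalizer_le_centralizer (meetCmIm ι R)) hFN
    have h1 := meet_cm_card_le_of_not_dvd p _ _ P' inf_le_right hidx hP' hP'K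
    refine h1.trans ?_
    have hle : ι.range ⊓ Subgroup.centralizer ((meetCmIm ι R : Subgroup G) : Set G) ≤
        meetCmIm ι (centralizerIn S R) := by
      rintro z ⟨⟨x, rfl⟩, hz⟩
      refine meet_cm_mem_im.mpr ⟨x, ⟨x.2.1, Subgroup.mem_centralizer_iff.mpr fun r hr => ?_⟩, rfl⟩
      have h2 := (Subgroup.mem_centralizer_iff.mp hz) (ι ⟨r, hRN hr⟩)
        (meet_cm_mem_im.mpr ⟨⟨r, hRN hr⟩, hr, rfl⟩)
      rw [← map_mul, ← map_mul] at h2
      exact congrArg Subtype.val (hG.inj h2)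
    rw [← meet_cm_im_card hG.inj hCN]
    exact Subgroup.card_le_of_le hle
  -- `N_J(ι R)` is generated by its `p'`-elements and `ι(N_S(U)) ∩ N_J(ι R)`
  have hidxM := meet_cm_not_dvd_of_normal p ι.range
    (Subgroup.normalizer ((meetCmIm ι R : Subgroup G) : Set G))
    (meetJ p F E₁ E₂ U ι hG.hQ ⊓ Subgroup.normalizer ((meetCmIm ι R : Subgroup G) : Set G)) inf_le_right
    (meet_cm_normalizer_le_inf _ _) hFN
  have hgen := meet_pc_gen_subgroup p
    (meetJ p F E₁ E₂ U ι hG.hQ ⊓ Subgroup.normalizer ((meetCmIm ι R : Subgroup G) : Set G))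
    (ι.range ⊓ (meetJ p F E₁ E₂ U ι hG.hQ ⊓ Subgroup.normalizer ((meetCmIm ι R : Subgroup G) : Set G)))
    inf_le_right hidxM
  have hM : meetJ p F E₁ E₂ U ι hG.hQ ⊓ Subgroup.normalizer ((meetCmIm ι R : Subgroup G) : Set G) ≤
      meetCmS ι hRN (meetA p F E₁ E₂ R) := by
    rw [← hgen]
    refine sup_le ?_ ?_
    · rw [Subgroup.closure_le]
      rintro g ⟨⟨hgJ, hgL⟩, hgo⟩
      obtain ⟨βg, hβg⟩ := meet_cm_A_of_normalizer hG.inj hRN hgL
      exact ⟨βg, meet_cm_a_pprime hS hF h₁ h₂ hWS hU hG hUR hRY hfc hgJ hgo hβg, hβg⟩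
    · rintro z ⟨⟨y, rfl⟩, hzJ, hzL⟩
      obtain ⟨βz, hβz⟩ := meet_cm_A_of_normalizer hG.inj hRN hzL
      have hyW : (y : Ω) ∈ T₁ ⊓ T₂ := (meet_cm_J_mem_iff hS hF h₁ h₂ hU hG y).mp hzJ
      refine ⟨βz, meet_pc_autW_all hS hF h₁ h₂ R hRH ?_, hβz⟩
      rw [mem_autInducedBy_iff]
      refine ⟨y, hyW, fun x => ?_⟩
      have e := hβz x
      have e2 : ι ⟨((βz x : R) : Ω), hRN (βz x).2⟩ = ι (y * ⟨x, hRN x.2⟩ * y⁻¹) := by
        rw [e, map_mul, map_mul, map_inv]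
      exact congrArg Subtype.val (hG.inj e2)
  exact meet_cm_S_mem hG.inj (hM ⟨hj, meet_cm_A_normalizer hβ⟩) hβ

end Cfsg.Agent.MEET
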