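import Mathlib
import Cfsg.Agent.MEET.CmA6

set_option autoImplicit false
set_option linter.style.haveILetI false
set_option linter.unusedSectionVars false
set_option linter.unusedVariables false

/-!
# Project MEET, (CM-a): step (i) and the final statement (with (FC) as a hypothesis)

An arbitrary `R` with `U ≤ R ≤ N_W(U)` is conjugate in `G(U)` to a subgroup `R'` of `N_W(U)` which is fully normalized in the
local group; the conjugation is an isomorphism of `F`, and `A` is invariant under the isomorphisms of `F` (`meet_pc_inv`).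
-/

namespace Cfsg.Agent.MEET

open Cfsg Cfsg.FusionSystem Cfsg.Agent.Lead

universe u

variable {Ω : Type u} [Group Ω] {S : Subgroup Ω} {p : ℕ} {F : FusionSystem S}
  {T₁ T₂ : Subgroup Ω} {E₁ : FusionSystem T₁} {E₂ : FusionSystem T₂} {U : Subgroup Ω} {G : Type u} [Group G]
  {ι : ↥(normalizerIn S U) →* G}

/-- **(CM-a)**, with (FC) for the local group as a hypothesis. -/
theorem meet_cm_a_of [Finite S] [Fact p.Prime] (hS : IsPGroup p S) (hF : F.IsSaturated p)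
    (h₁ : E₁.IsNormalIn F p) (h₂ : E₂.IsNormalIn F p) (hWS : T₁ ⊓ T₂ ≤ S) (hU : U ∈ meetUf F (T₁ ⊓ T₂))
    (hG : MeetLocGrp p F (T₁ ⊓ T₂) U ι) (hfcG : MeetCmFc p F (T₁ ⊓ T₂) U ι) (R : Subgroup Ω) (hUR : U ≤ R)
    (hRY : R ≤ normalizerIn (T₁ ⊓ T₂) U) (j : G) (hj : j ∈ meetJ p F E₁ E₂ U ι hG.hQ) (β : MulAut R)
    (hβ : MeetInd ι j (hRY.trans (inf_le_inf_right _ hWS)) (R.subtype.comp β.toMonoidHom)
      (fun x => (hRY.trans (inf_le_inf_right _ hWS)) (β x).2)) : β ∈ meetA p F E₁ E₂ R := by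
  haveI := hG.fin
  haveI hJn := meet_cm_J_normal hS hF h₁ h₂ hU hG
  have hRN : R ≤ normalizerIn S U := hRY.trans (inf_le_inf_right _ hWS)
  have hRW : R ≤ T₁ ⊓ T₂ := hRY.trans inf_le_left
  have hRS : R ≤ S := hRN.trans inf_le_left
  have hUS : U ≤ S := hU.2.1
  have hUN : U ≤ normalizerIn S U := Fusion.le_normalizerIn hUS
  haveI : Finite R := Fusion.finite_of_le hRS
  have hT₁ : F.StronglyClosed T₁ := h₁.1.2.2.2.1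
  have hT₂ : F.StronglyClosed T₂ := h₂.1.2.2.2.1
  have hW : F.StronglyClosed (T₁ ⊓ T₂) :=
    ⟨hWS, fun P hP φ hφ x =>
      ⟨hT₁.2 P (hP.trans inf_le_left) φ hφ x, hT₂.2 P (hP.trans inf_le_right) φ hφ x⟩⟩
  have hβ' : MeetCmA ι hRN j β := hβ
  obtain ⟨P, hP⟩ := hG.syl
  have hHle : meetCmIm ι R ≤ (P : Subgroup G) := by
    rw [hP]; exact meet_cm_im_le_range R
  have hHp : IsPGroup p (meetCmIm ι R) := P.isPGroup'.to_le hHle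
  obtain ⟨g, hgP, hgFN⟩ := meet_cm_sylow_conj p P (meetCmIm ι R) hHp
  rw [hP] at hgP hgFN
  -- the conjugation by `g` on `R`
  have hgR : ∀ x : R, ∃ y : ↥(normalizerIn S U), ι y = g * ι ⟨x, hRN x.2⟩ * g⁻¹ := by
    intro x
    have h1 : g * ι ⟨x, hRN x.2⟩ * g⁻¹ ∈ (meetCmIm ι R).map (MulAut.conj g).toMonoidHom :=
      ⟨ι ⟨x, hRN x.2⟩, meet_cm_mem_im.mpr ⟨⟨x, hRN x.2⟩, x.2, rfl⟩, rfl⟩
    obtain ⟨y, hy⟩ := hgP h1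
    exact ⟨y, hy⟩
  obtain ⟨φ, hφN, hφ⟩ := meet_cm_ind_exists hG.inj g hRN hgR
  have hφF : φ ∈ F.Hom R := hG.hom g R hRN φ hφN hφ
  have hR'N : φ.range ≤ normalizerIn S U := by
    rintro _ ⟨x, rfl⟩; exact hφN x
  have hR'W : φ.range ≤ T₁ ⊓ T₂ := by
    rintro _ ⟨x, rfl⟩; exact hW.2 R hRW φ hφF x
  have hR'Y : φ.range ≤ normalizerIn (T₁ ⊓ T₂) U := fun x hx => ⟨hR'W hx, (hR'N hx).2⟩
  have hUR' : U ≤ φ.range := by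
    intro u hu
    obtain ⟨u', hu'U, hu'⟩ := hG.normU g⁻¹ ⟨u, hUN hu⟩ hu
    refine ⟨⟨u', hUR hu'U⟩, ?_⟩
    have e := hφ ⟨u', hUR hu'U⟩
    have e2 : ι ⟨φ ⟨u', hUR hu'U⟩, hφN _⟩ = ι ⟨u, hUN hu⟩ := by
      rw [e]
      have e3 : ι ⟨(u' : Ω), hRN (hUR hu'U)⟩ = g⁻¹ * ι ⟨u, hUN hu⟩ * g⁻¹⁻¹ := hu'
      rw [e3]
      group
    exact congrArg Subtype.val (hG.inj e2)
  have him : meetCmIm ι φ.range = (meetCmIm ι R).map (MulAut.conj g).toMonoidHom := by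
    ext z
    constructor
    · intro hz
      obtain ⟨y, ⟨x, hx⟩, rfl⟩ := meet_cm_mem_im.mp hz
      refine ⟨ι ⟨x, hRN x.2⟩, meet_cm_mem_im.mpr ⟨⟨x, hRN x.2⟩, x.2, rfl⟩, ?_⟩
      have e := hφ x
      show g * ι ⟨x, hRN x.2⟩ * g⁻¹ = ι y
      rw [← e]
      exact meet_cm_app_congr ι _ _ hx
    · rintro ⟨_, hz, rfl⟩
      obtain ⟨x, hx, rfl⟩ := meet_cm_mem_im.mp hz
      exact meet_cm_mem_im.mpr ⟨⟨φ ⟨x, hx⟩, hφN _⟩, ⟨⟨x, hx⟩, rfl⟩, hφ ⟨x, hx⟩⟩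
  rw [← him] at hgFN
  have hj' : g * j * g⁻¹ ∈ meetJ p F E₁ E₂ U ι hG.hQ := hJn.conj_mem j hj g
  have hjL : j ∈ Subgroup.normalizer ((meetCmIm ι R : Subgroup G) : Set G) := meet_cm_A_normalizer hβ'
  have hj'L : g * j * g⁻¹ ∈ Subgroup.normalizer ((meetCmIm ι φ.range : Subgroup G) : Set G) := by
    rw [him, ← Subgroup.map_equiv_normalizer_eq (meetCmIm ι R) (MulAut.conj g)]
    exact ⟨j, hjL, rfl⟩
  haveI : Finite φ.range := Fusion.finite_of_le (hR'N.trans inf_le_left)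
  obtain ⟨β₁, hβ₁⟩ := meet_cm_A_of_normalizer hG.inj hR'N hj'L
  have hβ₁A : β₁ ∈ meetA p F E₁ E₂ φ.range :=
    meet_cm_a_fn hS hF h₁ h₂ hWS hU hG hfcG hUR' hR'Y hgFN hj' hβ₁
  -- transport back along the inverse of `φ`
  obtain ⟨ψ, hψ, hinv, hψr⟩ := Fusion.exists_inv F hφF rfl
  have hR'H : φ.range ∈ meetH F (T₁ ⊓ T₂) := meet_cm_H_of_le hU.1 hUR' hR'W
  refine meet_pc_inv hS hF h₁ h₂ φ.range hR'H R ψ hψ hψr β₁ hβ₁A β ?_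
  rintro ⟨_, x₀, rfl⟩ hx
  have e1 : ψ ⟨φ x₀, ⟨x₀, rfl⟩⟩ = (x₀ : Ω) := hinv x₀ ⟨x₀, rfl⟩
  have e2 : ((β₁ ⟨φ x₀, ⟨x₀, rfl⟩⟩ : φ.range) : Ω) = φ (β x₀) := by
    have a1 := hβ₁ ⟨φ x₀, ⟨x₀, rfl⟩⟩
    have a2 := hφ x₀
    have a3 := hβ' x₀
    have a4 := hφ (β x₀)
    have a5 : ι ⟨((β₁ ⟨φ x₀, ⟨x₀, rfl⟩⟩ : φ.range) : Ω), hR'N (β₁ ⟨φ x₀, ⟨x₀, rfl⟩⟩).2⟩ =
        ι ⟨φ (β x₀), hφN (β x₀)⟩ := by
      rw [a1, a4]
      have a2' : ι ⟨φ x₀, hR'N ⟨x₀, rfl⟩⟩ = g * ι ⟨x₀, hRN x₀.2⟩ * g⁻¹ := a2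
      rw [a2', a3]
      group
    exact congrArg Subtype.val (hG.inj a5)
  have e3 : (⟨ψ ⟨φ x₀, ⟨x₀, rfl⟩⟩, hx⟩ : R) = x₀ := Subtype.ext e1
  rw [e3]
  have e4 : (β₁ ⟨φ x₀, ⟨x₀, rfl⟩⟩ : φ.range) = ⟨φ (β x₀), ⟨β x₀, rfl⟩⟩ := Subtype.ext e2
  rw [e4]
  exact (hinv (β x₀) ⟨β x₀, rfl⟩).symm

end Cfsg.Agent.MEET
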