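import Mathlib
import Cfsg.Prelude.Def_FusionComponents
import Cfsg.Agent.Lead.FusionStrongInvD
import Cfsg.Agent.Lead.FusionKNorm6
import Cfsg.Agent.Lead.FusionSub

set_option autoImplicit false

/-!
# MEET project (S5129), piece P0-3a, part A

`E` a subsystem of `F` over a strongly closed `T`, `U ≤ T`; `FU = N_F(U)` over `N_S(U)`, `EU = N_E(U)`
over `N_T(U)`.  Elementary facts: `N_T(U) ≤ N_S(U)`, `EU ⊆ FU`, `N_T(U)` is strongly closed in `FU`,
`N_T(U)` is `E`-centric when `U` is fully `E`-normalized, and the strong invariance condition passes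
from `(F, E)` to `(FU, EU)`.
-/

namespace Cfsg.Agent.MEET

open Cfsg Cfsg.FusionSystem Cfsg.Agent.Lead

variable {Ω : Type*} [Group Ω] {S T : Subgroup Ω}

theorem meet_nrm_le {U : Subgroup Ω} (hTS : T ≤ S) : normalizerIn T U ≤ normalizerIn S U :=
  inf_le_inf_right _ hTS

theorem meet_nrm_le_T (U : Subgroup Ω) : normalizerIn T U ≤ T := inf_le_left

/-- `N_E(U) ⊆ N_F(U)`. -/
theorem meet_nrm_sub {F : FusionSystem S} {E : FusionSystem T} (hsub : E.IsSubsystemOf F)
    (hTS : T ≤ S) {U : Subgroup Ω} (FU : FusionSystem (normalizerIn S U))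
    (hFU : F.IsNormalizerSystem U FU) (EU : FusionSystem (normalizerIn T U))
    (hEU : E.IsNormalizerSystem U EU) : EU.IsSubsystemOf FU := by
  intro P φ hφ
  rw [hEU P] at hφ
  rw [hFU P]
  obtain ⟨hφE, hPN, hφN, ψ, hψ, hψext, hψU⟩ := hφ
  exact ⟨hsub P hφE, hPN.trans (meet_nrm_le hTS), fun x => meet_nrm_le hTS (hφN x), ψ,
    hsub _ hψ, hψext, hψU⟩

/-- `N_T(U)` is strongly closed in `N_F(U)`. -/
theorem meet_nrm_stronglyClosed {F : FusionSystem S} (hT : F.StronglyClosed T) {U : Subgroup Ω}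
    (FU : FusionSystem (normalizerIn S U)) (hFU : F.IsNormalizerSystem U FU) :
    FU.StronglyClosed (normalizerIn T U) := by
  refine ⟨meet_nrm_le hT.1, fun R hR φ hφ x => ?_⟩
  have hφ' := hφ
  rw [hFU R] at hφ'
  obtain ⟨hφF, -, hφN, -⟩ := hφ'
  exact Subgroup.mem_inf.mpr ⟨hT.2 R (hR.trans inf_le_left) φ hφF x, (Subgroup.mem_inf.mp (hφN x)).2⟩

/-- `N_T(U)` is `E`-centric when `U` is fully `E`-normalized. -/
theorem meet_nrm_isCentric [Finite T] (E : FusionSystem T) {U : Subgroup Ω}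
    (hU : E.IsFullyNormalized U) : E.IsCentric (normalizerIn T U) := by
  have hUT : U ≤ T := hU.1
  have hUN : U ≤ normalizerIn T U := Fusion.le_normalizerIn hUT
  refine ⟨inf_le_left, ?_⟩
  rintro Y ⟨φ, hφ, hr⟩
  have hφT : ∀ x, φ x ∈ T := (E.le_of_mem hφ).2
  have hinj := E.injective_of_mem hφ
  -- `U₂ = φ(U)`
  have hφU := Fusion.restrict_mem E hφ hUN
  set φU : U →* Ω := φ.comp (Subgroup.inclusion hUN) with hφUdef
  have hconj : E.IsConj U φU.range := ⟨φU, hφU, rfl⟩
  have hcard := hU.2 _ hconj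
  -- `Y ≤ N_T(U₂)`
  have hYle : Y ≤ normalizerIn T φU.range := by
    rw [← hr]
    rintro _ ⟨y, rfl⟩
    refine Subgroup.mem_inf.mpr ⟨hφT y, ?_⟩
    rw [Subgroup.mem_normalizer_iff]
    have hyn : (y : Ω) ∈ Subgroup.normalizer (U : Set Ω) := (Subgroup.mem_inf.mp y.2).2
    intro z
    constructor
    · rintro ⟨u, rfl⟩
      have hmem : (y : Ω) * (u : Ω) * (y : Ω)⁻¹ ∈ U :=
        (Subgroup.mem_normalizer_iff.mp hyn (u : Ω)).mp u.2
      refine ⟨⟨_, hmem⟩, ?_⟩
      show φ (Subgroup.inclusion hUN ⟨_, hmem⟩) = φ y * φ (Subgroup.inclusion hUN u) * (φ y)⁻¹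
      rw [← map_inv, ← map_mul, ← map_mul]
      congr 1
    · rintro ⟨u, hu⟩
      have hmem : (y : Ω)⁻¹ * (u : Ω) * (y : Ω) ∈ U := by
        have := (Subgroup.mem_normalizer_iff.mp (Subgroup.inv_mem _ hyn) (u : Ω)).mp u.2
        simpa using this
      refine ⟨⟨_, hmem⟩, ?_⟩
      have h1 : φ y * φ (Subgroup.inclusion hUN ⟨_, hmem⟩) * (φ y)⁻¹ =
          φ (Subgroup.inclusion hUN u) := by
        rw [← map_inv, ← map_mul, ← map_mul]
        congr 1
        apply Subtype.ext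
        show (y : Ω) * ((y : Ω)⁻¹ * (u : Ω) * (y : Ω)) * (y : Ω)⁻¹ = u
        group
      have h2 : φ y * z * (φ y)⁻¹ = φ (Subgroup.inclusion hUN u) := hu.symm ▸ rfl
      have h3 : φ y * z * (φ y)⁻¹ = φ y * φ (Subgroup.inclusion hUN ⟨_, hmem⟩) * (φ y)⁻¹ := by
        rw [h2, h1]
      have h4 : z = φ (Subgroup.inclusion hUN ⟨_, hmem⟩) := by
        have := mul_right_cancel h3
        exact mul_left_cancel this
      rw [h4]
      rfl
  -- cardinalities
  have hfinN : Finite (normalizerIn T φU.range) :=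
    Finite.of_injective (Subgroup.inclusion (inf_le_left : normalizerIn T φU.range ≤ T))
      (Subgroup.inclusion_injective _)
  have hcardY : Nat.card Y = Nat.card (normalizerIn T U) := by
    rw [← hr]
    exact (Nat.card_congr (Equiv.ofInjective φ hinj)).symm
  have hYeq : Y = normalizerIn T φU.range := by
    have h1 : Nat.card (normalizerIn T φU.range) ≤ Nat.card Y := by rw [hcardY]; exact hcard
    exact Subgroup.eq_of_le_of_card_ge hYle h1
  -- `C_T(Y) ≤ C_T(U₂) ≤ N_T(U₂) = Y`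
  intro g hg
  rw [hYeq]
  refine Subgroup.mem_inf.mpr ⟨hg.1, ?_⟩
  have hU2Y : φU.range ≤ Y := by
    rw [← hr]
    rintro _ ⟨u, rfl⟩
    exact ⟨Subgroup.inclusion hUN u, rfl⟩
  have hgc := Subgroup.mem_centralizer_iff.mp hg.2
  rw [Subgroup.mem_normalizer_iff]
  intro z
  constructor
  · intro hz
    have := hgc z (hU2Y hz)
    have h1 : g * z * g⁻¹ = z := by rw [← this, mul_inv_cancel_right]
    rw [h1]
    exact hz
  · intro hz
    have := hgc _ (hU2Y hz)
    have h1 : z = g * z * g⁻¹ := by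
      have h2 : g * z = g * (g * z * g⁻¹) := by
        rw [← this]
        group
      exact mul_left_cancel h2
    rw [h1]
    exact hz

end Cfsg.Agent.MEET
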