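import Mathlib
import Cfsg.Prelude.Def_FusionComponents
import Cfsg.Agent.MEET.NormA
import Cfsg.Agent.Lead.KLa

set_option autoImplicit false

/-!
# MEET project (S5129), piece P0-3a, part B: strong invariance passes to normalizer systems

`E` strongly invariant in `F` (`StrongInv.SI F E`), `T` strongly closed in `F`, `U ≤ T`.  Then
`N_E(U)` is strongly invariant in `N_F(U)` (`meet_nrm_SI`): extend the `N_E(U)`-map `φ` to `P ⊔ U` and the
`N_F(U)`-map `ψ` to `Q ⊔ U`, both normalizing `U`; the transported map `ψ̂ φ̂ ψ̂⁻¹` is a map of `E` on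
`ψ̂(P ⊔ U) ≥ U` which normalizes `U`, hence a map of `N_E(U)`; restrict it to `ψ(P)`.
-/

namespace Cfsg.Agent.MEET

open Cfsg Cfsg.FusionSystem Cfsg.Agent.Lead

variable {Ω : Type*} [Group Ω] {S T : Subgroup Ω}

/-- An injective map of a finite group which maps `U` into `U` maps `U` onto `U`. -/
theorem meet_nrm_map_eq {P : Subgroup Ω} [Finite P] (φ : P →* Ω)
    (hinj : Function.Injective φ) {U : Subgroup Ω} (h : (U.subgroupOf P).map φ ≤ U) (hUP : U ≤ P) :
    (U.subgroupOf P).map φ = U := by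
  haveI : Finite U := Finite.of_injective (Subgroup.inclusion hUP) (Subgroup.inclusion_injective hUP)
  apply Subgroup.eq_of_le_of_card_ge h
  rw [Subgroup.card_map_of_injective hinj]
  exact (Nat.card_congr (Subgroup.subgroupOfEquivOfLe hUP).toEquiv).ge

/-- Strong invariance passes to the normalizer systems of `U ≤ T`. -/
theorem meet_nrm_SI [Finite S] {F : FusionSystem S} {E : FusionSystem T} (hT : F.StronglyClosed T)
    (hSI : StrongInv.SI F E) {U : Subgroup Ω} (hUT : U ≤ T)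
    (FU : FusionSystem (normalizerIn S U)) (hFU : F.IsNormalizerSystem U FU)
    (EU : FusionSystem (normalizerIn T U)) (hEU : E.IsNormalizerSystem U EU) :
    StrongInv.SI FU EU := by
  have hTS : T ≤ S := hT.1
  intro P Q hPQ hQN φ hφ hφQ ψ hψ
  have hQT : Q ≤ T := hQN.trans inf_le_left
  have hφ' := hφ
  rw [hEU P] at hφ'
  obtain ⟨hφE, hPN, hφN, φh, hφh, hφhext, hφhU⟩ := hφ'
  have hψ' := hψ
  rw [hFU Q] at hψ'
  obtain ⟨hψF, hQNS, hψN, ψh, hψh, hψhext, hψhU⟩ := hψ'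
  have hPU : P ⊔ U ≤ Q ⊔ U := sup_le_sup_right hPQ U
  have hQU : Q ⊔ U ≤ T := sup_le hQT hUT
  -- `φ̂` maps `P ⊔ U` into `Q ⊔ U`
  have hφhU' : ∀ u : U, φh (Subgroup.inclusion le_sup_right u) ∈ U := by
    intro u
    apply hφhU.le
    refine ⟨_, ?_, rfl⟩
    rw [SetLike.mem_coe, Subgroup.mem_subgroupOf]
    exact u.2
  have hψhU' : ∀ u : U, ψh (Subgroup.inclusion le_sup_right u) ∈ U := by
    intro u
    apply hψhU.le
    refine ⟨_, ?_, rfl⟩
    rw [SetLike.mem_coe, Subgroup.mem_subgroupOf]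
    exact u.2
  have hφhQ : ∀ y : ↥(P ⊔ U), φh y ∈ Q ⊔ U := by
    apply Fusion.sup_map_mem
    · intro x
      rw [hφhext]
      exact Subgroup.mem_sup_left (hφQ x)
    · intro u
      exact Subgroup.mem_sup_right (hφhU' u)
  obtain ⟨D, hD⟩ : ∃ D : Subgroup Ω, D = ((P ⊔ U).subgroupOf (Q ⊔ U)).map ψh := ⟨_, rfl⟩
  have key := hSI (P ⊔ U) (Q ⊔ U) hPU hQU φh hφh hφhQ ψh hψh
  rw [← hD] at key
  obtain ⟨χh, hχh, hχhv⟩ := key
  have hDmem : ∀ z : Ω, z ∈ D ↔ ∃ y : ↥(Q ⊔ U), (y : Ω) ∈ P ⊔ U ∧ ψh y = z := by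
    intro z
    rw [hD, Subgroup.mem_map]
    constructor
    · rintro ⟨y, hy, rfl⟩
      exact ⟨y, Subgroup.mem_subgroupOf.mp hy, rfl⟩
    · rintro ⟨y, hy, rfl⟩
      exact ⟨y, Subgroup.mem_subgroupOf.mpr hy, rfl⟩
  -- `ψ̂` has values in `N_S(U)` and in `T`
  have hψhN : ∀ y : ↥(Q ⊔ U), ψh y ∈ normalizerIn T U := by
    intro y
    refine Subgroup.mem_inf.mpr ⟨hT.2 _ hQU ψh hψh y, ?_⟩
    have : ψh y ∈ normalizerIn S U := by
      apply Fusion.sup_map_mem
      · intro x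
        rw [hψhext]
        exact hψN x
      · intro u
        exact Fusion.le_normalizerIn (hUT.trans hTS) (hψhU' u)
    exact (Subgroup.mem_inf.mp this).2
  have hDN : D ≤ normalizerIn T U := by
    intro z hz
    obtain ⟨y, -, rfl⟩ := (hDmem z).mp hz
    exact hψhN y
  have hDT : D ≤ T := hDN.trans inf_le_left
  haveI : Finite D := Fusion.finite_of_le (hDT.trans hTS)
  -- `U ≤ D`
  have hUD : U ≤ D := by
    intro u hu
    obtain ⟨z, hz, rfl⟩ := hψhU.ge hu
    rw [SetLike.mem_coe, Subgroup.mem_subgroupOf] at hz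
    exact (hDmem _).mpr ⟨z, Subgroup.mem_sup_right hz, rfl⟩
  -- `χ̂` maps `U` into `U`
  have hχhU : (U.subgroupOf D).map χh ≤ U := by
    rintro _ ⟨d, hd, rfl⟩
    rw [SetLike.mem_coe, Subgroup.mem_subgroupOf] at hd
    obtain ⟨z, hz, hzd⟩ := hψhU.ge hd
    rw [SetLike.mem_coe, Subgroup.mem_subgroupOf] at hz
    -- `z ∈ Q ⊔ U` lies in `U`; view it in `P ⊔ U`
    set y : ↥(P ⊔ U) := Subgroup.inclusion le_sup_right (⟨(z : Ω), hz⟩ : U) with hydef
    have hyz : Subgroup.inclusion hPU y = z := Subtype.ext rfl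
    have hmem : ψh (Subgroup.inclusion hPU y) ∈ D := by
      rw [hyz, hzd]
      exact d.2
    have h1 := hχhv y hmem
    have h2 : (⟨ψh (Subgroup.inclusion hPU y), hmem⟩ : D) = d := by
      apply Subtype.ext
      show ψh (Subgroup.inclusion hPU y) = d
      rw [hyz, hzd]
    rw [h2] at h1
    rw [h1]
    have h3 : φh y ∈ U := hφhU' ⟨(z : Ω), hz⟩
    have h4 : (⟨φh y, hφhQ y⟩ : ↥(Q ⊔ U)) = Subgroup.inclusion le_sup_right (⟨φh y, h3⟩ : U) :=
      Subtype.ext rfl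
    rw [h4]
    exact hψhU' _
  have hχhU' : (U.subgroupOf D).map χh = U :=
    meet_nrm_map_eq χh (E.injective_of_mem hχh) hχhU hUD
  have hχhN : χh ∈ EU.Hom D := by
    rw [hEU D]
    exact KL.mem_normalizerHom_of_le E hUD hDN χh hχh hχhU'
  -- restrict to `ψ(P)`
  have hle : (P.subgroupOf Q).map ψ ≤ D := by
    rintro _ ⟨q, hq, rfl⟩
    rw [SetLike.mem_coe, Subgroup.mem_subgroupOf] at hq
    exact (hDmem _).mpr ⟨Subgroup.inclusion le_sup_left q, Subgroup.mem_sup_left hq, hψhext q⟩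
  refine ⟨χh.comp (Subgroup.inclusion hle), Fusion.restrict_mem EU hχhN hle, fun x hx => ?_⟩
  set y : ↥(P ⊔ U) := Subgroup.inclusion le_sup_left x with hydef
  have hyx : Subgroup.inclusion hPU y = Subgroup.inclusion le_sup_left (Subgroup.inclusion hPQ x) :=
    Subtype.ext rfl
  have hmem : ψh (Subgroup.inclusion hPU y) ∈ D := by
    rw [hyx, hψhext]
    exact hle hx
  have h1 := hχhv y hmem
  have h2 : (Subgroup.inclusion hle ⟨ψ (Subgroup.inclusion hPQ x), hx⟩ : D) =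
      ⟨ψh (Subgroup.inclusion hPU y), hmem⟩ := by
    apply Subtype.ext
    show ψ (Subgroup.inclusion hPQ x) = ψh (Subgroup.inclusion hPU y)
    rw [hyx, hψhext]
  show χh (Subgroup.inclusion hle ⟨ψ (Subgroup.inclusion hPQ x), hx⟩) = ψ ⟨φ x, hφQ x⟩
  rw [h2, h1]
  have h3 : (⟨φh y, hφhQ y⟩ : ↥(Q ⊔ U)) =
      Subgroup.inclusion le_sup_left (⟨φ x, hφQ x⟩ : Q) := by
    apply Subtype.ext
    show φh y = φ x
    exact hφhext x
  rw [h3, hψhext]

end Cfsg.Agent.MEET
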