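import Mathlib
import Cfsg.Agent.MEET.LocDefs
import Cfsg.Agent.MEET.NormB
import Cfsg.Agent.Lead.FusionSat3
import Cfsg.Agent.Lead.FusionConj

set_option autoImplicit false

/-!
# MEET project, local lemmas: (FC)

`U` a fully normalized member of the family, `G = G(U)` the local group, `U ≤ R ≤ N_W(U)` such that every `p`-subgroup of
`C_G(ι R)` has order at most `|C_S(R)|`.  Then `|C_S(R')| ≤ |C_S(R)|` for every `F`-conjugate `R'` of `R`: for an
`F`-isomorphism `φ : R → R'` put `U' = φ(U)`, take `ρ : N_S(U') → N_S(U)` in `F` with `ρ(U') = U` (`U` is fully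
automized and receptive) and `θ = ρ ∘ φ : R → N_W(U)`; by (ND) `θ` is conjugation by some `g ∈ G`; `ρ` embeds `C_S(R')`
into `C_S(θ R)`, and `g⁻¹ ι(C_S(θ R)) g` is a `p`-subgroup of `C_G(ι R)`.
-/

namespace Cfsg.Agent.MEET

open Cfsg Cfsg.FusionSystem Cfsg.Agent.Lead

universe u

variable {Ω : Type u} [Group Ω] {S : Subgroup Ω} {p : ℕ} {F : FusionSystem S}

/-- (FC) `R` with `U ≤ R ≤ N_W(U)` whose centralizer in `S` is a Sylow `p`-subgroup of its centralizer in `G(U)` is fully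
centralized in `F`: its centralizer has the largest order among the `F`-conjugates. -/
theorem meet_loc_fc [Finite S] [Fact p.Prime] (hS : IsPGroup p S) (hF : F.IsSaturated p) {W U : Subgroup Ω}
    (hW : F.StronglyClosed W) (hU : U ∈ meetUf F W) {G : Type u} [Group G] {ι : ↥(normalizerIn S U) →* G}
    (hG : MeetLocGrp p F W U ι) (R : Subgroup Ω) (hUR : U ≤ R) (hRY : R ≤ normalizerIn W U)
    (hsyl : ∀ P : Subgroup G, IsPGroup p P → (∀ g ∈ P, ∀ x : ↥(normalizerIn S U), (x : Ω) ∈ R → g * ι x = ι x * g) →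
      Nat.card P ≤ Nat.card (centralizerIn S R))
    (R' : Subgroup Ω) (hRR' : F.IsConj R R') : Nat.card (centralizerIn S R') ≤ Nat.card (centralizerIn S R) := by
  obtain ⟨φ, hφ, hφr⟩ := hRR'
  have hWS : W ≤ S := hW.1
  have hRS : R ≤ S := Fusion.src_le F hφ
  have hRW : R ≤ W := hRY.trans inf_le_left
  have hUS : U ≤ S := hU.1.1.trans hWS
  have hYN : normalizerIn W U ≤ normalizerIn S U := inf_le_inf_right _ hWS
  have hR'S : R' ≤ S := hφr ▸ Fusion.range_le F hφ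
  have hinj : Function.Injective φ := F.injective_of_mem hφ
  have hfinR : Finite R := Fusion.finite_of_le hRS
  have hφR' : ∀ x : R, φ x ∈ R' := fun x => hφr ▸ ⟨x, rfl⟩
  -- `U' = φ(U)`
  have hφU : φ.comp (Subgroup.inclusion hUR) ∈ F.Hom U := Fusion.restrict_mem F hφ hUR
  have hφUr : (φ.comp (Subgroup.inclusion hUR)).range = (U.subgroupOf R).map φ := by
    ext y
    constructor
    · rintro ⟨u, rfl⟩
      exact ⟨Subgroup.inclusion hUR u, Subgroup.mem_subgroupOf.mpr u.2, rfl⟩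
    · rintro ⟨r, hr, rfl⟩
      exact ⟨⟨r, Subgroup.mem_subgroupOf.mp hr⟩, rfl⟩
  have hconj : F.IsConj ((U.subgroupOf R).map φ) U := Fusion.isConj_symm F ⟨_, hφU, hφUr⟩
  obtain ⟨hfc, hfa⟩ := Fusion.fullyCentralized_fullyAutomized_of_fullyNormalized p hS F hF hU.2
  have hrec : F.IsReceptive U := Fusion.receptive_of_fullyCentralized p hS F hF hfc
  obtain ⟨ρ, hρ, hρN, hρU⟩ := Fusion.exists_hom_normalizerIn p hS F hfa hrec hconj
  have hρinj : Function.Injective ρ := F.injective_of_mem hρ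
  have hU'R' : (U.subgroupOf R).map φ ≤ R' := by
    rintro _ ⟨r, -, rfl⟩
    exact hφR' r
  have hU'S : (U.subgroupOf R).map φ ≤ S := hU'R'.trans hR'S
  have hfinU' : Finite ↥((U.subgroupOf R).map φ) := Fusion.finite_of_le hU'S
  -- `R' ≤ N_S(U')`
  have hR'N : R' ≤ normalizerIn S ((U.subgroupOf R).map φ) := by
    intro y hy
    refine Subgroup.mem_inf.mpr ⟨hR'S hy, ?_⟩
    rw [← hφr] at hy
    obtain ⟨r, rfl⟩ := hy
    apply mem_normalizer_of_conj_mem_of_finite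
    rintro _ ⟨u, hu, rfl⟩
    refine ⟨r * u * r⁻¹, ?_, by rw [map_mul, map_mul, map_inv]⟩
    rw [SetLike.mem_coe, Subgroup.mem_subgroupOf]
    have hrn : (r : Ω) ∈ Subgroup.normalizer (U : Set Ω) := (Subgroup.mem_inf.mp (hRY r.2)).2
    exact (Subgroup.mem_normalizer_iff.mp hrn _).mp (Subgroup.mem_subgroupOf.mp hu)
  -- `θ = ρ ∘ φ`
  have hφN : ∀ x : R, φ x ∈ normalizerIn S ((U.subgroupOf R).map φ) := fun x => hR'N (hφR' x)
  have hθ : ρ.comp (φ.codRestrict _ hφN) ∈ F.Hom R := F.comp_mem hφ hρ hφN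
  have hθN : ∀ x : R, (ρ.comp (φ.codRestrict _ hφN)) x ∈ normalizerIn S U := fun x => hρN _
  have hθY : ∀ x : R, (ρ.comp (φ.codRestrict _ hφN)) x ∈ normalizerIn W U := fun x =>
    Subgroup.mem_inf.mpr ⟨hW.2 R hRW _ hθ x, (Subgroup.mem_inf.mp (hθN x)).2⟩
  have hθU : ∀ x : R, (x : Ω) ∈ U → (ρ.comp (φ.codRestrict _ hφN)) x ∈ U := by
    intro x hx
    apply hρU.le
    refine ⟨φ.codRestrict _ hφN x, ?_, rfl⟩
    rw [SetLike.mem_coe, Subgroup.mem_subgroupOf]
    exact ⟨x, Subgroup.mem_subgroupOf.mpr hx, rfl⟩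
  obtain ⟨g, hg⟩ := hG.nd R hUR hRY hWS _ hθ hθY hθU
  -- `θ(U) = U`
  have hθUeq : (U.subgroupOf R).map (ρ.comp (φ.codRestrict _ hφN)) = U := by
    apply meet_nrm_map_eq _ (F.injective_of_mem hθ) _ hUR
    rintro _ ⟨x, hx, rfl⟩
    exact hθU x (Subgroup.mem_subgroupOf.mp hx)
  -- `C_S(θ R) ≤ N_S(U)`
  have hCN : centralizerIn S (ρ.comp (φ.codRestrict _ hφN)).range ≤ normalizerIn S U := by
    intro c hc
    obtain ⟨hcS, hcC⟩ := Subgroup.mem_inf.mp hc
    refine Subgroup.mem_inf.mpr ⟨hcS, ?_⟩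
    have : Finite U := Fusion.finite_of_le hUS
    apply mem_normalizer_of_conj_mem_of_finite
    intro y hy
    have hyr : y ∈ (ρ.comp (φ.codRestrict _ hφN)).range := by
      rw [← hθUeq] at hy
      obtain ⟨x, -, rfl⟩ := hy
      exact ⟨x, rfl⟩
    have hcy : y * c = c * y := Subgroup.mem_centralizer_iff.mp hcC y hyr
    have : c * y * c⁻¹ = y := by rw [← hcy]; group
    rw [this]
    exact hy
  -- the `p`-subgroup `g⁻¹ ι(C_S(θ R)) g` of `C_G(ι R)`
  have hNp : IsPGroup p ↥(normalizerIn S U) :=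
    hS.of_injective (Subgroup.inclusion inf_le_left) (Subgroup.inclusion_injective _)
  have hCp : IsPGroup p ↥((centralizerIn S (ρ.comp (φ.codRestrict _ hφN)).range).subgroupOf (normalizerIn S U)) :=
    hNp.to_subgroup _
  have hPp : IsPGroup p ↥((((centralizerIn S (ρ.comp (φ.codRestrict _ hφN)).range).subgroupOf
      (normalizerIn S U)).map ι).map (MulAut.conj g⁻¹).toMonoidHom) := (hCp.map ι).map _
  have hPc : ∀ g' ∈ (((centralizerIn S (ρ.comp (φ.codRestrict _ hφN)).range).subgroupOf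
      (normalizerIn S U)).map ι).map (MulAut.conj g⁻¹).toMonoidHom,
      ∀ x : ↥(normalizerIn S U), (x : Ω) ∈ R → g' * ι x = ι x * g' := by
    rintro _ ⟨_, ⟨c, hc, rfl⟩, rfl⟩ x hx
    rw [SetLike.mem_coe, Subgroup.mem_subgroupOf] at hc
    obtain ⟨hcS, hcC⟩ := Subgroup.mem_inf.mp hc
    have h1 := hg ⟨x, hx⟩
    have hcomm : ((ρ.comp (φ.codRestrict _ hφN)) ⟨x, hx⟩) * (c : Ω) =
        (c : Ω) * ((ρ.comp (φ.codRestrict _ hφN)) ⟨x, hx⟩) :=
      Subgroup.mem_centralizer_iff.mp hcC _ ⟨⟨x, hx⟩, rfl⟩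
    have h2 : ι c * ι ⟨(ρ.comp (φ.codRestrict _ hφN)) ⟨x, hx⟩, hθN _⟩ =
        ι ⟨(ρ.comp (φ.codRestrict _ hφN)) ⟨x, hx⟩, hθN _⟩ * ι c := by
      rw [← map_mul, ← map_mul]
      congr 1
      exact Subtype.ext hcomm.symm
    have h3 : (⟨((⟨x, hx⟩ : R) : Ω), (hRY.trans hYN) hx⟩ : ↥(normalizerIn S U)) = x := rfl
    rw [h1, h3] at h2
    show (MulAut.conj g⁻¹) (ι c) * ι x = ι x * (MulAut.conj g⁻¹) (ι c)
    rw [MulAut.conj_apply, inv_inv]
    calc g⁻¹ * ι c * g * ι x = g⁻¹ * (ι c * (g * ι x * g⁻¹)) * g := by group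
      _ = g⁻¹ * ((g * ι x * g⁻¹) * ι c) * g := by rw [h2]
      _ = ι x * (g⁻¹ * ι c * g) := by group
  have h1 := hsyl _ hPp hPc
  have hcardP : Nat.card ↥((((centralizerIn S (ρ.comp (φ.codRestrict _ hφN)).range).subgroupOf
      (normalizerIn S U)).map ι).map (MulAut.conj g⁻¹).toMonoidHom) =
      Nat.card ↥(centralizerIn S (ρ.comp (φ.codRestrict _ hφN)).range) := by
    rw [Subgroup.card_map_of_injective (MulAut.conj g⁻¹).injective, Subgroup.card_map_of_injective hG.inj]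
    exact Nat.card_congr (Subgroup.subgroupOfEquivOfLe hCN).toEquiv
  rw [hcardP] at h1
  -- `ρ` embeds `C_S(R')` into `C_S(θ R)`
  have hC'N : centralizerIn S R' ≤ normalizerIn S ((U.subgroupOf R).map φ) := by
    intro c hc
    obtain ⟨hcS, hcC⟩ := Subgroup.mem_inf.mp hc
    refine Subgroup.mem_inf.mpr ⟨hcS, ?_⟩
    apply mem_normalizer_of_conj_mem_of_finite
    intro y hy
    have hcy : y * c = c * y := Subgroup.mem_centralizer_iff.mp hcC y (hU'R' hy)
    have : c * y * c⁻¹ = y := by rw [← hcy]; group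
    rw [this]
    exact hy
  have hmap : ∀ c : ↥(centralizerIn S R'), ρ ⟨c, hC'N c.2⟩ ∈
      centralizerIn S (ρ.comp (φ.codRestrict _ hφN)).range := by
    intro c
    refine Subgroup.mem_inf.mpr ⟨Fusion.map_mem F hρ _, ?_⟩
    rw [Subgroup.mem_centralizer_iff]
    rintro _ ⟨x, rfl⟩
    have hcx : φ x * (c : Ω) = (c : Ω) * φ x :=
      Subgroup.mem_centralizer_iff.mp (Subgroup.mem_inf.mp c.2).2 _ (hφR' x)
    show ρ (φ.codRestrict _ hφN x) * ρ ⟨c, hC'N c.2⟩ = ρ ⟨c, hC'N c.2⟩ * ρ (φ.codRestrict _ hφN x)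
    rw [← map_mul, ← map_mul]
    congr 1
    exact Subtype.ext hcx
  have h2 : Nat.card ↥(centralizerIn S R') ≤
      Nat.card ↥(centralizerIn S (ρ.comp (φ.codRestrict _ hφN)).range) := by
    have : Finite ↥(centralizerIn S (ρ.comp (φ.codRestrict _ hφN)).range) :=
      Fusion.finite_of_le inf_le_left
    apply Nat.card_le_card_of_injective (fun c : ↥(centralizerIn S R') => (⟨ρ ⟨c, hC'N c.2⟩, hmap c⟩ :
      ↥(centralizerIn S (ρ.comp (φ.codRestrict _ hφN)).range)))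
    intro c c' hcc'
    have h3 : ρ ⟨c, hC'N c.2⟩ = ρ ⟨c', hC'N c'.2⟩ := congrArg Subtype.val hcc'
    have h4 := hρinj h3
    have h5 : (c : Ω) = (c' : Ω) := congrArg (fun z : ↥(normalizerIn S ((U.subgroupOf R).map φ)) => (z : Ω)) h4
    exact Subtype.ext h5
  exact h2.trans h1

end Cfsg.Agent.MEET
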