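import Mathlib
import Cfsg.Agent.MEET.CmA7
import Cfsg.Agent.MEET.LocFc

set_option autoImplicit false
set_option linter.style.haveILetI false
set_option linter.unusedSectionVars false

/-!
# Project MEET: (CM-a), the frozen header `meet_cm_a` of `notes/MEET_headers3.lean.txt`
-/

namespace Cfsg.Agent.MEET

open Cfsg Cfsg.FusionSystem

universe u

variable {Ω : Type u} [Group Ω] {S : Subgroup Ω} {p : ℕ} {F : FusionSystem S} {T₁ T₂ : Subgroup Ω}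
  {E₁ : FusionSystem T₁} {E₂ : FusionSystem T₂}

/-- (CM-a): for a fully normalized member `U` of the family, `U ≤ R ≤ N_W(U)` and `j ∈ J(U)` normalizing `ι(R)`, the
automorphism of `R` induced by `j` lies in `A(R)`. -/
theorem meet_cm_a [Finite S] [Fact p.Prime] (hS : IsPGroup p S) (hF : F.IsSaturated p) (h₁ : E₁.IsNormalIn F p)
    (h₂ : E₂.IsNormalIn F p) (hWS : T₁ ⊓ T₂ ≤ S) {U : Subgroup Ω} (hU : U ∈ meetUf F (T₁ ⊓ T₂)) {G : Type u} [Group G]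
    {ι : ↥(normalizerIn S U) →* G} (hG : MeetLocGrp p F (T₁ ⊓ T₂) U ι) (R : Subgroup Ω) (hUR : U ≤ R)
    (hRY : R ≤ normalizerIn (T₁ ⊓ T₂) U) (j : G) (hj : j ∈ meetJ p F E₁ E₂ U ι hG.hQ) (β : MulAut R)
    (hβ : MeetInd ι j (hRY.trans (inf_le_inf_right _ hWS)) (R.subtype.comp β.toMonoidHom)
      (fun x => (hRY.trans (inf_le_inf_right _ hWS)) (β x).2)) : β ∈ meetA p F E₁ E₂ R := by
  have hT₁ : F.StronglyClosed T₁ := h₁.1.2.2.2.1
  have hT₂ : F.StronglyClosed T₂ := h₂.1.2.2.2.1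
  have hW : F.StronglyClosed (T₁ ⊓ T₂) :=
    ⟨hWS, fun P hP φ hφ x =>
      ⟨hT₁.2 P (hP.trans inf_le_left) φ hφ x, hT₂.2 P (hP.trans inf_le_right) φ hφ x⟩⟩
  have hfcG : MeetCmFc p F (T₁ ⊓ T₂) U ι := fun R hUR hRY hsyl R' hRR' =>
    meet_loc_fc hS hF hW hU hG R hUR hRY hsyl R' hRR'
  exact meet_cm_a_of hS hF h₁ h₂ hWS hU hG hfcG R hUR hRY j hj β hβ

end Cfsg.Agent.MEET
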