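import Mathlib
import Cfsg.Agent.MEET.LocDefs
import Cfsg.Agent.MEET.HgenC
import Cfsg.Agent.MEET.HgenE
import Cfsg.Agent.MEET.Frat
import Cfsg.Agent.Lead.FusionConj
import Cfsg.Agent.Lead.FusionSat

/-!
# Project MEET, (CM-b), part a: general tools

Small general lemmas used in the proof of the restriction property (E5) `cmb` of the engine for the concrete
automizers `meetA` (`notes/MEET_helper8.md`, section 4, (CM-b)): membership in normalizers, strongly closed subgroups
and maps of the system, left cancellation, pulling back the `hom` field of a local group along a map of the system,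
powers of induced automorphisms.
-/

set_option autoImplicit false
set_option linter.unusedVariables false

namespace Cfsg.Agent.MEET

open Cfsg Cfsg.FusionSystem Cfsg.Agent.Lead Cfsg.Agent.CSE

universe u

variable {Ω : Type u} [Group Ω] {S : Subgroup Ω}

/-- Membership in a normalizer from the two inclusions. -/
theorem meet_cmb_mem_normalizer {G : Type*} [Group G] (V : Subgroup G) (g : G)
    (h : ∀ v ∈ V, g * v * g⁻¹ ∈ V) (h' : ∀ v ∈ V, g⁻¹ * v * g ∈ V) :
    g ∈ Subgroup.normalizer (V : Set G) := by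
  rw [Subgroup.mem_normalizer_iff]
  intro v
  constructor
  · exact h v
  · intro hv
    have := h' _ hv
    simpa [mul_assoc] using this

theorem meet_cmb_normalizer_conj {G : Type*} [Group G] (V : Subgroup G) (g : G)
    (hg : g ∈ Subgroup.normalizer (V : Set G)) (v : G) (hv : v ∈ V) : g * v * g⁻¹ ∈ V :=
  (Subgroup.mem_normalizer_iff.mp hg v).mp hv

theorem meet_cmb_normalizer_conj' {G : Type*} [Group G] (V : Subgroup G) (g : G)
    (hg : g ∈ Subgroup.normalizer (V : Set G)) (v : G) (hv : v ∈ V) : g⁻¹ * v * g ∈ V := by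
  have := (Subgroup.mem_normalizer_iff.mp ((Subgroup.normalizer (V : Set G)).inv_mem hg) v).mp hv
  simpa using this

/-- Maps of the system preserve a strongly closed subgroup. -/
theorem meet_cmb_sc_map (F : FusionSystem S) {K : Subgroup Ω} (hK : F.StronglyClosed K) {P : Subgroup Ω}
    {φ : P →* Ω} (hφ : φ ∈ F.Hom P) (x : P) (hx : (x : Ω) ∈ K) : φ x ∈ K := by
  have h1 : P ⊓ K ≤ P := inf_le_left
  have h2 := Fusion.restrict_mem F hφ h1
  exact hK.2 (P ⊓ K) inf_le_right _ h2 ⟨x, x.2, hx⟩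

/-- Maps of the system reflect a strongly closed subgroup. -/
theorem meet_cmb_sc_reflect (F : FusionSystem S) {K : Subgroup Ω} (hK : F.StronglyClosed K) {P : Subgroup Ω}
    {φ : P →* Ω} (hφ : φ ∈ F.Hom P) (x : P) (hx : φ x ∈ K) : (x : Ω) ∈ K := by
  obtain ⟨ψ, hψ, hinv⟩ := F.inv_mem hφ
  have := meet_cmb_sc_map F hK hψ ⟨φ x, ⟨x, rfl⟩⟩ hx
  rwa [hinv x] at this

/-- Left cancellation: if `ω ∘ φ` is a map of the system and `ω` is, then `φ` is. -/
theorem meet_cmb_cancel (F : FusionSystem S) {N X : Subgroup Ω} {ω : N →* Ω} (hω : ω ∈ F.Hom N)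
    (φ : X →* Ω) (hφ : ∀ x : X, φ x ∈ N) (χ : X →* Ω) (hχ : χ ∈ F.Hom X)
    (h : ∀ x : X, χ x = ω ⟨φ x, hφ x⟩) : φ ∈ F.Hom X := by
  obtain ⟨ψ, hψ, hinv⟩ := F.inv_mem hω
  have hval : ∀ x : X, χ x ∈ ω.range := fun x => ⟨⟨φ x, hφ x⟩, (h x).symm⟩
  have h1 := F.comp_mem hχ hψ hval
  have h2 : ψ.comp (χ.codRestrict ω.range hval) = φ := by
    ext x
    show ψ ⟨χ x, hval x⟩ = φ x
    have h3 : (⟨χ x, hval x⟩ : ω.range) = ⟨ω ⟨φ x, hφ x⟩, ⟨⟨φ x, hφ x⟩, rfl⟩⟩ := Subtype.ext (h x)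
    rw [h3, hinv]
  rwa [h2] at h1

/-- Induced maps compose. -/
theorem meet_cmb_ind_pow {N : Subgroup Ω} {G : Type u} [Group G] (ι : N →* G) (g : G) {X : Subgroup Ω}
    (hX : X ≤ N) (b : MulAut X) (h : ∀ x : X, ι ⟨((b x : X) : Ω), hX (b x).2⟩ = g * ι ⟨x, hX x.2⟩ * g⁻¹)
    (m : ℕ) : ∀ x : X, ι ⟨(((b ^ m) x : X) : Ω), hX ((b ^ m) x).2⟩ = g ^ m * ι ⟨x, hX x.2⟩ * (g ^ m)⁻¹ := by
  induction m with
  | zero => intro x; simp
  | succ m ih =>
    intro x
    have h1 : (b ^ (m + 1)) x = b ((b ^ m) x) := by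
      rw [pow_succ']; rfl
    rw [h1, h, ih]
    rw [pow_succ']
    group

/-- An automorphism induced by an element of order prime to `p` has order prime to `p`. -/
theorem meet_cmb_ind_coprime {N : Subgroup Ω} {G : Type u} [Group G] (ι : N →* G) (hinj : Function.Injective ι)
    (g : G) {X : Subgroup Ω} (hX : X ≤ N) (b : MulAut X)
    (h : ∀ x : X, ι ⟨((b x : X) : Ω), hX (b x).2⟩ = g * ι ⟨x, hX x.2⟩ * g⁻¹) (p m : ℕ) (hm : m.Coprime p)
    (hgm : g ^ m = 1) : b ^ m = 1 ∧ (orderOf b).Coprime p := by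
  have h1 : b ^ m = 1 := by
    ext x
    have h2 := meet_cmb_ind_pow ι g hX b h m x
    rw [hgm] at h2
    simp only [one_mul, inv_one, mul_one] at h2
    have h3 := hinj h2
    have h4 := congrArg (Subtype.val : ↥N → Ω) h3
    exact h4
  exact ⟨h1, Nat.Coprime.coprime_dvd_left (orderOf_dvd_of_pow_eq_one h1) hm⟩

end Cfsg.Agent.MEET
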