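import Mathlib
import Cfsg.Agent.MEET.CmBa

/-!
# Project MEET, (CM-b), part b: the local group of `Y₀` seen from `N_S(U)`

`ω'` is a map of `F` from `N_S(U)` into `N_S(Y₀)`, `ι₀ : N_S(Y₀) →* G₀` the local group of `Y₀`; `meetMu = ι₀ ∘ ω'`.
Conjugation by an element of `G₀` between subgroups of `N_S(U)`, read through `meetMu`, is a map of `F` (`meet_cmb_hom`).
-/

set_option autoImplicit false
set_option linter.unusedVariables false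

namespace Cfsg.Agent.MEET

open Cfsg Cfsg.FusionSystem Cfsg.Agent.Lead Cfsg.Agent.CSE

universe u

variable {Ω : Type u} [Group Ω] {S : Subgroup Ω}

/-- `μ = ι₀ ∘ ω'`. -/
def meetMu {U Y0 : Subgroup Ω} {G0 : Type u} [Group G0] (ι0 : ↥(normalizerIn S Y0) →* G0)
    (ω' : ↥(normalizerIn S U) →* Ω) (hω'N : ∀ x, ω' x ∈ normalizerIn S Y0) : ↥(normalizerIn S U) →* G0 :=
  ι0.comp (ω'.codRestrict (normalizerIn S Y0) hω'N)

theorem meetMu_apply {U Y0 : Subgroup Ω} {G0 : Type u} [Group G0] (ι0 : ↥(normalizerIn S Y0) →* G0)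
    (ω' : ↥(normalizerIn S U) →* Ω) (hω'N : ∀ x, ω' x ∈ normalizerIn S Y0) (x : ↥(normalizerIn S U)) :
    meetMu ι0 ω' hω'N x = ι0 ⟨ω' x, hω'N x⟩ := rfl

theorem meetMu_injective {U Y0 : Subgroup Ω} {G0 : Type u} [Group G0] (ι0 : ↥(normalizerIn S Y0) →* G0)
    (hι0 : Function.Injective ι0) (ω' : ↥(normalizerIn S U) →* Ω) (hω'inj : Function.Injective ω')
    (hω'N : ∀ x, ω' x ∈ normalizerIn S Y0) : Function.Injective (meetMu ι0 ω' hω'N) := by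
  intro x y hxy
  have h1 := hι0 hxy
  exact hω'inj (congrArg (Subtype.val : ↥(normalizerIn S Y0) → Ω) h1)

/-- Conjugation by `g : G₀` between subgroups of `N_S(U)`, read through `μ`, is a map of `F`. -/
theorem meet_cmb_hom {p : ℕ} {F : FusionSystem S} {W U Y0 : Subgroup Ω} {G0 : Type u} [Group G0]
    {ι0 : ↥(normalizerIn S Y0) →* G0} (hG0 : MeetLocGrp p F W Y0 ι0)
    {ω' : ↥(normalizerIn S U) →* Ω} (hω' : ω' ∈ F.Hom (normalizerIn S U))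
    (hω'N : ∀ x, ω' x ∈ normalizerIn S Y0) (g : G0) (X : Subgroup Ω) (hX : X ≤ normalizerIn S U)
    (φ : X →* Ω) (hφ : ∀ x : X, φ x ∈ normalizerIn S U)
    (h : MeetInd (meetMu ι0 ω' hω'N) g hX φ hφ) : φ ∈ F.Hom X := by
  set X0 : Subgroup Ω := (X.subgroupOf (normalizerIn S U)).map ω' with hX0
  have hX0N : X0 ≤ normalizerIn S Y0 := by
    rintro _ ⟨x, -, rfl⟩
    exact hω'N x
  have hmemX0 : ∀ x : X, ω' ⟨x, hX x.2⟩ ∈ X0 := fun x =>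
    ⟨⟨x, hX x.2⟩, Subgroup.mem_subgroupOf.mpr x.2, rfl⟩
  have h1 : ∀ x0 : X0, ∃ y : ↥(normalizerIn S Y0), ι0 y = g * ι0 ⟨x0, hX0N x0.2⟩ * g⁻¹ := by
    rintro ⟨_, ⟨x, hx, rfl⟩⟩
    have hxX : (x : Ω) ∈ X := Subgroup.mem_subgroupOf.mp hx
    refine ⟨⟨ω' ⟨φ ⟨x, hxX⟩, hφ _⟩, hω'N _⟩, ?_⟩
    have := h ⟨x, hxX⟩
    simp only [meetMu_apply] at this
    exact this
  obtain ⟨φ0, hφ0N, hφ0⟩ := meet_hgen_exists_ind ι0 hG0.inj g hX0N h1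
  have hφ0F : φ0 ∈ F.Hom X0 := hG0.hom g X0 hX0N φ0 hφ0N hφ0
  have hωX : ω'.comp (Subgroup.inclusion hX) ∈ F.Hom X := Fusion.restrict_mem F hω' hX
  have hval : ∀ x : X, (ω'.comp (Subgroup.inclusion hX)) x ∈ X0 := fun x => hmemX0 x
  have hχ := F.comp_mem hωX hφ0F hval
  refine meet_cmb_cancel F hω' φ hφ _ hχ (fun x => ?_)
  show φ0 ⟨ω' ⟨x, hX x.2⟩, hmemX0 x⟩ = ω' ⟨φ x, hφ x⟩
  have h2 := hφ0 ⟨ω' ⟨x, hX x.2⟩, hmemX0 x⟩
  have h3 := h x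
  simp only [meetMu_apply] at h3
  have h4 : ι0 ⟨φ0 ⟨ω' ⟨x, hX x.2⟩, hmemX0 x⟩, hφ0N _⟩ = ι0 ⟨ω' ⟨φ x, hφ x⟩, hω'N _⟩ :=
    h2.trans h3.symm
  exact congrArg (Subtype.val : ↥(normalizerIn S Y0) → Ω) (hG0.inj h4)

end Cfsg.Agent.MEET
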