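import Mathlib
import Cfsg.Agent.MEET.CmBb

/-!
# Project MEET, (CM-b), part c: `ω'(N_S(U))` has the largest order

The hypothesis `hmax` of `meet_grp_sylow_nrm` for `G₀ = G(Y₀)`, `Sg = ι₀(N_S(Y₀))`, `V = μ(U)`, `P₁ = μ(N_S(U))`:
`U` is fully normalized in `F` and conjugation in `G₀` is a map of `F`.
-/

set_option autoImplicit false
set_option linter.unusedVariables false

namespace Cfsg.Agent.MEET

open Cfsg Cfsg.FusionSystem Cfsg.Agent.Lead Cfsg.Agent.CSE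

universe u

variable {Ω : Type u} [Group Ω] {S : Subgroup Ω}

theorem meet_cmb_hmax [Finite S] {p : ℕ} {F : FusionSystem S} {W U Y0 : Subgroup Ω} {G0 : Type u} [Group G0]
    {ι0 : ↥(normalizerIn S Y0) →* G0} (hG0 : MeetLocGrp p F W Y0 ι0) (hUfn : F.IsFullyNormalized U)
    {ω' : ↥(normalizerIn S U) →* Ω} (hω' : ω' ∈ F.Hom (normalizerIn S U))
    (hω'N : ∀ x, ω' x ∈ normalizerIn S Y0) (hUN : U ≤ normalizerIn S U) (g : G0) (R : Subgroup G0)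
    (hRS : R ≤ ι0.range)
    (hVR : (meetIm (meetMu ι0 ω' hω'N) U).map (MulAut.conj g).toMonoidHom ≤ R)
    (hRN : R ≤ Subgroup.normalizer
      (((meetIm (meetMu ι0 ω' hω'N) U).map (MulAut.conj g).toMonoidHom : Subgroup G0) : Set G0)) :
    Nat.card R ≤ Nat.card (meetMu ι0 ω' hω'N).range := by
  classical
  set μ := meetMu ι0 ω' hω'N with hμ
  have hω'inj : Function.Injective ω' := F.injective_of_mem hω'
  have hμinj : Function.Injective μ := meetMu_injective ι0 hG0.inj ω' hω'inj hω'N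
  set V := meetIm μ U with hV
  set Vg := V.map (MulAut.conj g).toMonoidHom with hVg
  have hmemVg : ∀ u : U, g * μ ⟨u, hUN u.2⟩ * g⁻¹ ∈ Vg := fun u =>
    ⟨μ ⟨u, hUN u.2⟩, (meet_hgen_mem_im μ U _).mpr ⟨⟨u, hUN u.2⟩, u.2, rfl⟩, rfl⟩
  have hVg_elim : ∀ z ∈ Vg, ∃ u : U, z = g * μ ⟨u, hUN u.2⟩ * g⁻¹ := by
    rintro _ ⟨v, hv, rfl⟩
    obtain ⟨x, hx, rfl⟩ := (meet_hgen_mem_im μ U v).mp hv
    exact ⟨⟨x, hx⟩, rfl⟩
  -- the subgroup `U₀ = ω'(U)`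
  set U0 : Subgroup Ω := (U.subgroupOf (normalizerIn S U)).map ω' with hU0
  have hU0N : U0 ≤ normalizerIn S Y0 := by
    rintro _ ⟨x, -, rfl⟩
    exact hω'N x
  have hmemU0 : ∀ u : U, ω' ⟨u, hUN u.2⟩ ∈ U0 := fun u =>
    ⟨⟨u, hUN u.2⟩, Subgroup.mem_subgroupOf.mpr u.2, rfl⟩
  have h1 : ∀ x0 : U0, ∃ y : ↥(normalizerIn S Y0), ι0 y = g * ι0 ⟨x0, hU0N x0.2⟩ * g⁻¹ := by
    rintro ⟨_, ⟨x, hx, rfl⟩⟩
    have hxU : (x : Ω) ∈ U := Subgroup.mem_subgroupOf.mp hx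
    have h2 := hRS (hVR (hmemVg ⟨x, hxU⟩))
    obtain ⟨y, hy⟩ := h2
    exact ⟨y, hy⟩
  obtain ⟨φ0, hφ0N, hφ0⟩ := meet_hgen_exists_ind ι0 hG0.inj g hU0N h1
  have hφ0F : φ0 ∈ F.Hom U0 := hG0.hom g U0 hU0N φ0 hφ0N hφ0
  set U' : Subgroup Ω := φ0.range with hU'
  have hc1 : F.IsConj U U0 := by
    refine ⟨ω'.comp (Subgroup.inclusion hUN), Fusion.restrict_mem F hω' hUN, ?_⟩
    ext y
    constructor
    · rintro ⟨u, rfl⟩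
      exact hmemU0 u
    · rintro ⟨x, hx, rfl⟩
      exact ⟨⟨x, Subgroup.mem_subgroupOf.mp hx⟩, rfl⟩
  have hc2 : F.IsConj U0 U' := ⟨φ0, hφ0F, rfl⟩
  have hcard : Nat.card (normalizerIn S U') ≤ Nat.card (normalizerIn S U) :=
    hUfn.2 U' (Fusion.isConj_trans F hc1 hc2)
  have hcardμ : Nat.card μ.range = Nat.card (normalizerIn S U) :=
    (Nat.card_congr (MonoidHom.ofInjective hμinj).toEquiv).symm
  rw [hcardμ]
  refine le_trans ?_ hcard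
  -- elements of `Vg` are the `ι₀(v)`, `v ∈ U'`
  have hU'N : U' ≤ normalizerIn S Y0 := by
    rintro _ ⟨x0, rfl⟩
    exact hφ0N x0
  have hVgU' : ∀ z ∈ Vg, ∃ v : U', ι0 ⟨v, hU'N v.2⟩ = z := by
    intro z hz
    obtain ⟨u, rfl⟩ := hVg_elim z hz
    refine ⟨⟨φ0 ⟨ω' ⟨u, hUN u.2⟩, hmemU0 u⟩, ⟨_, rfl⟩⟩, ?_⟩
    exact hφ0 ⟨ω' ⟨u, hUN u.2⟩, hmemU0 u⟩
  have hU'Vg : ∀ v : U', ι0 ⟨v, hU'N v.2⟩ ∈ Vg := by
    rintro ⟨_, ⟨⟨_, ⟨x, hx, rfl⟩⟩, rfl⟩⟩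
    have hxU : (x : Ω) ∈ U := Subgroup.mem_subgroupOf.mp hx
    have h2 := hφ0 ⟨ω' x, ⟨x, hx, rfl⟩⟩
    have h3 : ι0 ⟨φ0 ⟨ω' x, ⟨x, hx, rfl⟩⟩, hU'N ⟨_, rfl⟩⟩ = g * μ ⟨(⟨x, hxU⟩ : U), hUN hxU⟩ * g⁻¹ := h2
    rw [h3]
    exact hmemVg ⟨x, hxU⟩
  -- the injection `R → N_S(U')`
  have hpre : ∀ r : R, ∃ n : ↥(normalizerIn S Y0), ι0 n = (r : G0) := fun r => hRS r.2
  choose f hf using hpre
  have hnorm : ∀ r : R, ∀ v ∈ U', (f r : Ω) * v * (f r : Ω)⁻¹ ∈ U' := by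
    intro r v hv
    have h2 : (r : G0) * ι0 ⟨v, hU'N hv⟩ * (r : G0)⁻¹ ∈ Vg :=
      meet_cmb_normalizer_conj Vg r (hRN r.2) _ (hU'Vg ⟨v, hv⟩)
    obtain ⟨v', hv'⟩ := hVgU' _ h2
    have h3 : ι0 ⟨v', hU'N v'.2⟩ = ι0 (f r * ⟨v, hU'N hv⟩ * (f r)⁻¹) := by
      rw [hv', map_mul, map_mul, map_inv, hf]
    have h4 := congrArg (Subtype.val : ↥(normalizerIn S Y0) → Ω) (hG0.inj h3)
    have h5 : (v' : Ω) = (f r : Ω) * v * (f r : Ω)⁻¹ := h4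
    rw [← h5]
    exact v'.2
  have hfN : ∀ r : R, (f r : Ω) ∈ normalizerIn S U' := by
    intro r
    refine ⟨(inf_le_left : normalizerIn S Y0 ≤ S) (f r).2, ?_⟩
    apply meet_cmb_mem_normalizer U' _ (hnorm r)
    intro v hv
    have h2 := hnorm ⟨(r : G0)⁻¹, R.inv_mem r.2⟩ v hv
    have h3 : f ⟨(r : G0)⁻¹, R.inv_mem r.2⟩ = (f r)⁻¹ := by
      apply hG0.inj
      rw [hf, map_inv, hf]
    rw [h3] at h2
    simpa using h2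
  haveI : Finite ↥(normalizerIn S U') := Fusion.finite_of_le (inf_le_left : normalizerIn S U' ≤ S)
  refine Nat.card_le_card_of_injective (fun r : R => (⟨(f r : Ω), hfN r⟩ : ↥(normalizerIn S U'))) ?_
  intro r r' hrr'
  have h2 : (f r : Ω) = (f r' : Ω) := congrArg (Subtype.val : ↥(normalizerIn S U') → Ω) hrr'
  have h3 : f r = f r' := Subtype.ext h2
  apply Subtype.ext
  rw [← hf r, ← hf r', h3]

end Cfsg.Agent.MEET
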