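import Mathlib
import Cfsg.Agent.MEET.CmBc
import Cfsg.Agent.MEET.PcTr

/-!
# Project MEET, (CM-b), part d: the automorphism of `Q_U` induced by an element of `G₀`

`x ∈ G₀` normalizes `V = μ(U)` and `[μ(C_S(U)), x] ≤ V`: then `x` induces, through `μ`, an automorphism `b` of
`Q_U = U C_S(U)` in `F` with `[Q_U, b] ≤ U` (`meet_cmb_bQ`).
-/

set_option autoImplicit false
set_option linter.unusedVariables false

namespace Cfsg.Agent.MEET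

open Cfsg Cfsg.FusionSystem Cfsg.Agent.Lead Cfsg.Agent.CSE

universe u

variable {Ω : Type u} [Group Ω] {S : Subgroup Ω}

/-- `μ(n)` normalizes `μ(U)` for `n ∈ N_S(U)`. -/
theorem meet_cmb_mu_normalizer {U : Subgroup Ω} {G0 : Type u} [Group G0] (μ : ↥(normalizerIn S U) →* G0)
    (n : ↥(normalizerIn S U)) : μ n ∈ Subgroup.normalizer ((meetIm μ U : Subgroup G0) : Set G0) := by
  have key : ∀ m : ↥(normalizerIn S U), ∀ v ∈ meetIm μ U, μ m * v * (μ m)⁻¹ ∈ meetIm μ U := by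
    intro m v hv
    obtain ⟨y, hy, rfl⟩ := (meet_hgen_mem_im μ U v).mp hv
    refine (meet_hgen_mem_im μ U _).mpr ⟨m * y * m⁻¹, ?_, by rw [map_mul, map_mul, map_inv]⟩
    have := (Subgroup.mem_normalizer_iff.mp m.2.2 (y : Ω)).mp hy
    simpa using this
  apply meet_cmb_mem_normalizer _ _ (key n)
  intro v hv
  have := key n⁻¹ v hv
  simpa using this

/-- `μ(n) ∈ μ(U)` only for `n ∈ U`. -/
theorem meet_cmb_mem_of_mu_mem {U : Subgroup Ω} {G0 : Type u} [Group G0] (μ : ↥(normalizerIn S U) →* G0)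
    (hμ : Function.Injective μ) (X : Subgroup Ω) (n : ↥(normalizerIn S U)) (h : μ n ∈ meetIm μ X) :
    (n : Ω) ∈ X := by
  obtain ⟨y, hy, hyn⟩ := (meet_hgen_mem_im μ X _).mp h
  rw [← hμ hyn]
  exact hy

theorem meet_cmb_bQ [Finite S] {p : ℕ} {F : FusionSystem S} {W U Y0 : Subgroup Ω} {G0 : Type u} [Group G0]
    {ι0 : ↥(normalizerIn S Y0) →* G0} (hG0 : MeetLocGrp p F W Y0 ι0)
    {ω' : ↥(normalizerIn S U) →* Ω} (hω' : ω' ∈ F.Hom (normalizerIn S U))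
    (hω'N : ∀ x, ω' x ∈ normalizerIn S Y0) (hUS : U ≤ S) (x : G0)
    (hxN : x ∈ Subgroup.normalizer ((meetIm (meetMu ι0 ω' hω'N) U : Subgroup G0) : Set G0))
    (hcomm : ∀ c : ↥(normalizerIn S U), (c : Ω) ∈ centralizerIn S U →
      x * meetMu ι0 ω' hω'N c * x⁻¹ * (meetMu ι0 ω' hω'N c)⁻¹ ∈ meetIm (meetMu ι0 ω' hω'N) U) :
    ∃ b : MulAut ↥(meetQ S U), b ∈ F.autGroup (meetQ S U) ∧
      (∀ q : ↥(meetQ S U), meetMu ι0 ω' hω'N ⟨((b q : ↥(meetQ S U)) : Ω), meet_pc_Q_le le_rfl hUS (b q).2⟩ =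
        x * meetMu ι0 ω' hω'N ⟨q, meet_pc_Q_le le_rfl hUS q.2⟩ * x⁻¹) ∧
      ∀ q : ↥(meetQ S U), (q : Ω)⁻¹ * ((b q : ↥(meetQ S U)) : Ω) ∈ U := by
  classical
  set μ := meetMu ι0 ω' hω'N with hμ
  have hω'inj : Function.Injective ω' := F.injective_of_mem hω'
  have hμinj : Function.Injective μ := meetMu_injective ι0 hG0.inj ω' hω'inj hω'N
  set V := meetIm μ U with hV
  have hQN : meetQ S U ≤ normalizerIn S U := meet_pc_Q_le le_rfl hUS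
  have hUN : U ≤ normalizerIn S U := (meet_le_Q S U).trans hQN
  have hμN : ∀ n : ↥(normalizerIn S U), μ n ∈ Subgroup.normalizer (V : Set G0) :=
    fun n => meet_cmb_mu_normalizer μ n
  -- the subgroup of the `n` with `[μ n, x] ∈ V`
  let M : Subgroup ↥(normalizerIn S U) :=
    { carrier := {n | x * μ n * x⁻¹ * (μ n)⁻¹ ∈ V}
      one_mem' := by
        show x * μ 1 * x⁻¹ * (μ 1)⁻¹ ∈ V
        simp
      mul_mem' := by
        intro a b ha hb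
        show x * μ (a * b) * x⁻¹ * (μ (a * b))⁻¹ ∈ V
        have h1 := meet_cmb_normalizer_conj V (μ a) (hμN a) _ hb
        have h2 := V.mul_mem ha h1
        have h3 : x * μ (a * b) * x⁻¹ * (μ (a * b))⁻¹ =
            x * μ a * x⁻¹ * (μ a)⁻¹ * (μ a * (x * μ b * x⁻¹ * (μ b)⁻¹) * (μ a)⁻¹) := by
          rw [map_mul]; group
        rw [h3]; exact h2
      inv_mem' := by
        intro a ha
        show x * μ a⁻¹ * x⁻¹ * (μ a⁻¹)⁻¹ ∈ V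
        have h1 := meet_cmb_normalizer_conj' V (μ a) (hμN a) _ (V.inv_mem ha)
        have h3 : x * μ a⁻¹ * x⁻¹ * (μ a⁻¹)⁻¹ = (μ a)⁻¹ * (x * μ a * x⁻¹ * (μ a)⁻¹)⁻¹ * μ a := by
          rw [map_inv]; group
        rw [h3]; exact h1 }
  have hMmem : ∀ n : ↥(normalizerIn S U), n ∈ M ↔ x * μ n * x⁻¹ * (μ n)⁻¹ ∈ V := fun n => Iff.rfl
  have hUM : U ≤ M.map (normalizerIn S U).subtype := by
    intro u hu
    refine ⟨⟨u, hUN hu⟩, ?_, rfl⟩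
    rw [SetLike.mem_coe, hMmem]
    have h1 : μ ⟨u, hUN hu⟩ ∈ V := (meet_hgen_mem_im μ U _).mpr ⟨_, hu, rfl⟩
    have h2 := meet_cmb_normalizer_conj V x hxN _ h1
    exact V.mul_mem h2 (V.inv_mem h1)
  have hCM : centralizerIn S U ≤ M.map (normalizerIn S U).subtype := by
    intro c hc
    have hcN : c ∈ normalizerIn S U := hQN ((le_sup_right : centralizerIn S U ≤ meetQ S U) hc)
    refine ⟨⟨c, hcN⟩, ?_, rfl⟩
    rw [SetLike.mem_coe, hMmem]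
    exact hcomm ⟨c, hcN⟩ hc
  have hQM : meetQ S U ≤ M.map (normalizerIn S U).subtype := sup_le hUM hCM
  have hQ1 : ∀ q : ↥(meetQ S U), x * μ ⟨q, hQN q.2⟩ * x⁻¹ * (μ ⟨q, hQN q.2⟩)⁻¹ ∈ V := by
    intro q
    obtain ⟨n, hn, hnq⟩ := hQM q.2
    have h1 : n = ⟨q, hQN q.2⟩ := Subtype.ext hnq
    rw [← h1]
    exact (hMmem n).mp hn
  -- the induced map
  have h1 : ∀ q : ↥(meetQ S U), ∃ y : ↥(normalizerIn S U), μ y = x * μ ⟨q, hQN q.2⟩ * x⁻¹ := by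
    intro q
    obtain ⟨u, hu, hux⟩ := (meet_hgen_mem_im μ U _).mp (hQ1 q)
    refine ⟨u * ⟨q, hQN q.2⟩, ?_⟩
    rw [map_mul, hux]
    group
  obtain ⟨φ, hφN, hφ⟩ := meet_hgen_exists_ind μ hμinj x hQN h1
  have hφF : φ ∈ F.Hom (meetQ S U) := meet_cmb_hom hG0 hω' hω'N x _ hQN φ hφN hφ
  have hφU : ∀ q : ↥(meetQ S U), (q : Ω)⁻¹ * φ q ∈ U := by
    intro q
    have h2 := hQ1 q
    have h3 : μ (⟨q, hQN q.2⟩⁻¹ * ⟨φ q, hφN q⟩) =
        (μ ⟨q, hQN q.2⟩)⁻¹ * (x * μ ⟨q, hQN q.2⟩ * x⁻¹ * (μ ⟨q, hQN q.2⟩)⁻¹) * μ ⟨q, hQN q.2⟩ := by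
      rw [map_mul, map_inv, hφ q]
      group
    have h4 := meet_cmb_normalizer_conj' V _ (hμN ⟨q, hQN q.2⟩) _ h2
    rw [← h3] at h4
    exact meet_cmb_mem_of_mu_mem μ hμinj U _ h4
  have hφQ : ∀ q : ↥(meetQ S U), φ q ∈ meetQ S U := by
    intro q
    have h2 : φ q = (q : Ω) * ((q : Ω)⁻¹ * φ q) := by group
    rw [h2]
    exact (meetQ S U).mul_mem q.2 (meet_le_Q S U (hφU q))
  obtain ⟨b, hb, hbφ⟩ := cse_aut_of_hom F φ hφF hφQ
  refine ⟨b, hb, fun q => ?_, fun q => ?_⟩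
  · have h2 : (⟨((b q : ↥(meetQ S U)) : Ω), hQN (b q).2⟩ : ↥(normalizerIn S U)) = ⟨φ q, hφN q⟩ :=
      Subtype.ext (hbφ q)
    rw [h2]
    exact hφ q
  · rw [hbφ q]
    exact hφU q

end Cfsg.Agent.MEET
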