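import Mathlib
import Cfsg.Agent.MEET.CmBd
import Cfsg.Agent.MEET.HgenF
import Cfsg.Agent.MEET.SzExt
import Cfsg.Agent.MEET.SzCentric

/-!
# Project MEET, (CM-b), part e: the induced automorphism of `Q_U` restricts to a map of `E` on `Q_T^U`

Step (4) of (CM-b) (`notes/MEET_helper8.md`, sections 4 and 12 (Q4)): `x ∈ H_T(Y₀)` of order prime to `p` normalizing
`μ(U)`, `b` the automorphism of `Q_U` induced by `x` through `μ` with `[Q_U, b] ≤ U`.  With `P = Q_T^{Y₀}` and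
`R = Y₀ ω'(Q_T^U)` helper4's (SZ) `meet_sz` shows `c_x|_R ∈ Aut_E(R)`; the strong invariance of `E` transports the
restriction to `ω'(Q_T^U)` back to `Q_T^U`.
-/

set_option autoImplicit false
set_option linter.unusedVariables false
set_option maxHeartbeats 1600000

namespace Cfsg.Agent.MEET

open Cfsg Cfsg.FusionSystem Cfsg.Agent.Lead Cfsg.Agent.CSE Cfsg.Agent.Lead.StrongInv

universe u

variable {Ω : Type u} [Group Ω] {S : Subgroup Ω}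

theorem meet_cmb_resIn [Finite S] {p : ℕ} [Fact p.Prime] (hS : IsPGroup p S) {F : FusionSystem S}
    (hF : F.IsSaturated p) {T : Subgroup Ω} (E : FusionSystem T) (hE : E.IsNormalIn F p) {W U Y0 : Subgroup Ω}
    (hWT : W ≤ T) (hUW : U ≤ W) (hY0 : Y0 ∈ meetUf F W) {G0 : Type u} [Group G0]
    {ι0 : ↥(normalizerIn S Y0) →* G0} (hG0 : MeetLocGrp p F W Y0 ι0)
    {ω' : ↥(normalizerIn S U) →* Ω} (hω' : ω' ∈ F.Hom (normalizerIn S U))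
    (hω'N : ∀ x, ω' x ∈ normalizerIn S Y0)
    (hωY : ∀ y : Ω, y ∈ Y0 ↔ ∃ n : ↥(normalizerIn S U), (n : Ω) ∈ normalizerIn W U ∧ ω' n = y)
    (hS0 : ι0.range ⊓ Subgroup.normalizer ((meetIm (meetMu ι0 ω' hω'N) U : Subgroup G0) : Set G0) ≤
      (meetMu ι0 ω' hω'N).range)
    (hUS : U ≤ S) (x : G0) (hxH : x ∈ meetHi p F E Y0 ι0 hG0.hQ) (hxp : ∃ m : ℕ, m.Coprime p ∧ x ^ m = 1)
    (b : MulAut ↥(meetQ S U))
    (hb : ∀ q : ↥(meetQ S U), meetMu ι0 ω' hω'N ⟨((b q : ↥(meetQ S U)) : Ω), meet_pc_Q_le le_rfl hUS (b q).2⟩ =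
        x * meetMu ι0 ω' hω'N ⟨q, meet_pc_Q_le le_rfl hUS q.2⟩ * x⁻¹)
    (hbU : ∀ q : ↥(meetQ S U), (q : Ω)⁻¹ * ((b q : ↥(meetQ S U)) : Ω) ∈ U) :
    MeetResIn E b (meetQ T U) := by
  classical
  set μ := meetMu ι0 ω' hω'N with hμ
  have hω'inj : Function.Injective ω' := F.injective_of_mem hω'
  have hμinj : Function.Injective μ := meetMu_injective ι0 hG0.inj ω' hω'inj hω'N
  have hinv : E.IsInvariantIn F := hE.1.2.2
  have hT : F.StronglyClosed T := hinv.2.1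
  have hTS : T ≤ S := hT.1
  have hEF : E.IsSubsystemOf F := hinv.1
  have hEsat : E.IsSaturated p := hE.1.1
  haveI : Finite ↥T := Fusion.finite_of_le hTS
  have hUT : U ≤ T := hUW.trans hWT
  have hY0W : Y0 ≤ W := hY0.1.1
  have hY0T : Y0 ≤ T := hY0W.trans hWT
  have hY0S : Y0 ≤ S := hY0T.trans hTS
  have hY0N : Y0 ≤ normalizerIn S Y0 := Fusion.le_normalizerIn hY0S
  have hQN : meetQ S U ≤ normalizerIn S U := meet_pc_Q_le le_rfl hUS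
  have hUN : U ≤ normalizerIn S U := (meet_le_Q S U).trans hQN
  have hQiQ : meetQ T U ≤ meetQ S U := meet_hgen_QT_le_Q hTS
  have hQiN : meetQ T U ≤ normalizerIn S U := hQiQ.trans hQN
  have hQiT : meetQ T U ≤ T := meet_hgen_QT_le_T hUT
  have hUQi : U ≤ meetQ T U := meet_le_Q T U
  -- (1) `b` maps `Q_T^U` into itself
  have hval : ∀ z : ↥(meetQ T U), ((b (Subgroup.inclusion hQiQ z) : ↥(meetQ S U)) : Ω) ∈ meetQ T U := by
    intro z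
    have h1 := hbU (Subgroup.inclusion hQiQ z)
    have h2 : ((b (Subgroup.inclusion hQiQ z) : ↥(meetQ S U)) : Ω) =
        (z : Ω) * ((z : Ω)⁻¹ * ((b (Subgroup.inclusion hQiQ z) : ↥(meetQ S U)) : Ω)) := by group
    rw [h2]
    exact (meetQ T U).mul_mem z.2 (hUQi h1)
  refine ⟨hQiQ, ?_, hval⟩
  -- the subgroups `Q0i = ω'(Q_T^U)`, `R0 = Y0 Q0i`, `P0 = Q_T^{Y0}`
  set Q0i : Subgroup Ω := ((meetQ T U).subgroupOf (normalizerIn S U)).map ω' with hQ0i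
  have hmemQ0i : ∀ z : ↥(meetQ T U), ω' ⟨z, hQiN z.2⟩ ∈ Q0i := fun z =>
    ⟨⟨z, hQiN z.2⟩, Subgroup.mem_subgroupOf.mpr z.2, rfl⟩
  have hQ0iT : Q0i ≤ T := by
    rintro _ ⟨n, hn, rfl⟩
    exact meet_cmb_sc_map F hT hω' n (hQiT (Subgroup.mem_subgroupOf.mp hn))
  have hQ0iN : Q0i ≤ normalizerIn S Y0 := by
    rintro _ ⟨n, -, rfl⟩
    exact hω'N n
  set R0 : Subgroup Ω := Y0 ⊔ Q0i with hR0
  have hR0T : R0 ≤ T := sup_le hY0T hQ0iT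
  have hR0N : R0 ≤ normalizerIn S Y0 := sup_le hY0N hQ0iN
  have hQ0iR : Q0i ≤ R0 := le_sup_right
  have hY0R : Y0 ≤ R0 := le_sup_left
  -- `ω'(U) ≤ Y0`
  have hωU : ∀ u : U, ω' ⟨u, hUN u.2⟩ ∈ Y0 := fun u =>
    (hωY _).mpr ⟨⟨u, hUN u.2⟩, Fusion.le_normalizerIn hUW u.2, rfl⟩
  -- the key identity `ι0(ω'(b z)) = x ι0(ω' z) x⁻¹`
  have hkey : ∀ z : ↥(meetQ T U),
      ι0 ⟨ω' ⟨((b (Subgroup.inclusion hQiQ z) : ↥(meetQ S U)) : Ω), hQN (b (Subgroup.inclusion hQiQ z)).2⟩, hω'N _⟩ =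
        x * ι0 ⟨ω' ⟨z, hQiN z.2⟩, hω'N _⟩ * x⁻¹ := fun z => hb (Subgroup.inclusion hQiQ z)
  -- `P0 ≤ R0`
  have hPR : meetQ T Y0 ≤ R0 := by
    refine sup_le hY0R (le_trans ?_ hQ0iR)
    intro c hc
    have hcT : c ∈ T := hc.1
    have hcC : c ∈ Subgroup.centralizer (Y0 : Set Ω) := hc.2
    have hcomm : ∀ y ∈ Y0, y * c = c * y := fun y hy => Subgroup.mem_centralizer_iff.mp hcC y hy
    have hcN : c ∈ normalizerIn S Y0 := ⟨hTS hcT, Subgroup.centralizer_le_normalizer _ hcC⟩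
    have hconj : ∀ v ∈ meetIm μ U, ι0 ⟨c, hcN⟩ * v * (ι0 ⟨c, hcN⟩)⁻¹ = v := by
      intro v hv
      obtain ⟨n, hn, rfl⟩ := (meet_hgen_mem_im μ U v).mp hv
      have h1 : μ n = ι0 ⟨ω' n, hω'N n⟩ := rfl
      rw [h1, ← map_inv, ← map_mul, ← map_mul]
      congr 1
      apply Subtype.ext
      show c * ω' n * c⁻¹ = ω' n
      have h2 := hcomm _ (hωU ⟨n, hn⟩)
      have h3 : ω' n * c = c * ω' n := h2
      rw [← h3]; group
    have hcNV : ι0 ⟨c, hcN⟩ ∈ Subgroup.normalizer ((meetIm μ U : Subgroup G0) : Set G0) := by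
      apply meet_cmb_mem_normalizer
      · intro v hv
        rw [hconj v hv]; exact hv
      · intro v hv
        have h1 := hconj v hv
        have h2 : (ι0 ⟨c, hcN⟩)⁻¹ * v * ι0 ⟨c, hcN⟩ = v := by
          calc (ι0 ⟨c, hcN⟩)⁻¹ * v * ι0 ⟨c, hcN⟩
              = (ι0 ⟨c, hcN⟩)⁻¹ * (ι0 ⟨c, hcN⟩ * v * (ι0 ⟨c, hcN⟩)⁻¹) * ι0 ⟨c, hcN⟩ := by rw [h1]
            _ = v := by group
        rw [h2]; exact hv
    obtain ⟨n, hn⟩ := hS0 ⟨⟨⟨c, hcN⟩, rfl⟩, hcNV⟩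
    have h1 : μ n = ι0 ⟨ω' n, hω'N n⟩ := rfl
    rw [h1] at hn
    have h2 : ω' n = c := congrArg (Subtype.val : ↥(normalizerIn S Y0) → Ω) (hG0.inj hn)
    have hnT : (n : Ω) ∈ T := meet_cmb_sc_reflect F hT hω' n (h2 ▸ hcT)
    have hnC : (n : Ω) ∈ Subgroup.centralizer (U : Set Ω) := by
      rw [Subgroup.mem_centralizer_iff]
      intro u hu
      have h3 := hcomm _ (hωU ⟨u, hu⟩)
      rw [← h2] at h3
      have h4 : ω' (⟨u, hUN hu⟩ * n) = ω' (n * ⟨u, hUN hu⟩) := by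
        rw [map_mul, map_mul]; exact h3
      exact congrArg (Subtype.val : ↥(normalizerIn S U) → Ω) (hω'inj h4)
    have hnQi : (n : Ω) ∈ meetQ T U := (le_sup_right : centralizerIn T U ≤ meetQ T U) ⟨hnT, hnC⟩
    rw [← h2]
    exact ⟨n, Subgroup.mem_subgroupOf.mpr hnQi, rfl⟩
  have hTn := Fusion.le_normalizer_of_stronglyClosed F hT
  have hRN : R0 ≤ Subgroup.normalizer ((meetQ T Y0 : Subgroup Ω) : Set Ω) :=
    hR0N.trans (meet_hgen_normalizer_QT hTS hTn hY0T)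
  have hcent : E.IsCentric (meetQ T Y0) := meet_sz_centric hS hF E hEF hT hY0.2 hY0T
  -- conjugation by `x` maps `ι0(R0)` to itself
  let M0 : Subgroup ↥(normalizerIn S Y0) :=
    { carrier := {n | ∃ y : ↥(normalizerIn S Y0), (y : Ω) ∈ R0 ∧ ι0 y = x * ι0 n * x⁻¹}
      one_mem' := ⟨1, R0.one_mem, by simp⟩
      mul_mem' := by
        rintro a c ⟨ya, hya, ha⟩ ⟨yc, hyc, hc⟩
        refine ⟨ya * yc, R0.mul_mem hya hyc, ?_⟩
        rw [map_mul, map_mul, ha, hc]; group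
      inv_mem' := by
        rintro a ⟨ya, hya, ha⟩
        refine ⟨ya⁻¹, R0.inv_mem hya, ?_⟩
        rw [map_inv, map_inv, ha]; group }
  have hM0mem : ∀ n : ↥(normalizerIn S Y0), n ∈ M0 ↔
      ∃ y : ↥(normalizerIn S Y0), (y : Ω) ∈ R0 ∧ ι0 y = x * ι0 n * x⁻¹ := fun n => Iff.rfl
  have hY0M : Y0 ≤ M0.map (normalizerIn S Y0).subtype := by
    intro y hy
    refine ⟨⟨y, hY0N hy⟩, ?_, rfl⟩
    rw [SetLike.mem_coe, hM0mem]
    obtain ⟨y', hy', hyy'⟩ := hG0.normU x ⟨y, hY0N hy⟩ hy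
    exact ⟨y', hY0R hy', hyy'⟩
  have hQ0iM : Q0i ≤ M0.map (normalizerIn S Y0).subtype := by
    rintro _ ⟨n, hn, rfl⟩
    have hnQi : (n : Ω) ∈ meetQ T U := Subgroup.mem_subgroupOf.mp hn
    refine ⟨⟨ω' n, hω'N n⟩, ?_, rfl⟩
    rw [SetLike.mem_coe, hM0mem]
    refine ⟨⟨ω' ⟨((b (Subgroup.inclusion hQiQ ⟨n, hnQi⟩) : ↥(meetQ S U)) : Ω), hQN (b _).2⟩, hω'N _⟩, ?_, ?_⟩
    · exact hQ0iR (hmemQ0i ⟨_, hval ⟨n, hnQi⟩⟩)
    · exact hkey ⟨n, hnQi⟩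
  have hR0M : R0 ≤ M0.map (normalizerIn S Y0).subtype := sup_le hY0M hQ0iM
  have hR1 : ∀ r : R0, ∃ y : ↥(normalizerIn S Y0), (y : Ω) ∈ R0 ∧ ι0 y = x * ι0 ⟨r, hR0N r.2⟩ * x⁻¹ := by
    intro r
    obtain ⟨n, hn, hnr⟩ := hR0M r.2
    have h1 : n = ⟨r, hR0N r.2⟩ := Subtype.ext hnr
    rw [← h1]
    exact (hM0mem n).mp hn
  obtain ⟨φR, hφRN, hφR⟩ := meet_hgen_exists_ind ι0 hG0.inj x hR0N
    (fun r => (hR1 r).imp fun y hy => hy.2)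
  have hφRF : φR ∈ F.Hom R0 := hG0.hom x R0 hR0N φR hφRN hφR
  have hφRval : ∀ r : R0, φR r ∈ R0 := by
    intro r
    obtain ⟨y, hy, hyr⟩ := hR1 r
    have h1 : ι0 ⟨φR r, hφRN r⟩ = ι0 y := (hφR r).trans hyr.symm
    have h2 : φR r = (y : Ω) := congrArg (Subtype.val : ↥(normalizerIn S Y0) → Ω) (hG0.inj h1)
    rw [h2]; exact hy
  obtain ⟨aR, haR, haRφ⟩ := cse_aut_of_hom F φR hφRF hφRval
  have haRind : ∀ r : R0, ι0 ⟨((aR r : R0) : Ω), hR0N (aR r).2⟩ = x * ι0 ⟨r, hR0N r.2⟩ * x⁻¹ := by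
    intro r
    have h1 : (⟨((aR r : R0) : Ω), hR0N (aR r).2⟩ : ↥(normalizerIn S Y0)) = ⟨φR r, hφRN r⟩ :=
      Subtype.ext (haRφ r)
    rw [h1]; exact hφR r
  obtain ⟨m, hm, hxm⟩ := hxp
  have hao : ∃ m : ℕ, m.Coprime p ∧ aR ^ m = 1 :=
    ⟨m, hm, (meet_cmb_ind_coprime ι0 hG0.inj x hR0N aR haRind p m hm hxm).1⟩
  -- the automorphism of `P0` in `E`
  obtain ⟨bY, hbY, hbYind, -, hP0Q, hbYE, hbYval⟩ := meet_hgen_aut hS hF E hE hWT hY0 hG0 x hxH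
  obtain ⟨a₀, ha₀, ha₀v⟩ := cse_aut_of_hom E _ hbYE hbYval
  have hres : MeetRes hPR aR a₀ := by
    intro y
    have h1 := hbYind (Subgroup.inclusion hP0Q y)
    have h2 := haRind (Subgroup.inclusion hPR y)
    have h3 : ι0 ⟨((a₀ y : ↥(meetQ T Y0)) : Ω), hR0N (hPR (a₀ y).2)⟩ =
        ι0 ⟨((aR (Subgroup.inclusion hPR y) : R0) : Ω), hR0N (aR _).2⟩ := by
      rw [h2]
      have h4 : (⟨((a₀ y : ↥(meetQ T Y0)) : Ω), hR0N (hPR (a₀ y).2)⟩ : ↥(normalizerIn S Y0)) =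
          ⟨((meetQ S Y0).subtype.comp bY.toMonoidHom) (Subgroup.inclusion hP0Q y),
            hG0.hQ (bY (Subgroup.inclusion hP0Q y)).2⟩ := Subtype.ext (ha₀v y)
      rw [h4]
      exact h1
    exact congrArg (Subtype.val : ↥(normalizerIn S Y0) → Ω) (hG0.inj h3)
  have haRE : aR ∈ E.autGroup R0 :=
    meet_sz p hS F E hEsat hinv hPR hR0T hRN hcent aR haR hao a₀ ha₀ hres
  -- (3) restriction to `Q0i`
  have hψ0 : (R0.subtype.comp aR.toMonoidHom).comp (Subgroup.inclusion hQ0iR) ∈ E.Hom Q0i :=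
    Fusion.restrict_mem E ((Fusion.mem_autGroup_iff E hR0T aR).mp haRE) hQ0iR
  have haRω : ∀ z : ↥(meetQ T U),
      ((aR ⟨ω' ⟨z, hQiN z.2⟩, hQ0iR (hmemQ0i z)⟩ : R0) : Ω) =
        ω' ⟨((b (Subgroup.inclusion hQiQ z) : ↥(meetQ S U)) : Ω), hQN (b _).2⟩ := by
    intro z
    have h1 := haRind ⟨ω' ⟨z, hQiN z.2⟩, hQ0iR (hmemQ0i z)⟩
    have h2 := hkey z
    exact congrArg (Subtype.val : ↥(normalizerIn S Y0) → Ω) (hG0.inj (h1.trans h2.symm))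
  have hψ0val : ∀ y : Q0i, ((R0.subtype.comp aR.toMonoidHom).comp (Subgroup.inclusion hQ0iR)) y ∈ Q0i := by
    rintro ⟨_, ⟨n, hn, rfl⟩⟩
    have hnQi : (n : Ω) ∈ meetQ T U := Subgroup.mem_subgroupOf.mp hn
    have h1 := haRω ⟨n, hnQi⟩
    show ((aR ⟨ω' n, _⟩ : R0) : Ω) ∈ Q0i
    rw [h1]
    exact hmemQ0i ⟨_, hval ⟨n, hnQi⟩⟩
  -- (4) transport back along `ω'`
  have hωQi : ω'.comp (Subgroup.inclusion hQiN) ∈ F.Hom (meetQ T U) := Fusion.restrict_mem F hω' hQiN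
  have hrange : (ω'.comp (Subgroup.inclusion hQiN)).range = Q0i := by
    ext y
    constructor
    · rintro ⟨z, rfl⟩
      exact hmemQ0i z
    · rintro ⟨n, hn, rfl⟩
      exact ⟨⟨n, Subgroup.mem_subgroupOf.mp hn⟩, rfl⟩
  obtain ⟨ψ, hψ, hψinv, hψr⟩ := Fusion.exists_inv F hωQi hrange
  have hψω : ∀ z : ↥(meetQ T U), ψ ⟨ω' ⟨z, hQiN z.2⟩, hmemQ0i z⟩ = (z : Ω) := fun z =>
    hψinv z (hmemQ0i z)
  have hSI : SI F E := SI_of_invariant F E hinv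
  obtain ⟨χ, hχ, hχv⟩ := hSI Q0i Q0i le_rfl hQ0iT _ hψ0 hψ0val ψ hψ
  have heq : (Q0i.subgroupOf Q0i).map ψ = meetQ T U := by
    ext z
    constructor
    · rintro ⟨y, -, rfl⟩
      rw [← hψr]; exact ⟨y, rfl⟩
    · intro hz
      exact ⟨⟨ω' ⟨z, hQiN hz⟩, hmemQ0i ⟨z, hz⟩⟩, Subgroup.mem_subgroupOf.mpr (hmemQ0i ⟨z, hz⟩),
        hψω ⟨z, hz⟩⟩
  obtain ⟨χ', hχ', hχ'v⟩ := Fusion.exists_hom_of_eq E heq hχ
  have hfin : ((meetQ S U).subtype.comp b.toMonoidHom).comp (Subgroup.inclusion hQiQ) = χ' := by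
    ext z
    show ((b (Subgroup.inclusion hQiQ z) : ↥(meetQ S U)) : Ω) = χ' z
    set y0 : Q0i := ⟨ω' ⟨z, hQiN z.2⟩, hmemQ0i z⟩ with hy0
    have h1 : ψ (Subgroup.inclusion le_rfl y0) = (z : Ω) := hψω z
    have hmem : ψ (Subgroup.inclusion le_rfl y0) ∈ (Q0i.subgroupOf Q0i).map ψ :=
      ⟨Subgroup.inclusion le_rfl y0, Subgroup.mem_subgroupOf.mpr y0.2, rfl⟩
    have h2 := hχv y0 hmem
    have h3 : χ' z = χ ⟨ψ (Subgroup.inclusion le_rfl y0), hmem⟩ := by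
      have h4 := hχ'v _ hmem (h1 ▸ z.2)
      rw [← h4]
      exact app_congr χ' _ _ h1.symm
    rw [h3, h2]
    have h5 : (⟨((R0.subtype.comp aR.toMonoidHom).comp (Subgroup.inclusion hQ0iR)) y0, hψ0val y0⟩ : Q0i) =
        ⟨ω' ⟨((b (Subgroup.inclusion hQiQ z) : ↥(meetQ S U)) : Ω), hQN (b _).2⟩,
          hmemQ0i ⟨_, hval z⟩⟩ := Subtype.ext (haRω z)
    rw [h5]
    exact (hψω ⟨_, hval z⟩).symm
  rw [hfin]
  exact hχ'

end Cfsg.Agent.MEET
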