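import Mathlib
import Cfsg.Agent.MEET.HgenF
import Cfsg.Agent.Helper1.Subnormal

set_option autoImplicit false

/-!
# MEET project, part II: the fields (E3) `fr` and (E4) `recl` of `MeetEng` for `meetA`, in the local group

(LOC), (CEN) and `meetA U = meetA0 U` enter as hypotheses `hLOC`, `hCEN`, `hA`; `MEET/CmE.lean` plugs in the theorems.

`U` a fully normalized member of the family, `Y = N_W(U)`, `G = G(U)` the local group, `J = J(U)`.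
(E3): an `F`-map `γ : X → Y` (`U ≤ X ≤ Y`, `γ(U) = U`) is conjugation by some `g ∈ G` (ND); by Frattini `g = n j` with
`j ∈ J`, `n ∈ N_G(ι Y)`; `ν := c_j|_X` is a map of `meetN` by (LOC), `ν|_U ∈ A(U)`, `η := c_n|_Y ∈ Aut_F(Y)`.
(E4): `a ∈ A(U)` is `c_j|_U` with `j ∈ J`; the hypothesis and (CEN) give `j ι(Y₁) j⁻¹ ≤ ι(Y)`; `ε := c_j|_{Y₁}` is a map
of `meetN` by (LOC).
-/

namespace Cfsg.Agent.MEET

open Cfsg Cfsg.FusionSystem Cfsg.Agent.Lead Cfsg.Agent.CSE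

universe u

/-- Frattini: `G = N_G(P ∩ J) J` for a Sylow `p`-subgroup `P` and a normal subgroup `J`. -/
theorem meet_cme_frattini {G : Type*} [Group G] [Finite G] (p : ℕ) [Fact p.Prime] (P : Sylow p G)
    (J : Subgroup G) [hJ : J.Normal] (g : G) :
    ∃ n ∈ Subgroup.normalizer ((((P : Subgroup G) ⊓ J : Subgroup G)) : Set G), ∃ j ∈ J, g = n * j := by
  obtain ⟨Q, hQ⟩ := Cfsg.Agent.Helper1.sylow_inf_subnormal p J hJ.isSubnormal P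
  have h := Sylow.normalizer_sup_eq_top Q
  have hmap : (Q : Subgroup J).map J.subtype = (P : Subgroup G) ⊓ J := by
    rw [hQ, Subgroup.subgroupOf_map_subtype]
  rw [hmap] at h
  have hg : g ∈ Subgroup.normalizer ((((P : Subgroup G) ⊓ J : Subgroup G)) : Set G) ⊔ J := h ▸ Subgroup.mem_top g
  obtain ⟨n, hn, j, hj, rfl⟩ := Subgroup.mem_sup_of_normal_right.mp hg
  exact ⟨n, hn, j, hj, rfl⟩

variable {Ω : Type u} [Group Ω] {S : Subgroup Ω} {p : ℕ} {F : FusionSystem S} {T₁ T₂ : Subgroup Ω}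
  {E₁ : FusionSystem T₁} {E₂ : FusionSystem T₂}

/-- `T₁ ⊓ T₂` is strongly closed in `F`. -/
theorem meet_cme_inf_sc (h₁ : E₁.IsNormalIn F p) (h₂ : E₂.IsNormalIn F p) : F.StronglyClosed (T₁ ⊓ T₂) := by
  obtain ⟨hT₁, hsc₁⟩ := h₁.1.2.2.2.1
  obtain ⟨_, hsc₂⟩ := h₂.1.2.2.2.1
  exact ⟨inf_le_left.trans hT₁, fun R hR φ hφ x =>
    ⟨hsc₁ R (hR.trans inf_le_left) φ hφ x, hsc₂ R (hR.trans inf_le_right) φ hφ x⟩⟩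

section

variable {U : Subgroup Ω} {G : Type u} [Group G] {ι : ↥(normalizerIn S U) →* G}

/-- `J(U)` is normal in `G(U)`. -/
theorem meet_cme_J_normal [Finite S] [Fact p.Prime] (hS : IsPGroup p S) (hF : F.IsSaturated p)
    (h₁ : E₁.IsNormalIn F p) (h₂ : E₂.IsNormalIn F p) (hU : U ∈ meetUf F (T₁ ⊓ T₂))
    (hG : MeetLocGrp p F (T₁ ⊓ T₂) U ι) : (meetJ p F E₁ E₂ U ι hG.hQ).Normal := by
  have := meet_hgen_normal hS hF E₁ h₁ hU hG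
  have := meet_hgen_normal hS hF E₂ h₂ hU hG
  unfold meetJ
  infer_instance

/-- (L2) `ι x ∈ J(U) ↔ x ∈ W`. -/
theorem meet_cme_mem_J_iff [Finite S] [Fact p.Prime] (hS : IsPGroup p S) (hF : F.IsSaturated p)
    (h₁ : E₁.IsNormalIn F p) (h₂ : E₂.IsNormalIn F p) (hU : U ∈ meetUf F (T₁ ⊓ T₂))
    (hG : MeetLocGrp p F (T₁ ⊓ T₂) U ι) (x : ↥(normalizerIn S U)) :
    ι x ∈ meetJ p F E₁ E₂ U ι hG.hQ ↔ (x : Ω) ∈ T₁ ⊓ T₂ := by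
  unfold meetJ
  rw [Subgroup.mem_inf, Subgroup.mem_inf, meet_hgen_syl hS hF E₁ h₁ inf_le_left hU hG x,
    meet_hgen_syl hS hF E₂ h₂ inf_le_right hU hG x]

/-- Conjugation by `g` carrying `ι(X)` into `ι(Z)` comes from a homomorphism `X →* Ω` with values in `Z`. -/
theorem meet_cme_exists_ind {N : Subgroup Ω} {G : Type u} [Group G] (ι : N →* G)
    (hinj : Function.Injective ι) (g : G) {X : Subgroup Ω} (hX : X ≤ N) (Z : Subgroup Ω)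
    (h : ∀ x : X, ∃ y : N, (y : Ω) ∈ Z ∧ ι y = g * ι ⟨x, hX x.2⟩ * g⁻¹) :
    ∃ (φ : X →* Ω) (hφ : ∀ x : X, φ x ∈ N), MeetInd ι g hX φ hφ ∧ ∀ x : X, φ x ∈ Z := by
  obtain ⟨φ, hφ, hind⟩ := meet_hgen_exists_ind ι hinj g hX (fun x => by
    obtain ⟨y, -, hy⟩ := h x
    exact ⟨y, hy⟩)
  refine ⟨φ, hφ, hind, fun x => ?_⟩
  obtain ⟨y, hyZ, hy⟩ := h x
  have h1 : ι ⟨φ x, hφ x⟩ = ι y := (hind x).trans hy.symm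
  have h2 : φ x = (y : Ω) := congrArg Subtype.val (hinj h1)
  rw [h2]
  exact hyZ

/-- `P ∩ J(U) = ι(N_W(U))` for the Sylow `p`-subgroup `P = ι(N_S(U))` of `G(U)`. -/
theorem meet_cme_mem_inf_iff [Finite S] [Fact p.Prime] (hS : IsPGroup p S) (hF : F.IsSaturated p)
    (h₁ : E₁.IsNormalIn F p) (h₂ : E₂.IsNormalIn F p) (hU : U ∈ meetUf F (T₁ ⊓ T₂))
    (hG : MeetLocGrp p F (T₁ ⊓ T₂) U ι) (P : Subgroup G) (hP : P = ι.range) (g : G) :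
    g ∈ P ⊓ meetJ p F E₁ E₂ U ι hG.hQ ↔
      ∃ y : ↥(normalizerIn S U), (y : Ω) ∈ normalizerIn (T₁ ⊓ T₂) U ∧ ι y = g := by
  constructor
  · intro hg
    obtain ⟨hgP, hgJ⟩ := Subgroup.mem_inf.mp hg
    rw [hP] at hgP
    obtain ⟨y, rfl⟩ := hgP
    refine ⟨y, Subgroup.mem_inf.mpr ⟨?_, (Subgroup.mem_inf.mp y.2).2⟩, rfl⟩
    exact (meet_cme_mem_J_iff hS hF h₁ h₂ hU hG y).mp hgJ
  · rintro ⟨y, hy, rfl⟩
    refine Subgroup.mem_inf.mpr ⟨?_, ?_⟩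
    · rw [hP]
      exact ⟨y, rfl⟩
    · exact (meet_cme_mem_J_iff hS hF h₁ h₂ hU hG y).mpr (Subgroup.mem_inf.mp hy).1

/-- (E3) in the local group. -/
theorem meet_cme_fr_loc [Finite S] [Fact p.Prime] (hS : IsPGroup p S) (hF : F.IsSaturated p)
    (h₁ : E₁.IsNormalIn F p) (h₂ : E₂.IsNormalIn F p) (hWS : T₁ ⊓ T₂ ≤ S) (hU : U ∈ meetUf F (T₁ ⊓ T₂))
    (hG : MeetLocGrp p F (T₁ ⊓ T₂) U ι)
    (hA : meetA p F E₁ E₂ U = meetA0 p F E₁ E₂ U)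
    (hLOC : ∀ (X : Subgroup Ω) (hXY : X ≤ normalizerIn (T₁ ⊓ T₂) U) (j : G),
      j ∈ meetJ p F E₁ E₂ U ι hG.hQ → ∀ (φ : X →* Ω) (hφ : ∀ x : X, φ x ∈ normalizerIn (T₁ ⊓ T₂) U),
      MeetInd ι j (hXY.trans (inf_le_inf_right _ hWS)) φ
        (fun x => (inf_le_inf_right _ hWS : normalizerIn (T₁ ⊓ T₂) U ≤ normalizerIn S U) (hφ x)) →
      φ ∈ (meetN F (T₁ ⊓ T₂) hWS (meetA p F E₁ E₂)).Hom X)
    (X : Subgroup Ω) (hUX : U ≤ X)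
    (hXY : X ≤ normalizerIn (T₁ ⊓ T₂) U) (γ : X →* Ω) (hγ : γ ∈ F.Hom X)
    (hγY : ∀ x : X, γ x ∈ normalizerIn (T₁ ⊓ T₂) U) (hγU : ∀ x : X, (x : Ω) ∈ U → γ x ∈ U) :
    ∃ η ∈ F.autGroup (normalizerIn (T₁ ⊓ T₂) U),
      ∃ ν ∈ (meetN F (T₁ ⊓ T₂) hWS (meetA p F E₁ E₂)).Hom X, ∃ a ∈ meetA p F E₁ E₂ U,
      (∀ u : U, ν ⟨u, hUX u.2⟩ = ((a u : U) : Ω)) ∧
      ∀ (x : X) (hx : ν x ∈ normalizerIn (T₁ ⊓ T₂) U),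
        γ x = ((η ⟨ν x, hx⟩ : ↥(normalizerIn (T₁ ⊓ T₂) U)) : Ω) := by
  have hYN : normalizerIn (T₁ ⊓ T₂) U ≤ normalizerIn S U := inf_le_inf_right _ hWS
  have hUS : U ≤ S := hU.1.1.trans hWS
  have hUN : U ≤ normalizerIn S U := le_inf hUS Subgroup.le_normalizer
  have hfin : Finite G := hG.fin
  obtain ⟨P, hP⟩ := hG.syl
  have hJn : (meetJ p F E₁ E₂ U ι hG.hQ).Normal := meet_cme_J_normal hS hF h₁ h₂ hU hG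
  have hPJ := meet_cme_mem_inf_iff hS hF h₁ h₂ hU hG (P : Subgroup G) hP
  obtain ⟨g, hg⟩ := hG.nd X hUX hXY hWS γ hγ hγY hγU
  obtain ⟨n, hn, j, hj, rfl⟩ := meet_cme_frattini p P (meetJ p F E₁ E₂ U ι hG.hQ) g
  have hn' := Subgroup.mem_normalizer_iff.mp hn
  have hninv := Subgroup.mem_normalizer_iff.mp (inv_mem hn)
  -- `c_j` carries `ι(X)` into `ι(Y)`
  have hjX : ∀ x : X, ∃ y : ↥(normalizerIn S U), (y : Ω) ∈ normalizerIn (T₁ ⊓ T₂) U ∧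
      ι y = j * ι ⟨x, (hXY.trans hYN) x.2⟩ * j⁻¹ := by
    intro x
    have h1 : ι ⟨γ x, hYN (hγY x)⟩ ∈ (P : Subgroup G) ⊓ meetJ p F E₁ E₂ U ι hG.hQ :=
      (hPJ _).mpr ⟨_, hγY x, rfl⟩
    have h2 := (hninv _).mp h1
    obtain ⟨y, hyY, hy⟩ := (hPJ _).mp h2
    refine ⟨y, hyY, ?_⟩
    rw [hy, hg x]
    group
  obtain ⟨ν, hνN, hνind, hνY⟩ := meet_cme_exists_ind ι hG.inj j (hXY.trans hYN) _ hjX
  have hνF : ν ∈ F.Hom X := hG.hom j X (hXY.trans hYN) ν hνN hνind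
  have hνloc : ν ∈ (meetN F (T₁ ⊓ T₂) hWS (meetA p F E₁ E₂)).Hom X :=
    hLOC X hXY j hj ν hνY hνind
  -- the restriction of `ν` to `U`
  have hνU : ∀ u : U, (ν.comp (Subgroup.inclusion hUX)) u ∈ U := by
    intro u
    obtain ⟨y, hyU, hy⟩ := hG.normU j ⟨u, hUN u.2⟩ u.2
    have h1 : ι ⟨ν ⟨u, hUX u.2⟩, hνN _⟩ = ι y := (hνind ⟨u, hUX u.2⟩).trans hy.symm
    have h2 : ν ⟨u, hUX u.2⟩ = (y : Ω) := congrArg Subtype.val (hG.inj h1)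
    show ν ⟨u, hUX u.2⟩ ∈ U
    rw [h2]
    exact hyU
  obtain ⟨a, haF, ha⟩ := cse_aut_of_hom F _ (Fusion.restrict_mem F hνF hUX) hνU
  have ha' : ∀ u : U, ((a u : U) : Ω) = ν ⟨u, hUX u.2⟩ := fun u => ha u
  have haA0 : a ∈ meetA0 p F E₁ E₂ U := by
    refine (meet_J_aut hS hF h₁ h₂ hU hG hUN a).mpr ⟨j, hj, fun u => ?_⟩
    have h1 := hνind ⟨u, hUX u.2⟩
    have h2 : (⟨((a u : U) : Ω), hUN (a u).2⟩ : ↥(normalizerIn S U)) = ⟨ν ⟨u, hUX u.2⟩, hνN _⟩ :=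
      Subtype.ext (ha' u)
    rw [h2]
    exact h1
  have haA : a ∈ meetA p F E₁ E₂ U := by
    rw [hA]
    exact haA0
  -- `c_n` on `Y`
  have hnY : ∀ y : ↥(normalizerIn (T₁ ⊓ T₂) U), ∃ y' : ↥(normalizerIn S U),
      (y' : Ω) ∈ normalizerIn (T₁ ⊓ T₂) U ∧ ι y' = n * ι ⟨y, hYN y.2⟩ * n⁻¹ := by
    intro y
    have h1 : ι ⟨y, hYN y.2⟩ ∈ (P : Subgroup G) ⊓ meetJ p F E₁ E₂ U ι hG.hQ :=
      (hPJ _).mpr ⟨_, y.2, rfl⟩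
    have h2 := (hn' _).mp h1
    exact (hPJ _).mp h2
  obtain ⟨η₀, hη₀N, hη₀ind, hη₀Y⟩ := meet_cme_exists_ind ι hG.inj n hYN _ hnY
  have hη₀F : η₀ ∈ F.Hom (normalizerIn (T₁ ⊓ T₂) U) := hG.hom n _ hYN η₀ hη₀N hη₀ind
  obtain ⟨η, hηF, hη⟩ := cse_aut_of_hom F η₀ hη₀F hη₀Y
  refine ⟨η, hηF, ν, hνloc, a, haA, fun u => (ha' u).symm, fun x hx => ?_⟩
  rw [hη]
  have h1 := hg x
  have h2 := hνind x
  have h3 := hη₀ind ⟨ν x, hx⟩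
  have h4 : ι ⟨γ x, hYN (hγY x)⟩ = ι ⟨η₀ ⟨ν x, hx⟩, hη₀N _⟩ := by
    rw [h1, h3]
    have h5 : (⟨((⟨ν x, hx⟩ : ↥(normalizerIn (T₁ ⊓ T₂) U)) : Ω), hYN hx⟩ : ↥(normalizerIn S U)) =
        ⟨ν x, hνN x⟩ := rfl
    rw [h5, h2]
    group
  exact congrArg Subtype.val (hG.inj h4)

/-- (E4) in the local group. -/
theorem meet_cme_recl_loc [Finite S] [Fact p.Prime] (hS : IsPGroup p S) (hF : F.IsSaturated p)
    (h₁ : E₁.IsNormalIn F p) (h₂ : E₂.IsNormalIn F p) (hWS : T₁ ⊓ T₂ ≤ S) (hU : U ∈ meetUf F (T₁ ⊓ T₂))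
    (hG : MeetLocGrp p F (T₁ ⊓ T₂) U ι)
    (hA : meetA p F E₁ E₂ U = meetA0 p F E₁ E₂ U)
    (hLOC : ∀ (X : Subgroup Ω) (hXY : X ≤ normalizerIn (T₁ ⊓ T₂) U) (j : G),
      j ∈ meetJ p F E₁ E₂ U ι hG.hQ → ∀ (φ : X →* Ω) (hφ : ∀ x : X, φ x ∈ normalizerIn (T₁ ⊓ T₂) U),
      MeetInd ι j (hXY.trans (inf_le_inf_right _ hWS)) φ
        (fun x => (inf_le_inf_right _ hWS : normalizerIn (T₁ ⊓ T₂) U ≤ normalizerIn S U) (hφ x)) →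
      φ ∈ (meetN F (T₁ ⊓ T₂) hWS (meetA p F E₁ E₂)).Hom X)
    (hCEN : ∀ g ∈ meetJ p F E₁ E₂ U ι hG.hQ,
      (∀ x : ↥(normalizerIn S U), (x : Ω) ∈ U → g * ι x = ι x * g) →
      ∃ z : ↥(normalizerIn S U), (z : Ω) ∈ U ∧ ι z = g)
    (a : MulAut U) (ha : a ∈ meetA p F E₁ E₂ U)
    (Y₁ : Subgroup Ω) (hUY : U ≤ Y₁) (hY₁ : Y₁ ≤ normalizerIn (T₁ ⊓ T₂) U)
    (hyp : ∀ y ∈ Y₁, ∃ w ∈ normalizerIn (T₁ ⊓ T₂) U, ∀ (u : U) (hu : y * (u : Ω) * y⁻¹ ∈ U),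
      ((a ⟨y * (u : Ω) * y⁻¹, hu⟩ : U) : Ω) = w * ((a u : U) : Ω) * w⁻¹) :
    ∃ ε ∈ (meetN F (T₁ ⊓ T₂) hWS (meetA p F E₁ E₂)).Hom Y₁,
      (∀ x : Y₁, ε x ∈ normalizerIn (T₁ ⊓ T₂) U) ∧ ∀ u : U, ε ⟨u, hUY u.2⟩ = ((a u : U) : Ω) := by
  have hYN : normalizerIn (T₁ ⊓ T₂) U ≤ normalizerIn S U := inf_le_inf_right _ hWS
  have hUS : U ≤ S := hU.1.1.trans hWS
  have hUN : U ≤ normalizerIn S U := le_inf hUS Subgroup.le_normalizer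
  have hUYW : U ≤ normalizerIn (T₁ ⊓ T₂) U := le_inf hU.1.1 Subgroup.le_normalizer
  have hJn : (meetJ p F E₁ E₂ U ι hG.hQ).Normal := meet_cme_J_normal hS hF h₁ h₂ hU hG
  have hJiff := meet_cme_mem_J_iff hS hF h₁ h₂ hU hG
  have ha0 : a ∈ meetA0 p F E₁ E₂ U := by
    rw [← hA]
    exact ha
  obtain ⟨j, hj, hja⟩ := (meet_J_aut hS hF h₁ h₂ hU hG hUN a).mp ha0
  -- `c_j` carries `ι(Y₁)` into `ι(Y)`
  have hjY : ∀ x : Y₁, ∃ y' : ↥(normalizerIn S U), (y' : Ω) ∈ normalizerIn (T₁ ⊓ T₂) U ∧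
      ι y' = j * ι ⟨x, (hY₁.trans hYN) x.2⟩ * j⁻¹ := by
    intro x
    obtain ⟨w, hw, hwa⟩ := hyp x x.2
    have hxY : (x : Ω) ∈ normalizerIn (T₁ ⊓ T₂) U := hY₁ x.2
    have hιw : ι ⟨w, hYN hw⟩ ∈ meetJ p F E₁ E₂ U ι hG.hQ := (hJiff _).mpr (Subgroup.mem_inf.mp hw).1
    have hιx : ι ⟨x, hYN hxY⟩ ∈ meetJ p F E₁ E₂ U ι hG.hQ := (hJiff _).mpr (Subgroup.mem_inf.mp hxY).1
    have hcJ : (ι ⟨w, hYN hw⟩)⁻¹ * (j * ι ⟨x, hYN hxY⟩ * j⁻¹) ∈ meetJ p F E₁ E₂ U ι hG.hQ :=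
      mul_mem (inv_mem hιw) (hJn.conj_mem _ hιx j)
    have hcc : ∀ v : ↥(normalizerIn S U), (v : Ω) ∈ U →
        (ι ⟨w, hYN hw⟩)⁻¹ * (j * ι ⟨x, hYN hxY⟩ * j⁻¹) * ι v =
          ι v * ((ι ⟨w, hYN hw⟩)⁻¹ * (j * ι ⟨x, hYN hxY⟩ * j⁻¹)) := by
      intro v hv
      -- `u' := a⁻¹ v`
      obtain ⟨u', hu'⟩ := a.surjective ⟨v, hv⟩
      have h1 := hja u'
      have h1' : ι v = j * ι ⟨u', hUN u'.2⟩ * j⁻¹ := by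
        rw [← h1]
        congr 1
        apply Subtype.ext
        show (v : Ω) = ((a u' : U) : Ω)
        rw [hu']
      have hnx : (x : Ω) * (u' : Ω) * (x : Ω)⁻¹ ∈ U := by
        have := (Subgroup.mem_normalizer_iff.mp (Subgroup.mem_inf.mp hxY).2) (u' : Ω)
        exact this.mp u'.2
      have h2 := hwa u' hnx
      have h3 := hja ⟨(x : Ω) * (u' : Ω) * (x : Ω)⁻¹, hnx⟩
      have h4 : (⟨((a ⟨(x : Ω) * (u' : Ω) * (x : Ω)⁻¹, hnx⟩ : U) : Ω), hUN (a _).2⟩ : ↥(normalizerIn S U)) =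
          ⟨w, hYN hw⟩ * v * ⟨w, hYN hw⟩⁻¹ := by
        apply Subtype.ext
        rw [h2, hu']
        rfl
      have h5 : (⟨(((⟨(x : Ω) * (u' : Ω) * (x : Ω)⁻¹, hnx⟩ : U)) : Ω), hUN hnx⟩ : ↥(normalizerIn S U)) =
          ⟨x, hYN hxY⟩ * ⟨u', hUN u'.2⟩ * ⟨x, hYN hxY⟩⁻¹ := rfl
      rw [h4, h5, map_mul, map_mul, map_inv, map_mul, map_mul, map_inv] at h3
      -- h3 : ιw * ιv * ιw⁻¹ = j * (ιx * ιu' * ιx⁻¹) * j⁻¹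
      have h6 : ι ⟨w, hYN hw⟩ * ι v * (ι ⟨w, hYN hw⟩)⁻¹ =
          (j * ι ⟨x, hYN hxY⟩ * j⁻¹) * ι v * (j * ι ⟨x, hYN hxY⟩ * j⁻¹)⁻¹ := by
        rw [h3, h1']
        group
      calc (ι ⟨w, hYN hw⟩)⁻¹ * (j * ι ⟨x, hYN hxY⟩ * j⁻¹) * ι v
          = (ι ⟨w, hYN hw⟩)⁻¹ * ((j * ι ⟨x, hYN hxY⟩ * j⁻¹) * ι v * (j * ι ⟨x, hYN hxY⟩ * j⁻¹)⁻¹) *
              (j * ι ⟨x, hYN hxY⟩ * j⁻¹) := by group
        _ = (ι ⟨w, hYN hw⟩)⁻¹ * (ι ⟨w, hYN hw⟩ * ι v * (ι ⟨w, hYN hw⟩)⁻¹) *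
              (j * ι ⟨x, hYN hxY⟩ * j⁻¹) := by rw [h6]
        _ = ι v * ((ι ⟨w, hYN hw⟩)⁻¹ * (j * ι ⟨x, hYN hxY⟩ * j⁻¹)) := by group
    obtain ⟨z, hzU, hz⟩ := hCEN _ hcJ hcc
    refine ⟨⟨w, hYN hw⟩ * z, ?_, ?_⟩
    · exact mul_mem hw (hUYW hzU)
    · rw [map_mul, hz]
      group
  obtain ⟨ε, hεN, hεind, hεY⟩ := meet_cme_exists_ind ι hG.inj j (hY₁.trans hYN) _ hjY
  have hεloc : ε ∈ (meetN F (T₁ ⊓ T₂) hWS (meetA p F E₁ E₂)).Hom Y₁ :=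
    hLOC Y₁ hY₁ j hj ε hεY hεind
  refine ⟨ε, hεloc, hεY, fun u => ?_⟩
  have h1 := hεind ⟨u, hUY u.2⟩
  have h2 := hja u
  have h3 : ι ⟨ε ⟨u, hUY u.2⟩, hεN _⟩ = ι ⟨((a u : U) : Ω), hUN (a u).2⟩ := by
    rw [h1, h2]
  exact congrArg Subtype.val (hG.inj h3)

end

end Cfsg.Agent.MEET
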