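import Mathlib
import Cfsg.Agent.MEET.PcGroup
import Cfsg.Agent.CSE.LocalA

/-!
MEET project: three purely group-theoretic lemmas for (CM-b) (helper2).  Frozen headers of
`notes/MEET_headers4_CmGrp.lean.txt`.
-/

set_option autoImplicit false
set_option linter.unusedSectionVars false
set_option linter.unusedVariables false
set_option linter.style.haveILetI false

namespace Cfsg.Agent.MEET

open Cfsg.Agent.CSE

/-- Every `p`-subgroup is conjugate into a given Sylow `p`-subgroup. -/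
theorem meet_cmgrp_conj_into_sylow {G : Type*} [Group G] [Finite G] (p : ℕ) [Fact p.Prime]
    (Q : Sylow p G) (P : Subgroup G) (hP : IsPGroup p P) : ∃ g : G, ∀ x ∈ P, g * x * g⁻¹ ∈ Q := by
  obtain ⟨Q', hQ'⟩ := hP.exists_le_sylow
  obtain ⟨g, hg⟩ := MulAction.exists_smul_eq G Q' Q
  refine ⟨g, fun x hx => ?_⟩
  rw [← hg]
  have hx' : x ∈ (Q' : Subgroup G) := hQ' hx
  show g * x * g⁻¹ ∈ ((g • Q' : Sylow p G) : Subgroup G)
  rw [Sylow.coe_subgroup_smul]
  exact ⟨x, hx', rfl⟩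

/-- (GS) `P₁ ≤ N_Sg(V)` has the largest order among the `N_Sg(V^g)`: then `P₁` is a Sylow `p`-subgroup of `N_G(V)`, in the
conjugacy form. -/
theorem meet_grp_sylow_nrm {G : Type*} [Group G] [Finite G] (p : ℕ) [Fact p.Prime] (Sg V P₁ : Subgroup G)
    (hSg : ∃ Q : Sylow p G, (Q : Subgroup G) = Sg) (hVP : V ≤ P₁) (hP₁ : P₁ ≤ Sg)
    (hP₁N : P₁ ≤ Subgroup.normalizer (V : Set G))
    (hmax : ∀ (g : G) (R : Subgroup G), R ≤ Sg → V.map (MulAut.conj g).toMonoidHom ≤ R →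
      R ≤ Subgroup.normalizer ((V.map (MulAut.conj g).toMonoidHom : Subgroup G) : Set G) →
      Nat.card R ≤ Nat.card P₁)
    (P : Subgroup G) (hP : IsPGroup p P) (hPN : P ≤ Subgroup.normalizer (V : Set G)) :
    ∃ g ∈ Subgroup.normalizer (V : Set G), ∀ x ∈ P, g * x * g⁻¹ ∈ P₁ := by
  obtain ⟨Q, rfl⟩ := hSg
  have hP₁p : IsPGroup p P₁ := Q.2.to_le hP₁
  have h1 : IsPGroup p (P₁.subgroupOf (Subgroup.normalizer (V : Set G))) := hP₁p.comap_subtype
  obtain ⟨Q', hQ'⟩ := h1.exists_le_sylow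
  have hQ''p : IsPGroup p ((Q' : Subgroup (Subgroup.normalizer (V : Set G))).map
      (Subgroup.normalizer (V : Set G)).subtype) := Q'.2.map _
  have hP₁Q'' : P₁ ≤ (Q' : Subgroup (Subgroup.normalizer (V : Set G))).map
      (Subgroup.normalizer (V : Set G)).subtype := by
    intro x hx
    exact ⟨⟨x, hP₁N hx⟩, hQ' (show (⟨x, hP₁N hx⟩ : Subgroup.normalizer (V : Set G)) ∈
      P₁.subgroupOf (Subgroup.normalizer (V : Set G)) from hx), rfl⟩
  have hQ''N : (Q' : Subgroup (Subgroup.normalizer (V : Set G))).map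
      (Subgroup.normalizer (V : Set G)).subtype ≤ Subgroup.normalizer (V : Set G) := by
    rintro _ ⟨y, _, rfl⟩
    exact y.2
  obtain ⟨g, hg⟩ := meet_cmgrp_conj_into_sylow p Q _ hQ''p
  have hcard := hmax g (((Q' : Subgroup (Subgroup.normalizer (V : Set G))).map
      (Subgroup.normalizer (V : Set G)).subtype).map (MulAut.conj g).toMonoidHom) (by
        rintro _ ⟨x, hx, rfl⟩
        exact hg x hx) (Subgroup.map_mono (hVP.trans hP₁Q'')) (by
        refine (Subgroup.map_mono hQ''N).trans ?_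
        exact Subgroup.le_normalizer_map _)
  have hinj : Function.Injective (MulAut.conj g).toMonoidHom := (MulAut.conj g).injective
  have hcard2 : Nat.card (((Q' : Subgroup (Subgroup.normalizer (V : Set G))).map
      (Subgroup.normalizer (V : Set G)).subtype).map (MulAut.conj g).toMonoidHom) =
      Nat.card ((Q' : Subgroup (Subgroup.normalizer (V : Set G))).map
      (Subgroup.normalizer (V : Set G)).subtype) :=
    (Nat.card_congr (Subgroup.equivMapOfInjective _ _ hinj).toEquiv).symm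
  rw [hcard2] at hcard
  have heq : P₁ = (Q' : Subgroup (Subgroup.normalizer (V : Set G))).map
      (Subgroup.normalizer (V : Set G)).subtype := Subgroup.eq_of_le_of_card_ge hP₁Q'' hcard
  have h2 : IsPGroup p (P.subgroupOf (Subgroup.normalizer (V : Set G))) := hP.comap_subtype
  obtain ⟨n, hn⟩ := meet_cmgrp_conj_into_sylow p Q' _ h2
  refine ⟨n.1, n.2, fun x hx => ?_⟩
  rw [heq]
  exact ⟨n * ⟨x, hPN hx⟩ * n⁻¹, hn ⟨x, hPN hx⟩ hx, rfl⟩

/-- `C_G(V)` is normalized by `N_G(V)`. -/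
theorem meet_cmgrp_conj_centralizer {G : Type*} [Group G] (V : Subgroup G) (g : G)
    (hg : g ∈ Subgroup.normalizer (V : Set G)) (c : G) (hc : c ∈ Subgroup.centralizer (V : Set G)) :
    g * c * g⁻¹ ∈ Subgroup.centralizer (V : Set G) := by
  rw [Subgroup.mem_centralizer_iff]
  intro v hv
  have hv' : g⁻¹ * v * g ∈ V := by
    have h := (Subgroup.mem_normalizer_iff.mp (Subgroup.inv_mem _ hg) v).mp hv
    simpa using h
  have h1 := (Subgroup.mem_centralizer_iff.mp hc) _ hv'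
  calc v * (g * c * g⁻¹) = g * ((g⁻¹ * v * g) * c) * g⁻¹ := by group
    _ = g * (c * (g⁻¹ * v * g)) * g⁻¹ := by rw [h1]
    _ = g * c * g⁻¹ * v := by group

/-- (GL) `L₀ = J ∩ C_G(V) ≤ V`. -/
theorem meet_grp_L0 {G : Type*} [Group G] [Finite G] (p : ℕ) [Fact p.Prime] (J Yi V P₁ : Subgroup G) [J.Normal]
    [Yi.Normal] (hYi : IsPGroup p Yi) (hVY : V ≤ Yi) (hYN : Yi ≤ Subgroup.normalizer (V : Set G))
    (hcen : J ⊓ Subgroup.centralizer (Yi : Set G) ≤ Yi) (hcw : Yi ⊓ Subgroup.centralizer (V : Set G) ≤ V)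
    (hsyl : ∀ P : Subgroup G, IsPGroup p P → P ≤ Subgroup.normalizer (V : Set G) →
      ∃ g ∈ Subgroup.normalizer (V : Set G), ∀ x ∈ P, g * x * g⁻¹ ∈ P₁)
    (hP₁J : P₁ ⊓ J ≤ Yi) : J ⊓ Subgroup.centralizer (V : Set G) ≤ V := by
  have hJn : J.Normal := inferInstance
  have hYn : Yi.Normal := inferInstance
  have hVp : IsPGroup p V := hYi.to_le hVY
  obtain ⟨a, ha⟩ := hVp.exists_card_eq
  -- every element of `L₀` is a `p`-element
  have hpel : ∀ l ∈ J ⊓ Subgroup.centralizer (V : Set G), ∃ k : ℕ, l ^ p ^ k = 1 := by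
    rintro l ⟨hlJ, hlC⟩
    have hpow : l ^ p ^ a ∈ Subgroup.centralizer (Yi : Set G) := by
      rw [Subgroup.mem_centralizer_iff]
      intro y hy
      have hz : l * y * l⁻¹ * y⁻¹ ∈ V := by
        apply hcw
        refine ⟨Yi.mul_mem (hYn.conj_mem y hy l) (Yi.inv_mem hy), ?_⟩
        have e : l * y * l⁻¹ * y⁻¹ = l * (y * l⁻¹ * y⁻¹) := by group
        rw [e]
        exact Subgroup.mul_mem _ hlC
          (meet_cmgrp_conj_centralizer V y (hYN hy) l⁻¹ (Subgroup.inv_mem _ hlC))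
      have h1 : l * y * l⁻¹ = (l * y * l⁻¹ * y⁻¹) * y := by group
      have h2 : l * (l * y * l⁻¹ * y⁻¹) = (l * y * l⁻¹ * y⁻¹) * l :=
        ((Subgroup.mem_centralizer_iff.mp hlC) _ hz).symm
      have h3 := meet_pc_conj_pow l y (l * y * l⁻¹ * y⁻¹) h1 h2 (p ^ a)
      have h4 : (l * y * l⁻¹ * y⁻¹) ^ p ^ a = 1 := by
        have h5 : (⟨l * y * l⁻¹ * y⁻¹, hz⟩ : V) ^ Nat.card V = 1 := pow_card_eq_one'
        rw [ha] at h5
        exact congrArg Subtype.val h5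
      rw [h4, one_mul] at h3
      calc y * l ^ p ^ a = (l ^ p ^ a * y * (l ^ p ^ a)⁻¹) * l ^ p ^ a := by rw [h3]
        _ = l ^ p ^ a * y := by group
    have hY : l ^ p ^ a ∈ Yi := hcen ⟨J.pow_mem hlJ _, hpow⟩
    obtain ⟨b, hb⟩ := hYi ⟨l ^ p ^ a, hY⟩
    have hb' : (l ^ p ^ a) ^ p ^ b = 1 := congrArg Subtype.val hb
    refine ⟨a + b, ?_⟩
    rw [pow_add, pow_mul]
    exact hb'
  have hL0p : IsPGroup p ↥(J ⊓ Subgroup.centralizer (V : Set G)) := by
    intro g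
    obtain ⟨k, hk⟩ := hpel g.1 g.2
    exact ⟨k, Subtype.ext hk⟩
  have hL0N : J ⊓ Subgroup.centralizer (V : Set G) ≤ Subgroup.normalizer (V : Set G) :=
    inf_le_right.trans (Subgroup.centralizer_le_normalizer _)
  obtain ⟨g, hgN, hg⟩ := hsyl _ hL0p hL0N
  rintro x ⟨hxJ, hxC⟩
  have hx' : g⁻¹ * x * g ∈ J ⊓ Subgroup.centralizer (V : Set G) := by
    refine ⟨?_, ?_⟩
    · have := hJn.conj_mem x hxJ g⁻¹
      simpa using this
    · have := meet_cmgrp_conj_centralizer V g⁻¹ (Subgroup.inv_mem _ hgN) x hxC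
      simpa using this
  have h1 := hg _ hx'
  have e : g * (g⁻¹ * x * g) * g⁻¹ = x := by group
  rw [e] at h1
  exact hcw ⟨hP₁J ⟨h1, hxJ⟩, hxC⟩

/-- (GG) a subgroup `Z` normalized by `N_G(V)` containing the `p'`-elements of `J ∩ N_G(V)` and `P₁ ∩ J` contains
`J ∩ N_G(V)`. -/
theorem meet_grp_gen {G : Type*} [Group G] [Finite G] (p : ℕ) [Fact p.Prime] (J V P₁ Z : Subgroup G) [J.Normal]
    (hsyl : ∀ P : Subgroup G, IsPGroup p P → P ≤ Subgroup.normalizer (V : Set G) →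
      ∃ g ∈ Subgroup.normalizer (V : Set G), ∀ x ∈ P, g * x * g⁻¹ ∈ P₁)
    (hZn : ∀ g ∈ Subgroup.normalizer (V : Set G), ∀ z ∈ Z, g⁻¹ * z * g ∈ Z)
    (hpp : ∀ x ∈ J ⊓ Subgroup.normalizer (V : Set G), (∃ m : ℕ, m.Coprime p ∧ x ^ m = 1) → x ∈ Z)
    (hP₁ : P₁ ⊓ J ≤ Z) : J ⊓ Subgroup.normalizer (V : Set G) ≤ Z := by
  have hJn : J.Normal := inferInstance
  intro x hx
  obtain ⟨k, l, e, hk, hl, hkl⟩ := cse_locA_exists_parts p x
  have h1 : x ^ k ∈ Z :=
    hpp _ (Subgroup.pow_mem _ hx k) ⟨orderOf (x ^ k), hk, pow_orderOf_eq_one _⟩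
  have hy : x ^ l ∈ J ⊓ Subgroup.normalizer (V : Set G) := Subgroup.pow_mem _ hx l
  have hPp : IsPGroup p ↥(Subgroup.zpowers (x ^ l)) := by
    rintro ⟨z, hz⟩
    obtain ⟨n, rfl⟩ := Subgroup.mem_zpowers_iff.mp hz
    refine ⟨e, Subtype.ext ?_⟩
    show ((x ^ l) ^ n) ^ p ^ e = 1
    rw [← zpow_natCast, ← zpow_mul, mul_comm, zpow_mul, zpow_natCast, hl, one_zpow]
  have hPN : Subgroup.zpowers (x ^ l) ≤ Subgroup.normalizer (V : Set G) := by
    rw [Subgroup.zpowers_le]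
    exact hy.2
  obtain ⟨g, hgN, hg⟩ := hsyl _ hPp hPN
  have h2 : g * x ^ l * g⁻¹ ∈ Z :=
    hP₁ ⟨hg _ (Subgroup.mem_zpowers _), hJn.conj_mem _ hy.1 g⟩
  have h3 := hZn g hgN _ h2
  have e3 : g⁻¹ * (g * x ^ l * g⁻¹) * g = x ^ l := by group
  rw [e3] at h3
  rw [← hkl]
  exact Z.mul_mem h1 h3

end Cfsg.Agent.MEET
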