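import Mathlib
import Cfsg.Agent.MEET.LocDefs
import Cfsg.Agent.Lead.FusionSat3
import Cfsg.Agent.Lead.FusionExt
import Cfsg.Agent.Lead.FusionStrongInvB

set_option autoImplicit false

/-!
# MEET project, local lemmas, part L: (L1) `G(U) → Aut_F(U)` is onto

`U` is fully normalized in the saturated system `F`, hence receptive: an automorphism `β` of `U` in `F` extends to a map
of `F` on its extender, which contains `Q_U = U C_S(U)`; the restriction to `Q_U` is an automorphism of `Q_U` in `F`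
normalizing `U`, hence induced by an element of the local group `G(U)` (field `realQ` of `MeetLocGrp`).
-/

namespace Cfsg.Agent.MEET

open Cfsg Cfsg.FusionSystem Cfsg.Agent.Lead

universe u

variable {Ω : Type u} [Group Ω] {S : Subgroup Ω} {p : ℕ} {F : FusionSystem S}

/-- Every automorphism of the receptive subgroup `U` in `F` is the restriction of an automorphism of `Q_U = U C_S(U)`
in `F`. -/
theorem meet_loc_aut_ext [Finite S] {U : Subgroup Ω} (hrec : F.IsReceptive U) (β : MulAut U)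
    (hβ : β ∈ F.autGroup U) :
    ∃ b ∈ F.autGroup (meetQ S U), ∀ (x : ↥(meetQ S U)) (hx : (x : Ω) ∈ U),
      ((b x : ↥(meetQ S U)) : Ω) = ((β ⟨x, hx⟩ : U) : Ω) := by
  have hUS : U ≤ S := hrec.1
  have hφ : U.subtype.comp β.toMonoidHom ∈ F.Hom U := (Fusion.mem_autGroup_iff F hUS β).mp hβ
  have hr : (U.subtype.comp β.toMonoidHom).range = U := StrongInv.range_aut U β
  obtain ⟨ψ, hψ, hψe⟩ := hrec.2 U _ hφ hr
  have hUe : U ≤ extender S U (U.subtype.comp β.toMonoidHom) :=
    Fusion.le_extender U hUS _ (fun x => hUS (β x).2)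
  have hCe : centralizerIn S U ≤ extender S U (U.subtype.comp β.toMonoidHom) :=
    Fusion.centralizerIn_le_extender U _
  have hQe : meetQ S U ≤ extender S U (U.subtype.comp β.toMonoidHom) := sup_le hUe hCe
  have hψQ : ψ.comp (Subgroup.inclusion hQe) ∈ F.Hom (meetQ S U) := Fusion.restrict_mem F hψ hQe
  have hQS : meetQ S U ≤ S := Fusion.src_le F hψQ
  -- `ψ` is `β` on `U`
  have hψU : ∀ (x : Ω) (hx : x ∈ U), ψ ⟨x, hUe hx⟩ = ((β ⟨x, hx⟩ : U) : Ω) := fun x hx => hψe x hx (hUe hx)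
  -- `ψ` maps `C_S(U)` into `C_S(U)`
  have hψC : ∀ (x : Ω) (hx : x ∈ centralizerIn S U), ψ ⟨x, hCe hx⟩ ∈ centralizerIn S U := by
    intro x hx
    refine Subgroup.mem_inf.mpr ⟨Fusion.map_mem F hψ _, ?_⟩
    rw [Subgroup.mem_centralizer_iff]
    intro u hu
    -- `u = β v = ψ v`
    obtain ⟨v, hv⟩ := β.surjective ⟨u, hu⟩
    have hu' : u = ψ ⟨v, hUe v.2⟩ := by
      rw [hψU v v.2]
      have : (⟨(v : Ω), v.2⟩ : U) = v := rfl
      rw [this, hv]
    have hcomm : (v : Ω) * x = x * v := (Subgroup.mem_centralizer_iff.mp (Subgroup.mem_inf.mp hx).2) v v.2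
    rw [hu', ← map_mul, ← map_mul]
    congr 1
    exact Subtype.ext hcomm
  -- the restriction to `Q_U` has values in `Q_U`
  have hmem : ∀ x : ↥(meetQ S U), (ψ.comp (Subgroup.inclusion hQe)) x ∈ meetQ S U := by
    apply Fusion.sup_map_mem
    · intro x
      show ψ ⟨x, hUe x.2⟩ ∈ meetQ S U
      rw [hψU x x.2]
      exact meet_le_Q S U (β _).2
    · intro x
      show ψ ⟨x, hCe x.2⟩ ∈ meetQ S U
      exact (le_sup_right : centralizerIn S U ≤ meetQ S U) (hψC x x.2)
  have hinj : Function.Injective (ψ.comp (Subgroup.inclusion hQe)) := F.injective_of_mem hψQ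
  have : Finite ↥(meetQ S U) :=
    Finite.of_injective (Subgroup.inclusion hQS) (Subgroup.inclusion_injective hQS)
  have hrange : (ψ.comp (Subgroup.inclusion hQe)).range = meetQ S U := by
    apply Subgroup.eq_of_le_of_card_ge
    · rintro _ ⟨x, rfl⟩
      exact hmem x
    · exact (Nat.card_congr (MonoidHom.ofInjective hinj).toEquiv).le
  obtain ⟨b, hb, hbx⟩ := Fusion.exists_aut_of_range_eq F hψQ hrange
  refine ⟨b, hb, fun x hx => ?_⟩
  rw [hbx x]
  exact hψU x hx

/-- (L1) `G(U) → Aut_F(U)` is onto. -/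
theorem meet_loc_onto [Finite S] [Fact p.Prime] (hS : IsPGroup p S) (hF : F.IsSaturated p) {W U : Subgroup Ω}
    (hU : U ∈ meetUf F W) {G : Type u} [Group G] {ι : ↥(normalizerIn S U) →* G} (hG : MeetLocGrp p F W U ι)
    (hUN : U ≤ normalizerIn S U) (β : MulAut U) (hβ : β ∈ F.autGroup U) : ∃ g : G, MeetIndU ι hUN g β := by
  have hrec : F.IsReceptive U := ((Fusion.isSaturated_iff' p hS F).mp hF).2 U hU.2
  obtain ⟨b, hb, hbx⟩ := meet_loc_aut_ext hrec β hβ
  have hbU : ∀ x : ↥(meetQ S U), (x : Ω) ∈ U → ((b x : ↥(meetQ S U)) : Ω) ∈ U := by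
    intro x hx
    rw [hbx x hx]
    exact (β _).2
  obtain ⟨g, hg⟩ := hG.realQ b hb hbU
  refine ⟨g, fun x => ?_⟩
  have h := hg ⟨x, meet_le_Q S U x.2⟩
  rw [← h]
  congr 1
  apply Subtype.ext
  exact (hbx ⟨x, meet_le_Q S U x.2⟩ x.2).symm

end Cfsg.Agent.MEET
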