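import Mathlib
import Cfsg.Prelude.Def_FusionComponents
import Cfsg.Agent.Lead.FusionSat3
import Cfsg.Agent.Lead.FusionStab
import Cfsg.Agent.Lead.FusionConj
import Cfsg.Agent.Lead.FusionExtT
import Cfsg.Agent.CSE.LocalB

set_option autoImplicit false

/-!
# MEET project, local lemmas, part A (model-free core of (ND))

`N` a saturated system over `R` (in use `N = N_F(U)` over `R = N_S(U)`), `U` strongly closed in `N`, `C ≤ R`
centralizing `U` (in use `C = C_S(U)`), and `X ≥ U` a subgroup with `[X, C] ≤ Z(U)` (in use `X ≤ N_W(U)` for a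
strongly closed `W` with `C_W(U) ≤ U`).  Then every map of `N` with source `X` extends to a map of `N` on
`X ⊔ C` (`meet_loc_ext`).  Proof: for an isomorphism `θ` onto a fully automized receptive conjugate `X*` the
automorphisms `θ c_c θ⁻¹` (`c ∈ C`) stabilize the chain `1 ≤ Z(U) ≤ X*`, so they lie in a normal `p`-subgroup of
`Aut_N(X*)`, hence in `Aut_R(X*)`; so `C ≤ N_θ` and receptivity extends `θ`.  A general map is `σ⁻¹ ∘ (σ θ)`.
-/

namespace Cfsg.Agent.MEET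

open Cfsg Cfsg.FusionSystem Cfsg.Agent.Lead Cfsg.Agent.CSE

variable {Ω : Type*} [Group Ω]

/-- `cse_locB_stab_inner` for a fully automized (not necessarily normal) subgroup. -/
theorem meet_loc_stab_inner {R : Subgroup Ω} [Finite R] (p : ℕ) [Fact p.Prime] (hR : IsPGroup p R)
    (N : FusionSystem R) {W V : Subgroup Ω} (hfa : N.IsFullyAutomized p W)
    (hVinv : ∀ α ∈ N.autGroup W, ∀ x : W, (x : Ω) ∈ V → ((α x : W) : Ω) ∈ V)
    (ν : MulAut W) (hν : ν ∈ N.autGroup W) (hνV : ∀ x : W, (x : Ω) ∈ V → ν x = x)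
    (hνW : ∀ x : W, (x : Ω)⁻¹ * ((ν x : W) : Ω) ∈ V) :
    ∃ s ∈ R, ∀ x : W, ((ν x : W) : Ω) = s * x * s⁻¹ := by
  have hWR : W ≤ R := hfa.1
  have : Finite W := Fusion.finite_of_le hWR
  have hWp : IsPGroup p W := hR.to_le hWR
  have hinv : ∀ i, ∀ α ∈ N.autGroup W, ∀ x : W, (x : Ω) ∈ cseLocBChain V i →
      ((α x : W) : Ω) ∈ cseLocBChain V i := by
    intro i α hα x hx
    match i, hx with
    | 0, hx =>
      have h1 : (x : Ω) = 1 := Subgroup.mem_bot.mp hx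
      have h2 : x = 1 := Subtype.ext h1
      rw [h2, map_one]
      exact Subgroup.one_mem _
    | 1, hx => exact hVinv α hα x hx
    | (k + 2), _ => exact Subgroup.mem_top _
  set B := Fusion.stabSubgroup N W (cseLocBChain V) hinv with hB
  have hνB : ν ∈ B := by
    rw [hB, Fusion.mem_stabSubgroup]
    refine ⟨hν, fun i x hx => ?_⟩
    match i, hx with
    | 0, hx =>
      have h1 : ν x = x := hνV x hx
      rw [h1, inv_mul_cancel]
      exact Subgroup.one_mem _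
    | 1, _ => exact hνW x
    | (k + 2), _ => exact Subgroup.mem_top _
  have hBA : B ≤ N.autGroup W := fun β hβ => hβ.1
  have hBp : IsPGroup p B := by
    intro g
    have hg : g.1 ∈ Fusion.stabSet N W (cseLocBChain V) := g.2
    obtain ⟨k, hk⟩ := Fusion.stabSet_pow_eq_one N W (cseLocBChain V) hinv p hWp 2
      (fun x => Subgroup.mem_top _)
      (fun β _ => ⟨0, fun x hx => by
        have h1 : (x : Ω) = 1 := Subgroup.mem_bot.mp hx
        have h2 : x = 1 := Subtype.ext h1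
        rw [h2, map_one]⟩) hg
    exact ⟨k, Subtype.ext hk⟩
  have hBn : ∀ α ∈ N.autGroup W, ∀ β ∈ B, α * β * α⁻¹ ∈ B := fun α hα β hβ =>
    Fusion.stabSet_conj N W (cseLocBChain V) hinv hα hβ
  have hle := cse_locB_le_autInducedBy p N hfa B hBA hBp hBn
  exact (mem_autInducedBy_iff R W ν).mp (hle hνB)

/-- `C ≤ N_θ` for an isomorphism `θ` of `N` from `X ≥ U` onto a fully automized subgroup, when `C` centralizes `U` and
`[X, C] ≤ Z(U)`. -/
theorem meet_loc_le_extender {R : Subgroup Ω} [Finite R] (p : ℕ) [Fact p.Prime] (hR : IsPGroup p R)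
    (N : FusionSystem R) {U X Xs C : Subgroup Ω} (hfa : N.IsFullyAutomized p Xs)
    (hUsc : N.StronglyClosed U) (hUX : U ≤ X) (hCR : C ≤ R)
    (hCU : ∀ c ∈ C, ∀ u ∈ U, c * u = u * c)
    (hcomm : ∀ x ∈ X, ∀ c ∈ C, x⁻¹ * (c * x * c⁻¹) ∈ U ⊓ Subgroup.centralizer (U : Set Ω))
    (θ : X →* Ω) (hθ : θ ∈ N.Hom X) (hr : θ.range = Xs) : C ≤ extender R X θ := by
  have hXR : X ≤ R := Fusion.src_le N hθ
  have : Finite X := Fusion.finite_of_le hXR
  have hXsR : Xs ≤ R := hfa.1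
  have : Finite Xs := Fusion.finite_of_le hXsR
  have hinj := N.injective_of_mem hθ
  set e := Fusion.equivOfRange θ hinj hr with he
  set Z : Subgroup Ω := U ⊓ Subgroup.centralizer (U : Set Ω) with hZ
  have hpre : ∀ u ∈ U, ∃ (u' : Ω) (hu' : u' ∈ U), θ ⟨u', hUX hu'⟩ = u :=
    fun u hu => Fusion.exists_preimage_of_stronglyClosed N hUsc hUX hθ u hu
  have hθU : ∀ x : X, (x : Ω) ∈ U → θ x ∈ U := fun x hx =>
    Fusion.map_mem_of_stronglyClosed N hUsc hθ x hx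
  have hθZ : ∀ x : X, (x : Ω) ∈ Z → θ x ∈ Z := by
    intro x hx
    obtain ⟨hx1, hx2⟩ := Subgroup.mem_inf.mp hx
    refine Subgroup.mem_inf.mpr ⟨hθU x hx1, ?_⟩
    rw [Subgroup.mem_centralizer_iff]
    intro u hu
    obtain ⟨u', hu', rfl⟩ := hpre u hu
    rw [← map_mul, ← map_mul]
    congr 1
    apply Subtype.ext
    exact (Subgroup.mem_centralizer_iff.mp hx2) u' hu'
  have hUXs : U ≤ Xs := by
    intro u hu
    obtain ⟨u', hu', h⟩ := hpre u hu
    rw [← hr]; exact ⟨_, h⟩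
  have hZinv : ∀ α ∈ N.autGroup Xs, ∀ x : Xs, (x : Ω) ∈ Z → ((α x : Xs) : Ω) ∈ Z := by
    intro α hα x hx
    have hα' : α⁻¹ ∈ N.autGroup Xs := Subgroup.inv_mem _ hα
    obtain ⟨hx1, hx2⟩ := Subgroup.mem_inf.mp hx
    refine Subgroup.mem_inf.mpr ⟨Fusion.aut_mem_of_stronglyClosed N hXsR hUsc α hα x hx1, ?_⟩
    rw [Subgroup.mem_centralizer_iff]
    intro u hu
    set u0 : Xs := ⟨u, hUXs hu⟩ with hu0
    have hu1 : ((α⁻¹ u0 : Xs) : Ω) ∈ U :=
      Fusion.aut_mem_of_stronglyClosed N hXsR hUsc α⁻¹ hα' u0 hu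
    have h1 : ((α⁻¹ u0 : Xs) : Ω) * (x : Ω) = (x : Ω) * ((α⁻¹ u0 : Xs) : Ω) :=
      (Subgroup.mem_centralizer_iff.mp hx2) _ hu1
    have h2 : (α⁻¹ u0) * x = x * (α⁻¹ u0) := Subtype.ext h1
    have h3 := congrArg α h2
    rw [map_mul, map_mul, MulAut.apply_inv_self] at h3
    exact congrArg Subtype.val h3
  intro c hc
  have hcR : c ∈ R := hCR hc
  have hcN : c ∈ Subgroup.normalizer (X : Set Ω) := by
    apply mem_normalizer_of_conj_mem_of_finite
    intro x hx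
    have h1 := (Subgroup.mem_inf.mp (hcomm x hx c hc)).1
    have e1 : c * x * c⁻¹ = x * (x⁻¹ * (c * x * c⁻¹)) := by group
    rw [e1]
    exact X.mul_mem hx (hUX h1)
  set γ : MulAut X := conjAutHom X ⟨c, hcN⟩ with hγ
  have hγA : γ ∈ N.autGroup X :=
    Fusion.autInducedBy_le_autGroup N hXR (Fusion.conjAutHom_mem_autInducedBy X ⟨c, hcN⟩ hcR)
  set κ : MulAut Xs := MulAut.congr e γ with hκ
  have hκA : κ ∈ N.autGroup Xs := Fusion.congr_mem_autGroup N hθ hr γ hγA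
  have hκval : ∀ y : Xs, ((κ y : Xs) : Ω) = θ (γ (e.symm y)) := fun y => rfl
  have hθe : ∀ y : Xs, θ (e.symm y) = (y : Ω) := fun y => Fusion.map_equivOfRange_symm θ hinj hr y
  -- `κ` fixes `Z` pointwise
  have hκZ : ∀ y : Xs, (y : Ω) ∈ Z → κ y = y := by
    intro y hy
    apply Subtype.ext
    rw [hκval]
    obtain ⟨u', hu', h⟩ := hpre (y : Ω) (Subgroup.mem_inf.mp hy).1
    have hes : e.symm y = ⟨u', hUX hu'⟩ := by
      apply hinj
      rw [hθe, h]
    have hγu : γ (e.symm y) = e.symm y := by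
      apply Subtype.ext
      rw [hes]
      show c * u' * c⁻¹ = u'
      rw [hCU c hc u' hu']
      group
    rw [hγu, hθe]
  -- `κ` moves every element inside its coset of `Z`
  have hκX : ∀ y : Xs, (y : Ω)⁻¹ * ((κ y : Xs) : Ω) ∈ Z := by
    intro y
    rw [hκval]
    set x := e.symm y with hx
    have hz := hcomm (x : Ω) x.2 c hc
    set z : X := ⟨(x : Ω)⁻¹ * (c * (x : Ω) * c⁻¹), hUX (Subgroup.mem_inf.mp hz).1⟩ with hzdef
    have hγx : γ x = x * z := by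
      apply Subtype.ext
      show c * (x : Ω) * c⁻¹ = (x : Ω) * ((x : Ω)⁻¹ * (c * (x : Ω) * c⁻¹))
      group
    rw [hγx, map_mul, hθe, ← mul_assoc, inv_mul_cancel, one_mul]
    exact hθZ z hz
  obtain ⟨s, hsR, hs⟩ := meet_loc_stab_inner p hR N hfa hZinv κ hκA hκZ hκX
  apply Subgroup.subset_closure
  refine ⟨hcR, hcN, s, hsR, fun x hx => ?_⟩
  have h1 := hs (e x)
  rw [hκval, MulEquiv.symm_apply_apply] at h1
  have h2 : ((e x : Xs) : Ω) = θ x := rfl
  rw [h2] at h1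
  rw [← h1]
  rfl

/-- An isomorphism of `N` from `X ≥ U` onto a fully automized receptive subgroup extends to `X ⊔ C`. -/
theorem meet_loc_ext_iso {R : Subgroup Ω} [Finite R] (p : ℕ) [Fact p.Prime] (hR : IsPGroup p R)
    (N : FusionSystem R) {U X Xs C : Subgroup Ω} (hfa : N.IsFullyAutomized p Xs) (hrec : N.IsReceptive Xs)
    (hUsc : N.StronglyClosed U) (hUX : U ≤ X) (hCR : C ≤ R)
    (hCU : ∀ c ∈ C, ∀ u ∈ U, c * u = u * c)
    (hcomm : ∀ x ∈ X, ∀ c ∈ C, x⁻¹ * (c * x * c⁻¹) ∈ U ⊓ Subgroup.centralizer (U : Set Ω))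
    (θ : X →* Ω) (hθ : θ ∈ N.Hom X) (hr : θ.range = Xs) :
    ∃ θh ∈ N.Hom (X ⊔ C), ∀ x : X, θh (Subgroup.inclusion le_sup_left x) = θ x := by
  have hXR : X ≤ R := Fusion.src_le N hθ
  have hC := meet_loc_le_extender p hR N hfa hUsc hUX hCR hCU hcomm θ hθ hr
  have hX : X ≤ extender R X θ := Fusion.le_extender X hXR θ (fun x => Fusion.map_mem N hθ x)
  obtain ⟨ψ, hψ, hext⟩ := hrec.2 X θ hθ hr
  have hle : X ⊔ C ≤ extender R X θ := sup_le hX hC
  refine ⟨ψ.comp (Subgroup.inclusion hle), Fusion.restrict_mem N hψ hle, fun x => ?_⟩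
  exact hext x.1 x.2 _

/-- Every map of the saturated system `N` between overgroups of `U` inside the strongly closed `Y` extends to
`X ⊔ C`, for `C` strongly closed, centralizing `U`, with `[Y, C] ≤ Z(U)`. -/
theorem meet_loc_ext {R : Subgroup Ω} [Finite R] (p : ℕ) [Fact p.Prime] (hR : IsPGroup p R)
    (N : FusionSystem R) (hN : N.IsSaturated p) {U Y C : Subgroup Ω}
    (hUsc : N.StronglyClosed U) (hYsc : N.StronglyClosed Y) (hCsc : N.StronglyClosed C)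
    (hCU : ∀ c ∈ C, ∀ u ∈ U, c * u = u * c)
    (hcomm : ∀ y ∈ Y, ∀ c ∈ C, y⁻¹ * (c * y * c⁻¹) ∈ U ⊓ Subgroup.centralizer (U : Set Ω))
    {X : Subgroup Ω} (hUX : U ≤ X) (hXY : X ≤ Y) (θ : X →* Ω) (hθ : θ ∈ N.Hom X) :
    ∃ θh ∈ N.Hom (X ⊔ C), ∀ x : X, θh (Subgroup.inclusion le_sup_left x) = θ x := by
  have hCR : C ≤ R := hCsc.1
  have hXR : X ≤ R := Fusion.src_le N hθ
  set X' : Subgroup Ω := θ.range with hX'
  have hX'Y : X' ≤ Y := by
    rintro _ ⟨x, rfl⟩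
    exact hYsc.2 X hXY θ hθ x
  have hX'R : X' ≤ R := hX'Y.trans hYsc.1
  have hUX' : U ≤ X' := by
    intro u hu
    obtain ⟨u', hu', h⟩ := Fusion.exists_preimage_of_stronglyClosed N hUsc hUX hθ u hu
    exact ⟨_, h⟩
  obtain ⟨Xs, ⟨σ, hσ, hσr⟩, hfa, hrec⟩ := hN X' hX'R
  -- `σ` extends
  obtain ⟨σh, hσh, hσext⟩ := meet_loc_ext_iso p hR N hfa hrec hUsc hUX' hCR hCU
    (fun x hx c hc => hcomm x (hX'Y hx) c hc) σ hσ hσr
  -- `τ = σ ∘ θ` extends
  have hθX' : ∀ x : X, θ x ∈ X' := fun x => ⟨x, rfl⟩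
  set τ : X →* Ω := σ.comp (θ.codRestrict X' hθX') with hτ
  have hτN : τ ∈ N.Hom X := N.comp_mem hθ hσ hθX'
  have hτr : τ.range = Xs := by
    rw [← hσr]
    apply le_antisymm
    · rintro _ ⟨x, rfl⟩
      exact ⟨_, rfl⟩
    · rintro _ ⟨⟨_, x, rfl⟩, rfl⟩
      exact ⟨x, rfl⟩
  obtain ⟨τh, hτh, hτext⟩ := meet_loc_ext_iso p hR N hfa hrec hUsc hUX hCR hCU
    (fun x hx c hc => hcomm x (hXY hx) c hc) τ hτN hτr
  -- the inverse of `σh`
  obtain ⟨ψ, hψ, hψinv⟩ := N.inv_mem hσh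
  have hCle : C ≤ X' ⊔ C := le_sup_right
  have hval : ∀ x : ↥(X ⊔ C), τh x ∈ σh.range := by
    apply Fusion.sup_map_mem
    · intro x
      rw [hτext x]
      refine ⟨Subgroup.inclusion le_sup_left (⟨θ x, hθX' x⟩ : X'), ?_⟩
      rw [hσext]
      rfl
    · intro c
      have h1 : τh (Subgroup.inclusion le_sup_right c) ∈ C :=
        Fusion.map_mem_of_stronglyClosed N hCsc hτh _ c.2
      obtain ⟨c', hc', h⟩ := Fusion.exists_preimage_of_stronglyClosed N hCsc hCle hσh _ h1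
      exact ⟨_, h⟩
  refine ⟨ψ.comp (τh.codRestrict σh.range hval), N.comp_mem hτh hψ hval, fun x => ?_⟩
  show ψ ⟨τh (Subgroup.inclusion le_sup_left x), hval _⟩ = θ x
  have h2 : (⟨τh (Subgroup.inclusion le_sup_left x), hval _⟩ : σh.range) =
      ⟨σh (Subgroup.inclusion le_sup_left (⟨θ x, hθX' x⟩ : X')), ⟨_, rfl⟩⟩ := by
    apply Subtype.ext
    show τh (Subgroup.inclusion le_sup_left x) = σh (Subgroup.inclusion le_sup_left (⟨θ x, hθX' x⟩ : X'))
    rw [hτext x, hσext]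
    rfl
  rw [h2, hψinv]
  rfl

end Cfsg.Agent.MEET
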