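import Mathlib
import Cfsg.Agent.MEET.LocA
import Cfsg.Agent.MEET.LocDefs
import Cfsg.Agent.MEET.NormB
import Cfsg.Agent.Lead.KLa
import Cfsg.Agent.Lead.FusionKNorm6
import Cfsg.Agent.Lead.FusionNormalCrit
import Cfsg.Agent.Lead.FusionNormModel

set_option autoImplicit false

/-!
# MEET project, local lemmas, part N: the model-free form of (ND)

`F` saturated over `S`, `W` strongly closed, `U ≤ W` fully normalized with `C_W(U) ≤ U`, `FU = N_F(U)`.
Every map `φ` of `F` between overgroups of `U` in `N_W(U)` with `φ(U) ≤ U` extends to a map of `FU` on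
`X ⊔ C_S(U)` (`meet_loc_nd0`), hence is a map of the normalizer system of `Q_U = U C_S(U)` in `FU`
(`meet_loc_nd_mem`).
-/

namespace Cfsg.Agent.MEET

open Cfsg Cfsg.FusionSystem Cfsg.Agent.Lead

universe u

variable {Ω : Type u} [Group Ω] {S : Subgroup Ω}

/-- `C_S(U)` is strongly closed in `N_F(U)`. -/
theorem meet_loc_cent_sc {F : FusionSystem S} {U : Subgroup Ω}
    (FU : FusionSystem (normalizerIn S U)) (hFU : F.IsNormalizerSystem U FU) :
    FU.StronglyClosed (centralizerIn S U) := by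
  refine ⟨Fusion.centralizerIn_le_normalizerIn U, fun P hP φ hφ x => ?_⟩
  rw [hFU P] at hφ
  obtain ⟨hφF, hPN, hφN, ψ, hψ, hψext, hψU⟩ := hφ
  refine Subgroup.mem_inf.mpr ⟨Fusion.map_mem F hφF x, ?_⟩
  rw [Subgroup.mem_centralizer_iff]
  intro u hu
  rw [SetLike.mem_coe, ← hψU] at hu
  obtain ⟨u', hu', rfl⟩ := hu
  rw [SetLike.mem_coe, Subgroup.mem_subgroupOf] at hu'
  rw [← hψext x, ← map_mul, ← map_mul]
  congr 1
  apply Subtype.ext
  have hxc := (Subgroup.mem_inf.mp (hP x.2)).2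
  exact (Subgroup.mem_centralizer_iff.mp hxc) (u' : Ω) hu'

/-- `[N_W(U), C_S(U)] ≤ Z(U)` when `W` is normalized by `S` and `C_W(U) ≤ U`. -/
theorem meet_loc_comm {W U : Subgroup Ω} (hWn : S ≤ Subgroup.normalizer (W : Set Ω))
    (hcen : centralizerIn W U ≤ U) (y : Ω) (hy : y ∈ normalizerIn W U) (c : Ω)
    (hc : c ∈ centralizerIn S U) :
    y⁻¹ * (c * y * c⁻¹) ∈ U ⊓ Subgroup.centralizer (U : Set Ω) := by
  obtain ⟨hyW, hyN⟩ := Subgroup.mem_inf.mp hy
  obtain ⟨hcS, hcC⟩ := Subgroup.mem_inf.mp hc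
  have hcC' := Subgroup.mem_centralizer_iff.mp hcC
  have h1 : c * y * c⁻¹ ∈ W := (Subgroup.mem_normalizer_iff.mp (hWn hcS) y).mp hyW
  have hgW : y⁻¹ * (c * y * c⁻¹) ∈ W := W.mul_mem (W.inv_mem hyW) h1
  have hgC : y⁻¹ * (c * y * c⁻¹) ∈ Subgroup.centralizer (U : Set Ω) := by
    rw [Subgroup.mem_centralizer_iff]
    intro u hu
    -- `y u y⁻¹ ∈ U`
    have hyu : y * u * y⁻¹ ∈ U := (Subgroup.mem_normalizer_iff.mp hyN u).mp hu
    have h2 : (y * u * y⁻¹) * c = c * (y * u * y⁻¹) := hcC' _ hyu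
    have h3 : u * c = c * u := hcC' u hu
    have h3' : c⁻¹ * u = u * c⁻¹ := by
      have : c⁻¹ * (u * c) * c⁻¹ = c⁻¹ * (c * u) * c⁻¹ := by rw [h3]
      simpa [mul_assoc] using this
    -- compute
    have e1 : u * (y⁻¹ * (c * y * c⁻¹)) = y⁻¹ * ((y * u * y⁻¹) * c) * y * c⁻¹ := by group
    have e2 : y⁻¹ * (c * y * c⁻¹) * u = y⁻¹ * c * y * (c⁻¹ * u) := by group
    rw [e1, e2, h2, h3']
    group
  exact Subgroup.mem_inf.mpr ⟨hcen (Subgroup.mem_inf.mpr ⟨hgW, hgC⟩), hgC⟩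

/-- (ND), model-free: a map of `F` between overgroups of `U` in `N_W(U)` carrying `U` into `U` extends to a map of
`N_F(U)` on `X ⊔ C_S(U)`. -/
theorem meet_loc_nd0 [Finite S] (p : ℕ) [Fact p.Prime] (hS : IsPGroup p S) (F : FusionSystem S)
    (hF : F.IsSaturated p) {W U : Subgroup Ω} (hW : F.StronglyClosed W) (hU : U ∈ meetUf F W)
    (FU : FusionSystem (normalizerIn S U)) (hFU : F.IsNormalizerSystem U FU)
    {X : Subgroup Ω} (hUX : U ≤ X) (hXY : X ≤ normalizerIn W U) (φ : X →* Ω) (hφ : φ ∈ F.Hom X)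
    (hφU : ∀ x : X, (x : Ω) ∈ U → φ x ∈ U) :
    φ ∈ FU.Hom X ∧ ∃ ψ ∈ FU.Hom (X ⊔ centralizerIn S U),
      ∀ x : X, ψ (Subgroup.inclusion le_sup_left x) = φ x := by
  obtain ⟨⟨hUW, hUcen⟩, hUfn⟩ := hU
  have hUS : U ≤ S := hUfn.1
  have hWS : W ≤ S := hW.1
  have hR : IsPGroup p ↥(normalizerIn S U) := hS.to_le inf_le_left
  have : Finite ↥(normalizerIn S U) := Fusion.finite_of_le inf_le_left
  have hFUsat := Fusion.normalizerSystem_isSaturated p hS F hF U hUfn FU hFU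
  have hUn : FU.IsNormal U := Fusion.normalizerSystem_isNormal F hUS FU hFU
  have hUsc : FU.StronglyClosed U := Fusion.stronglyClosed_of_isNormal FU hUn
  have hYsc : FU.StronglyClosed (normalizerIn W U) := meet_nrm_stronglyClosed hW FU hFU
  have hCsc : FU.StronglyClosed (centralizerIn S U) := meet_loc_cent_sc FU hFU
  have hWn : S ≤ Subgroup.normalizer (W : Set Ω) := Fusion.le_normalizer_of_stronglyClosed F hW
  have hcen : centralizerIn W U ≤ U := hUcen U (Fusion.isConj_refl F hUS)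
  have hXN : X ≤ normalizerIn S U := hXY.trans (inf_le_inf_right _ hWS)
  have : Finite X := Fusion.finite_of_le (hXN.trans inf_le_left)
  have hφU' : (U.subgroupOf X).map φ = U := by
    apply meet_nrm_map_eq φ (F.injective_of_mem hφ) _ hUX
    rintro _ ⟨x, hx, rfl⟩
    rw [SetLike.mem_coe, Subgroup.mem_subgroupOf] at hx
    exact hφU x hx
  have hφFU : φ ∈ FU.Hom X := by
    rw [hFU X]
    exact KL.mem_normalizerHom_of_le F hUX hXN φ hφ hφU'
  refine ⟨hφFU, ?_⟩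
  exact meet_loc_ext p hR FU hFUsat hUsc hYsc hCsc
    (fun c hc u hu => ((Subgroup.mem_centralizer_iff.mp (Subgroup.mem_inf.mp hc).2) u hu).symm)
    (fun y hy c hc => meet_loc_comm hWn hcen y hy c hc) hUX hXY φ hφFU

end Cfsg.Agent.MEET
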