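import Mathlib
import Cfsg.Prelude.Def_FusionSystem
import Cfsg.Agent.Lead.Fusion
import Cfsg.Agent.Lead.FusionNormalCrit
import Cfsg.Agent.Lead.FusionStab

/-!
# MEET / LocQsc: `T Q` is strongly closed when `Q` is normal in the system and `T` is strongly closed

A copy (fresh names) of two lemmas of `Cfsg.Agent.Lead.FusionSolvConstr`.  That module cannot be in the
import closure of project MEET: it declares a name that `Cfsg.Agent.Lead.FusionClosedProd` (which the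
closure of project LAYER reaches) declares too, so no file could import both projects.
-/

set_option autoImplicit false

namespace Cfsg.Agent.MEET

open Cfsg Cfsg.FusionSystem Cfsg.Agent.Lead

variable {Ω : Type*} [Group Ω] {S : Subgroup Ω}

/-- Elements of a product `T Q` with `Q` normalized by `T`. -/
theorem meet_locqsc_mem_sup_iff {T Q : Subgroup Ω}
    (h : T ≤ Subgroup.normalizer (Q : Set Ω)) (x : Ω) :
    x ∈ T ⊔ Q ↔ ∃ t ∈ T, ∃ q ∈ Q, x = t * q := by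
  have h1 := Subgroup.coe_mul_of_left_le_normalizer_right T Q h
  have h2 : x ∈ T ⊔ Q ↔ x ∈ ((T ⊔ Q : Subgroup Ω) : Set Ω) := Iff.rfl
  rw [h2, h1, Set.mem_mul]
  constructor
  · rintro ⟨t, ht, q, hq, rfl⟩
    exact ⟨t, ht, q, hq, rfl⟩
  · rintro ⟨t, ht, q, hq, rfl⟩
    exact ⟨t, ht, q, hq, rfl⟩

/-- If `Q` is normal in the system and `T` is strongly closed, then `T Q` is strongly closed. -/
theorem meet_locqsc_sup_stronglyClosed [Finite S] (F : FusionSystem S) {Q T : Subgroup Ω}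
    (hQ : F.IsNormal Q) (hT : F.StronglyClosed T) : F.StronglyClosed (T ⊔ Q) := by
  have hQsc := Fusion.stronglyClosed_of_isNormal F hQ
  have hSQ := Fusion.le_normalizer_of_stronglyClosed F hQsc
  have hTQ : T ≤ Subgroup.normalizer (Q : Set Ω) := hT.1.trans hSQ
  refine ⟨sup_le hT.1 hQ.1, ?_⟩
  intro P hP φ hφ x
  obtain ⟨ψ, hψ, hψP, hψQ⟩ := hQ.2 P φ hφ
  obtain ⟨t, ht, q, hq, hx⟩ := (meet_locqsc_mem_sup_iff hTQ _).mp (hP x.2)
  have hqPQ : q ∈ P ⊔ Q := (le_sup_right : Q ≤ P ⊔ Q) hq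
  have hxPQ : (x : Ω) ∈ P ⊔ Q := (le_sup_left : P ≤ P ⊔ Q) x.2
  have htPQ : t ∈ P ⊔ Q := by
    have : t = (x : Ω) * q⁻¹ := by rw [hx]; group
    rw [this]
    exact Subgroup.mul_mem _ hxPQ (Subgroup.inv_mem _ hqPQ)
  have h1 : φ x = ψ ⟨t, htPQ⟩ * ψ ⟨q, hqPQ⟩ := by
    rw [← hψP x, ← map_mul]
    congr 1
    exact Subtype.ext hx
  rw [h1]
  have hle : Subgroup.zpowers t ≤ P ⊔ Q := by rw [Subgroup.zpowers_le]; exact htPQ
  have hle' : Subgroup.zpowers t ≤ T := by rw [Subgroup.zpowers_le]; exact ht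
  have h2 : ψ ⟨t, htPQ⟩ ∈ T :=
    hT.2 _ hle' _ (Fusion.restrict_mem F hψ hle) ⟨t, Subgroup.mem_zpowers t⟩
  have h3 : ψ ⟨q, hqPQ⟩ ∈ Q :=
    hψQ.le ⟨⟨q, hqPQ⟩, Subgroup.mem_subgroupOf.mpr hq, rfl⟩
  exact Subgroup.mul_mem_sup h2 h3

end Cfsg.Agent.MEET
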