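import Mathlib
import Cfsg.Agent.MEET.LocN
import Cfsg.Agent.MEET.LocQsc
import Cfsg.Agent.Lead.FusionInner

set_option autoImplicit false

/-!
# MEET project, local lemmas, part Q: `Q_U = U C_S(U)` inside `N_F(U)`

`Q_U` is normal in `N_S(U)`, strongly closed, fully normalized and centric in `FU = N_F(U)`; the maps of (ND)
are maps of the normalizer system of `Q_U` in `FU` (`meet_loc_nd_mem`).
-/

namespace Cfsg.Agent.MEET

open Cfsg Cfsg.FusionSystem Cfsg.Agent.Lead Cfsg.Agent.CSE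

universe u

variable {Ω : Type u} [Group Ω] {S : Subgroup Ω}

theorem meet_loc_Q_le {U : Subgroup Ω} (hUS : U ≤ S) : meetQ S U ≤ normalizerIn S U :=
  sup_le (Fusion.le_normalizerIn hUS) (Fusion.centralizerIn_le_normalizerIn U)

/-- `N_S(U)` normalizes `Q_U`. -/
theorem meet_loc_Q_normal [Finite S] {U : Subgroup Ω} (hUS : U ≤ S) :
    normalizerIn S U ≤ Subgroup.normalizer ((meetQ S U : Subgroup Ω) : Set Ω) := by
  intro n hn
  obtain ⟨hnS, hnU⟩ := Subgroup.mem_inf.mp hn
  have hnC := cse_locB_normalizes_centralizerIn (S := S) hnS hnU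
  have hQS : meetQ S U ≤ S := sup_le hUS inf_le_left
  have : Finite ↥(meetQ S U) := Fusion.finite_of_le hQS
  apply mem_normalizer_of_conj_mem_of_finite
  intro q hq
  have h1 : (meetQ S U).map (MulAut.conj n).toMonoidHom ≤ meetQ S U := by
    rw [meetQ, Subgroup.map_sup]
    apply sup_le_sup
    · rintro _ ⟨u, hu, rfl⟩
      exact (Subgroup.mem_normalizer_iff.mp hnU u).mp hu
    · rintro _ ⟨c, hc, rfl⟩
      exact (Subgroup.mem_normalizer_iff.mp hnC c).mp hc
  exact h1 ⟨q, hq, rfl⟩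

theorem meet_loc_normalizer_eq [Finite S] {U : Subgroup Ω} (hUS : U ≤ S) :
    normalizerIn (normalizerIn S U) (meetQ S U) = normalizerIn S U :=
  inf_eq_left.mpr (meet_loc_Q_normal hUS)

/-- `Q_U` is strongly closed in `N_F(U)`. -/
theorem meet_loc_Q_sc [Finite S] {F : FusionSystem S} {U : Subgroup Ω} (hUS : U ≤ S)
    (FU : FusionSystem (normalizerIn S U)) (hFU : F.IsNormalizerSystem U FU) :
    FU.StronglyClosed (meetQ S U) := by
  have : Finite ↥(normalizerIn S U) := Fusion.finite_of_le inf_le_left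
  have hUn : FU.IsNormal U := Fusion.normalizerSystem_isNormal F hUS FU hFU
  have h := meet_locqsc_sup_stronglyClosed FU hUn (meet_loc_cent_sc FU hFU)
  rw [sup_comm] at h
  exact h

theorem meet_loc_Q_fn [Finite S] {U : Subgroup Ω} (hUS : U ≤ S)
    (FU : FusionSystem (normalizerIn S U)) : FU.IsFullyNormalized (meetQ S U) := by
  have : Finite ↥(normalizerIn S U) := Fusion.finite_of_le inf_le_left
  exact cse_locB_fullyNormalized FU (meet_loc_Q_le hUS) (meet_loc_Q_normal hUS)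

theorem meet_loc_Q_centric [Finite S] {F : FusionSystem S} {U : Subgroup Ω} (hUS : U ≤ S)
    (FU : FusionSystem (normalizerIn S U)) (hFU : F.IsNormalizerSystem U FU) :
    FU.IsCentric (meetQ S U) := by
  have : Finite ↥(normalizerIn S U) := Fusion.finite_of_le inf_le_left
  have hsc := meet_loc_Q_sc hUS FU hFU
  refine ⟨meet_loc_Q_le hUS, fun Q' hQ' => ?_⟩
  have hcard := Fusion.card_eq_of_isConj FU hQ'
  obtain ⟨φ, hφ, hr⟩ := hQ'
  have hle : Q' ≤ meetQ S U := by
    rw [← hr]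
    rintro _ ⟨x, rfl⟩
    exact hsc.2 _ le_rfl φ hφ x
  have : Finite ↥(meetQ S U) := Fusion.finite_of_le (meet_loc_Q_le hUS)
  have heq : Q' = meetQ S U := Subgroup.eq_of_le_of_card_ge hle hcard.le
  rw [heq]
  intro g hg
  obtain ⟨hgN, hgC⟩ := Subgroup.mem_inf.mp hg
  apply (le_sup_right : centralizerIn S U ≤ meetQ S U)
  refine Subgroup.mem_inf.mpr ⟨(Subgroup.mem_inf.mp hgN).1, ?_⟩
  rw [Subgroup.mem_centralizer_iff] at hgC ⊢
  intro u hu
  exact hgC u ((le_sup_left : U ≤ meetQ S U) hu)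

/-- (ND): the maps of `F` between overgroups of `U` in `N_W(U)` carrying `U` into `U` are maps of the normalizer
system `D` of `Q_U` in `N_F(U)`. -/
theorem meet_loc_nd_mem [Finite S] (p : ℕ) [Fact p.Prime] (hS : IsPGroup p S) (F : FusionSystem S)
    (hF : F.IsSaturated p) {W U : Subgroup Ω} (hW : F.StronglyClosed W) (hU : U ∈ meetUf F W)
    (FU : FusionSystem (normalizerIn S U)) (hFU : F.IsNormalizerSystem U FU)
    {X : Subgroup Ω} (hUX : U ≤ X) (hXY : X ≤ normalizerIn W U) (φ : X →* Ω) (hφ : φ ∈ F.Hom X)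
    (hφU : ∀ x : X, (x : Ω) ∈ U → φ x ∈ U) : φ ∈ FU.normalizerHom (meetQ S U) X := by
  have hUS : U ≤ S := hU.2.1
  have hWS : W ≤ S := hW.1
  have : Finite ↥(normalizerIn S U) := Fusion.finite_of_le inf_le_left
  obtain ⟨hφFU, ψ, hψ, hψext⟩ := meet_loc_nd0 p hS F hF hW hU FU hFU hUX hXY φ hφ hφU
  have hXN : X ≤ normalizerIn S U := hXY.trans (inf_le_inf_right _ hWS)
  have hNeq := meet_loc_normalizer_eq (S := S) hUS
  have hsc := meet_loc_Q_sc hUS FU hFU
  have hsup : X ⊔ centralizerIn S U = X ⊔ meetQ S U := by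
    apply le_antisymm
    · exact sup_le_sup_left le_sup_right X
    · exact sup_le le_sup_left (sup_le (hUX.trans le_sup_left) le_sup_right)
  obtain ⟨ψ', hψ', hψψ'⟩ := Fusion.exists_hom_of_eq FU hsup hψ
  refine ⟨hφFU, ?_, fun x => ?_, ψ', hψ', fun x => ?_, ?_⟩
  · rw [hNeq]; exact hXN
  · rw [hNeq]; exact Fusion.map_mem FU hφFU x
  · have hx1 : (x : Ω) ∈ X ⊔ centralizerIn S U := (le_sup_left : X ≤ _) x.2
    have := hψψ' (x : Ω) hx1 ((le_sup_left : X ≤ X ⊔ meetQ S U) x.2)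
    rw [← hψext x]
    exact this
  · have : Finite ↥(X ⊔ meetQ S U) := Fusion.finite_of_le (Fusion.src_le FU hψ')
    apply meet_nrm_map_eq ψ' (FU.injective_of_mem hψ') _ le_sup_right
    rintro _ ⟨x, hx, rfl⟩
    rw [SetLike.mem_coe, Subgroup.mem_subgroupOf] at hx
    exact Fusion.map_mem_of_stronglyClosed FU hsc hψ' x hx

end Cfsg.Agent.MEET
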