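import Mathlib
import Cfsg.Agent.MEET.LocQ
import Cfsg.Agent.Lead.LocModM
import Cfsg.Agent.Lead.LocModH
import Cfsg.Agent.Lead.FusionNormModel
import Cfsg.Agent.S5096

set_option autoImplicit false

/-!
# MEET project, local lemmas, part M: the local group `G(U)` exists

`G(U)` is a model of `D(U) = N_{N_F(U)}(Q_U)`, `Q_U = U C_S(U)`, through `ι : N_S(U) →* G(U)`.
`meet_loc_grp_of_model`: such a model satisfies the interface `MeetLocGrp`; `meet_loc_exists`: it exists.
-/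

namespace Cfsg.Agent.MEET

open Cfsg Cfsg.FusionSystem Cfsg.Agent.Lead

universe u

variable {Ω : Type u} [Group Ω] {S : Subgroup Ω}

/-- A model of the normalizer system of `Q_U` in `N_F(U)`, over `N_S(U)`, satisfies `MeetLocGrp`. -/
theorem meet_loc_grp_of_model [Finite S] (p : ℕ) [Fact p.Prime] (hS : IsPGroup p S) (F : FusionSystem S)
    (hF : F.IsSaturated p) {W U : Subgroup Ω} (hW : F.StronglyClosed W) (hU : U ∈ meetUf F W)
    (FU : FusionSystem (normalizerIn S U)) (hFU : F.IsNormalizerSystem U FU)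
    (D : FusionSystem (normalizerIn S U)) (hD : ∀ P : Subgroup Ω, D.Hom P = FU.normalizerHom (meetQ S U) P)
    (hDn : D.IsNormal (meetQ S U)) {G : Type u} [Group G] (ι : ↥(normalizerIn S U) →* G)
    (hG : D.IsModel p G ι) : MeetLocGrp p F W U ι := by
  have hUS : U ≤ S := hU.2.1
  have hWS : W ≤ S := hW.1
  have hfinN : Finite ↥(normalizerIn S U) := Fusion.finite_of_le inf_le_left
  have hQN : meetQ S U ≤ normalizerIn S U := meet_loc_Q_le hUS
  have hUQ : U ≤ meetQ S U := le_sup_left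
  have hUN : U ≤ normalizerIn S U := Fusion.le_normalizerIn hUS
  have hUsc : FU.StronglyClosed U :=
    Fusion.stronglyClosed_of_isNormal FU (Fusion.normalizerSystem_isNormal F hUS FU hFU)
  have hnormQ := Fusion.map_normal_of_isNormal_of_isModel p D ι hG hDn
  obtain ⟨hfin, ⟨hinj, hreal⟩, hsyl, hcent⟩ := id hG
  -- maps of `D` are maps of `FU` and of `F`
  have hDFU : ∀ (P : Subgroup Ω) (φ : P →* Ω), φ ∈ D.Hom P → φ ∈ FU.Hom P := by
    intro P φ hφ
    rw [hD P] at hφ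
    exact hφ.1
  have hFUF : ∀ (P : Subgroup Ω) (φ : P →* Ω), φ ∈ FU.Hom P → φ ∈ F.Hom P := by
    intro P φ hφ
    rw [hFU P] at hφ
    exact hφ.1
  have hQcen : centralizerIn (normalizerIn S U) (meetQ S U) ≤ meetQ S U :=
    (meet_loc_Q_centric hUS FU hFU).2 _ (Fusion.isConj_refl FU hQN)
  have hcentQ := LocMod.centralizer_map_le_of_isModel p D ι hG (meetQ S U) hQN hnormQ hQcen
  -- conjugation by `g` on `Q_U`
  have hconjQ : ∀ (g : G) (x : ↥(normalizerIn S U)), (x : Ω) ∈ meetQ S U →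
      ∃ y : ↥(normalizerIn S U), (y : Ω) ∈ meetQ S U ∧ ι y = g * ι x * g⁻¹ := by
    intro g x hx
    have h1 : ι x ∈ ((meetQ S U).subgroupOf (normalizerIn S U)).map ι :=
      ⟨x, Subgroup.mem_subgroupOf.mpr hx, rfl⟩
    obtain ⟨y, hy, hyg⟩ := hnormQ.conj_mem _ h1 g
    exact ⟨y, Subgroup.mem_subgroupOf.mp hy, hyg⟩
  refine ⟨hfin, hinj, hsyl, hQN, ?_, hconjQ, ?_, ?_, ?_, ?_⟩
  · -- normU
    intro g x hx
    -- the map `c_g : Q → Q`
    have hval : ∀ q : ↥(meetQ S U), g * ι ⟨q, hQN q.2⟩ * g⁻¹ ∈ ι.range := by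
      intro q
      obtain ⟨y, -, hy⟩ := hconjQ g ⟨q, hQN q.2⟩ q.2
      exact ⟨y, hy⟩
    obtain ⟨φ, hφ, hφN, hφg⟩ := Fusion.exists_hom_of_conj_mem_range D ι ⟨hinj, hreal⟩ hQN g hval
    have hφFU := hDFU _ φ hφ
    have h2 := Fusion.map_mem_of_stronglyClosed FU hUsc hφFU ⟨x, hUQ hx⟩ hx
    refine ⟨⟨φ ⟨x, hUQ hx⟩, hφN _⟩, h2, ?_⟩
    exact hφg ⟨x, hUQ hx⟩
  · -- cent
    intro g hg
    have h1 : g ∈ Subgroup.centralizer
        ((((meetQ S U).subgroupOf (normalizerIn S U)).map ι : Subgroup G) : Set G) := by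
      rw [Subgroup.mem_centralizer_iff]
      rintro _ ⟨x, hx, rfl⟩
      exact (hg x (Subgroup.mem_subgroupOf.mp hx)).symm
    obtain ⟨y, hy, hyg⟩ := hcentQ h1
    exact ⟨y, Subgroup.mem_subgroupOf.mp hy, hyg⟩
  · -- hom
    intro g X hX φ hφ hind
    exact hFUF X φ (hDFU X φ ((hreal X hX φ hφ).mpr ⟨g, hind⟩))
  · -- realQ
    intro b hb hbU
    have hQS : meetQ S U ≤ S := hQN.trans inf_le_left
    have hβF := (Fusion.mem_autGroup_iff F hQS b).mp hb
    set β : ↥(meetQ S U) →* Ω := (meetQ S U).subtype.comp b.toMonoidHom with hβ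
    have : Finite ↥(meetQ S U) := Fusion.finite_of_le hQS
    have hβU : (U.subgroupOf (meetQ S U)).map β = U := by
      apply meet_nrm_map_eq β (F.injective_of_mem hβF) _ hUQ
      rintro _ ⟨x, hx, rfl⟩
      rw [SetLike.mem_coe, Subgroup.mem_subgroupOf] at hx
      exact hbU x hx
    have hβFU : β ∈ FU.Hom (meetQ S U) := by
      rw [hFU]
      exact KL.mem_normalizerHom_of_le F hUQ hQN β hβF hβU
    have hβr : (((meetQ S U).subgroupOf (meetQ S U)).map β) = meetQ S U := by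
      apply meet_nrm_map_eq β (F.injective_of_mem hβF) _ le_rfl
      rintro _ ⟨x, -, rfl⟩
      exact (b x).2
    have hQNN : meetQ S U ≤ normalizerIn (normalizerIn S U) (meetQ S U) := by
      rw [meet_loc_normalizer_eq hUS]; exact hQN
    have hβD : β ∈ D.Hom (meetQ S U) := by
      rw [hD]
      exact KL.mem_normalizerHom_of_le FU le_rfl hQNN β hβFU hβr
    exact (hreal (meetQ S U) hQN β (fun x => hQN (b x).2)).mp hβD
  · -- nd
    intro X hUX hXY hWS' ψ hψ hψY hψU
    have hψD : ψ ∈ D.Hom X := by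
      rw [hD]
      exact meet_loc_nd_mem p hS F hF hW hU FU hFU hUX hXY ψ hψ hψU
    exact (hreal X (hXY.trans (inf_le_inf_right _ hWS')) ψ
      (fun x => (inf_le_inf_right _ hWS' : normalizerIn W U ≤ normalizerIn S U) (hψY x))).mp hψD

/-- The local group `G(U)` exists. -/
theorem meet_loc_exists {p : ℕ} {F : FusionSystem S} [Finite S] [Fact p.Prime] (hS : IsPGroup p S)
    (hF : F.IsSaturated p) {W : Subgroup Ω} (hW : F.StronglyClosed W) {U : Subgroup Ω}
    (hU : U ∈ meetUf F W) :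
    ∃ (G : Type u) (_ : Group G) (ι : ↥(normalizerIn S U) →* G), MeetLocGrp p F W U ι := by
  have hUS : U ≤ S := hU.2.1
  have hfinN : Finite ↥(normalizerIn S U) := Fusion.finite_of_le inf_le_left
  have hNp : IsPGroup p ↥(normalizerIn S U) := hS.to_le inf_le_left
  obtain ⟨FU, hFU⟩ := Cfsg.Agent.S5096.result F U hUS
  have hFUsat := Fusion.normalizerSystem_isSaturated p hS F hF U hU.2 FU hFU
  have hQN : meetQ S U ≤ normalizerIn S U := meet_loc_Q_le hUS
  obtain ⟨D, hD⟩ := Cfsg.Agent.S5096.result FU (meetQ S U) hQN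
  obtain ⟨L, _, ι, hL⟩ := LocMod.exists_normalizer_model p hNp FU hFUsat (meetQ S U)
    (meet_loc_Q_fn hUS FU) (meet_loc_Q_centric hUS FU hFU) D hD
  have hDn : D.IsNormal (meetQ S U) := Fusion.normalizerSystem_isNormal FU hQN D hD
  have heq := meet_loc_normalizer_eq (S := S) hUS
  -- transport along the equality of the two subgroups
  have key : ∀ (R' : Subgroup Ω) (hR' : R' = normalizerIn S U) (D' : FusionSystem R')
      (_ : ∀ P : Subgroup Ω, D'.Hom P = FU.normalizerHom (meetQ S U) P)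
      (_ : D'.IsNormal (meetQ S U)) (ι' : ↥R' →* L) (_ : D'.IsModel p L ι'),
      ∃ ι₀ : ↥(normalizerIn S U) →* L, MeetLocGrp p F W U ι₀ := by
    intro R' hR'
    subst hR'
    intro D' hD' hDn' ι' hL'
    exact ⟨ι', meet_loc_grp_of_model p hS F hF hW hU FU hFU D' hD' hDn' ι' hL'⟩
  obtain ⟨ι₀, h₀⟩ := key _ heq D hD hDn ι hL
  exact ⟨L, inferInstance, ι₀, h₀⟩

end Cfsg.Agent.MEET
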