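import Mathlib
import Cfsg.Agent.MEET.HgenC

/-!
# Project MEET, file Pc: the action of the local group `G(U)` on `U`

`meetActU hG hUN : G →* MulAut U`, the action of `G` on `U` (`U` is normal in `G`), characterized by `MeetIndU`
(`meet_pc_actU_spec`, `meet_pc_actU_eq`); its values lie in `Aut_F(U)` (`meet_pc_actU_mem`).
-/

set_option autoImplicit false
set_option linter.unusedSectionVars false
set_option linter.unusedVariables false

namespace Cfsg.Agent.MEET

open Cfsg Cfsg.FusionSystem Cfsg.Agent.Lead Cfsg.Agent.CSE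

universe u

variable {Ω : Type u} [Group Ω] {S : Subgroup Ω}
variable {p : ℕ} {F : FusionSystem S} {W U : Subgroup Ω} {G : Type u} [Group G]
  {ι : ↥(normalizerIn S U) →* G}

/-- Conjugation by `g : G` on `U` is an automorphism of `U` in `F`. -/
theorem meet_pc_actU_exists [Finite S] (hG : MeetLocGrp p F W U ι) (hUN : U ≤ normalizerIn S U) (g : G) :
    ∃ β : MulAut U, β ∈ F.autGroup U ∧ MeetIndU ι hUN g β := by
  have h1 : ∀ x : U, ∃ y : ↥(normalizerIn S U), ι y = g * ι ⟨x, hUN x.2⟩ * g⁻¹ := by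
    intro x
    obtain ⟨y, -, hy⟩ := hG.normU g ⟨x, hUN x.2⟩ x.2
    exact ⟨y, hy⟩
  obtain ⟨φ, hφN, hφ⟩ := meet_hgen_exists_ind ι hG.inj g hUN h1
  have hφF : φ ∈ F.Hom U := hG.hom g _ hUN φ hφN hφ
  have hval : ∀ x : U, φ x ∈ U := by
    intro x
    obtain ⟨y, hyU, hy⟩ := hG.normU g ⟨x, hUN x.2⟩ x.2
    have h2 : ι ⟨φ x, hφN x⟩ = ι y := (hφ x).trans hy.symm
    have h3 := hG.inj h2
    have h4 : φ x = (y : Ω) := congrArg Subtype.val h3
    rw [h4]
    exact hyU
  obtain ⟨b, hb, hbφ⟩ := cse_aut_of_hom F φ hφF hval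
  refine ⟨b, hb, fun x => ?_⟩
  have h5 : (⟨((b x : U) : Ω), hUN (b x).2⟩ : ↥(normalizerIn S U)) = ⟨φ x, hφN x⟩ := Subtype.ext (hbφ x)
  rw [h5]
  exact hφ x

/-- The automorphism induced by `g` is unique. -/
theorem meet_pc_actU_unique (hinj : Function.Injective ι) (hUN : U ≤ normalizerIn S U) (g : G)
    (β β' : MulAut U) (h : MeetIndU ι hUN g β) (h' : MeetIndU ι hUN g β') : β = β' := by
  ext x
  have h1 := (h x).trans (h' x).symm
  have h2 := hinj h1
  have h3 : ((β x : U) : Ω) = ((β' x : U) : Ω) :=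
    congrArg (fun z : ↥(normalizerIn S U) => (z : Ω)) h2
  exact h3

/-- Products. -/
theorem meet_pc_indU_mul (hUN : U ≤ normalizerIn S U) (g h : G) (β γ : MulAut U)
    (hβ : MeetIndU ι hUN g β) (hγ : MeetIndU ι hUN h γ) : MeetIndU ι hUN (g * h) (β * γ) := by
  intro x
  show ι ⟨((β (γ x) : U) : Ω), _⟩ = _
  rw [hβ (γ x), hγ x]
  group

/-- The identity. -/
theorem meet_pc_indU_one (hUN : U ≤ normalizerIn S U) : MeetIndU ι hUN (1 : G) (1 : MulAut U) := by
  intro x
  simp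

/-- Inverses. -/
theorem meet_pc_indU_inv (hinj : Function.Injective ι) (hUN : U ≤ normalizerIn S U) (g : G) (β : MulAut U)
    (hβ : MeetIndU ι hUN g β) : MeetIndU ι hUN g⁻¹ β⁻¹ := by
  intro x
  have h1 := hβ (β⁻¹ x)
  have h2 : (β (β⁻¹ x)) = x := by simp
  have h3 : (⟨((β (β⁻¹ x) : U) : Ω), hUN (β (β⁻¹ x)).2⟩ : ↥(normalizerIn S U)) = ⟨x, hUN x.2⟩ :=
    Subtype.ext (congrArg (fun z : U => (z : Ω)) h2)
  rw [h3] at h1
  rw [h1]
  group

/-- The action of `G` on `U`. -/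
noncomputable def meetActU [Finite S] (hG : MeetLocGrp p F W U ι) (hUN : U ≤ normalizerIn S U) :
    G →* MulAut U where
  toFun g := Classical.choose (meet_pc_actU_exists hG hUN g)
  map_one' :=
    meet_pc_actU_unique hG.inj hUN 1 _ _ (Classical.choose_spec (meet_pc_actU_exists hG hUN 1)).2
      (meet_pc_indU_one hUN)
  map_mul' g h :=
    meet_pc_actU_unique hG.inj hUN (g * h) _ _
      (Classical.choose_spec (meet_pc_actU_exists hG hUN (g * h))).2
      (meet_pc_indU_mul hUN g h _ _ (Classical.choose_spec (meet_pc_actU_exists hG hUN g)).2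
        (Classical.choose_spec (meet_pc_actU_exists hG hUN h)).2)

theorem meet_pc_actU_mem [Finite S] (hG : MeetLocGrp p F W U ι) (hUN : U ≤ normalizerIn S U) (g : G) :
    meetActU hG hUN g ∈ F.autGroup U :=
  (Classical.choose_spec (meet_pc_actU_exists hG hUN g)).1

theorem meet_pc_actU_spec [Finite S] (hG : MeetLocGrp p F W U ι) (hUN : U ≤ normalizerIn S U) (g : G) :
    MeetIndU ι hUN g (meetActU hG hUN g) :=
  (Classical.choose_spec (meet_pc_actU_exists hG hUN g)).2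

theorem meet_pc_actU_eq [Finite S] (hG : MeetLocGrp p F W U ι) (hUN : U ≤ normalizerIn S U) (g : G)
    (β : MulAut U) (h : MeetIndU ι hUN g β) : β = meetActU hG hUN g :=
  meet_pc_actU_unique hG.inj hUN g _ _ h (meet_pc_actU_spec hG hUN g)

/-- The action of `ι s` is conjugation by `s`. -/
theorem meet_pc_actU_iota [Finite S] (hG : MeetLocGrp p F W U ι) (hUN : U ≤ normalizerIn S U)
    (s : ↥(normalizerIn S U)) (x : U) :
    ((meetActU hG hUN (ι s) x : U) : Ω) = (s : Ω) * x * (s : Ω)⁻¹ := by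
  have h1 := meet_pc_actU_spec hG hUN (ι s) x
  have hmem : (s : Ω) * x * (s : Ω)⁻¹ ∈ normalizerIn S U :=
    (normalizerIn S U).mul_mem ((normalizerIn S U).mul_mem s.2 (hUN x.2)) ((normalizerIn S U).inv_mem s.2)
  have h2 : ι s * ι ⟨x, hUN x.2⟩ * (ι s)⁻¹ = ι ⟨(s : Ω) * x * (s : Ω)⁻¹, hmem⟩ := by
    rw [← map_inv, ← map_mul, ← map_mul]
    congr 1
  rw [h2] at h1
  exact congrArg Subtype.val (hG.inj h1)

end Cfsg.Agent.MEET
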