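import Mathlib

/-!
# Project MEET, file Pc: the image of a Sylow subgroup is a maximal `p`-subgroup of the image

`θ : G →* M`, `Y ≤ J ≤ G` with `|J : Y|` prime to `p`.  Then `|θ(J) : θ(Y)|` is prime to `p`
(`meet_pc_relIndex_map`), and every `p`-subgroup `Q` of `M` with `θ(Y) ≤ Q ≤ θ(J)` equals `θ(Y)`
(`meet_pc_syl_image`).
-/

namespace Cfsg.Agent.MEET

open Subgroup

variable {G M : Type*} [Group G] [Group M]

/-- `|θ(J) : θ(Y)|` divides `|J : Y|`. -/
theorem meet_pc_relIndex_map_dvd (θ : G →* M) (J Y : Subgroup G) (hYJ : Y ≤ J) :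
    (Y.map θ).relIndex (J.map θ) ∣ Y.relIndex J := by
  set f : J →* M := θ.comp J.subtype with hf
  have h1 : (Y.subgroupOf J).map f = Y.map θ := by
    rw [hf, ← Subgroup.map_map, Subgroup.map_subgroupOf_eq_of_le hYJ]
  have h2 : (⊤ : Subgroup J).map f = J.map θ := by
    rw [hf, ← Subgroup.map_map, ← MonoidHom.range_eq_map, Subgroup.range_subtype]
  rw [← h1, ← h2, Subgroup.relIndex_map_map]
  have h3 : ((⊤ : Subgroup J) ⊔ f.ker) = ⊤ := top_sup_eq _
  rw [h3, Subgroup.relIndex_top_right]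
  exact Subgroup.index_dvd_of_le le_sup_left

/-- The image of a subgroup of index prime to `p` is a maximal `p`-subgroup of the image. -/
theorem meet_pc_syl_image (p : ℕ) [Fact p.Prime] [Finite M] (θ : G →* M) (J Y : Subgroup G) (hYJ : Y ≤ J)
    (hidx : ¬ p ∣ Y.relIndex J) (Q : Subgroup M) (hQ : IsPGroup p Q) (hYQ : Y.map θ ≤ Q)
    (hQJ : Q ≤ J.map θ) : Q ≤ Y.map θ := by
  have h1 : (Y.map θ).relIndex Q * Q.relIndex (J.map θ) = (Y.map θ).relIndex (J.map θ) :=
    Subgroup.relIndex_mul_relIndex _ _ _ hYQ hQJ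
  have h2 : (Y.map θ).relIndex Q ∣ Y.relIndex J :=
    (Dvd.intro _ h1).trans (meet_pc_relIndex_map_dvd θ J Y hYJ)
  obtain ⟨n, hn⟩ := IsPGroup.index hQ ((Y.map θ).subgroupOf Q)
  have h3 : (Y.map θ).relIndex Q = p ^ n := hn
  rw [h3] at h2
  have hn0 : n = 0 := by
    by_contra hne
    exact hidx ((dvd_pow_self p hne).trans h2)
  rw [hn0, pow_zero] at h3
  exact Subgroup.relIndex_eq_one.mp h3

end Cfsg.Agent.MEET
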