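import Mathlib
import Cfsg.Agent.MEET.PcEngA
import Cfsg.Agent.MEET.PcAct
import Cfsg.Agent.MEET.PcSyl
import Cfsg.Agent.MEET.NclGroup
import Cfsg.Agent.MEET.LocM
import Cfsg.Agent.MEET.LocL
import Cfsg.Agent.MEET.HgenE
import Cfsg.Agent.MEET.HgenF

/-!
# Project MEET, file Pc, part 4: (INV), `meetA = meetA0` on the fully normalized members, (E2b)

With the local group `G(U)` (`meet_loc_exists`), `A0(U)` is the image of `J(U) ⊴ G(U)` in `Aut(U)` (`meet_J_aut`), and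
`G(U) → Aut_F(U)` is onto (`meet_loc_onto`): so `A0(U)` is normal in `Aut_F(U)` (`meet_pc_A0_normal`), which completes
(INV) (`meet_A0_inv`, via `meet_pc_A0_inv_of_normal`) and gives `meet_A_eq_A0`.  `ι(N_W(U)) = J ∩ ι(N_S(U))` has index
prime to `p` in `J`, so `Aut_W(U)` is a maximal `p`-subgroup of `A0(U)` (`meet_pc_syl`).
-/

set_option autoImplicit false
set_option linter.unusedSectionVars false
set_option linter.unusedVariables false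

namespace Cfsg.Agent.MEET

open Cfsg Cfsg.FusionSystem Cfsg.Agent.Lead Cfsg.Agent.Lead.StrongInv

universe u

variable {Ω : Type u} [Group Ω] {S : Subgroup Ω} {p : ℕ} {F : FusionSystem S} {T₁ T₂ : Subgroup Ω}
  {E₁ : FusionSystem T₁} {E₂ : FusionSystem T₂}

/-- `T₁ ⊓ T₂` is strongly closed in `F`. -/
theorem meet_pc_inf_sc (h₁ : E₁.IsNormalIn F p) (h₂ : E₂.IsNormalIn F p) : F.StronglyClosed (T₁ ⊓ T₂) := by
  obtain ⟨hT₁, hsc₁⟩ := h₁.1.2.2.2.1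
  obtain ⟨_, hsc₂⟩ := h₂.1.2.2.2.1
  exact ⟨inf_le_left.trans hT₁, fun R hR φ hφ x =>
    ⟨hsc₁ R (hR.trans inf_le_left) φ hφ x, hsc₂ R (hR.trans inf_le_right) φ hφ x⟩⟩

/-- `J(U)` is normal in `G(U)`. -/
theorem meet_pc_J_normal [Finite S] [Fact p.Prime] (hS : IsPGroup p S) (hF : F.IsSaturated p)
    (h₁ : E₁.IsNormalIn F p) (h₂ : E₂.IsNormalIn F p) {U : Subgroup Ω} (hU : U ∈ meetUf F (T₁ ⊓ T₂))
    {G : Type u} [Group G] {ι : ↥(normalizerIn S U) →* G} (hG : MeetLocGrp p F (T₁ ⊓ T₂) U ι) :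
    (meetJ p F E₁ E₂ U ι hG.hQ).Normal := by
  have hn₁ := meet_hgen_normal hS hF E₁ h₁ hU hG
  have hn₂ := meet_hgen_normal hS hF E₂ h₂ hU hG
  unfold meetJ
  exact Subgroup.normal_inf_normal _ _

/-- `A0(U)` is normalized by `Aut_F(U)`. -/
theorem meet_pc_A0_normal [Finite S] [Fact p.Prime] (hS : IsPGroup p S) (hF : F.IsSaturated p)
    (h₁ : E₁.IsNormalIn F p) (h₂ : E₂.IsNormalIn F p) {U : Subgroup Ω} (hU : U ∈ meetUf F (T₁ ⊓ T₂)) :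
    ∀ α ∈ F.autGroup U, ∀ β ∈ meetA0 p F E₁ E₂ U, α * β * α⁻¹ ∈ meetA0 p F E₁ E₂ U := by
  intro α hα β hβ
  have hW := meet_pc_inf_sc h₁ h₂
  have hUS : U ≤ S := hU.1.1.trans hW.1
  have hUN : U ≤ normalizerIn S U := Fusion.le_normalizerIn hUS
  obtain ⟨G, _, ι, hG⟩ := meet_loc_exists hS hF hW hU
  obtain ⟨g', hg'⟩ := meet_loc_onto hS hF hU hG hUN α hα
  obtain ⟨g, hgJ, hg⟩ := (meet_J_aut hS hF h₁ h₂ hU hG hUN β).mp hβ
  have hJn := meet_pc_J_normal hS hF h₁ h₂ hU hG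
  refine (meet_J_aut hS hF h₁ h₂ hU hG hUN _).mpr ⟨g' * g * g'⁻¹, hJn.conj_mem g hgJ g', ?_⟩
  exact meet_pc_indU_mul hUN _ _ _ _ (meet_pc_indU_mul hUN _ _ _ _ hg' hg)
    (meet_pc_indU_inv hG.inj hUN g' α hg')

/-- **(INV)** the isomorphisms of `F` between fully normalized members of the family transport `A0`. -/
theorem meet_A0_inv [Finite S] [Fact p.Prime] (hS : IsPGroup p S) (hF : F.IsSaturated p) (h₁ : E₁.IsNormalIn F p)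
    (h₂ : E₂.IsNormalIn F p) {U U' : Subgroup Ω} (hU : U ∈ meetUf F (T₁ ⊓ T₂)) (hU' : U' ∈ meetUf F (T₁ ⊓ T₂))
    (φ : U →* Ω) (hφ : φ ∈ F.Hom U) (hr : φ.range = U') (a : MulAut U) (ha : a ∈ meetA0 p F E₁ E₂ U) (β : MulAut U')
    (hβ : MeetTr φ a β) : β ∈ meetA0 p F E₁ E₂ U' :=
  meet_pc_A0_inv_of_normal p hS hF h₁.1.2.2 h₂.1.2.2 (meet_pc_inf_sc h₁ h₂) hU hU'
    (meet_pc_A0_normal hS hF h₁ h₂ hU') φ hφ hr a ha β hβ

/-- on the fully normalized members `meetA` is `meetA0`. -/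
theorem meet_A_eq_A0 [Finite S] [Fact p.Prime] (hS : IsPGroup p S) (hF : F.IsSaturated p) (h₁ : E₁.IsNormalIn F p)
    (h₂ : E₂.IsNormalIn F p) {U : Subgroup Ω} (hU : U ∈ meetUf F (T₁ ⊓ T₂)) :
    meetA p F E₁ E₂ U = meetA0 p F E₁ E₂ U := by
  have hW := meet_pc_inf_sc h₁ h₂
  have hUS : U ≤ S := hU.1.1.trans hW.1
  apply le_antisymm
  · unfold meetA
    rw [Subgroup.closure_le]
    rintro β ⟨U₁, hU₁, φ, hφ, hr, a, ha, htr⟩
    obtain ⟨ψ, hψ, hinv, hrψ⟩ := Fusion.exists_inv F hφ hr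
    have hφU₁ : ∀ x : U, φ x ∈ U₁ := fun x => hr ▸ ⟨x, rfl⟩
    refine meet_A0_inv hS hF h₁ h₂ hU₁ hU ψ hψ hrψ a ha β ?_
    intro y hy
    have hy' : (y : Ω) ∈ φ.range := by rw [hr]; exact y.2
    obtain ⟨x, hx⟩ := hy'
    have hye : y = ⟨φ x, hφU₁ x⟩ := Subtype.ext hx.symm
    subst hye
    have h1 : ψ ⟨φ x, hφU₁ x⟩ = (x : Ω) := hinv x (hφU₁ x)
    have h2 : (⟨ψ ⟨φ x, hφU₁ x⟩, hy⟩ : U) = x := Subtype.ext h1
    rw [h2]
    have h3 := htr x (hφU₁ x)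
    have h4 : a ⟨φ x, hφU₁ x⟩ = ⟨φ (β x), hφU₁ (β x)⟩ := Subtype.ext h3
    rw [h4]
    exact (hinv (β x) (hφU₁ (β x))).symm
  · intro β hβ
    refine Subgroup.subset_closure ⟨U, hU, U.subtype, Fusion.subtype_mem F hUS, Subgroup.range_subtype U, β, hβ, ?_⟩
    intro x hx
    rfl

/-- (E2b) `Aut_W(U)` is a maximal `p`-subgroup of `A(U)` for `U` fully normalized. -/
theorem meet_pc_syl [Finite S] [Fact p.Prime] (hS : IsPGroup p S) (hF : F.IsSaturated p) (h₁ : E₁.IsNormalIn F p)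
    (h₂ : E₂.IsNormalIn F p) :
    ∀ U ∈ meetH F (T₁ ⊓ T₂), F.IsFullyNormalized U → ∀ Q : Subgroup (MulAut U), IsPGroup p Q →
      autInducedBy (T₁ ⊓ T₂) U ≤ Q → Q ≤ meetA p F E₁ E₂ U → Q ≤ autInducedBy (T₁ ⊓ T₂) U := by
  intro U hUH hUfn Q hQ hWQ hQA
  have hU : U ∈ meetUf F (T₁ ⊓ T₂) := ⟨hUH, hUfn⟩
  have hW := meet_pc_inf_sc h₁ h₂
  have hWS : T₁ ⊓ T₂ ≤ S := hW.1
  have hUS : U ≤ S := hU.1.1.trans hWS
  have hUN : U ≤ normalizerIn S U := Fusion.le_normalizerIn hUS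
  have hfinU : Finite U := Fusion.finite_of_le hUS
  rw [meet_A_eq_A0 hS hF h₁ h₂ hU] at hQA
  obtain ⟨G, _, ι, hG⟩ := meet_loc_exists hS hF hW hU
  have hfinG := hG.fin
  have hJn := meet_pc_J_normal hS hF h₁ h₂ hU hG
  set J := meetJ p F E₁ E₂ U ι hG.hQ with hJ
  set θ := meetActU hG hUN with hθ
  set Y : Subgroup G := ((normalizerIn (T₁ ⊓ T₂) U).subgroupOf (normalizerIn S U)).map ι with hY
  -- `ι x ∈ J ↔ x ∈ W`
  have hmemJ : ∀ x : ↥(normalizerIn S U), ι x ∈ J ↔ (x : Ω) ∈ T₁ ⊓ T₂ := by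
    intro x
    have e₁ := meet_hgen_syl hS hF E₁ h₁ (inf_le_left : T₁ ⊓ T₂ ≤ T₁) hU hG x
    have e₂ := meet_hgen_syl hS hF E₂ h₂ (inf_le_right : T₁ ⊓ T₂ ≤ T₂) hU hG x
    rw [hJ]
    unfold meetJ
    rw [Subgroup.mem_inf, e₁, e₂, Subgroup.mem_inf]
  have hYJ : Y ≤ J := by
    rintro _ ⟨x, hx, rfl⟩
    rw [SetLike.mem_coe, Subgroup.mem_subgroupOf] at hx
    exact (hmemJ x).mpr hx.1
  -- `Y = ι.range ⊓ J`
  have hYeq : Y = ι.range ⊓ J := by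
    apply le_antisymm
    · intro y hy
      refine ⟨?_, hYJ hy⟩
      obtain ⟨x, -, rfl⟩ := hy
      exact ⟨x, rfl⟩
    · rintro _ ⟨⟨x, rfl⟩, hxJ⟩
      refine ⟨x, ?_, rfl⟩
      rw [SetLike.mem_coe, Subgroup.mem_subgroupOf]
      exact ⟨(hmemJ x).mp hxJ, x.2.2⟩
  -- index prime to `p`
  obtain ⟨P, hP⟩ := hG.syl
  have hidx : ¬ p ∣ Y.relIndex J := by
    rw [hYeq, Subgroup.inf_relIndex_right, ← hP]
    intro hdvd
    exact P.not_dvd_index (hdvd.trans (meet_relIndex_dvd_index_of_normal (P : Subgroup G) J))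
  -- `A0(U) = θ(J)` and `θ(Y) ≤ Aut_W(U)`
  have hA0 : meetA0 p F E₁ E₂ U ≤ J.map θ := by
    intro β hβ
    obtain ⟨g, hgJ, hg⟩ := (meet_J_aut hS hF h₁ h₂ hU hG hUN β).mp hβ
    exact ⟨g, hgJ, (meet_pc_actU_eq hG hUN g β hg).symm⟩
  have hYW : Y.map θ ≤ autInducedBy (T₁ ⊓ T₂) U := by
    rintro _ ⟨_, ⟨x, hx, rfl⟩, rfl⟩
    rw [SetLike.mem_coe, Subgroup.mem_subgroupOf] at hx
    rw [mem_autInducedBy_iff]
    exact ⟨x, hx.1, fun u => meet_pc_actU_iota hG hUN x u⟩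
  exact (meet_pc_syl_image p θ J Y hYJ hidx Q hQ (hYW.trans hWQ) (hQA.trans hA0)).trans hYW

end Cfsg.Agent.MEET
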