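import Mathlib
import Cfsg.Agent.MEET.CmBe
import Cfsg.Agent.MEET.CmGrp
import Cfsg.Agent.MEET.PcEngB
import Cfsg.Agent.MEET.CmEa

/-!
# Project MEET, (CM-b), part f: the core

`j ∈ J(Y₀)` normalizing `μ(U)` induces on `U` (through `μ = ι₀ ∘ ω'`) an element of `A0(U)`.
-/

set_option autoImplicit false
set_option linter.unusedVariables false
set_option maxHeartbeats 1600000

namespace Cfsg.Agent.MEET

open Cfsg Cfsg.FusionSystem Cfsg.Agent.Lead Cfsg.Agent.CSE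

universe u

variable {Ω : Type u} [Group Ω] {S : Subgroup Ω}

/-- An element of `G₀` normalizing `μ(U)` induces an automorphism of `U` in `F`. -/
theorem meet_cmb_autU [Finite S] {p : ℕ} {F : FusionSystem S} {W U Y0 : Subgroup Ω} {G0 : Type u} [Group G0]
    {ι0 : ↥(normalizerIn S Y0) →* G0} (hG0 : MeetLocGrp p F W Y0 ι0)
    {ω' : ↥(normalizerIn S U) →* Ω} (hω' : ω' ∈ F.Hom (normalizerIn S U))
    (hω'N : ∀ x, ω' x ∈ normalizerIn S Y0) (hUN : U ≤ normalizerIn S U) (g : G0)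
    (hg : g ∈ Subgroup.normalizer ((meetIm (meetMu ι0 ω' hω'N) U : Subgroup G0) : Set G0)) :
    ∃ γ : MulAut U, γ ∈ F.autGroup U ∧ ∀ u : U,
      meetMu ι0 ω' hω'N ⟨((γ u : U) : Ω), hUN (γ u).2⟩ = g * meetMu ι0 ω' hω'N ⟨u, hUN u.2⟩ * g⁻¹ := by
  classical
  set μ := meetMu ι0 ω' hω'N with hμ
  have hω'inj : Function.Injective ω' := F.injective_of_mem hω'
  have hμinj : Function.Injective μ := meetMu_injective ι0 hG0.inj ω' hω'inj hω'N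
  have hconj : ∀ u : U, ∃ y : ↥(normalizerIn S U), (y : Ω) ∈ U ∧ μ y = g * μ ⟨u, hUN u.2⟩ * g⁻¹ := by
    intro u
    have h1 : μ ⟨u, hUN u.2⟩ ∈ meetIm μ U := (meet_hgen_mem_im μ U _).mpr ⟨_, u.2, rfl⟩
    have h2 := meet_cmb_normalizer_conj _ g hg _ h1
    obtain ⟨y, hy, hyu⟩ := (meet_hgen_mem_im μ U _).mp h2
    exact ⟨y, hy, hyu⟩
  obtain ⟨φ, hφN, hφ⟩ := meet_hgen_exists_ind μ hμinj g hUN (fun u => (hconj u).imp fun y hy => hy.2)
  have hφF : φ ∈ F.Hom U := meet_cmb_hom hG0 hω' hω'N g U hUN φ hφN hφ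
  have hφU : ∀ u : U, φ u ∈ U := by
    intro u
    obtain ⟨y, hy, hyu⟩ := hconj u
    have h1 : μ ⟨φ u, hφN u⟩ = μ y := (hφ u).trans hyu.symm
    have h2 : φ u = (y : Ω) := congrArg (Subtype.val : ↥(normalizerIn S U) → Ω) (hμinj h1)
    rw [h2]; exact hy
  obtain ⟨γ, hγ, hγφ⟩ := cse_aut_of_hom F φ hφF hφU
  refine ⟨γ, hγ, fun u => ?_⟩
  have h1 : (⟨((γ u : U) : Ω), hUN (γ u).2⟩ : ↥(normalizerIn S U)) = ⟨φ u, hφN u⟩ := Subtype.ext (hγφ u)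
  rw [h1]; exact hφ u

/-- The subgroup of the elements of `G₀` inducing on `U` an element of `A`. -/
def meetCmbZ {U : Subgroup Ω} {G0 : Type u} [Group G0] (μ : ↥(normalizerIn S U) →* G0)
    (hUN : U ≤ normalizerIn S U) (A : Subgroup (MulAut U)) : Subgroup G0 where
  carrier := {g | ∃ β ∈ A, ∀ u : U, μ ⟨((β u : U) : Ω), hUN (β u).2⟩ = g * μ ⟨u, hUN u.2⟩ * g⁻¹}
  one_mem' := ⟨1, A.one_mem, fun u => by simp⟩
  mul_mem' := by
    rintro g g' ⟨β, hβ, hg⟩ ⟨β', hβ', hg'⟩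
    refine ⟨β * β', A.mul_mem hβ hβ', fun u => ?_⟩
    have h1 : ((β * β') u : U) = β (β' u) := rfl
    rw [h1, hg, hg']
    group
  inv_mem' := by
    rintro g ⟨β, hβ, hg⟩
    refine ⟨β⁻¹, A.inv_mem hβ, fun u => ?_⟩
    have h1 := hg (β⁻¹ u)
    have h2 : β (β⁻¹ u) = u := by simp
    rw [h2] at h1
    rw [h1]
    group

theorem meet_cmb_mem_Z {U : Subgroup Ω} {G0 : Type u} [Group G0] (μ : ↥(normalizerIn S U) →* G0)
    (hUN : U ≤ normalizerIn S U) (A : Subgroup (MulAut U)) (g : G0) :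
    g ∈ meetCmbZ μ hUN A ↔
      ∃ β ∈ A, ∀ u : U, μ ⟨((β u : U) : Ω), hUN (β u).2⟩ = g * μ ⟨u, hUN u.2⟩ * g⁻¹ := Iff.rfl

end Cfsg.Agent.MEET
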