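import Mathlib
import Cfsg.Agent.MEET.HgenE
import Cfsg.Agent.MEET.PcGroup

/-!
# Project MEET: (L2) and (CEN) in the local group `G(U)`

`J = J(U) = H_1(U) ∩ H_2(U)`, `W = T₁ ⊓ T₂`, `U` a fully normalized member of the family.

* `meet_jc_Q_inf`: `Q_U ∩ W = U` (as `C_W(U) ≤ U`).
* `meet_J_normal`: `J` is normal in `G(U)`.
* `meet_J_mem_iff` (L2): `ι x ∈ J ↔ x ∈ W` for `x ∈ N_S(U)`.
* `meet_J_comm_Q` (L2): `[ι Q_U, J] ≤ ι U`.
* `meet_J_pElem`: an element of `J` centralizing `ι U` is a `p`-element.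
* `meet_J_cen` (CEN): an element of `J` centralizing `ι U` lies in `ι U`.
-/

set_option autoImplicit false
set_option linter.unusedSectionVars false
set_option linter.unusedVariables false
set_option linter.style.haveILetI false

namespace Cfsg.Agent.MEET

open Cfsg Cfsg.FusionSystem Cfsg.Agent.Lead
open scoped Pointwise

universe u

variable {Ω : Type u} [Group Ω] {S : Subgroup Ω} {p : ℕ} {F : FusionSystem S} {T₁ T₂ : Subgroup Ω}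
  {E₁ : FusionSystem T₁} {E₂ : FusionSystem T₂}

/-- `Q_U ∩ W ≤ U` when `U ≤ W` and `C_W(U) ≤ U`. -/
theorem meet_jc_Q_inf {S U W : Subgroup Ω} (hUW : U ≤ W) (hC : centralizerIn W U ≤ U) {w : Ω}
    (hw : w ∈ meetQ S U) (hwW : w ∈ W) : w ∈ U := by
  have comm : ∀ (a : U) (c : ↥(centralizerIn S U)), Commute (U.subtype a) ((centralizerIn S U).subtype c) := by
    intro a c
    exact (Subgroup.mem_centralizer_iff.mp c.2.2) a a.2
  have hr : (MonoidHom.noncommCoprod U.subtype (centralizerIn S U).subtype comm).range = meetQ S U := by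
    rw [MonoidHom.noncommCoprod_range, Subgroup.range_subtype, Subgroup.range_subtype]
    rfl
  rw [← hr] at hw
  obtain ⟨⟨a, c⟩, rfl⟩ := hw
  rw [MonoidHom.noncommCoprod_apply] at hwW ⊢
  have hcW : (c : Ω) ∈ W := by
    have h1 : (c : Ω) = (a : Ω)⁻¹ * ((a : Ω) * (c : Ω)) := by rw [inv_mul_cancel_left]
    rw [h1]
    exact W.mul_mem (W.inv_mem (hUW a.2)) hwW
  have hcU : (c : Ω) ∈ U := hC ⟨hcW, c.2.2⟩
  exact U.mul_mem a.2 hcU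

/-- `J(U)` is normal in `G(U)`. -/
theorem meet_J_normal [Finite S] [Fact p.Prime] (hS : IsPGroup p S) (hF : F.IsSaturated p)
    (h₁ : E₁.IsNormalIn F p) (h₂ : E₂.IsNormalIn F p) {U : Subgroup Ω} (hU : U ∈ meetUf F (T₁ ⊓ T₂))
    {G : Type u} [Group G] {ι : ↥(normalizerIn S U) →* G} (hG : MeetLocGrp p F (T₁ ⊓ T₂) U ι) :
    (meetJ p F E₁ E₂ U ι hG.hQ).Normal := by
  haveI n₁ := meet_hgen_normal hS hF E₁ h₁ hU hG
  haveI n₂ := meet_hgen_normal hS hF E₂ h₂ hU hG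
  unfold meetJ
  infer_instance

/-- (L2) `ι x ∈ J(U) ↔ x ∈ W`. -/
theorem meet_J_mem_iff [Finite S] [Fact p.Prime] (hS : IsPGroup p S) (hF : F.IsSaturated p)
    (h₁ : E₁.IsNormalIn F p) (h₂ : E₂.IsNormalIn F p) {U : Subgroup Ω} (hU : U ∈ meetUf F (T₁ ⊓ T₂))
    {G : Type u} [Group G] {ι : ↥(normalizerIn S U) →* G} (hG : MeetLocGrp p F (T₁ ⊓ T₂) U ι)
    (x : ↥(normalizerIn S U)) : ι x ∈ meetJ p F E₁ E₂ U ι hG.hQ ↔ (x : Ω) ∈ T₁ ⊓ T₂ := by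
  unfold meetJ
  rw [Subgroup.mem_inf, Subgroup.mem_inf, meet_hgen_syl hS hF E₁ h₁ inf_le_left hU hG x,
    meet_hgen_syl hS hF E₂ h₂ inf_le_right hU hG x]

/-- (L2) `[ι Q_U, J] ≤ ι U`. -/
theorem meet_J_comm_Q [Finite S] [Fact p.Prime] (hS : IsPGroup p S) (hF : F.IsSaturated p)
    (h₁ : E₁.IsNormalIn F p) (h₂ : E₂.IsNormalIn F p) {U : Subgroup Ω} (hU : U ∈ meetUf F (T₁ ⊓ T₂))
    {G : Type u} [Group G] {ι : ↥(normalizerIn S U) →* G} (hG : MeetLocGrp p F (T₁ ⊓ T₂) U ι)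
    (j : G) (hj : j ∈ meetJ p F E₁ E₂ U ι hG.hQ) (x : ↥(normalizerIn S U)) (hx : (x : Ω) ∈ meetQ S U) :
    ∃ y : ↥(normalizerIn S U), (y : Ω) ∈ U ∧ ι y = j * ι x * j⁻¹ * (ι x)⁻¹ := by
  haveI hn := meet_J_normal hS hF h₁ h₂ hU hG
  obtain ⟨y', hy', hy'e⟩ := hG.normQ j x hx
  have hUS : U ≤ S := hU.2.1
  have hCU : centralizerIn (T₁ ⊓ T₂) U ≤ U := hU.1.2 U (Fusion.isConj_refl F hUS)
  refine ⟨y' * x⁻¹, ?_, ?_⟩
  · have hmemJ : ι (y' * x⁻¹) ∈ meetJ p F E₁ E₂ U ι hG.hQ := by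
      rw [map_mul, map_inv, hy'e]
      have h1 : j * ι x * j⁻¹ * (ι x)⁻¹ = j * (ι x * j⁻¹ * (ι x)⁻¹) := by group
      rw [h1]
      exact Subgroup.mul_mem _ hj (hn.conj_mem _ (Subgroup.inv_mem _ hj) (ι x))
    have hW : ((y' * x⁻¹ : ↥(normalizerIn S U)) : Ω) ∈ T₁ ⊓ T₂ :=
      (meet_J_mem_iff hS hF h₁ h₂ hU hG _).1 hmemJ
    have hQ : ((y' * x⁻¹ : ↥(normalizerIn S U)) : Ω) ∈ meetQ S U := by
      show (y' : Ω) * ((x⁻¹ : ↥(normalizerIn S U)) : Ω) ∈ meetQ S U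
      rw [Subgroup.coe_inv]
      exact Subgroup.mul_mem _ hy' (Subgroup.inv_mem _ hx)
    exact meet_jc_Q_inf hU.1.1 hCU hQ hW
  · rw [map_mul, map_inv, hy'e]

/-- An element of `J(U)` centralizing `ι U` is a `p`-element. -/
theorem meet_J_pElem [Finite S] [Fact p.Prime] (hS : IsPGroup p S) (hF : F.IsSaturated p)
    (h₁ : E₁.IsNormalIn F p) (h₂ : E₂.IsNormalIn F p) {U : Subgroup Ω} (hU : U ∈ meetUf F (T₁ ⊓ T₂))
    {G : Type u} [Group G] {ι : ↥(normalizerIn S U) →* G} (hG : MeetLocGrp p F (T₁ ⊓ T₂) U ι) (g : G)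
    (hg : g ∈ meetJ p F E₁ E₂ U ι hG.hQ)
    (hc : ∀ x : ↥(normalizerIn S U), (x : Ω) ∈ U → g * ι x = ι x * g) :
    ∃ n : ℕ, g ^ (p ^ n) = 1 := by
  haveI := hG.fin
  set Qg : Subgroup G := ((meetQ S U).subgroupOf (normalizerIn S U)).map ι with hQg
  set Ug : Subgroup G := (U.subgroupOf (normalizerIn S U)).map ι with hUg
  have hmemQ : ∀ y : G, y ∈ Qg ↔ ∃ x : ↥(normalizerIn S U), (x : Ω) ∈ meetQ S U ∧ ι x = y := by
    intro y
    rw [hQg, Subgroup.mem_map]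
    constructor
    · rintro ⟨x, hx, rfl⟩
      exact ⟨x, Subgroup.mem_subgroupOf.1 hx, rfl⟩
    · rintro ⟨x, hx, rfl⟩
      exact ⟨x, Subgroup.mem_subgroupOf.2 hx, rfl⟩
  have hmemU : ∀ y : G, y ∈ Ug ↔ ∃ x : ↥(normalizerIn S U), (x : Ω) ∈ U ∧ ι x = y := by
    intro y
    rw [hUg, Subgroup.mem_map]
    constructor
    · rintro ⟨x, hx, rfl⟩
      exact ⟨x, Subgroup.mem_subgroupOf.1 hx, rfl⟩
    · rintro ⟨x, hx, rfl⟩
      exact ⟨x, Subgroup.mem_subgroupOf.2 hx, rfl⟩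
  have hNp : IsPGroup p ↥(normalizerIn S U) := hS.to_le inf_le_left
  have hQp : IsPGroup p Qg := (hNp.to_subgroup _).map ι
  have hUQ : Ug ≤ Qg := by
    intro y hy
    obtain ⟨x, hx, rfl⟩ := (hmemU y).1 hy
    exact (hmemQ _).2 ⟨x, meet_le_Q S U hx, rfl⟩
  have hCQ : Subgroup.centralizer (Qg : Set G) ≤ Qg := by
    intro c hcc
    rw [Subgroup.mem_centralizer_iff] at hcc
    obtain ⟨y, hy, hye⟩ := hG.cent c (fun x hx => (hcc (ι x) ((hmemQ _).2 ⟨x, hx, rfl⟩)).symm)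
    exact (hmemQ _).2 ⟨y, hy, hye⟩
  refine meet_pc_stab_pelem p Qg Ug hQp hUQ hCQ g ?_ ?_
  · intro z hz
    obtain ⟨x, hx, rfl⟩ := (hmemU z).1 hz
    exact hc x hx
  · intro q hq
    obtain ⟨x, hx, rfl⟩ := (hmemQ q).1 hq
    obtain ⟨y, hy, hye⟩ := meet_J_comm_Q hS hF h₁ h₂ hU hG g hg x hx
    exact (hmemU _).2 ⟨y, hy, hye⟩

/-- (CEN) an element of `J(U)` centralizing `U` lies in `Z(U)`. -/
theorem meet_J_cen [Finite S] [Fact p.Prime] (hS : IsPGroup p S) (hF : F.IsSaturated p) (h₁ : E₁.IsNormalIn F p)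
    (h₂ : E₂.IsNormalIn F p) {U : Subgroup Ω} (hU : U ∈ meetUf F (T₁ ⊓ T₂)) {G : Type u} [Group G]
    {ι : ↥(normalizerIn S U) →* G} (hG : MeetLocGrp p F (T₁ ⊓ T₂) U ι) (g : G)
    (hg : g ∈ meetJ p F E₁ E₂ U ι hG.hQ)
    (hc : ∀ x : ↥(normalizerIn S U), (x : Ω) ∈ U → g * ι x = ι x * g) :
    ∃ z : ↥(normalizerIn S U), (z : Ω) ∈ U ∧ ι z = g := by
  classical
  haveI := hG.fin
  haveI hn := meet_J_normal hS hF h₁ h₂ hU hG
  have hUS : U ≤ S := hU.2.1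
  have hUN : U ≤ normalizerIn S U := Fusion.le_normalizerIn hUS
  have hCU : centralizerIn (T₁ ⊓ T₂) U ≤ U := hU.1.2 U (Fusion.isConj_refl F hUS)
  obtain ⟨n, hn1⟩ := meet_J_pElem hS hF h₁ h₂ hU hG g hg hc
  -- `⟨g⟩` is a `p`-group, hence inside a conjugate of the Sylow subgroup `ι(N_S(U))`
  have hzp : IsPGroup p (Subgroup.zpowers g) := by
    rintro ⟨h, hh⟩
    obtain ⟨k, rfl⟩ := Subgroup.mem_zpowers_iff.1 hh
    refine ⟨n, Subtype.ext ?_⟩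
    show (g ^ k) ^ (p ^ n) = 1
    rw [← zpow_natCast, ← zpow_mul, mul_comm, zpow_mul, zpow_natCast, hn1, one_zpow]
  obtain ⟨Q, hQ⟩ := hzp.exists_le_sylow
  obtain ⟨P, hP⟩ := hG.syl
  obtain ⟨c, hcQ⟩ := MulAction.exists_smul_eq G Q P
  have hgQ : g ∈ (Q : Subgroup G) := hQ (Subgroup.mem_zpowers g)
  have hcg : c * g * c⁻¹ ∈ ι.range := by
    rw [← hP, ← hcQ]
    show c * g * c⁻¹ ∈ MulAut.conj c • (Q : Subgroup G)
    exact Subgroup.smul_mem_pointwise_smul g (MulAut.conj c) _ hgQ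
  obtain ⟨z, hz⟩ := hcg
  -- `z ∈ W`
  have hzJ : ι z ∈ meetJ p F E₁ E₂ U ι hG.hQ := by
    rw [hz]
    exact hn.conj_mem g hg c
  have hzW : (z : Ω) ∈ T₁ ⊓ T₂ := (meet_J_mem_iff hS hF h₁ h₂ hU hG z).1 hzJ
  -- `z` centralizes `U`
  have hzC : (z : Ω) ∈ Subgroup.centralizer (U : Set Ω) := by
    rw [Subgroup.mem_centralizer_iff]
    intro a ha
    obtain ⟨x', hx', hx'e⟩ := hG.normU c⁻¹ ⟨a, hUN ha⟩ ha
    rw [inv_inv] at hx'e
    have h1 : ι ⟨a, hUN ha⟩ = c * ι x' * c⁻¹ := by rw [hx'e]; group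
    have h2 : ι (⟨a, hUN ha⟩ * z) = ι (z * ⟨a, hUN ha⟩) := by
      rw [map_mul, map_mul, hz, h1]
      have h3 := hc x' hx'
      calc c * ι x' * c⁻¹ * (c * g * c⁻¹) = c * (ι x' * g) * c⁻¹ := by group
        _ = c * (g * ι x') * c⁻¹ := by rw [h3]
        _ = c * g * c⁻¹ * (c * ι x' * c⁻¹) := by group
    have h4 := hG.inj h2
    exact congrArg Subtype.val h4
  have hzU : (z : Ω) ∈ U := hCU ⟨hzW, hzC⟩
  -- back to `g`
  obtain ⟨y, hy, hye⟩ := hG.normU c⁻¹ z hzU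
  refine ⟨y, hy, ?_⟩
  rw [hye, hz, inv_inv]
  group

end Cfsg.Agent.MEET
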