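import Mathlib
import Cfsg.Agent.MEET.CmBf
import Cfsg.Agent.MEET.Jcen

/-!
# Project MEET, (CM-b), part g: the core theorem

`j ∈ J(Y₀)` inducing (through `μ = ι₀ ∘ ω'`) the automorphism `β` of `U`: then `β ∈ A0(U)`.
-/

set_option autoImplicit false
set_option linter.unusedVariables false
set_option maxHeartbeats 3200000

namespace Cfsg.Agent.MEET

open Cfsg Cfsg.FusionSystem Cfsg.Agent.Lead Cfsg.Agent.CSE

universe u

variable {Ω : Type u} [Group Ω] {S : Subgroup Ω} {p : ℕ} {F : FusionSystem S} {T₁ T₂ : Subgroup Ω}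
  {E₁ : FusionSystem T₁} {E₂ : FusionSystem T₂}

theorem meet_cmb_core [Finite S] [Fact p.Prime] (hS : IsPGroup p S) (hF : F.IsSaturated p)
    (h₁ : E₁.IsNormalIn F p) (h₂ : E₂.IsNormalIn F p) {U Y0 : Subgroup Ω}
    (hU : U ∈ meetUf F (T₁ ⊓ T₂)) (hY0 : Y0 ∈ meetUf F (T₁ ⊓ T₂)) {G0 : Type u} [Group G0]
    {ι0 : ↥(normalizerIn S Y0) →* G0} (hG0 : MeetLocGrp p F (T₁ ⊓ T₂) Y0 ι0)
    {ω' : ↥(normalizerIn S U) →* Ω} (hω' : ω' ∈ F.Hom (normalizerIn S U))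
    (hω'N : ∀ x, ω' x ∈ normalizerIn S Y0)
    (hωY : ∀ y : Ω, y ∈ Y0 ↔ ∃ n : ↥(normalizerIn S U), (n : Ω) ∈ normalizerIn (T₁ ⊓ T₂) U ∧ ω' n = y)
    (j : G0) (hj : j ∈ meetJ p F E₁ E₂ Y0 ι0 hG0.hQ) (hUN : U ≤ normalizerIn S U) (β : MulAut U)
    (hβ : ∀ u : U, meetMu ι0 ω' hω'N ⟨((β u : U) : Ω), hUN (β u).2⟩ =
      j * meetMu ι0 ω' hω'N ⟨u, hUN u.2⟩ * j⁻¹) :
    β ∈ meetA0 p F E₁ E₂ U := by
  classical
  replace hβ : ∀ u : U, (meetMu ι0 ω' hω'N) ⟨((β u : U) : Ω), hUN (β u).2⟩ =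
      j * (meetMu ι0 ω' hω'N) ⟨u, hUN u.2⟩ * j⁻¹ := hβ
  have hW : F.StronglyClosed (T₁ ⊓ T₂) := meet_pc_inf_sc h₁ h₂
  have hWS : T₁ ⊓ T₂ ≤ S := hW.1
  have hUW : U ≤ T₁ ⊓ T₂ := hU.1.1
  have hUS : U ≤ S := hUW.trans hWS
  haveI : Finite G0 := hG0.fin
  set μ := meetMu ι0 ω' hω'N with hμ
  have hμι : ∀ n : ↥(normalizerIn S U), μ n = ι0 ⟨ω' n, hω'N n⟩ := fun n => rfl
  have hω'inj : Function.Injective ω' := F.injective_of_mem hω'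
  have hμinj : Function.Injective μ := meetMu_injective ι0 hG0.inj ω' hω'inj hω'N
  set V : Subgroup G0 := meetIm μ U with hV
  set P₁ : Subgroup G0 := μ.range with hP₁
  set Yi : Subgroup G0 := meetIm μ (normalizerIn (T₁ ⊓ T₂) U) with hYi
  set J : Subgroup G0 := meetJ p F E₁ E₂ Y0 ι0 hG0.hQ with hJ
  haveI hJn : J.Normal := meet_pc_J_normal hS hF h₁ h₂ hY0 hG0
  have hQN : meetQ S U ≤ normalizerIn S U := meet_pc_Q_le le_rfl hUS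
  have hUY : U ≤ normalizerIn (T₁ ⊓ T₂) U := Fusion.le_normalizerIn hUW
  have hμV : ∀ u : U, μ ⟨u, hUN u.2⟩ ∈ V := fun u => (meet_hgen_mem_im μ U _).mpr ⟨_, u.2, rfl⟩
  -- `ι₀ y ∈ Yi` for `y ∈ Y₀`
  have hY0Yi : ∀ y : ↥(normalizerIn S Y0), (y : Ω) ∈ Y0 → ι0 y ∈ Yi := by
    intro y hy
    obtain ⟨n, hn, hny⟩ := (hωY _).mp hy
    refine (meet_hgen_mem_im μ _ _).mpr ⟨n, hn, ?_⟩
    rw [hμι]
    congr 1
    exact Subtype.ext hny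
  have hYiY0 : ∀ g ∈ Yi, ∃ y : ↥(normalizerIn S Y0), (y : Ω) ∈ Y0 ∧ ι0 y = g := by
    intro g hg
    obtain ⟨n, hn, rfl⟩ := (meet_hgen_mem_im μ _ g).mp hg
    exact ⟨⟨ω' n, hω'N n⟩, (hωY _).mpr ⟨n, hn, rfl⟩, rfl⟩
  haveI hYin : Yi.Normal := by
    refine ⟨fun g hg k => ?_⟩
    obtain ⟨y, hy, rfl⟩ := hYiY0 g hg
    obtain ⟨y', hy', hyy'⟩ := hG0.normU k y hy
    rw [← hyy']
    exact hY0Yi y' hy'
  obtain ⟨Psyl, hPsyl⟩ := hG0.syl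
  have hSgp : IsPGroup p ι0.range := hPsyl ▸ Psyl.isPGroup'
  have hP₁Sg : P₁ ≤ ι0.range := by
    rintro _ ⟨n, rfl⟩
    exact ⟨⟨ω' n, hω'N n⟩, rfl⟩
  have hYiP₁ : Yi ≤ P₁ := meet_hgen_im_le_range μ _
  have hYip : IsPGroup p Yi := hSgp.to_le (hYiP₁.trans hP₁Sg)
  have hVY : V ≤ Yi := by
    intro g hg
    obtain ⟨n, hn, rfl⟩ := (meet_hgen_mem_im μ U g).mp hg
    exact (meet_hgen_mem_im μ _ _).mpr ⟨n, hUY hn, rfl⟩
  have hP₁N : P₁ ≤ Subgroup.normalizer (V : Set G0) := by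
    rintro _ ⟨n, rfl⟩
    exact meet_cmb_mu_normalizer μ n
  have hYN : Yi ≤ Subgroup.normalizer (V : Set G0) := hYiP₁.trans hP₁N
  -- membership in `J`
  have hmemJ : ∀ n : ↥(normalizerIn S U), μ n ∈ J → (n : Ω) ∈ normalizerIn (T₁ ⊓ T₂) U := by
    intro n hn
    rw [hμι] at hn
    have h1 := (meet_cme_mem_J_iff hS hF h₁ h₂ hY0 hG0 _).mp hn
    have h2 : (n : Ω) ∈ T₁ ⊓ T₂ := meet_cmb_sc_reflect F hW hω' n h1
    exact ⟨h2, n.2.2⟩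
  have hcen : J ⊓ Subgroup.centralizer (Yi : Set G0) ≤ Yi := by
    rintro g ⟨hgJ, hgC⟩
    have hc : ∀ x : ↥(normalizerIn S Y0), (x : Ω) ∈ Y0 → g * ι0 x = ι0 x * g := by
      intro x hx
      exact (Subgroup.mem_centralizer_iff.mp hgC _ (hY0Yi x hx)).symm
    obtain ⟨z, hz, hzg⟩ := meet_J_cen hS hF h₁ h₂ hY0 hG0 g hgJ hc
    rw [← hzg]
    exact hY0Yi z hz
  have hcw : Yi ⊓ Subgroup.centralizer (V : Set G0) ≤ V := by
    rintro g ⟨hgY, hgC⟩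
    obtain ⟨n, hn, rfl⟩ := (meet_hgen_mem_im μ _ g).mp hgY
    have hnC : (n : Ω) ∈ Subgroup.centralizer (U : Set Ω) := by
      rw [Subgroup.mem_centralizer_iff]
      intro u hu
      have h1 := Subgroup.mem_centralizer_iff.mp hgC _ (hμV ⟨u, hu⟩)
      have h2 : μ (⟨u, hUN hu⟩ * n) = μ (n * ⟨u, hUN hu⟩) := by
        rw [map_mul, map_mul]; exact h1
      exact congrArg (Subtype.val : ↥(normalizerIn S U) → Ω) (hμinj h2)
    have h3 : (n : Ω) ∈ centralizerIn (T₁ ⊓ T₂) U := ⟨hn.1, hnC⟩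
    have h4 := hU.1.2 U (Fusion.isConj_refl F hUS) h3
    exact (meet_hgen_mem_im μ U _).mpr ⟨n, h4, rfl⟩
  have hmax := meet_cmb_hmax hG0 hU.2 hω' hω'N hUN
  have hsyl := meet_grp_sylow_nrm p ι0.range V P₁ ⟨Psyl, hPsyl⟩ (meet_hgen_im_le_range μ U) hP₁Sg hP₁N hmax
  have hP₁J : P₁ ⊓ J ≤ Yi := by
    rintro _ ⟨⟨n, rfl⟩, hnJ⟩
    exact (meet_hgen_mem_im μ _ _).mpr ⟨n, hmemJ n hnJ, rfl⟩
  have hL0 := meet_grp_L0 p J Yi V P₁ hYip hVY hYN hcen hcw hsyl hP₁J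
  -- `N_{Sg}(V) = P₁`
  have hS0 : ι0.range ⊓ Subgroup.normalizer (V : Set G0) ≤ P₁ := by
    have h1 : V.map (MulAut.conj (1 : G0)).toMonoidHom = V := by
      ext g
      constructor
      · rintro ⟨v, hv, rfl⟩
        simpa using hv
      · intro hg
        exact ⟨g, hg, by simp⟩
    have h2 := hmax 1 (ι0.range ⊓ Subgroup.normalizer (V : Set G0)) inf_le_left
      (h1.symm ▸ le_inf ((meet_hgen_im_le_range μ U).trans hP₁Sg) Subgroup.le_normalizer)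
      (h1.symm ▸ inf_le_right)
    have h3 : P₁ ≤ ι0.range ⊓ Subgroup.normalizer (V : Set G0) := le_inf hP₁Sg hP₁N
    exact le_of_eq (Subgroup.eq_of_le_of_card_ge h3 h2).symm
  -- the subgroup `Z`
  set Z : Subgroup G0 := meetCmbZ μ hUN (meetA0 p F E₁ E₂ U) with hZ
  have hZn : ∀ g ∈ Subgroup.normalizer (V : Set G0), ∀ z ∈ Z, g⁻¹ * z * g ∈ Z := by
    intro g hg z hz
    obtain ⟨γ, hγF, hγ⟩ := meet_cmb_autU hG0 hω' hω'N hUN g hg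
    replace hγ : ∀ u : U, μ ⟨((γ u : U) : Ω), hUN (γ u).2⟩ = g * μ ⟨u, hUN u.2⟩ * g⁻¹ := hγ
    obtain ⟨βz, hβz, hz'⟩ := (meet_cmb_mem_Z μ hUN _ z).mp hz
    have hnorm := meet_pc_A0_normal hS hF h₁ h₂ hU γ⁻¹ (Subgroup.inv_mem _ hγF) βz hβz
    refine (meet_cmb_mem_Z μ hUN _ _).mpr ⟨γ⁻¹ * βz * γ⁻¹⁻¹, hnorm, fun u => ?_⟩
    have hγinv : ∀ w : U, μ ⟨((γ⁻¹ w : U) : Ω), hUN (γ⁻¹ w).2⟩ = g⁻¹ * μ ⟨w, hUN w.2⟩ * g := by
      intro w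
      have h1 := hγ (γ⁻¹ w)
      have h2 : γ (γ⁻¹ w) = w := by simp
      rw [h2] at h1
      rw [h1]; group
    have h3 : ((γ⁻¹ * βz * γ⁻¹⁻¹) u : U) = γ⁻¹ (βz (γ u)) := by simp
    rw [h3, hγinv, hz', hγ]
    group
  have hP₁Z : P₁ ⊓ J ≤ Z := by
    rintro _ ⟨⟨n, rfl⟩, hnJ⟩
    have hnY := hmemJ n hnJ
    obtain ⟨α, hαF, hα⟩ := meet_cmb_autU hG0 hω' hω'N hUN (μ n) (hP₁N ⟨n, rfl⟩)
    replace hα : ∀ u : U, μ ⟨((α u : U) : Ω), hUN (α u).2⟩ = μ n * μ ⟨u, hUN u.2⟩ * (μ n)⁻¹ := hα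
    refine (meet_cmb_mem_Z μ hUN _ _).mpr ⟨α, ?_, hα⟩
    refine Subgroup.mem_sup_right (Subgroup.subset_closure ⟨(n : Ω), hnY.1, fun u => ?_⟩)
    have h1 := hα u
    have h2 : μ n * μ ⟨u, hUN u.2⟩ * (μ n)⁻¹ = μ (n * ⟨u, hUN u.2⟩ * n⁻¹) := by
      rw [map_mul, map_mul, map_inv]
    rw [h2] at h1
    exact congrArg (Subtype.val : ↥(normalizerIn S U) → Ω) (hμinj h1)
  have hpp : ∀ x ∈ J ⊓ Subgroup.normalizer (V : Set G0), (∃ m : ℕ, m.Coprime p ∧ x ^ m = 1) → x ∈ Z := by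
    rintro x ⟨hxJ, hxN⟩ hxp
    have hcomm : ∀ c : ↥(normalizerIn S U), (c : Ω) ∈ centralizerIn S U →
        x * μ c * x⁻¹ * (μ c)⁻¹ ∈ V := by
      intro c hc
      have hcC : μ c ∈ Subgroup.centralizer (V : Set G0) := by
        rw [Subgroup.mem_centralizer_iff]
        intro v hv
        obtain ⟨n, hn, rfl⟩ := (meet_hgen_mem_im μ U v).mp hv
        rw [← map_mul, ← map_mul]
        congr 1
        apply Subtype.ext
        exact Subgroup.mem_centralizer_iff.mp hc.2 _ hn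
      apply hL0
      refine ⟨?_, ?_⟩
      · have h1 : μ c * x⁻¹ * (μ c)⁻¹ ∈ J := hJn.conj_mem _ (J.inv_mem hxJ) _
        have h2 := J.mul_mem hxJ h1
        have h3 : x * (μ c * x⁻¹ * (μ c)⁻¹) = x * μ c * x⁻¹ * (μ c)⁻¹ := by group
        rw [← h3]; exact h2
      · exact Subgroup.mul_mem _ (meet_cmgrp_conj_centralizer V x hxN _ hcC) (Subgroup.inv_mem _ hcC)
    obtain ⟨b, hbF, hbind, hbU⟩ := meet_cmb_bQ hG0 hω' hω'N hUS x hxN hcomm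
    have hbind' : ∀ q : ↥(meetQ S U), μ ⟨((b q : ↥(meetQ S U)) : Ω), hQN (b q).2⟩ =
        x * μ ⟨q, hQN q.2⟩ * x⁻¹ := hbind
    have hres1 := meet_cmb_resIn hS hF E₁ h₁ inf_le_left hUW hY0 hG0 hω' hω'N hωY hS0 hUS x hxJ.1 hxp b hbind hbU
    have hres2 := meet_cmb_resIn hS hF E₂ h₂ inf_le_right hUW hY0 hG0 hω' hω'N hωY hS0 hUS x hxJ.2 hxp b hbind hbU
    obtain ⟨m, hm, hxm⟩ := hxp
    have hcop : (orderOf b).Coprime p := (meet_cmb_ind_coprime μ hμinj x hQN b hbind' p m hm hxm).2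
    have hbB0 : b ∈ meetB0 p F E₁ E₂ U := ⟨hbF, hcop, hbU, hres1, hres2⟩
    -- the restriction of `b` to `U`
    have hQS : meetQ S U ≤ S := meet_hgen_Q_le_S hUS
    have hψ : ((meetQ S U).subtype.comp b.toMonoidHom).comp (Subgroup.inclusion (meet_le_Q S U)) ∈ F.Hom U :=
      Fusion.restrict_mem F ((Fusion.mem_autGroup_iff F hQS b).mp hbF) (meet_le_Q S U)
    have hψU : ∀ u : U, (((meetQ S U).subtype.comp b.toMonoidHom).comp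
        (Subgroup.inclusion (meet_le_Q S U))) u ∈ U := by
      intro u
      have h1 := hbU (Subgroup.inclusion (meet_le_Q S U) u)
      have h2 : ((b (Subgroup.inclusion (meet_le_Q S U) u) : ↥(meetQ S U)) : Ω) =
          (u : Ω) * ((u : Ω)⁻¹ * ((b (Subgroup.inclusion (meet_le_Q S U) u) : ↥(meetQ S U)) : Ω)) := by group
      show ((b (Subgroup.inclusion (meet_le_Q S U) u) : ↥(meetQ S U)) : Ω) ∈ U
      rw [h2]
      exact U.mul_mem u.2 h1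
    obtain ⟨β', hβ'F, hβ'v⟩ := cse_aut_of_hom F _ hψ hψU
    refine (meet_cmb_mem_Z μ hUN _ _).mpr ⟨β', ?_, fun u => ?_⟩
    · exact Subgroup.mem_sup_left (Subgroup.subset_closure ⟨b, hbB0, fun u => hβ'v u⟩)
    · have h1 := hbind' (Subgroup.inclusion (meet_le_Q S U) u)
      have h2 : (⟨((β' u : U) : Ω), hUN (β' u).2⟩ : ↥(normalizerIn S U)) =
          ⟨((b (Subgroup.inclusion (meet_le_Q S U) u) : ↥(meetQ S U)) : Ω), hQN (b _).2⟩ :=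
        Subtype.ext (hβ'v u)
      rw [h2]
      exact h1
  -- `j` normalizes `V`
  have hjN : j ∈ Subgroup.normalizer (V : Set G0) := by
    apply meet_cmb_mem_normalizer
    · intro v hv
      obtain ⟨n, hn, rfl⟩ := (meet_hgen_mem_im μ U v).mp hv
      have h1 := hβ ⟨n, hn⟩
      have h2 : (⟨((⟨n, hn⟩ : U) : Ω), hUN hn⟩ : ↥(normalizerIn S U)) = n := Subtype.ext rfl
      rw [h2] at h1
      rw [← h1]
      exact hμV _
    · intro v hv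
      obtain ⟨n, hn, rfl⟩ := (meet_hgen_mem_im μ U v).mp hv
      have h1 := hβ (β⁻¹ ⟨n, hn⟩)
      have h2 : β (β⁻¹ ⟨n, hn⟩) = ⟨n, hn⟩ := by simp
      rw [h2] at h1
      have h3 : (⟨((⟨n, hn⟩ : U) : Ω), hUN hn⟩ : ↥(normalizerIn S U)) = n := Subtype.ext rfl
      rw [h3] at h1
      rw [h1]
      have h4 : j⁻¹ * (j * μ ⟨((β⁻¹ ⟨n, hn⟩ : U) : Ω), hUN (β⁻¹ ⟨n, hn⟩).2⟩ * j⁻¹) * j =
          μ ⟨((β⁻¹ ⟨n, hn⟩ : U) : Ω), hUN (β⁻¹ ⟨n, hn⟩).2⟩ := by group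
      rw [h4]
      exact hμV _
  have hjZ := meet_grp_gen p J V P₁ Z hsyl hZn hpp hP₁Z ⟨hj, hjN⟩
  obtain ⟨β', hβ'A, hβ'⟩ := (meet_cmb_mem_Z μ hUN _ j).mp hjZ
  have heq : β' = β := by
    ext u
    have h1 := (hβ' u).trans (hβ u).symm
    exact congrArg (Subtype.val : ↥(normalizerIn S U) → Ω) (hμinj h1)
  rw [← heq]
  exact hβ'A

end Cfsg.Agent.MEET
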