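import Mathlib
import Cfsg.Agent.MEET.CmBg
import Cfsg.Agent.Lead.FusionSat2
import Cfsg.Agent.Lead.FusionStab

/-!
# Project MEET, (CM-b) = the field (E5) `cmb` of the engine for the concrete automizers

`U ∈ U_f`, `Y = N_W(U)`, `a ∈ A(Y)` with `a(U) = U`: then `a|_U ∈ A(U)` (`notes/MEET_helper8.md`, section 4).
`Y` is carried by a map `ω` of `F`, defined on `N_S(Y) ≥ N_S(U)`, onto a fully normalized `Y₀`; `ω a ω⁻¹ ∈ A0(Y₀)` is
induced by an element `j` of `J(Y₀)` in the local group of `Y₀`, and `meet_cmb_core` applies.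
-/

set_option autoImplicit false
set_option linter.unusedVariables false
set_option maxHeartbeats 1600000

namespace Cfsg.Agent.MEET

open Cfsg Cfsg.FusionSystem Cfsg.Agent.Lead Cfsg.Agent.CSE

universe u

variable {Ω : Type u} [Group Ω] {S : Subgroup Ω} {p : ℕ} {F : FusionSystem S} {T₁ T₂ : Subgroup Ω}
  {E₁ : FusionSystem T₁} {E₂ : FusionSystem T₂}

/-- The family `meetH` is closed under overgroups inside `W`. -/
theorem meet_cmb_H_mono {W U P : Subgroup Ω} (hU : U ∈ meetH F W) (hUP : U ≤ P) (hPW : P ≤ W) :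
    P ∈ meetH F W := by
  refine ⟨hPW, ?_⟩
  rintro P' ⟨φ, hφ, hr⟩
  set U' : Subgroup Ω := (U.subgroupOf P).map φ with hU'
  have hc : F.IsConj U U' := by
    refine ⟨φ.comp (Subgroup.inclusion hUP), Fusion.restrict_mem F hφ hUP, ?_⟩
    ext y
    constructor
    · rintro ⟨u, rfl⟩
      exact ⟨Subgroup.inclusion hUP u, Subgroup.mem_subgroupOf.mpr u.2, rfl⟩
    · rintro ⟨x, hx, rfl⟩
      exact ⟨⟨x, Subgroup.mem_subgroupOf.mp hx⟩, rfl⟩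
  have hU'P' : U' ≤ P' := by
    rintro _ ⟨x, -, rfl⟩
    rw [← hr]; exact ⟨x, rfl⟩
  intro c hc'
  have h1 : c ∈ centralizerIn W U' :=
    ⟨hc'.1, Subgroup.centralizer_le (by exact_mod_cast hU'P') hc'.2⟩
  exact hU'P' (hU.2 U' hc h1)

theorem meet_cm_cmb [Finite S] [Fact p.Prime] (hS : IsPGroup p S) (hF : F.IsSaturated p) (h₁ : E₁.IsNormalIn F p)
    (h₂ : E₂.IsNormalIn F p) :
    ∀ U ∈ meetH F (T₁ ⊓ T₂), F.IsFullyNormalized U → ∀ (hUN : U ≤ normalizerIn (T₁ ⊓ T₂) U),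
      ∀ a ∈ meetA p F E₁ E₂ (normalizerIn (T₁ ⊓ T₂) U), ∀ β : MulAut U, MeetRes hUN a β →
        β ∈ meetA p F E₁ E₂ U := by
  classical
  intro U hUH hUfn hUY a ha β hres
  have hU : U ∈ meetUf F (T₁ ⊓ T₂) := ⟨hUH, hUfn⟩
  have hW : F.StronglyClosed (T₁ ⊓ T₂) := meet_pc_inf_sc h₁ h₂
  have hWS : T₁ ⊓ T₂ ≤ S := hW.1
  have hUW : U ≤ T₁ ⊓ T₂ := hUH.1
  have hUS : U ≤ S := hUW.trans hWS
  have hYW : normalizerIn (T₁ ⊓ T₂) U ≤ T₁ ⊓ T₂ := inf_le_left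
  have hYS : normalizerIn (T₁ ⊓ T₂) U ≤ S := hYW.trans hWS
  have hYH : normalizerIn (T₁ ⊓ T₂) U ∈ meetH F (T₁ ⊓ T₂) := meet_cmb_H_mono hUH hUY hYW
  have hYNU : normalizerIn (T₁ ⊓ T₂) U ≤ normalizerIn S U := inf_le_inf_right _ hWS
  -- Step 1: the map `ω`
  obtain ⟨Y0, hconj, hfn0⟩ := Fusion.exists_isConj_fullyNormalized F hYS
  have h12 := Fusion.fullyCentralized_fullyAutomized_of_fullyNormalized p hS F hF hfn0
  have hrec := Fusion.receptive_of_fullyCentralized p hS F hF h12.1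
  obtain ⟨ω, hω, hωN, hωY⟩ := Fusion.exists_hom_normalizerIn p hS F h12.2 hrec hconj
  have hY0 : Y0 ∈ meetUf F (T₁ ⊓ T₂) := ⟨meet_H_conj hW hYH hconj, hfn0⟩
  have hY0S : Y0 ≤ S := hfn0.1
  have hY0N : Y0 ≤ normalizerIn S Y0 := Fusion.le_normalizerIn hY0S
  have hYNY : normalizerIn (T₁ ⊓ T₂) U ≤ normalizerIn S (normalizerIn (T₁ ⊓ T₂) U) :=
    Fusion.le_normalizerIn hYS
  -- `N_S(U) ≤ N_S(Y)`
  have hWn := Fusion.le_normalizer_of_stronglyClosed F hW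
  have hNUY : normalizerIn S U ≤ normalizerIn S (normalizerIn (T₁ ⊓ T₂) U) := by
    intro x hx
    have key : ∀ z : Ω, z ∈ normalizerIn S U → ∀ y ∈ normalizerIn (T₁ ⊓ T₂) U,
        z * y * z⁻¹ ∈ normalizerIn (T₁ ⊓ T₂) U := by
      intro z hz y hy
      refine ⟨(Subgroup.mem_normalizer_iff.mp (hWn hz.1) y).mp hy.1, ?_⟩
      exact Subgroup.mul_mem _ (Subgroup.mul_mem _ hz.2 hy.2) (Subgroup.inv_mem _ hz.2)
    refine ⟨hx.1, meet_cmb_mem_normalizer _ x (key x hx) ?_⟩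
    intro y hy
    have := key x⁻¹ (Subgroup.inv_mem _ hx) y hy
    simpa using this
  -- Step 3: transport of `a`
  have hωYF : ω.comp (Subgroup.inclusion hYNY) ∈ F.Hom (normalizerIn (T₁ ⊓ T₂) U) :=
    Fusion.restrict_mem F hω hYNY
  have hr : (ω.comp (Subgroup.inclusion hYNY)).range = Y0 := by
    rw [← hωY]
    ext y
    constructor
    · rintro ⟨x, rfl⟩
      exact ⟨Subgroup.inclusion hYNY x, Subgroup.mem_subgroupOf.mpr x.2, rfl⟩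
    · rintro ⟨x, hx, rfl⟩
      exact ⟨⟨x, Subgroup.mem_subgroupOf.mp hx⟩, rfl⟩
  obtain ⟨a0, ha0⟩ := meet_exists_tr (ω.comp (Subgroup.inclusion hYNY)) (F.injective_of_mem hωYF) hr a
  have ha0A : a0 ∈ meetA p F E₁ E₂ Y0 :=
    meet_pc_inv hS hF h₁ h₂ _ hYH Y0 _ hωYF hr a ha a0 ha0
  rw [meet_A_eq_A0 hS hF h₁ h₂ hY0] at ha0A
  -- Step 4: the local group of `Y₀`
  obtain ⟨G0, _, ι0, hG0⟩ := meet_loc_exists hS hF hW hY0
  obtain ⟨j, hjJ, hj⟩ := (meet_J_aut hS hF h₁ h₂ hY0 hG0 hY0N a0).mp ha0A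
  -- Step 5: `ω'` and `μ`
  have hω' : ω.comp (Subgroup.inclusion hNUY) ∈ F.Hom (normalizerIn S U) := Fusion.restrict_mem F hω hNUY
  have hω'N : ∀ x : ↥(normalizerIn S U), (ω.comp (Subgroup.inclusion hNUY)) x ∈ normalizerIn S Y0 :=
    fun x => hωN _
  have hωY' : ∀ y : Ω, y ∈ Y0 ↔ ∃ n : ↥(normalizerIn S U), (n : Ω) ∈ normalizerIn (T₁ ⊓ T₂) U ∧
      (ω.comp (Subgroup.inclusion hNUY)) n = y := by
    intro y
    rw [← hωY]
    constructor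
    · rintro ⟨x, hx, rfl⟩
      have hxY : (x : Ω) ∈ normalizerIn (T₁ ⊓ T₂) U := Subgroup.mem_subgroupOf.mp hx
      exact ⟨⟨x, hYNU hxY⟩, hxY, rfl⟩
    · rintro ⟨n, hn, rfl⟩
      exact ⟨Subgroup.inclusion hNUY n, Subgroup.mem_subgroupOf.mpr hn, rfl⟩
  have hUN' : U ≤ normalizerIn S U := Fusion.le_normalizerIn hUS
  have hβ : ∀ u : U, meetMu ι0 (ω.comp (Subgroup.inclusion hNUY)) hω'N ⟨((β u : U) : Ω), hUN' (β u).2⟩ =
      j * meetMu ι0 (ω.comp (Subgroup.inclusion hNUY)) hω'N ⟨u, hUN' u.2⟩ * j⁻¹ := by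
    intro u
    have hu0 : (ω.comp (Subgroup.inclusion hYNY)) (Subgroup.inclusion hUY u) ∈ Y0 := hr ▸ ⟨_, rfl⟩
    have h1 := ha0 (Subgroup.inclusion hUY u) hu0
    have h2 := hj ⟨_, hu0⟩
    have h3 : ((β u : U) : Ω) = ((a (Subgroup.inclusion hUY u) : ↥(normalizerIn (T₁ ⊓ T₂) U)) : Ω) := hres u
    rw [meetMu_apply, meetMu_apply]
    have e1 : (⟨(ω.comp (Subgroup.inclusion hNUY)) ⟨((β u : U) : Ω), hUN' (β u).2⟩, hω'N _⟩ :
        ↥(normalizerIn S Y0)) = ⟨((a0 ⟨_, hu0⟩ : Y0) : Ω), hY0N (a0 ⟨_, hu0⟩).2⟩ := by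
      apply Subtype.ext
      show ω ⟨((β u : U) : Ω), _⟩ = ((a0 ⟨_, hu0⟩ : Y0) : Ω)
      rw [h1]
      show ω ⟨((β u : U) : Ω), _⟩ = ω ⟨((a (Subgroup.inclusion hUY u) : ↥(normalizerIn (T₁ ⊓ T₂) U)) : Ω), _⟩
      congr 1
      exact Subtype.ext h3
    have e2 : (⟨(ω.comp (Subgroup.inclusion hNUY)) ⟨(u : Ω), hUN' u.2⟩, hω'N _⟩ : ↥(normalizerIn S Y0)) =
        ⟨(ω.comp (Subgroup.inclusion hYNY)) (Subgroup.inclusion hUY u), hY0N hu0⟩ := Subtype.ext rfl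
    rw [e1, e2]
    exact h2
  have hcore := meet_cmb_core hS hF h₁ h₂ hU hY0 hG0 hω' hω'N hωY' j hjJ hUN' β hβ
  rw [meet_A_eq_A0 hS hF h₁ h₂ hU]
  exact hcore

end Cfsg.Agent.MEET
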