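import Mathlib
import Cfsg.Prelude.Def_FusionSystem
import Cfsg.Agent.Lead.Fusion
import Cfsg.Agent.Lead.AlperinTame
import Cfsg.Agent.MEET.LocDefs
import Cfsg.Agent.MEET.CmEa
import Cfsg.Agent.MEET.ClaimDa
import Cfsg.Agent.Lead.FusionAut
import Cfsg.Agent.Lead.FusionSat

/-!
MEET project, (LOC), part A (helper2): Alperin's fusion theorem in chain form, and the induction along the chain for a
fusion system `D` and an injective homomorphism `κ : Y →* G'` onto a Sylow `p`-subgroup of the finite group `G'`: if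
conjugation by every `x₀` normalizing `κ(R₀)` is a map of `D` on `R₀`, then conjugation by every element of `G'` between
subgroups of `Y` is a map of `D`.
-/

set_option autoImplicit false
set_option linter.unusedSectionVars false
set_option linter.unusedVariables false
set_option linter.style.haveILetI false

namespace Cfsg.Agent.MEET

open Cfsg Cfsg.FusionSystem Cfsg.Agent.Lead Cfsg.Agent.Lead.Alp

/-- Alperin's fusion theorem, chain form. -/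
theorem meet_cmloc_chain {G : Type*} [Group G] [Finite G] {p : ℕ} [Fact p.Prime] (P : Sylow p G)
    (A : Set G) (g : G) (hA : A ⊆ (P : Set G)) (hAg : conjR g A ⊆ (P : Set G)) :
    RChain (StepRel p (P : Subgroup G)) A g := by
  obtain ⟨P₀, hP₀⟩ : ∃ P₀ : Subgroup G, P₀ = (P : Subgroup G) := ⟨_, rfl⟩
  have hP : IsPGroup p P₀ := hP₀ ▸ P.2
  have hPc : Nat.card P₀ = p ^ (Nat.card G).factorization p := hP₀ ▸ P.card_eq_multiplicity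
  rw [← hP₀]
  have hA₀ : A ⊆ (P₀ : Set G) := hP₀ ▸ hA
  have hAg₀ : conjR g A ⊆ (P₀ : Set G) := hP₀ ▸ hAg
  have hA' : A ⊆ ((P₀ ⊓ cj g⁻¹ P₀ : Subgroup G) : Set G) := by
    intro a ha
    rw [SetLike.mem_coe, Subgroup.mem_inf, mem_cj, inv_inv]
    exact ⟨hA₀ ha, hAg₀ ⟨a, ha, rfl⟩⟩
  obtain ⟨x, hx⟩ := main hP hPc (cj g⁻¹ P₀) (isPGroup_cj _ hP) (card_cj _ _)
  have hm : x⁻¹ * g ∈ Subgroup.normalizer (P₀ : Set G) := by
    apply mem_normalizer_of_cj_eq_self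
    rw [cj_mul]
    have : cj x⁻¹ P₀ = cj g⁻¹ P₀ := by
      conv_lhs => rw [← hx.2]
      rw [cj_inv_cj]
    rw [this, cj_cj_inv]
  have hPc' : Nat.card P₀ = p ^ (Nat.card (⊤ : Subgroup G)).factorization p := by
    rw [Subgroup.card_top]; exact hPc
  have hstepP : StepRel p P₀ P₀ (x⁻¹ * g) := by
    have hPN : P₀ ⊓ Subgroup.normalizer (P₀ : Set G) = P₀ := inf_eq_left.2 Subgroup.le_normalizer
    have hc : Nat.card (P₀ ⊓ Subgroup.normalizer (P₀ : Set G) : Subgroup G) =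
        p ^ (Nat.card (Subgroup.normalizer (P₀ : Set G))).factorization p := by
      rw [hPN]
      exact card_eq_ppart_of_le Subgroup.le_normalizer le_top hP hPc'
    exact ⟨P₀, hP, rfl, (inf_idem P₀).symm, hc, hc, hm, Or.inl rfl⟩
  have h1 : RChain (StepRel p P₀) A (x * (x⁻¹ * g)) := by
    apply (hx.1.mono hA').append
    exact RChain.single hstepP (hx.conjR_subset.trans' (conjR_mono hA'))
  have : x * (x⁻¹ * g) = g := by group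
  rwa [this] at h1

universe u

/-- Induction along an Alperin chain: conjugation maps between subgroups of `Y` are maps of `D` as soon as the normalizer
steps are. -/
theorem meet_cmloc_ind {Ω : Type u} [Group Ω] {W Y : Subgroup Ω} (D : FusionSystem W) (hYW : Y ≤ W)
    {G' : Type u} [Group G'] (κ : ↥Y →* G') (hκ : Function.Injective κ) (p : ℕ) (P' : Subgroup G')
    (hP' : P' = κ.range)
    (hstep : ∀ (R₀ : Subgroup Ω) (hR₀ : R₀ ≤ Y) (x₀ : G') (ψ : R₀ →* Ω) (hψ : ∀ r : R₀, ψ r ∈ R₀),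
      (∀ r : R₀, κ ⟨ψ r, hR₀ (hψ r)⟩ = x₀⁻¹ * κ ⟨r, hR₀ r.2⟩ * x₀) → ψ ∈ D.Hom R₀)
    (A : Set G') (g : G') (hch : RChain (StepRel p P') A g) :
    ∀ (X : Subgroup Ω) (hXY : X ≤ Y) (φ : X →* Ω) (hφ : ∀ x : X, φ x ∈ Y),
      (∀ x : X, κ ⟨x, hXY x.2⟩ ∈ A) →
      (∀ x : X, κ ⟨φ x, hφ x⟩ = g⁻¹ * κ ⟨x, hXY x.2⟩ * g) → φ ∈ D.Hom X := by
  induction hch with
  | nil A =>
    intro X hXY φ hφ hXA hind
    have e : φ = X.subtype := by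
      ext x
      have h1 := hind x
      rw [inv_one, one_mul, mul_one] at h1
      exact congrArg Subtype.val (hκ h1)
    rw [e]
    exact Fusion.subtype_mem D (hXY.trans hYW)
  | cons A T x₀ g hR hAT _ ih =>
    intro X hXY φ hφ hXA hind
    have hTn : x₀ ∈ Subgroup.normalizer (T : Set G') := hR.mem_normalizer
    have hTP : T ≤ P' := hR.le
    have hR₀Y : (T.comap κ).map Y.subtype ≤ Y := by
      rintro _ ⟨y, -, rfl⟩
      exact y.2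
    have hXR₀ : X ≤ (T.comap κ).map Y.subtype := fun x hx =>
      ⟨⟨x, hXY hx⟩, hAT (hXA ⟨x, hx⟩), rfl⟩
    obtain ⟨ψ, hψY, hψind, hψR⟩ := meet_cme_exists_ind κ hκ x₀⁻¹ hR₀Y ((T.comap κ).map Y.subtype) (by
      rintro ⟨_, ⟨y, hy, rfl⟩⟩
      have h1 : x₀⁻¹ * κ y * x₀⁻¹⁻¹ ∈ T :=
        (Subgroup.mem_normalizer_iff.mp (Subgroup.inv_mem _ hTn) (κ y)).mp hy
      have h2 : x₀⁻¹ * κ y * x₀⁻¹⁻¹ ∈ κ.range := hP' ▸ hTP h1
      obtain ⟨y', hy'⟩ := h2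
      refine ⟨y', ⟨y', ?_, rfl⟩, hy'⟩
      show κ y' ∈ T
      rw [hy']
      exact h1)
    have hψmem : ψ ∈ D.Hom ((T.comap κ).map Y.subtype) :=
      hstep _ hR₀Y x₀ ψ hψR (fun r => by rw [hψind r, inv_inv])
    have hρ' : ψ.comp (Subgroup.inclusion hXR₀) ∈ D.Hom X := Fusion.restrict_mem D hψmem hXR₀
    obtain ⟨ρ, hρeq⟩ : ∃ ρ : X →* Ω, ρ = ψ.comp (Subgroup.inclusion hXR₀) := ⟨_, rfl⟩
    have hρ : ρ ∈ D.Hom X := hρeq ▸ hρ'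
    have hmem : ∀ x : X, ρ x ∈ ρ.range := fun x => ⟨x, rfl⟩
    have hX₁Y : ρ.range ≤ Y := by
      rintro _ ⟨x, rfl⟩
      rw [hρeq]
      exact hψY _
    have hκρ : ∀ x : X, κ ⟨ρ x, hX₁Y (hmem x)⟩ = x₀⁻¹ * κ ⟨x, hXY x.2⟩ * x₀ := by
      intro x
      have h := hψind (Subgroup.inclusion hXR₀ x)
      rw [inv_inv] at h
      have e : (⟨ρ x, hX₁Y (hmem x)⟩ : ↥Y) =
          ⟨ψ (Subgroup.inclusion hXR₀ x), hψY (Subgroup.inclusion hXR₀ x)⟩ := by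
        apply Subtype.ext
        show ρ x = ψ (Subgroup.inclusion hXR₀ x)
        rw [hρeq]
        rfl
      rw [e]
      exact h
    have hX₁A : ∀ z : ↥ρ.range, κ ⟨z, hX₁Y z.2⟩ ∈ conjR x₀ A := by
      rintro ⟨_, ⟨x, rfl⟩⟩
      rw [mem_conjR]
      have h := hκρ x
      have e : x₀ * κ ⟨ρ x, hX₁Y (hmem x)⟩ * x₀⁻¹ = κ ⟨x, hXY x.2⟩ := by
        rw [h]; group
      rw [e]
      exact hXA x
    obtain ⟨φ₁, hφ₁Y, hφ₁ind, -⟩ := meet_cme_exists_ind κ hκ g⁻¹ hX₁Y Y (by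
      rintro ⟨_, ⟨x, rfl⟩⟩
      refine ⟨⟨φ x, hφ x⟩, hφ x, ?_⟩
      rw [hind x]
      have h := hκρ x
      have e : κ ⟨((⟨ρ x, ⟨x, rfl⟩⟩ : ↥ρ.range) : Ω), hX₁Y (⟨ρ x, ⟨x, rfl⟩⟩ : ↥ρ.range).2⟩ =
          x₀⁻¹ * κ ⟨x, hXY x.2⟩ * x₀ := h
      rw [e]
      group)
    have hφ₁ : φ₁ ∈ D.Hom ρ.range :=
      ih _ hX₁Y φ₁ hφ₁Y hX₁A (fun z => by rw [hφ₁ind z, inv_inv])
    have hcomp := D.comp_mem hρ hφ₁ hmem
    have e : φ = φ₁.comp (ρ.codRestrict ρ.range hmem) := by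
      ext x
      have h1 := hind x
      have h2 := hφ₁ind (ρ.codRestrict ρ.range hmem x)
      rw [inv_inv] at h2
      have h3 := hκρ x
      have h4 : κ ⟨φ x, hφ x⟩ = κ ⟨φ₁ (ρ.codRestrict ρ.range hmem x), hφ₁Y _⟩ := by
        rw [h1, h2]
        have e5 : κ ⟨((ρ.codRestrict ρ.range hmem x : ↥ρ.range) : Ω),
            hX₁Y (ρ.codRestrict ρ.range hmem x).2⟩ = x₀⁻¹ * κ ⟨x, hXY x.2⟩ * x₀ := h3
        rw [e5]
        group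
      exact congrArg Subtype.val (hκ h4)
    rw [e]
    exact hcomp

/-- Alperin's fusion theorem for a fusion system `D` and a finite group `G'` with Sylow `p`-subgroup `κ(Y)`. -/
theorem meet_cmloc_alperin {Ω : Type u} [Group Ω] {W Y : Subgroup Ω} (D : FusionSystem W) (hYW : Y ≤ W)
    {G' : Type u} [Group G'] [Finite G'] (κ : ↥Y →* G') (hκ : Function.Injective κ) (p : ℕ)
    [Fact p.Prime] (P' : Sylow p G') (hP' : (P' : Subgroup G') = κ.range)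
    (hstep : ∀ (R₀ : Subgroup Ω) (hR₀ : R₀ ≤ Y) (x₀ : G') (ψ : R₀ →* Ω) (hψ : ∀ r : R₀, ψ r ∈ R₀),
      (∀ r : R₀, κ ⟨ψ r, hR₀ (hψ r)⟩ = x₀⁻¹ * κ ⟨r, hR₀ r.2⟩ * x₀) → ψ ∈ D.Hom R₀)
    (X : Subgroup Ω) (hXY : X ≤ Y) (φ : X →* Ω) (hφ : ∀ x : X, φ x ∈ Y) (g : G')
    (hind : ∀ x : X, κ ⟨φ x, hφ x⟩ = g⁻¹ * κ ⟨x, hXY x.2⟩ * g) : φ ∈ D.Hom X := by
  have hA : Set.range (fun x : X => κ ⟨x, hXY x.2⟩) ⊆ ((P' : Subgroup G') : Set G') := by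
    rintro _ ⟨x, rfl⟩
    rw [SetLike.mem_coe, hP']
    exact ⟨_, rfl⟩
  have hAg : conjR g (Set.range (fun x : X => κ ⟨x, hXY x.2⟩)) ⊆ ((P' : Subgroup G') : Set G') := by
    intro y hy
    rw [mem_conjR] at hy
    obtain ⟨x, hx⟩ := hy
    have hx' : κ ⟨x, hXY x.2⟩ = g * y * g⁻¹ := hx
    rw [SetLike.mem_coe, hP']
    refine ⟨⟨φ x, hφ x⟩, ?_⟩
    rw [hind x, hx']
    group
  exact meet_cmloc_ind D hYW κ hκ p (P' : Subgroup G') hP' hstep _ g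
    (meet_cmloc_chain P' _ g hA hAg) X hXY φ hφ (fun x => ⟨x, rfl⟩) hind

/-- An element `g` with `g ι(R) g⁻¹ ≤ ι(R)` induces an automorphism of the finite group `R`. -/
theorem meet_cmloc_exists_aut {Ω : Type u} [Group Ω] {N : Subgroup Ω} {G : Type u} [Group G] (ι : N →* G)
    (hinj : Function.Injective ι) (g : G) {R : Subgroup Ω} [Finite R] (hR : R ≤ N)
    (h : ∀ r : R, ∃ y : N, (y : Ω) ∈ R ∧ ι y = g * ι ⟨r, hR r.2⟩ * g⁻¹) :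
    ∃ β : MulAut R, MeetInd ι g hR (R.subtype.comp β.toMonoidHom) (fun x => hR (β x).2) := by
  obtain ⟨φ, hφN, hind, hφR⟩ := meet_cme_exists_ind ι hinj g hR R h
  have hinjφ : Function.Injective (φ.codRestrict R hφR) := by
    intro a b hab
    have h1 : φ a = φ b := congrArg Subtype.val hab
    have h2 : ι ⟨φ a, hφN a⟩ = ι ⟨φ b, hφN b⟩ := congrArg ι (Subtype.ext h1)
    rw [hind a, hind b] at h2
    have h3 : ι ⟨a, hR a.2⟩ = ι ⟨b, hR b.2⟩ := mul_left_cancel (mul_right_cancel h2)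
    have h4 : ((⟨a, hR a.2⟩ : N) : Ω) = ((⟨b, hR b.2⟩ : N) : Ω) :=
      congrArg (fun w : N => (w : Ω)) (hinj h3)
    exact Subtype.ext h4
  have hbij := Finite.injective_iff_bijective.mp hinjφ
  refine ⟨MulEquiv.ofBijective (φ.codRestrict R hφR) hbij, ?_⟩
  intro x
  exact hind x

section

variable {Ω : Type u} [Group Ω] {S : Subgroup Ω} {p : ℕ} {F : FusionSystem S} {T₁ T₂ : Subgroup Ω}
  {E₁ : FusionSystem T₁} {E₂ : FusionSystem T₂}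

/-- (LOC) from (CM-a): conjugation by an element of `J(U)` between subgroups of `N_W(U)` is a map of `meetN`. -/
theorem meet_cmloc_of [Finite S] [Fact p.Prime] (hS : IsPGroup p S) (hF : F.IsSaturated p)
    (h₁ : E₁.IsNormalIn F p) (h₂ : E₂.IsNormalIn F p) (hWS : T₁ ⊓ T₂ ≤ S) {U : Subgroup Ω}
    (hU : U ∈ meetUf F (T₁ ⊓ T₂)) {G : Type u} [Group G] {ι : ↥(normalizerIn S U) →* G}
    (hG : MeetLocGrp p F (T₁ ⊓ T₂) U ι)
    (hCMA : ∀ (R : Subgroup Ω) (hUR : U ≤ R) (hRY : R ≤ normalizerIn (T₁ ⊓ T₂) U) (j : G)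
      (hj : j ∈ meetJ p F E₁ E₂ U ι hG.hQ) (β : MulAut R)
      (hβ : MeetInd ι j (hRY.trans (inf_le_inf_right _ hWS)) (R.subtype.comp β.toMonoidHom)
        (fun x => (hRY.trans (inf_le_inf_right _ hWS)) (β x).2)), β ∈ meetA p F E₁ E₂ R)
    (X : Subgroup Ω) (hXY : X ≤ normalizerIn (T₁ ⊓ T₂) U) (j : G)
    (hj : j ∈ meetJ p F E₁ E₂ U ι hG.hQ) (φ : X →* Ω)
    (hφ : ∀ x : X, φ x ∈ normalizerIn (T₁ ⊓ T₂) U)
    (hind : MeetInd ι j (hXY.trans (inf_le_inf_right _ hWS)) φ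
      (fun x => (inf_le_inf_right _ hWS : normalizerIn (T₁ ⊓ T₂) U ≤ normalizerIn S U) (hφ x))) :
    φ ∈ (meetN F (T₁ ⊓ T₂) hWS (meetA p F E₁ E₂)).Hom X := by
  haveI := hG.fin
  have hYN : normalizerIn (T₁ ⊓ T₂) U ≤ normalizerIn S U := inf_le_inf_right _ hWS
  have hYW : normalizerIn (T₁ ⊓ T₂) U ≤ T₁ ⊓ T₂ := inf_le_left
  have hUW : U ≤ T₁ ⊓ T₂ := hU.1.1
  have hUY : U ≤ normalizerIn (T₁ ⊓ T₂) U := le_inf hUW Subgroup.le_normalizer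
  haveI hJn : (meetJ p F E₁ E₂ U ι hG.hQ).Normal := meet_cme_J_normal hS hF h₁ h₂ hU hG
  obtain ⟨P, hP⟩ := hG.syl
  obtain ⟨PJ, hPJ⟩ := Cfsg.Agent.Helper1.sylow_inf_subnormal p (meetJ p F E₁ E₂ U ι hG.hQ)
    hJn.isSubnormal P
  -- the restriction of `ι` to `Y = N_W(U)`, with values in `J`
  obtain ⟨κ, hκdef⟩ : ∃ κ : ↥(normalizerIn (T₁ ⊓ T₂) U) →* ↥(meetJ p F E₁ E₂ U ι hG.hQ),
      ∀ y, ((κ y : ↥(meetJ p F E₁ E₂ U ι hG.hQ)) : G) = ι ⟨y, hYN y.2⟩ :=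
    ⟨(ι.comp (Subgroup.inclusion hYN)).codRestrict (meetJ p F E₁ E₂ U ι hG.hQ)
      (fun y => (meet_cme_mem_J_iff hS hF h₁ h₂ hU hG _).mpr y.2.1), fun y => rfl⟩
  have hκ : Function.Injective κ := by
    intro y y' h
    have h1 : ι ⟨y, hYN y.2⟩ = ι ⟨y', hYN y'.2⟩ := by
      rw [← hκdef, ← hκdef, h]
    have h2 : ((⟨y, hYN y.2⟩ : ↥(normalizerIn S U)) : Ω) = ((⟨y', hYN y'.2⟩ : ↥(normalizerIn S U)) : Ω) :=
      congrArg (fun w : ↥(normalizerIn S U) => (w : Ω)) (hG.inj h1)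
    exact Subtype.ext h2
  have hPJ' : (PJ : Subgroup ↥(meetJ p F E₁ E₂ U ι hG.hQ)) = κ.range := by
    rw [hPJ]
    ext x
    rw [Subgroup.mem_subgroupOf, hP]
    constructor
    · rintro ⟨n, hn⟩
      have hnJ : ι n ∈ meetJ p F E₁ E₂ U ι hG.hQ := hn ▸ x.2
      have hnW : (n : Ω) ∈ T₁ ⊓ T₂ := (meet_cme_mem_J_iff hS hF h₁ h₂ hU hG n).mp hnJ
      refine ⟨⟨n, Subgroup.mem_inf.mpr ⟨hnW, (Subgroup.mem_inf.mp n.2).2⟩⟩, ?_⟩
      apply Subtype.ext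
      rw [hκdef]
      exact hn
    · rintro ⟨y, rfl⟩
      rw [hκdef]
      exact ⟨_, rfl⟩
  -- the normalizer steps
  have hstep : ∀ (R₀ : Subgroup Ω) (hR₀ : R₀ ≤ normalizerIn (T₁ ⊓ T₂) U)
      (x₀ : ↥(meetJ p F E₁ E₂ U ι hG.hQ)) (ψ : R₀ →* Ω) (hψ : ∀ r : R₀, ψ r ∈ R₀),
      (∀ r : R₀, κ ⟨ψ r, hR₀ (hψ r)⟩ = x₀⁻¹ * κ ⟨r, hR₀ r.2⟩ * x₀) →
      ψ ∈ (meetN F (T₁ ⊓ T₂) hWS (meetA p F E₁ E₂)).Hom R₀ := by
    intro R₀ hR₀ x₀ ψ hψ hψind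
    have hψind' : ∀ r : R₀, ι ⟨ψ r, hYN (hR₀ (hψ r))⟩ =
        (x₀ : G)⁻¹ * ι ⟨r, hYN (hR₀ r.2)⟩ * (x₀ : G)⁻¹⁻¹ := by
      intro r
      have h := congrArg (fun w : ↥(meetJ p F E₁ E₂ U ι hG.hQ) => (w : G)) (hψind r)
      simp only [Subgroup.coe_mul, Subgroup.coe_inv, hκdef] at h
      rw [inv_inv]
      exact h
    have hRY : U ⊔ R₀ ≤ normalizerIn (T₁ ⊓ T₂) U := sup_le hUY hR₀
    have hRN : U ⊔ R₀ ≤ normalizerIn S U := hRY.trans hYN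
    have hRS : U ⊔ R₀ ≤ S := hRN.trans inf_le_left
    haveI : Finite ↥(U ⊔ R₀) := Fusion.finite_of_le hRS
    have hmul := Subgroup.coe_mul_of_right_le_normalizer_left U R₀ (hR₀.trans inf_le_right)
    obtain ⟨β, hβ⟩ := meet_cmloc_exists_aut ι hG.inj (x₀ : G)⁻¹ hRN (by
      rintro ⟨r, hr⟩
      have hr' : r ∈ ((U ⊔ R₀ : Subgroup Ω) : Set Ω) := hr
      rw [hmul] at hr'
      obtain ⟨u, hu, r₀, hr₀, rfl⟩ := hr'
      obtain ⟨y, hyU, hy⟩ := hG.normU (x₀ : G)⁻¹ ⟨u, hYN (hUY hu)⟩ hu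
      refine ⟨y * ⟨ψ ⟨r₀, hr₀⟩, hYN (hR₀ (hψ ⟨r₀, hr₀⟩))⟩, ?_, ?_⟩
      · exact Subgroup.mul_mem _ ((le_sup_left : U ≤ U ⊔ R₀) hyU)
          ((le_sup_right : R₀ ≤ U ⊔ R₀) (hψ ⟨r₀, hr₀⟩))
      · rw [map_mul, hy, hψind' ⟨r₀, hr₀⟩]
        have e : (⟨u * r₀, hRN hr⟩ : ↥(normalizerIn S U)) =
            ⟨u, hYN (hUY hu)⟩ * ⟨r₀, hYN (hR₀ hr₀)⟩ := rfl
        rw [e, map_mul]
        group)
    have hβA : β ∈ meetA p F E₁ E₂ (U ⊔ R₀) :=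
      hCMA (U ⊔ R₀) le_sup_left hRY (x₀ : G)⁻¹ (Subgroup.inv_mem _ x₀.2) β hβ
    have hRH : U ⊔ R₀ ∈ meetH F (T₁ ⊓ T₂) := meet_cd_H_of_le F hU.1 le_sup_left (hRY.trans hYW)
    have hβN : (U ⊔ R₀).subtype.comp β.toMonoidHom ∈
        (meetN F (T₁ ⊓ T₂) hWS (meetA p F E₁ E₂)).Hom (U ⊔ R₀) := by
      refine ⟨hG.hom (x₀ : G)⁻¹ (U ⊔ R₀) hRN _ _ hβ, hRY.trans hYW,
        fun x => (hRY.trans hYW) (β x).2, fun D hD => ?_⟩
      exact (Fusion.mem_autGroup_iff D (hRY.trans hYW) β).mp (hD _ hRH hβA)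
    have hres := Fusion.restrict_mem _ hβN (le_sup_right : R₀ ≤ U ⊔ R₀)
    have e : ψ = ((U ⊔ R₀).subtype.comp β.toMonoidHom).comp
        (Subgroup.inclusion (le_sup_right : R₀ ≤ U ⊔ R₀)) := by
      ext r
      have h1 := hψind' r
      have h2 := hβ (Subgroup.inclusion (le_sup_right : R₀ ≤ U ⊔ R₀) r)
      have h3 : ι ⟨ψ r, hYN (hR₀ (hψ r))⟩ =
          ι ⟨((U ⊔ R₀).subtype.comp β.toMonoidHom)
            (Subgroup.inclusion (le_sup_right : R₀ ≤ U ⊔ R₀) r),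
            hRN (β (Subgroup.inclusion (le_sup_right : R₀ ≤ U ⊔ R₀) r)).2⟩ := by
        rw [h1, h2]
        rfl
      exact congrArg (fun w : ↥(normalizerIn S U) => (w : Ω)) (hG.inj h3)
    rw [e]
    exact hres
  refine meet_cmloc_alperin (meetN F (T₁ ⊓ T₂) hWS (meetA p F E₁ E₂)) hYW κ hκ p PJ hPJ' hstep X hXY φ hφ
    (⟨j, hj⟩ : ↥(meetJ p F E₁ E₂ U ι hG.hQ))⁻¹ (fun x => ?_)
  apply Subtype.ext
  simp only [Subgroup.coe_mul, Subgroup.coe_inv, hκdef, inv_inv]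
  exact hind x

end

end Cfsg.Agent.MEET
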