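import Mathlib
import Cfsg.Agent.MEET.CmEa
import Cfsg.Agent.MEET.CmA7
import Cfsg.Agent.MEET.CmLocA
import Cfsg.Agent.MEET.LocFc
import Cfsg.Agent.MEET.LocM
import Cfsg.Agent.MEET.PcEngB
import Cfsg.Agent.MEET.Jcen

set_option autoImplicit false

/-!
# MEET project, part II: the fields (E3) `fr` and (E4) `recl` of `MeetEng` for `meetA`

`U` a fully normalized member of the family, `Y = N_W(U)`, `G = G(U)` the local group (`meet_loc_exists`), `J = J(U)`.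
The local statements are `meet_cme_fr_loc`, `meet_cme_recl_loc` (`MEET/CmEa.lean`); here (LOC) (`meet_cmloc_of` from
(CM-a) `meet_cm_a_of` from (FC) `meet_loc_fc`), (CEN) `meet_J_cen` and `meet_A_eq_A0` are plugged in.
-/

namespace Cfsg.Agent.MEET

open Cfsg Cfsg.FusionSystem

universe u

variable {Ω : Type u} [Group Ω] {S : Subgroup Ω} {p : ℕ} {F : FusionSystem S} {T₁ T₂ : Subgroup Ω}
  {E₁ : FusionSystem T₁} {E₂ : FusionSystem T₂}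

/-- (LOC) for the local group `G(U)`: conjugation by an element of `J(U)` between subgroups of `N_W(U)` is a map of
`meetN` (helper2's `meet_cmloc_of` + helper1's `meet_cm_a_of` + (FC) `meet_loc_fc`). -/
theorem meet_cme_loc [Finite S] [Fact p.Prime] (hS : IsPGroup p S) (hF : F.IsSaturated p) (h₁ : E₁.IsNormalIn F p)
    (h₂ : E₂.IsNormalIn F p) (hWS : T₁ ⊓ T₂ ≤ S) {U : Subgroup Ω} (hU : U ∈ meetUf F (T₁ ⊓ T₂)) {G : Type u}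
    [Group G] {ι : ↥(normalizerIn S U) →* G} (hG : MeetLocGrp p F (T₁ ⊓ T₂) U ι) (X : Subgroup Ω)
    (hXY : X ≤ normalizerIn (T₁ ⊓ T₂) U) (j : G) (hj : j ∈ meetJ p F E₁ E₂ U ι hG.hQ) (φ : X →* Ω)
    (hφ : ∀ x : X, φ x ∈ normalizerIn (T₁ ⊓ T₂) U)
    (hind : MeetInd ι j (hXY.trans (inf_le_inf_right _ hWS)) φ
      (fun x => (inf_le_inf_right _ hWS : normalizerIn (T₁ ⊓ T₂) U ≤ normalizerIn S U) (hφ x))) :
    φ ∈ (meetN F (T₁ ⊓ T₂) hWS (meetA p F E₁ E₂)).Hom X := by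
  have hW : F.StronglyClosed (T₁ ⊓ T₂) := meet_cme_inf_sc h₁ h₂
  have hfcG : MeetCmFc p F (T₁ ⊓ T₂) U ι := fun R hUR hRY hsyl R' hRR' =>
    meet_loc_fc hS hF hW hU hG R hUR hRY hsyl R' hRR'
  exact meet_cmloc_of hS hF h₁ h₂ hWS hU hG
    (fun R hUR hRY j hj β hβ => meet_cm_a_of hS hF h₁ h₂ hWS hU hG hfcG R hUR hRY j hj β hβ)
    X hXY j hj φ hφ hind

/-- (E3) the field `fr` of `MeetEng` for `meetA`. -/
theorem meet_cm_fr [Finite S] [Fact p.Prime] (hS : IsPGroup p S) (hF : F.IsSaturated p) (h₁ : E₁.IsNormalIn F p)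
    (h₂ : E₂.IsNormalIn F p) (hWS : T₁ ⊓ T₂ ≤ S) :
    ∀ U ∈ meetH F (T₁ ⊓ T₂), F.IsFullyNormalized U → ∀ (X : Subgroup Ω) (hUX : U ≤ X),
      X ≤ normalizerIn (T₁ ⊓ T₂) U →
      ∀ γ ∈ F.Hom X, (∀ x : X, γ x ∈ normalizerIn (T₁ ⊓ T₂) U) → (∀ x : X, (x : Ω) ∈ U → γ x ∈ U) →
      ∃ η ∈ F.autGroup (normalizerIn (T₁ ⊓ T₂) U),
        ∃ ν ∈ (meetN F (T₁ ⊓ T₂) hWS (meetA p F E₁ E₂)).Hom X, ∃ a ∈ meetA p F E₁ E₂ U,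
        (∀ u : U, ν ⟨u, hUX u.2⟩ = ((a u : U) : Ω)) ∧
        ∀ (x : X) (hx : ν x ∈ normalizerIn (T₁ ⊓ T₂) U),
          γ x = ((η ⟨ν x, hx⟩ : ↥(normalizerIn (T₁ ⊓ T₂) U)) : Ω) := by
  intro U hUH hfn X hUX hXY γ hγ hγY hγU
  have hU : U ∈ meetUf F (T₁ ⊓ T₂) := ⟨hUH, hfn⟩
  obtain ⟨G, _, ι, hG⟩ := meet_loc_exists hS hF (meet_cme_inf_sc h₁ h₂) hU
  exact meet_cme_fr_loc hS hF h₁ h₂ hWS hU hG (meet_A_eq_A0 hS hF h₁ h₂ hU)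
    (fun X hXY j hj φ hφ hind => meet_cme_loc hS hF h₁ h₂ hWS hU hG X hXY j hj φ hφ hind)
    X hUX hXY γ hγ hγY hγU

/-- (E4) the field `recl` of `MeetEng` for `meetA`. -/
theorem meet_cm_recl [Finite S] [Fact p.Prime] (hS : IsPGroup p S) (hF : F.IsSaturated p) (h₁ : E₁.IsNormalIn F p)
    (h₂ : E₂.IsNormalIn F p) (hWS : T₁ ⊓ T₂ ≤ S) :
    ∀ U ∈ meetH F (T₁ ⊓ T₂), F.IsFullyNormalized U → ∀ a ∈ meetA p F E₁ E₂ U, ∀ (Y₁ : Subgroup Ω) (hUY : U ≤ Y₁),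
      Y₁ ≤ normalizerIn (T₁ ⊓ T₂) U →
      (∀ y ∈ Y₁, ∃ w ∈ normalizerIn (T₁ ⊓ T₂) U, ∀ (u : U) (hu : y * (u : Ω) * y⁻¹ ∈ U),
        ((a ⟨y * (u : Ω) * y⁻¹, hu⟩ : U) : Ω) = w * ((a u : U) : Ω) * w⁻¹) →
      ∃ ε ∈ (meetN F (T₁ ⊓ T₂) hWS (meetA p F E₁ E₂)).Hom Y₁, (∀ x : Y₁, ε x ∈ normalizerIn (T₁ ⊓ T₂) U) ∧
        ∀ u : U, ε ⟨u, hUY u.2⟩ = ((a u : U) : Ω) := by
  intro U hUH hfn a ha Y₁ hUY hY₁ hyp
  have hU : U ∈ meetUf F (T₁ ⊓ T₂) := ⟨hUH, hfn⟩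
  obtain ⟨G, _, ι, hG⟩ := meet_loc_exists hS hF (meet_cme_inf_sc h₁ h₂) hU
  exact meet_cme_recl_loc hS hF h₁ h₂ hWS hU hG (meet_A_eq_A0 hS hF h₁ h₂ hU)
    (fun X hXY j hj φ hφ hind => meet_cme_loc hS hF h₁ h₂ hWS hU hG X hXY j hj φ hφ hind)
    (fun g hg hc => meet_J_cen hS hF h₁ h₂ hU hG g hg hc)
    a ha Y₁ hUY hY₁ hyp

end Cfsg.Agent.MEET
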