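import Mathlib
import Cfsg.Agent.MEET.CmLocA
import Cfsg.Agent.MEET.CmA7
import Cfsg.Agent.MEET.LocFc

/-!
MEET project, (LOC) (helper2): `meet_cm_loc`, frozen header of `notes/MEET_headers3.lean.txt`, from `meet_cmloc_of`
(`MEET/CmLocA.lean`: Alperin's fusion theorem in `J(U)`), helper1's (CM-a) `meet_cm_a_of` and helper9's (FC) `meet_loc_fc`.
-/

set_option autoImplicit false

namespace Cfsg.Agent.MEET

open Cfsg Cfsg.FusionSystem

universe u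

variable {Ω : Type u} [Group Ω] {S : Subgroup Ω} {p : ℕ} {F : FusionSystem S} {T₁ T₂ : Subgroup Ω}
  {E₁ : FusionSystem T₁} {E₂ : FusionSystem T₂}

/-- (LOC): conjugation by an element of `J(U)` between subgroups of `N_W(U)` is a map of `meetN`. -/
theorem meet_cm_loc [Finite S] [Fact p.Prime] (hS : IsPGroup p S) (hF : F.IsSaturated p) (h₁ : E₁.IsNormalIn F p)
    (h₂ : E₂.IsNormalIn F p) (hWS : T₁ ⊓ T₂ ≤ S) {U : Subgroup Ω} (hU : U ∈ meetUf F (T₁ ⊓ T₂)) {G : Type u} [Group G]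
    {ι : ↥(normalizerIn S U) →* G} (hG : MeetLocGrp p F (T₁ ⊓ T₂) U ι) (X : Subgroup Ω)
    (hXY : X ≤ normalizerIn (T₁ ⊓ T₂) U) (j : G) (hj : j ∈ meetJ p F E₁ E₂ U ι hG.hQ) (φ : X →* Ω)
    (hφ : ∀ x : X, φ x ∈ normalizerIn (T₁ ⊓ T₂) U)
    (hind : MeetInd ι j (hXY.trans (inf_le_inf_right _ hWS)) φ
      (fun x => (inf_le_inf_right _ hWS : normalizerIn (T₁ ⊓ T₂) U ≤ normalizerIn S U) (hφ x))) :
    φ ∈ (meetN F (T₁ ⊓ T₂) hWS (meetA p F E₁ E₂)).Hom X :=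
  meet_cmloc_of hS hF h₁ h₂ hWS hU hG
    (fun R hUR hRY j hj β hβ => meet_cm_a_of hS hF h₁ h₂ hWS hU hG
      (fun R hUR hRY hsyl R' hRR' =>
        meet_loc_fc hS hF (meet_cme_inf_sc h₁ h₂) hU hG R hUR hRY hsyl R' hRR')
      R hUR hRY j hj β hβ) X hXY j hj φ hφ hind

end Cfsg.Agent.MEET
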