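import Mathlib
import Cfsg.Prelude.Def_FusionComponents
import Cfsg.Agent.PPN.Local
import Cfsg.Agent.PPN.Claim
import Cfsg.Agent.WNE.Claim
import Cfsg.Agent.WNE.ResInvA
import Cfsg.Agent.Lead.FusionSat3
import Cfsg.Agent.Lead.FusionSub
import Cfsg.Agent.Lead.FusionStrongInvD
import Cfsg.Agent.S5141

/-!
# Project MEET, (CONT) (helper2): the `p'`-residual of a weakly normal subsystem over `W` lies in every
weakly normal subsystem over a group `T ≥ W`

`F` saturated over `S`, `N` weakly normal in `F` over `W`, `E` weakly normal in `F` over `T ≥ W`, `M` the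
`p'`-residual of `N`.  Then `M ≤ E` (`meet_cont`).  Proof: the restriction `G` of `E` to `W` is invariant in `F`
(`meet_cont_res_invariant`); the local part `E1 p N ≤ G` is `ppn_E1_le`; for the generators of `A0 p N` the abstract
claim `wne_claim` applies to `G` (extension property: a fully `F`-normalized subgroup of `W` is fully
`E`-normalized, hence receptive in `E`, `meet_cont_hext`).

Consequences: `M` is its own `p'`-residual (`meet_cont_residual_idem`), `M` is normal in `F` (S5141) and, if `E` is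
saturated and invariant in `F`, normal in `E` (`meet_cont_normal`); hence the existence of the meet of two normal
subsystems follows from the existence of a weakly normal subsystem over `T₁ ⊓ T₂` (`meet_of_weaklyNormal`).
-/

set_option autoImplicit false

namespace Cfsg.Agent.MEET

open Cfsg Cfsg.FusionSystem Cfsg.Agent.Lead Cfsg.Agent.Lead.StrongInv
open Cfsg.Agent.Helper2.PPrimeRes Cfsg.Agent.PPN Cfsg.Agent.WNE

variable {Ω : Type*} [Group Ω] {S W T : Subgroup Ω}

/-- `W` strongly closed in `F` and `E ≤ F` over `T ≥ W`: `W` is strongly closed in `E`. -/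
theorem meet_cont_stronglyClosed (F : FusionSystem S) (E : FusionSystem T) (hEF : E.IsSubsystemOf F)
    (hW : F.StronglyClosed W) (hWT : W ≤ T) : E.StronglyClosed W :=
  ⟨hWT, fun R hRW φ hφ x => hW.2 R hRW φ (hEF R hφ) x⟩

/-- The restriction to `W` of a system `E` invariant in `F` is invariant in `F`. -/
theorem meet_cont_res_invariant [Finite S] (p : ℕ) [Fact p.Prime] (hS : IsPGroup p S)
    (F : FusionSystem S) (hF : F.IsSaturated p) (E : FusionSystem T) (hE : E.IsInvariantIn F)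
    (hW : F.StronglyClosed W) (hWE : E.StronglyClosed W) : (wneRes E hWE).IsInvariantIn F := by
  have hEF : E.IsSubsystemOf F := hE.1
  have hSI : SI F E := SI_of_invariant F E hE
  have hsub : (wneRes E hWE).IsSubsystemOf F := fun P φ hφ => hEF P hφ.1
  refine invariant_of_SI p hS F hF (wneRes E hWE) hsub hW ?_
  intro P Q hPQ hQW φ hφ hφQ ψ hψ
  obtain ⟨χ, hχ, hχv⟩ := hSI P Q hPQ (hQW.trans hWE.1) φ hφ.1 hφQ ψ hψ
  refine ⟨χ, ⟨hχ, ?_⟩, hχv⟩
  rintro _ ⟨x, -, rfl⟩
  exact hW.2 Q hQW ψ hψ x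

/-- The extension property of `wne_claim` for the restriction of a saturated `E ≤ F` to `W`. -/
theorem meet_cont_hext [Finite S] (p : ℕ) [Fact p.Prime] (hS : IsPGroup p S) (F : FusionSystem S)
    (hF : F.IsSaturated p) (E : FusionSystem T) (hEs : E.IsSaturated p) (hEF : E.IsSubsystemOf F)
    (hT : F.StronglyClosed T) (hWE : E.StronglyClosed W)
    (a : MulAut W) (P : Subgroup Ω) (hPW : P ≤ W)
    (hres : resAutS hPW a ∈ (wneRes E hWE).Hom P)
    (hfn : F.IsFullyNormalized (resAutS hPW a).range) :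
    ∃ ψ ∈ (wneRes E hWE).Hom (normalizerIn W P), ∀ (y : Ω) (hy : y ∈ P) (hyN : y ∈ normalizerIn W P),
      ψ ⟨y, hyN⟩ = ((a ⟨y, hPW hy⟩ : W) : Ω) := by
  have hTS : T ≤ S := hT.1
  have hWT : W ≤ T := hWE.1
  have hfinT : Finite T := Fusion.finite_of_le hTS
  have hTp : IsPGroup p T := hS.to_le hTS
  have hφ : resAutS hPW a ∈ E.Hom P := hres.1
  have hRT : (resAutS hPW a).range ≤ T := by
    rintro _ ⟨x, rfl⟩
    exact hWT (a ⟨x.1, hPW x.2⟩).2
  have hfnE : E.IsFullyNormalized (resAutS hPW a).range :=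
    (Fusion.fully_of_subsystem p hS F hF T hT E hEF _ hRT).2 hfn
  have hrec : E.IsReceptive (resAutS hPW a).range :=
    ((Fusion.isSaturated_iff' p hTp E).mp hEs).2 _ hfnE
  obtain ⟨ψ', hψ', hψ'v⟩ := hrec.2 P (resAutS hPW a) hφ rfl
  have hle : normalizerIn W P ≤ extender T P (resAutS hPW a) := by
    intro g hg
    apply Subgroup.subset_closure
    obtain ⟨hgW, hgN⟩ := Subgroup.mem_inf.mp hg
    refine ⟨hWT hgW, hgN, ((a ⟨g, hgW⟩ : W) : Ω), hWT (a ⟨g, hgW⟩).2, fun x hx => ?_⟩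
    rw [resAutS_apply, resAutS_apply]
    have e : (⟨g * (x : Ω) * g⁻¹, hPW hx⟩ : W) = ⟨g, hgW⟩ * ⟨x.1, hPW x.2⟩ * ⟨g, hgW⟩⁻¹ :=
      Subtype.ext rfl
    rw [e, map_mul, map_mul, map_inv]
    rfl
  refine ⟨ψ'.comp (Subgroup.inclusion hle), ⟨Fusion.restrict_mem E hψ' hle, inf_le_left⟩,
    fun y hy hyN => ?_⟩
  have := hψ'v y hy (hle hyN)
  rw [resAutS_apply] at this
  exact this

/-- **(CONT)**: the `p'`-residual of a weakly normal subsystem `N` over `W` lies in every subsystem `E` over `T ≥ W` that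
is saturated and invariant in `F`. -/
theorem meet_cont [Finite S] (p : ℕ) [Fact p.Prime] (hS : IsPGroup p S) (F : FusionSystem S)
    (hF : F.IsSaturated p) (N : FusionSystem W) (hN : N.IsWeaklyNormalIn F p) (E : FusionSystem T)
    (hE : E.IsWeaklyNormalIn F p) (hWT : W ≤ T) (M : FusionSystem W) (hM : N.IsPPrimeResidual p M) :
    M.IsSubsystemOf E := by
  have hp : p.Prime := Fact.out
  obtain ⟨hNs, -, hNinv⟩ := hN
  obtain ⟨hEs, -, hEinv⟩ := hE
  have hNF : N.IsSubsystemOf F := hNinv.1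
  have hEF : E.IsSubsystemOf F := hEinv.1
  have hW : F.StronglyClosed W := hNinv.2.1
  have hT : F.StronglyClosed T := hEinv.2.1
  have hWS : W ≤ S := hW.1
  have hfinW : Finite W := Fusion.finite_of_le hWS
  have hWp : IsPGroup p W := hS.to_le hWS
  have hWE : E.StronglyClosed W := meet_cont_stronglyClosed F E hEF hW hWT
  have hG : (wneRes E hWE).IsInvariantIn F := meet_cont_res_invariant p hS F hF E hEinv hW hWE
  -- the local part
  have hE1 := ppn_E1_le p hS F hWS N (wneRes E hWE) hNs hNF hG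
  -- the generators of `A0`
  have hA0 : A0 p N ≤ (wneRes E hWE).autGroup W := by
    unfold A0
    rw [Subgroup.closure_le]
    rintro a ⟨haN, P, hP, hresa⟩
    have haF : a ∈ F.autGroup W := autGroup_le_of_subsystem F N hNF W haN
    have hcen : ppnCen F W P := ppnCen_of_isCentric F N hNinv hP
    obtain ⟨k, hk⟩ := wne_claim p hS F hF (wneRes E hWE) hG
      (fun b _ Q hQW _ _ hresb hfn => meet_cont_hext p hS F hF E hEs hEF hT hWE b Q hQW hresb hfn)
      a haF P hP.1 hcen (hE1 P hresa)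
    have : Finite (MulAut W) := inferInstance
    obtain ⟨e, m, hm', hm⟩ := Nat.exists_eq_pow_mul_and_not_dvd (orderOf_pos a).ne' p hp.ne_one
    have hpow1 : (a ^ m) ^ p ^ e = 1 := by
      rw [← pow_mul, mul_comm, ← hm, pow_orderOf_eq_one]
    obtain ⟨j, -, hj⟩ := (Nat.dvd_prime_pow hp).mp (orderOf_dvd_of_pow_eq_one hpow1)
    have ham : a ^ m ∈ (wneRes E hWE).autGroup W :=
      ppn_pElement_mem p hS F hWS N (wneRes E hWE) hNs hNF hG le_rfl (a ^ m)
        (Subgroup.pow_mem _ haN m) j hj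
    have hcop : Nat.Coprime (p ^ k) m := Nat.Coprime.pow_left _ (hp.coprime_iff_not_dvd.mpr hm')
    have hbez : (1 : ℤ) = ((p ^ k : ℕ) : ℤ) * Nat.gcdA (p ^ k) m + (m : ℤ) * Nat.gcdB (p ^ k) m := by
      rw [← Nat.gcd_eq_gcd_ab, hcop.gcd_eq_one]
      simp
    have hafin : a = (a ^ p ^ k) ^ (Nat.gcdA (p ^ k) m) * (a ^ m) ^ (Nat.gcdB (p ^ k) m) := by
      calc a = a ^ (1 : ℤ) := (zpow_one a).symm
        _ = a ^ (((p ^ k : ℕ) : ℤ) * Nat.gcdA (p ^ k) m + (m : ℤ) * Nat.gcdB (p ^ k) m) := by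
          rw [← hbez]
        _ = (a ^ p ^ k) ^ (Nat.gcdA (p ^ k) m) * (a ^ m) ^ (Nat.gcdB (p ^ k) m) := by
          rw [zpow_add, zpow_mul, zpow_mul, zpow_natCast, zpow_natCast]
    rw [hafin]
    exact Subgroup.mul_mem _ (Subgroup.zpow_mem _ hk _) (Subgroup.zpow_mem _ ham _)
  -- the maps `α ∘ φ₀`
  have hbig : ∀ P : Subgroup Ω, N.IsCentric P → (bigSys p N).Hom P ⊆ (wneRes E hWE).Hom P := by
    rintro P - φ ⟨-, α, hα, φ₀, hφ₀, hv⟩
    obtain ⟨a, ha, hav⟩ := (mem_FA_top p N α).mp hα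
    have haD := (Fusion.mem_autGroup_iff (wneRes E hWE) le_rfl a).mp (hA0 ha)
    have hαD : α ∈ (wneRes E hWE).Hom W := by
      have e : α = W.subtype.comp a.toMonoidHom := by
        ext s
        exact hav s
      rw [e]
      exact haD
    have hφ₀D : φ₀ ∈ (wneRes E hWE).Hom P := hE1 P hφ₀
    have h1 := (wneRes E hWE).comp_mem hφ₀D hαD (fun x => ((wneRes E hWE).le_of_mem hφ₀D).2 x)
    have e : φ = α.comp (φ₀.codRestrict W (fun x => ((wneRes E hWE).le_of_mem hφ₀D).2 x)) := by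
      ext x
      exact hv x
    rw [e]
    exact h1
  have hres : (resSys p N).IsSubsystemOf (wneRes E hWE) := resSys_le_of p N hbig
  have hMres : M.IsSubsystemOf (resSys p N) :=
    hM.2.2 (resSys p N) (resSys_isSaturated p hWp N hNs) (resSys_main p hWp N hNs).1
  exact fun P φ hφ => (hres P (hMres P hφ)).1

/-! ### Consequences -/

/-- Index prime to `p` is transitive. -/
theorem meet_cont_index_trans {p : ℕ} {N M D : FusionSystem W} (hD : D.HasPrimeToPIndexIn M p)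
    (hM : M.HasPrimeToPIndexIn N p) : D.HasPrimeToPIndexIn N p := by
  refine ⟨fun P φ hφ => hM.1 P (hD.1 P hφ), fun P hPW => ?_⟩
  rw [Subgroup.map_le_iff_le_comap, Subgroup.closure_le]
  rintro ⟨α, hα⟩ ⟨k, hk⟩
  show α ∈ D.autGroup P
  have hk' : orderOf α = p ^ k := by rw [← hk, Subgroup.orderOf_mk]
  have hαM : α ∈ M.autGroup P := by
    apply hM.2 P hPW
    exact ⟨⟨α, hα⟩, Subgroup.subset_closure ⟨k, hk⟩, rfl⟩
  apply hD.2 P hPW
  refine ⟨⟨α, hαM⟩, Subgroup.subset_closure ⟨k, ?_⟩, rfl⟩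
  rw [Subgroup.orderOf_mk, hk']

/-- The `p'`-residual subsystem is its own `p'`-residual subsystem. -/
theorem meet_cont_residual_idem {p : ℕ} {N M : FusionSystem W} (hM : N.IsPPrimeResidual p M) :
    M.IsPPrimeResidual p M := by
  obtain ⟨hMs, hMidx, hleast⟩ := hM
  refine ⟨hMs, ⟨fun _ => subset_rfl, fun P _ => ?_⟩, fun D hDs hDidx => ?_⟩
  · rintro _ ⟨x, -, rfl⟩
    exact x.2
  · exact hleast D hDs (meet_cont_index_trans hDidx hMidx)

/-- The `p'`-residual `M` of a weakly normal subsystem `N` over `W` is normal in every weakly normal subsystem `E`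
over a group `T ≥ W`. -/
theorem meet_cont_normal [Finite S] (p : ℕ) [Fact p.Prime] (hS : IsPGroup p S) (F : FusionSystem S)
    (hF : F.IsSaturated p) (N : FusionSystem W) (hN : N.IsWeaklyNormalIn F p) (E : FusionSystem T)
    (hE : E.IsWeaklyNormalIn F p) (hWT : W ≤ T) (M : FusionSystem W) (hM : N.IsPPrimeResidual p M) :
    M.IsNormalIn E p := by
  have hMF : M.IsNormalIn F p := Cfsg.Agent.S5141.result p hS F hF N hN M hM
  have hME : M.IsSubsystemOf E := meet_cont p hS F hF N hN E hE hWT M hM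
  have hEF : E.IsSubsystemOf F := hE.2.2.1
  have hT : F.StronglyClosed T := hE.2.2.2.1
  have hW : F.StronglyClosed W := hN.2.2.2.1
  have hTS : T ≤ S := hT.1
  have hfinT : Finite T := Fusion.finite_of_le hTS
  have hTp : IsPGroup p T := hS.to_le hTS
  have hWE : E.StronglyClosed W := meet_cont_stronglyClosed F E hEF hW hWT
  have hSI : SI F M := SI_of_invariant F M hMF.1.2.2
  have hSI' : SI E M := fun P Q hPQ hQW φ hφ hφQ ψ hψ => hSI P Q hPQ hQW φ hφ hφQ ψ (hEF Q hψ)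
  have hMwn : M.IsWeaklyNormalIn E p :=
    ⟨hM.1, hE.1, invariant_of_SI p hTp E hE.1 M hME hWE hSI'⟩
  exact Cfsg.Agent.S5141.result p hTp E hE.1 M hMwn M (meet_cont_residual_idem hM)

/-- Reduction of the existence of the meet to the existence of a weakly normal subsystem over `T₁ ⊓ T₂`: if `E₁`, `E₂` are
weakly normal in `F` over `T₁`, `T₂` and `N` is weakly normal in `F` over `T₁ ⊓ T₂`, then the `p'`-residual of `N` is normal
in `F`, in `E₁` and in `E₂`. -/
theorem meet_of_weaklyNormal [Finite S] (p : ℕ) [Fact p.Prime] (hS : IsPGroup p S) (F : FusionSystem S)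
    (hF : F.IsSaturated p) {T₁ T₂ : Subgroup Ω} (E₁ : FusionSystem T₁) (E₂ : FusionSystem T₂)
    (h₁ : E₁.IsWeaklyNormalIn F p) (h₂ : E₂.IsWeaklyNormalIn F p) (N : FusionSystem (T₁ ⊓ T₂))
    (hN : N.IsWeaklyNormalIn F p) :
    ∃ M : FusionSystem (T₁ ⊓ T₂), M.IsNormalIn F p ∧ M.IsNormalIn E₁ p ∧ M.IsNormalIn E₂ p := by
  have hWS : T₁ ⊓ T₂ ≤ S := hN.2.2.2.1.1
  have hfinW : Finite ↥(T₁ ⊓ T₂) := Fusion.finite_of_le hWS
  obtain ⟨M, hM⟩ := exists_isPPrimeResidual p (hS.to_le hWS) N hN.1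
  exact ⟨M, Cfsg.Agent.S5141.result p hS F hF N hN M hM,
    meet_cont_normal p hS F hF N hN E₁ h₁ inf_le_left M hM,
    meet_cont_normal p hS F hF N hN E₂ h₂ inf_le_right M hM⟩

/-- The meet exists when `T₁ ≤ T₂`. -/
theorem meet_of_le [Finite S] (p : ℕ) [Fact p.Prime] (hS : IsPGroup p S) (F : FusionSystem S)
    (hF : F.IsSaturated p) {T₁ T₂ : Subgroup Ω} (E₁ : FusionSystem T₁) (E₂ : FusionSystem T₂)
    (h₁ : E₁.IsWeaklyNormalIn F p) (h₂ : E₂.IsWeaklyNormalIn F p) (hle : T₁ ≤ T₂) :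
    ∃ M : FusionSystem (T₁ ⊓ T₂), M.IsNormalIn F p ∧ M.IsNormalIn E₁ p ∧ M.IsNormalIn E₂ p := by
  have key : ∀ (W : Subgroup Ω), W = T₁ → ∃ N : FusionSystem W, N.IsWeaklyNormalIn F p := by
    intro W hW
    subst hW
    exact ⟨E₁, h₁⟩
  obtain ⟨N, hN⟩ := key (T₁ ⊓ T₂) (inf_eq_left.mpr hle)
  exact meet_of_weaklyNormal p hS F hF E₁ E₂ h₁ h₂ N hN

/-- The meet exists when `T₂ ≤ T₁`. -/
theorem meet_of_ge [Finite S] (p : ℕ) [Fact p.Prime] (hS : IsPGroup p S) (F : FusionSystem S)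
    (hF : F.IsSaturated p) {T₁ T₂ : Subgroup Ω} (E₁ : FusionSystem T₁) (E₂ : FusionSystem T₂)
    (h₁ : E₁.IsWeaklyNormalIn F p) (h₂ : E₂.IsWeaklyNormalIn F p) (hle : T₂ ≤ T₁) :
    ∃ M : FusionSystem (T₁ ⊓ T₂), M.IsNormalIn F p ∧ M.IsNormalIn E₁ p ∧ M.IsNormalIn E₂ p := by
  have key : ∀ (W : Subgroup Ω), W = T₂ → ∃ N : FusionSystem W, N.IsWeaklyNormalIn F p := by
    intro W hW
    subst hW
    exact ⟨E₂, h₂⟩
  obtain ⟨N, hN⟩ := key (T₁ ⊓ T₂) (inf_eq_right.mpr hle)
  exact meet_of_weaklyNormal p hS F hF E₁ E₂ h₁ h₂ N hN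

end Cfsg.Agent.MEET
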