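import Mathlib
import Cfsg.Agent.MEET.LocDefs
import Cfsg.Agent.MEET.Frat
import Cfsg.Agent.CSE.LocalA
import Cfsg.Agent.Lead.FusionCenterFactor

/-!
# Project MEET, file Ext (helper3): the extension conditions (section 7 of `notes/MEET_helper8.md`)

`N = meetN F W hWS (meetA p F E₁ E₂)`, `W = T₁ ⊓ T₂`.  Given the output of the engine (`N` saturated, invariant in `F`,
`Aut_N(W) = A0(W)`), `N` is normal in `F`, in `E₁` and in `E₂`.  Everything is model-free: an element `b` of `B0(W)` is its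
own extension to `W C_S(W)`, and its restriction to `W C_{T_i}(W)` is the extension inside `E_i`.

* `meetRestr`: the restriction of a system to a strongly closed subgroup.
* `meet_ext_top_mem`: `W ∈ meetUf F W`.
* `meet_ext_A0_le`: `A0(U) ≤ Aut_{E_i}(U)`;  `meet_ext_A_le`: `A(R) ≤ Aut_{E_i}(R)`.
* `meet_ext_F_of`, `meet_ext_E1_of`, `meet_ext_E2_of`.
-/

set_option autoImplicit false
set_option linter.unusedSectionVars false

namespace Cfsg.Agent.MEET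

open Cfsg Cfsg.FusionSystem Cfsg.Agent.Lead Cfsg.Agent.Lead.StrongInv Cfsg.Agent.CSE

universe u

variable {Ω : Type u} [Group Ω] {S : Subgroup Ω} {p : ℕ} {F : FusionSystem S}

/-- The restriction of a system to a strongly closed subgroup. -/
def meetRestr {T : Subgroup Ω} (E : FusionSystem T) (W : Subgroup Ω) (hsc : E.StronglyClosed W) :
    FusionSystem W where
  Hom P := {φ | φ ∈ E.Hom P ∧ P ≤ W}
  le_of_mem := fun {P φ} h => ⟨h.2, fun x => hsc.2 P h.2 φ h.1 x⟩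
  injective_of_mem := fun h => E.injective_of_mem h.1
  conj_mem := fun hP hg => ⟨E.conj_mem (hP.trans hsc.1) (hsc.1 hg), hP⟩
  comp_mem := fun hφ hψ h => ⟨E.comp_mem hφ.1 hψ.1 h, hφ.2⟩
  inv_mem := by
    intro P φ hφ
    obtain ⟨ψ, hψ, hinv⟩ := E.inv_mem hφ.1
    refine ⟨ψ, ⟨hψ, ?_⟩, hinv⟩
    rintro _ ⟨x, rfl⟩
    exact hsc.2 P hφ.2 φ hφ.1 x

theorem meetRestr_le {T : Subgroup Ω} (E : FusionSystem T) (W : Subgroup Ω)
    (hsc : E.StronglyClosed W) (P : Subgroup Ω) : (meetRestr E W hsc).Hom P ⊆ E.Hom P :=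
  fun _ h => h.1

/-- A strongly closed subgroup is a fully normalized member of its own family. -/
theorem meet_ext_top_mem [Finite S] {W : Subgroup Ω} (hsc : F.StronglyClosed W) : W ∈ meetUf F W := by
  have hwc := Fusion.weaklyClosed_of_stronglyClosed F hsc
  refine ⟨⟨le_rfl, fun P' hP' => ?_⟩, Fusion.fullyNormalized_of_weaklyClosed F hwc⟩
  obtain ⟨φ, hφ, hr⟩ := hP'
  rw [← hr, hwc.2 φ hφ]
  exact inf_le_left

/-- For an automorphism `b` of `Q ≥ W` mapping the finite subgroup `W` into itself and `x ∈ Q` centralizing `W`, the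
element `x⁻¹ b(x)` centralizes `W`. -/
theorem meet_ext_comm {Q W : Subgroup Ω} [Finite W] (hWQ : W ≤ Q) (b : MulAut Q)
    (hbW : ∀ w : Q, (w : Ω) ∈ W → ((b w : Q) : Ω) ∈ W) (x : Q)
    (hx : (x : Ω) ∈ Subgroup.centralizer (W : Set Ω)) :
    (x : Ω)⁻¹ * ((b x : Q) : Ω) ∈ Subgroup.centralizer (W : Set Ω) := by
  -- `b` permutes `W`
  have hinj : Function.Injective (fun w : W => (⟨((b ⟨w, hWQ w.2⟩ : Q) : Ω), hbW _ w.2⟩ : W)) := by
    intro w₁ w₂ h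
    have h1 : ((b ⟨w₁, hWQ w₁.2⟩ : Q) : Ω) = ((b ⟨w₂, hWQ w₂.2⟩ : Q) : Ω) := by
      have := congrArg (fun w : W => (w : Ω)) h
      exact this
    have h2 : (⟨(w₁ : Ω), hWQ w₁.2⟩ : Q) = ⟨(w₂ : Ω), hWQ w₂.2⟩ := b.injective (Subtype.ext h1)
    exact Subtype.ext (congrArg (fun q : Q => (q : Ω)) h2)
  have hsurj := Finite.injective_iff_surjective.mp hinj
  have hbx : ((b x : Q) : Ω) ∈ Subgroup.centralizer (W : Set Ω) := by
    rw [Subgroup.mem_centralizer_iff]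
    intro w hw
    obtain ⟨w', hw'⟩ := hsurj ⟨w, hw⟩
    have h1 : ((b ⟨w', hWQ w'.2⟩ : Q) : Ω) = w := congrArg Subtype.val hw'
    have h2 : (⟨(w' : Ω), hWQ w'.2⟩ : Q) * x = x * ⟨(w' : Ω), hWQ w'.2⟩ := by
      apply Subtype.ext
      exact (Subgroup.mem_centralizer_iff.mp hx) w' w'.2
    have h3 := congrArg (fun q : Q => ((b q : Q) : Ω)) h2
    simp only [map_mul, Subgroup.coe_mul] at h3
    rw [← h1]
    exact h3
  exact Subgroup.mul_mem _ (Subgroup.inv_mem _ hx) hbx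

section A0

variable {T₁ T₂ : Subgroup Ω} {E₁ : FusionSystem T₁} {E₂ : FusionSystem T₂}

/-- An element of `B0(U)` maps `U` into itself. -/
theorem meet_ext_B0_map_mem {U : Subgroup Ω} {b : MulAut ↥(meetQ S U)} (hb : b ∈ meetB0 p F E₁ E₂ U)
    (w : ↥(meetQ S U)) (hw : (w : Ω) ∈ U) : ((b w : ↥(meetQ S U)) : Ω) ∈ U := by
  have h1 := hb.2.2.1 w
  have h2 : ((b w : ↥(meetQ S U)) : Ω) = (w : Ω) * ((w : Ω)⁻¹ * ((b w : ↥(meetQ S U)) : Ω)) := by group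
  rw [h2]
  exact U.mul_mem hw h1

/-- The restriction to `U` of an automorphism `b` of `Q_U` whose restriction to `R ≥ U` is a map of `E` is an
automorphism of `U` in `E`. -/
theorem meet_ext_res_mem {T : Subgroup Ω} (E : FusionSystem T) {U : Subgroup Ω} (hUT : U ≤ T)
    {b : MulAut ↥(meetQ S U)} {R : Subgroup Ω} (hUR : U ≤ R) (hres : MeetResIn E b R)
    (β : MulAut U) (hβ : MeetRes (meet_le_Q S U) b β) : β ∈ E.autGroup U := by
  obtain ⟨hRQ, hmem, -⟩ := hres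
  rw [Fusion.mem_autGroup_iff E hUT β]
  have h1 := Fusion.restrict_mem E hmem hUR
  convert h1 using 1
  ext x
  exact hβ x

theorem meet_ext_autInducedBy_mono {K K' : Subgroup Ω} (h : K ≤ K') (U : Subgroup Ω) :
    autInducedBy K U ≤ autInducedBy K' U := by
  unfold autInducedBy
  apply Subgroup.closure_mono
  rintro α ⟨g, hg, hα⟩
  exact ⟨g, h hg, hα⟩

/-- `A0(U) ≤ Aut_{E₁}(U)`. -/
theorem meet_ext_A0_le_left {U : Subgroup Ω} (hU : U ≤ T₁ ⊓ T₂) :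
    meetA0 p F E₁ E₂ U ≤ E₁.autGroup U := by
  have hUT : U ≤ T₁ := hU.trans inf_le_left
  unfold meetA0
  apply sup_le
  · rw [Subgroup.closure_le]
    rintro β ⟨b, hb, hβ⟩
    exact meet_ext_res_mem E₁ hUT (meet_le_Q T₁ U) hb.2.2.2.1 β hβ
  · exact (meet_ext_autInducedBy_mono inf_le_left U).trans (Fusion.autInducedBy_le_autGroup E₁ hUT)

/-- `A0(U) ≤ Aut_{E₂}(U)`. -/
theorem meet_ext_A0_le_right {U : Subgroup Ω} (hU : U ≤ T₁ ⊓ T₂) :
    meetA0 p F E₁ E₂ U ≤ E₂.autGroup U := by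
  have hUT : U ≤ T₂ := hU.trans inf_le_right
  unfold meetA0
  apply sup_le
  · rw [Subgroup.closure_le]
    rintro β ⟨b, hb, hβ⟩
    exact meet_ext_res_mem E₂ hUT (meet_le_Q T₂ U) hb.2.2.2.2 β hβ
  · exact (meet_ext_autInducedBy_mono inf_le_right U).trans (Fusion.autInducedBy_le_autGroup E₂ hUT)

end A0

/-- Transport of an automorphism in a strongly invariant subsystem along an isomorphism of `F`: if `a ∈ Aut_E(U)` and
`φ : R → U` is an isomorphism of `F` with `a ∘ φ = φ ∘ β`, then `β ∈ Aut_E(R)`. -/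
theorem meet_ext_tr_mem {T : Subgroup Ω} (E : FusionSystem T) (hSI : SI F E) {R U : Subgroup Ω}
    (hRT : R ≤ T) (hUT : U ≤ T) (φ : R →* Ω) (hφ : φ ∈ F.Hom R) (hr : φ.range = U) (a : MulAut U)
    (ha : a ∈ E.autGroup U) (β : MulAut R) (hβ : MeetTr φ β a) : β ∈ E.autGroup R := by
  obtain ⟨ψ, hψ, hinv, hrψ⟩ := Fusion.exists_inv F hφ hr
  have hahom := (Fusion.mem_autGroup_iff E hUT a).mp ha
  obtain ⟨χ, hχ, hχv⟩ := hSI U U le_rfl hUT _ hahom (fun x => (a x).2) ψ hψ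
  have hsrc : (U.subgroupOf U).map ψ = R := by
    rw [← hrψ]
    ext z
    constructor
    · rintro ⟨u, -, rfl⟩
      exact ⟨u, rfl⟩
    · rintro ⟨u, rfl⟩
      refine ⟨u, ?_, rfl⟩
      rw [SetLike.mem_coe, Subgroup.mem_subgroupOf]
      exact u.2
  obtain ⟨χ', hχ', hχ'v⟩ := Fusion.exists_hom_of_eq E hsrc hχ
  rw [Fusion.mem_autGroup_iff E hRT β]
  convert hχ' using 1
  ext r
  have hφr : φ r ∈ U := hr ▸ ⟨r, rfl⟩
  have h1 : ψ ⟨φ r, hφr⟩ = (r : Ω) := hinv r hφr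
  have hmem : ψ (Subgroup.inclusion (le_refl U) ⟨φ r, hφr⟩) ∈ (U.subgroupOf U).map ψ := by
    rw [hsrc]
    have : Subgroup.inclusion (le_refl U) ⟨φ r, hφr⟩ = ⟨φ r, hφr⟩ := Subtype.ext rfl
    rw [this, h1]
    exact r.2
  have h2 := hχv ⟨φ r, hφr⟩ hmem
  have h3 : (r : Ω) = ψ (Subgroup.inclusion (le_refl U) ⟨φ r, hφr⟩) := by
    have : Subgroup.inclusion (le_refl U) ⟨φ r, hφr⟩ = ⟨φ r, hφr⟩ := Subtype.ext rfl
    rw [this, h1]
  have h4 : χ' r = χ ⟨ψ (Subgroup.inclusion (le_refl U) ⟨φ r, hφr⟩), hmem⟩ := by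
    rw [← hχ'v _ hmem (h3 ▸ r.2)]
    exact app_congr χ' _ _ h3
  rw [h4, h2]
  -- `ψ (a (φ r)) = ψ (φ (β r)) = β r`
  have h5 : ((a ⟨φ r, hφr⟩ : U) : Ω) = φ (β r) := hβ r hφr
  have hφβ : φ (β r) ∈ U := hr ▸ ⟨β r, rfl⟩
  have h6 : ψ ⟨φ (β r), hφβ⟩ = ((β r : R) : Ω) := hinv (β r) hφβ
  show ((β r : R) : Ω) = ψ ⟨((a ⟨φ r, hφr⟩ : U) : Ω), _⟩
  rw [← h6]
  exact app_congr ψ _ _ h5.symm

section A

variable {T₁ T₂ : Subgroup Ω} {E₁ : FusionSystem T₁} {E₂ : FusionSystem T₂}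

/-- `A(R) ≤ Aut_{E₁}(R)` for `R ≤ W`. -/
theorem meet_ext_A_le_left (hSI : SI F E₁) {R : Subgroup Ω} (hR : R ≤ T₁ ⊓ T₂) :
    meetA p F E₁ E₂ R ≤ E₁.autGroup R := by
  unfold meetA
  rw [Subgroup.closure_le]
  rintro β ⟨U, hU, φ, hφ, hr, a, ha, hβ⟩
  exact meet_ext_tr_mem E₁ hSI (hR.trans inf_le_left) (hU.1.1.trans inf_le_left) φ hφ hr a
    (meet_ext_A0_le_left hU.1.1 ha) β hβ

/-- `A(R) ≤ Aut_{E₂}(R)` for `R ≤ W`. -/
theorem meet_ext_A_le_right (hSI : SI F E₂) {R : Subgroup Ω} (hR : R ≤ T₁ ⊓ T₂) :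
    meetA p F E₁ E₂ R ≤ E₂.autGroup R := by
  unfold meetA
  rw [Subgroup.closure_le]
  rintro β ⟨U, hU, φ, hφ, hr, a, ha, hβ⟩
  exact meet_ext_tr_mem E₂ hSI (hR.trans inf_le_right) (hU.1.1.trans inf_le_right) φ hφ hr a
    (meet_ext_A0_le_right hU.1.1 ha) β hβ

end A

/-! ### Good lifts -/

/-- Inner automorphisms of `W` have good lifts over `C_T(W)` in any system over `T ≥ W`. -/
theorem meet_ext_inner_good {T : Subgroup Ω} [Finite T] (E : FusionSystem T) {W : Subgroup Ω}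
    (hWT : W ≤ T) : autInducedBy W W ≤ cseLocAI E W hWT := by
  unfold autInducedBy
  rw [Subgroup.closure_le]
  rintro α ⟨g, hg, hα⟩
  have hQT : W ⊔ centralizerIn T W ≤ T := sup_le hWT inf_le_left
  have hgQ : g ∈ W ⊔ centralizerIn T W := (le_sup_left : W ≤ W ⊔ centralizerIn T W) hg
  refine ⟨MulAut.conj (⟨g, hgQ⟩ : ↥(W ⊔ centralizerIn T W)), ?_, fun u => ?_, fun x hx => ?_⟩
  · rw [Fusion.mem_autGroup_iff E hQT]
    convert E.conj_mem hQT (hWT hg) using 1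
    ext x
    rfl
  · exact (hα u).symm
  · show (x : Ω)⁻¹ * (g * (x : Ω) * g⁻¹) ∈ cseZ W
    have hc : g * (x : Ω) = (x : Ω) * g := (Subgroup.mem_centralizer_iff.mp hx.2) g hg
    have : (x : Ω)⁻¹ * (g * (x : Ω) * g⁻¹) = 1 := by rw [hc]; group
    rw [this]
    exact (cseZ W).one_mem

section main

variable {T₁ T₂ : Subgroup Ω} {E₁ : FusionSystem T₁} {E₂ : FusionSystem T₂}

/-- The elements of `A0(W)` have good lifts over `C_S(W)` in `F`. -/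
theorem meet_ext_A0_good_F [Finite S] (hWS : T₁ ⊓ T₂ ≤ S) :
    meetA0 p F E₁ E₂ (T₁ ⊓ T₂) ≤ cseLocAI F (T₁ ⊓ T₂) hWS := by
  have hfinW : Finite ↥(T₁ ⊓ T₂) := Fusion.finite_of_le hWS
  unfold meetA0
  apply sup_le
  · rw [Subgroup.closure_le]
    rintro β ⟨b, hb, hβ⟩
    refine ⟨b, hb.1, fun u => (hβ u).symm, fun x hx => ?_⟩
    exact Subgroup.mem_inf.mpr ⟨hb.2.2.1 x,
      meet_ext_comm (meet_le_Q S (T₁ ⊓ T₂)) b (meet_ext_B0_map_mem hb) x hx.2⟩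
  · exact meet_ext_inner_good F hWS

/-- **`N` is normal in `F`**, given the output of the engine. -/
theorem meet_ext_F_of [Finite S] [Fact p.Prime] (hF : F.IsSaturated p) (hWS : T₁ ⊓ T₂ ≤ S)
    (hsat : (meetN F (T₁ ⊓ T₂) hWS (meetA p F E₁ E₂)).IsSaturated p)
    (hinv : (meetN F (T₁ ⊓ T₂) hWS (meetA p F E₁ E₂)).IsInvariantIn F)
    (haut : (meetN F (T₁ ⊓ T₂) hWS (meetA p F E₁ E₂)).autGroup (T₁ ⊓ T₂) =
      meetA0 p F E₁ E₂ (T₁ ⊓ T₂)) :
    (meetN F (T₁ ⊓ T₂) hWS (meetA p F E₁ E₂)).IsNormalIn F p := by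
  refine ⟨⟨hsat, hF, hinv⟩, fun α hα => ?_⟩
  rw [haut] at hα
  obtain ⟨β, hβ⟩ := meet_ext_A0_good_F hWS hα
  exact ⟨β, hβ.1, hβ.2.1, hβ.2.2⟩

end main

/-- **`N` is normal in `E`** for a normal subsystem `E` of `F` over `T ≥ W`, given that `N` is saturated and invariant
in `F`, that the generators are automorphisms in `E`, and that the elements of `Aut_N(W)` have good lifts in `E`. -/
theorem meet_ext_E_of [Finite S] [Fact p.Prime] (hS : IsPGroup p S) {T : Subgroup Ω}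
    (E : FusionSystem T) (hE : E.IsNormalIn F p) {W : Subgroup Ω} (hWT : W ≤ T) (hWS : W ≤ S)
    (hsc : F.StronglyClosed W) (A : ∀ P : Subgroup Ω, Subgroup (MulAut P))
    (hsat : (meetN F W hWS A).IsSaturated p) (hinv : (meetN F W hWS A).IsInvariantIn F)
    (hAE : ∀ R ∈ meetH F W, A R ≤ E.autGroup R)
    (hext : ∀ a ∈ (meetN F W hWS A).autGroup W,
      ∃ β : MulAut ↥(W ⊔ centralizerIn T W), CseGood E W (centralizerIn T W) a β) :
    (meetN F W hWS A).IsNormalIn E p := by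
  have hTS : T ≤ S := hE.1.2.2.2.1.1
  have hfinT : Finite T := Fusion.finite_of_le hTS
  have hTp : IsPGroup p T := hS.to_le hTS
  have hEF : E.IsSubsystemOf F := hE.1.2.2.1
  have hEsat : E.IsSaturated p := hE.1.1
  have hscE : E.StronglyClosed W := ⟨hWT, fun R hR φ hφ x => hsc.2 R hR φ (hEF R hφ) x⟩
  -- `N ≤ E`
  have hgen : ∀ R ∈ meetH F W, A R ≤ (meetRestr E W hscE).autGroup R := by
    intro R hR a ha
    rw [Fusion.mem_autGroup_iff (meetRestr E W hscE) hR.1 a]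
    exact ⟨(Fusion.mem_autGroup_iff E (hR.1.trans hWT) a).mp (hAE R hR ha), hR.1⟩
  have hND := meet_N_min F W hWS A (meetRestr E W hscE) hgen
  have hNE : (meetN F W hWS A).IsSubsystemOf E := fun P φ hφ => (hND P hφ).1
  -- strong invariance
  have hSIF : SI F (meetN F W hWS A) := SI_of_invariant F _ hinv
  have hSIE : SI E (meetN F W hWS A) := fun P Q hPQ hQW φ hφ hφQ ψ hψ =>
    hSIF P Q hPQ hQW φ hφ hφQ ψ (hEF Q hψ)
  have hinvE := invariant_of_SI p hTp E hEsat (meetN F W hWS A) hNE hscE hSIE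
  refine ⟨⟨hsat, hEsat, hinvE⟩, fun α hα => ?_⟩
  obtain ⟨β, hβ⟩ := hext α hα
  exact ⟨β, hβ.1, hβ.2.1, hβ.2.2⟩

section main2

variable {T₁ T₂ : Subgroup Ω} {E₁ : FusionSystem T₁} {E₂ : FusionSystem T₂}

/-- The restriction of `b ∈ Aut(Q_U)` to `R` as an automorphism of `R` in `E`. -/
theorem meet_ext_resIn_aut {T : Subgroup Ω} [Finite T] (E : FusionSystem T) {Q R : Subgroup Ω}
    {b : MulAut Q} (hres : MeetResIn E b R) :
    ∃ hRQ : R ≤ Q, ∃ α' ∈ E.autGroup R, ∀ x : R, ((α' x : R) : Ω) = ((b (Subgroup.inclusion hRQ x) : Q) : Ω) := by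
  obtain ⟨hRQ, hmem, hval⟩ := hres
  have hRT : R ≤ T := (E.le_of_mem hmem).1
  have hfinR : Finite R := Fusion.finite_of_le hRT
  have hr : ((Q.subtype.comp b.toMonoidHom).comp (Subgroup.inclusion hRQ)).range = R := by
    apply Subgroup.eq_of_le_of_card_ge
    · rintro _ ⟨x, rfl⟩
      exact hval x
    · rw [Nat.card_congr (Equiv.ofInjective _ (E.injective_of_mem hmem))]
      rfl
  obtain ⟨α', hα', hv⟩ := Fusion.exists_aut_of_range_eq E hmem hr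
  exact ⟨hRQ, α', hα', fun x => hv x⟩

/-- The elements of `A0(W)` have good lifts over `C_{T₁}(W)` in `E₁`. -/
theorem meet_ext_A0_good_left [Finite S] (hT₁S : T₁ ≤ S) :
    haveI : Finite T₁ := Fusion.finite_of_le hT₁S
    meetA0 p F E₁ E₂ (T₁ ⊓ T₂) ≤ cseLocAI E₁ (T₁ ⊓ T₂) inf_le_left := by
  haveI : Finite T₁ := Fusion.finite_of_le hT₁S
  have hfinW : Finite ↥(T₁ ⊓ T₂) := Fusion.finite_of_le (inf_le_left.trans hT₁S)
  unfold meetA0
  apply sup_le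
  · rw [Subgroup.closure_le]
    rintro β ⟨b, hb, hβ⟩
    have hres : MeetResIn E₁ b ((T₁ ⊓ T₂) ⊔ centralizerIn T₁ (T₁ ⊓ T₂)) := hb.2.2.2.1
    obtain ⟨hRQ, α', hα', hv⟩ := meet_ext_resIn_aut E₁ hres
    refine ⟨α', hα', fun u => ?_, fun x hx => ?_⟩
    · rw [hv]
      exact (hβ u).symm
    · rw [hv]
      exact Subgroup.mem_inf.mpr ⟨hb.2.2.1 (Subgroup.inclusion hRQ x),
        meet_ext_comm (meet_le_Q S (T₁ ⊓ T₂)) b (meet_ext_B0_map_mem hb)
          (Subgroup.inclusion hRQ x) hx.2⟩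
  · exact meet_ext_inner_good E₁ inf_le_left

/-- The elements of `A0(W)` have good lifts over `C_{T₂}(W)` in `E₂`. -/
theorem meet_ext_A0_good_right [Finite S] (hT₂S : T₂ ≤ S) :
    haveI : Finite T₂ := Fusion.finite_of_le hT₂S
    meetA0 p F E₁ E₂ (T₁ ⊓ T₂) ≤ cseLocAI E₂ (T₁ ⊓ T₂) inf_le_right := by
  haveI : Finite T₂ := Fusion.finite_of_le hT₂S
  have hfinW : Finite ↥(T₁ ⊓ T₂) := Fusion.finite_of_le (inf_le_right.trans hT₂S)
  unfold meetA0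
  apply sup_le
  · rw [Subgroup.closure_le]
    rintro β ⟨b, hb, hβ⟩
    have hres : MeetResIn E₂ b ((T₁ ⊓ T₂) ⊔ centralizerIn T₂ (T₁ ⊓ T₂)) := hb.2.2.2.2
    obtain ⟨hRQ, α', hα', hv⟩ := meet_ext_resIn_aut E₂ hres
    refine ⟨α', hα', fun u => ?_, fun x hx => ?_⟩
    · rw [hv]
      exact (hβ u).symm
    · rw [hv]
      exact Subgroup.mem_inf.mpr ⟨hb.2.2.1 (Subgroup.inclusion hRQ x),
        meet_ext_comm (meet_le_Q S (T₁ ⊓ T₂)) b (meet_ext_B0_map_mem hb)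
          (Subgroup.inclusion hRQ x) hx.2⟩
  · exact meet_ext_inner_good E₂ inf_le_right

/-- **`N` is normal in `E₁`**, given the output of the engine. -/
theorem meet_ext_E1_of [Finite S] [Fact p.Prime] (hS : IsPGroup p S) (h₁ : E₁.IsNormalIn F p)
    (hWS : T₁ ⊓ T₂ ≤ S) (hsc : F.StronglyClosed (T₁ ⊓ T₂))
    (hsat : (meetN F (T₁ ⊓ T₂) hWS (meetA p F E₁ E₂)).IsSaturated p)
    (hinv : (meetN F (T₁ ⊓ T₂) hWS (meetA p F E₁ E₂)).IsInvariantIn F)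
    (haut : (meetN F (T₁ ⊓ T₂) hWS (meetA p F E₁ E₂)).autGroup (T₁ ⊓ T₂) =
      meetA0 p F E₁ E₂ (T₁ ⊓ T₂)) :
    (meetN F (T₁ ⊓ T₂) hWS (meetA p F E₁ E₂)).IsNormalIn E₁ p := by
  have hT₁S : T₁ ≤ S := h₁.1.2.2.2.1.1
  refine meet_ext_E_of hS E₁ h₁ inf_le_left hWS hsc _ hsat hinv
    (fun R hR => meet_ext_A_le_left (SI_of_invariant F E₁ h₁.1.2.2) hR.1) (fun a ha => ?_)
  rw [haut] at ha
  exact meet_ext_A0_good_left hT₁S ha

/-- **`N` is normal in `E₂`**, given the output of the engine. -/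
theorem meet_ext_E2_of [Finite S] [Fact p.Prime] (hS : IsPGroup p S) (h₂ : E₂.IsNormalIn F p)
    (hWS : T₁ ⊓ T₂ ≤ S) (hsc : F.StronglyClosed (T₁ ⊓ T₂))
    (hsat : (meetN F (T₁ ⊓ T₂) hWS (meetA p F E₁ E₂)).IsSaturated p)
    (hinv : (meetN F (T₁ ⊓ T₂) hWS (meetA p F E₁ E₂)).IsInvariantIn F)
    (haut : (meetN F (T₁ ⊓ T₂) hWS (meetA p F E₁ E₂)).autGroup (T₁ ⊓ T₂) =
      meetA0 p F E₁ E₂ (T₁ ⊓ T₂)) :
    (meetN F (T₁ ⊓ T₂) hWS (meetA p F E₁ E₂)).IsNormalIn E₂ p := by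
  have hT₂S : T₂ ≤ S := h₂.1.2.2.2.1.1
  refine meet_ext_E_of hS E₂ h₂ inf_le_right hWS hsc _ hsat hinv
    (fun R hR => meet_ext_A_le_right (SI_of_invariant F E₂ h₂.1.2.2) hR.1) (fun a ha => ?_)
  rw [haut] at ha
  exact meet_ext_A0_good_right hT₂S ha

end main2

end Cfsg.Agent.MEET
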