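import Mathlib
import Cfsg.Agent.MEET.ClaimDqC

set_option autoImplicit false

/-!
# Project MEET: the induction and THE ENGINE (frozen headers of `notes/MEET_headers.lean.txt`)

Claim D is taken from `MEET/ClaimDqC.lean` (`meet_claimDq`), Claim D' from `MEET/ClaimDp.lean`, the induction from
`MEET/IndA.lean` ... `MEET/IndJ.lean`, (Fr)/(REF) from `MEET/Frat.lean`.
-/

namespace Cfsg.Agent.MEET

open Cfsg Cfsg.FusionSystem Cfsg.Agent.Lead

universe u

variable {Ω : Type u} [Group Ω] {S : Subgroup Ω} {p : ℕ} {F : FusionSystem S} {W : Subgroup Ω} {hWS : W ≤ S}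
  {A : ∀ P : Subgroup Ω, Subgroup (MulAut P)}

/-- Claim D' in the bundled form. -/
theorem meet_ind_claimD [Finite S] [Fact p.Prime] (h : MeetEng p F W hWS A) : MeetClaimD' F W hWS A :=
  meet_claimDp_of h (meet_claimDq h)

/-- the induction step: `I(>k)` gives `Aut_N(U) = A(U)` and receptivity for the fully normalized `U` of order `k`. -/
theorem meet_ind_step [Finite S] [Fact p.Prime] (h : MeetEng p F W hWS A) {U : Subgroup Ω} (hU : U ∈ meetUf F W)
    (hI : MeetI F W hWS A (Nat.card U)) :
    (meetN F W hWS A).autGroup U = A U ∧ (meetN F W hWS A).IsReceptive U :=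
  meet_ind_step_of_claimD h (meet_ind_claimD h) hU hI

/-- `I(>k)` for every `k` (transport of `meet_ind_step` to the translates + downward induction). -/
theorem meet_ind_all [Finite S] [Fact p.Prime] (h : MeetEng p F W hWS A) (k : ℕ) : MeetI F W hWS A k :=
  meet_ind_all_of_claimD h (meet_ind_claimD h) k

/-- THE ENGINE. -/
theorem meet_engine [Finite S] [Fact p.Prime] (h : MeetEng p F W hWS A) :
    (meetN F W hWS A).IsSaturated p ∧ (meetN F W hWS A).IsInvariantIn F ∧
      ∀ P ∈ meetH F W, (meetN F W hWS A).autGroup P = A P :=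
  meet_engine_of_claimD h (meet_ind_claimD h)

end Cfsg.Agent.MEET
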