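import Mathlib
import Cfsg.Agent.MEET.HgenC

set_option autoImplicit false

/-!
# MEET project, local lemmas, part P: `p'`-lifting in the local group `G(U)`

`meet_loc_lift_grp`: a homomorphism whose kernel consists of `p`-elements lifts elements of order prime to `p` to
elements of order prime to `p`.  `meet_loc_cent_iff`, `meet_loc_ker_pelem`: the kernel of the action of `G(U)` on
`Q_U = U C_S(U)` is `ι(Z(Q_U))`, a `p`-group.  `meet_loc_lift`: an automorphism of `Q_U` in `F` of order prime to `p`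
normalizing `U` is induced by an element of `G(U)` of order prime to `p`.
-/

namespace Cfsg.Agent.MEET

open Cfsg Cfsg.FusionSystem Cfsg.Agent.Lead

universe u

/-- A homomorphism whose kernel consists of `p`-elements lifts `p'`-elements to `p'`-elements. -/
theorem meet_loc_lift_grp {G A : Type*} [Group G] [Group A] (p : ℕ) [hp : Fact p.Prime] (π : G →* A)
    (hker : ∀ g : G, π g = 1 → ∃ k : ℕ, g ^ (p ^ k) = 1) (g : G) (hb : (orderOf (π g)).Coprime p) :
    ∃ g' : G, (orderOf g').Coprime p ∧ π g' = π g ∧ g' ∈ Subgroup.zpowers g := by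
  have ho0 : orderOf (π g) ≠ 0 := by
    intro h0
    rw [h0, Nat.coprime_zero_left] at hb
    exact hp.out.one_lt.ne' hb
  obtain ⟨k, hk⟩ := hker (g ^ orderOf (π g)) (by rw [map_pow, pow_orderOf_eq_one])
  rcases Nat.lt_or_ge 1 (orderOf (π g)) with h1 | h1
  · have hcop : (p ^ k).Coprime (orderOf (π g)) := (Nat.Coprime.pow_right k hb).symm
    obtain ⟨m, -, hm⟩ := Nat.exists_mul_mod_eq_one_of_coprime hcop h1
    refine ⟨g ^ (p ^ k * m), ?_, ?_, ?_⟩
    · have hpow : (g ^ (p ^ k * m)) ^ orderOf (π g) = 1 := by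
        rw [← pow_mul, mul_comm (p ^ k * m), ← mul_assoc, pow_mul, pow_mul, hk, one_pow]
      exact Nat.Coprime.coprime_dvd_left (orderOf_dvd_of_pow_eq_one hpow) hb
    · rw [map_pow, ← pow_mod_orderOf, hm, pow_one]
    · exact Subgroup.pow_mem _ (Subgroup.mem_zpowers g) _
  · have h1' : orderOf (π g) = 1 := le_antisymm h1 (Nat.pos_of_ne_zero ho0)
    refine ⟨1, by simp, ?_, Subgroup.one_mem _⟩
    rw [map_one]
    exact (orderOf_eq_one_iff.mp h1').symm

variable {Ω : Type u} [Group Ω] {S : Subgroup Ω} {p : ℕ} {F : FusionSystem S} {W U : Subgroup Ω} {G : Type u}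
  [Group G] {ι : ↥(normalizerIn S U) →* G}

/-- The kernel of the action of `G(U)` on `Q_U`: the elements centralizing `ι(Q_U)`. -/
theorem meet_loc_act_eq_one_iff [Finite S] (hG : MeetLocGrp p F W U ι) (g : G) :
    meetAct hG g = 1 ↔ ∀ x : ↥(normalizerIn S U), (x : Ω) ∈ meetQ S U → g * ι x = ι x * g := by
  constructor
  · intro h x hx
    have h1 := meet_hgen_act_spec hG g ⟨x, hx⟩
    rw [h] at h1
    have h2 : g * ι x * g⁻¹ = ι x := h1.symm
    calc g * ι x = g * ι x * g⁻¹ * g := by group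
      _ = ι x * g := by rw [h2]
  · intro h
    symm
    apply meet_hgen_act_eq hG g 1
    intro x
    have h1 := h ⟨x, hG.hQ x.2⟩ x.2
    show ι ⟨x, hG.hQ x.2⟩ = g * ι ⟨x, hG.hQ x.2⟩ * g⁻¹
    rw [h1]
    group

/-- (ii) An element of `G(U)` centralizing `ι(Q_U)` is `ι z` for some `z ∈ Z(Q_U)`. -/
theorem meet_loc_cent_center (hG : MeetLocGrp p F W U ι) (g : G)
    (hg : ∀ x : ↥(normalizerIn S U), (x : Ω) ∈ meetQ S U → g * ι x = ι x * g) :
    ∃ z : ↥(normalizerIn S U), (z : Ω) ∈ meetQ S U ∧ (∀ q ∈ meetQ S U, (z : Ω) * q = q * z) ∧ ι z = g := by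
  obtain ⟨z, hzQ, hz⟩ := hG.cent g hg
  refine ⟨z, hzQ, fun q hq => ?_, hz⟩
  have h1 := hg ⟨q, hG.hQ hq⟩ hq
  rw [← hz, ← map_mul, ← map_mul] at h1
  exact congrArg Subtype.val (hG.inj h1)

/-- The kernel of the action of `G(U)` on `Q_U` consists of `p`-elements. -/
theorem meet_loc_ker_pelem [Finite S] [Fact p.Prime] (hS : IsPGroup p S) (hG : MeetLocGrp p F W U ι) (g : G)
    (hg : meetAct hG g = 1) : ∃ k : ℕ, g ^ (p ^ k) = 1 := by
  obtain ⟨z, -, hz⟩ := hG.cent g ((meet_loc_act_eq_one_iff hG g).mp hg)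
  obtain ⟨k, hk⟩ := hS ⟨z, (Subgroup.mem_inf.mp z.2).1⟩
  refine ⟨k, ?_⟩
  rw [← hz, ← map_pow]
  have : z ^ (p ^ k) = 1 := by
    apply Subtype.ext
    have h1 := congrArg Subtype.val hk
    simpa using h1
  rw [this, map_one]

/-- (i) An automorphism of `Q_U` in `F` of order prime to `p` normalizing `U` is induced by an element of `G(U)` of
order prime to `p`. -/
theorem meet_loc_lift [Finite S] [Fact p.Prime] (hS : IsPGroup p S) (hG : MeetLocGrp p F W U ι)
    (b : MulAut ↥(meetQ S U)) (hb : b ∈ F.autGroup (meetQ S U))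
    (hbU : ∀ x : ↥(meetQ S U), (x : Ω) ∈ U → ((b x : ↥(meetQ S U)) : Ω) ∈ U)
    (hbp : (orderOf b).Coprime p) :
    ∃ g : G, (orderOf g).Coprime p ∧
      MeetInd ι g hG.hQ ((meetQ S U).subtype.comp b.toMonoidHom) (fun x => hG.hQ (b x).2) := by
  obtain ⟨g₀, hg₀⟩ := hG.realQ b hb hbU
  have hbg : b = meetAct hG g₀ := meet_hgen_act_eq hG g₀ b hg₀
  rw [hbg] at hbp
  obtain ⟨g, hgp, hgb, -⟩ := meet_loc_lift_grp p (meetAct hG) (meet_loc_ker_pelem hS hG) g₀ hbp
  refine ⟨g, hgp, fun x => ?_⟩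
  have h1 := meet_hgen_act_spec hG g x
  rw [hgb, ← hbg] at h1
  exact h1

/-- The action of `g : G(U)` on `Q_U` is an automorphism in `F` normalizing `U`. -/
theorem meet_loc_act_mem [Finite S] (hG : MeetLocGrp p F W U ι) (g : G) :
    meetAct hG g ∈ F.autGroup (meetQ S U) ∧
      ∀ x : ↥(meetQ S U), (x : Ω) ∈ U → ((meetAct hG g x : ↥(meetQ S U)) : Ω) ∈ U :=
  ⟨meet_hgen_act_mem hG g, fun x hx => meet_hgen_act_U hG g x hx⟩

end Cfsg.Agent.MEET
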