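import Mathlib
import Cfsg.Agent.MEET.PcEngB
import Cfsg.Agent.MEET.CmE
import Cfsg.Agent.MEET.CmB
import Cfsg.Agent.MEET.Ind
import Cfsg.Agent.MEET.Cont
import Cfsg.Agent.LAY.Basic

/-!
# Project MEET: the assembly

`E₁, E₂` normal subsystems of the saturated fusion system `F` over `T₁, T₂`.  The concrete automizers `meetA p F E₁ E₂`
satisfy the hypotheses (E1)-(E5) of the engine (`meet_local_eng`: helper4's `meet_pc_*`, helper9's `meet_cm_fr`,
`meet_cm_recl`, and `meet_cm_cmb`), so by `meet_engine` the system `meetN` they generate over `T₁ ⊓ T₂` is saturated and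
invariant in `F` (`meet_wn`); helper2's `meet_of_weaklyNormal` turns it into a subsystem over `T₁ ⊓ T₂` normal in `F`, `E₁` and
`E₂`, which is the hypothesis `LayMeet` of project LAYER (`meet_layMeet`).  See `notes/MEET_helper8.md`.
-/

set_option autoImplicit false

namespace Cfsg.Agent.MEET

open Cfsg Cfsg.FusionSystem

universe u

variable {Ω : Type u} [Group Ω] {S : Subgroup Ω} {p : ℕ} {F : FusionSystem S} {T₁ T₂ : Subgroup Ω}
  {E₁ : FusionSystem T₁} {E₂ : FusionSystem T₂}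

/-- THE CONCRETE AUTOMIZERS SATISFY THE ENGINE'S HYPOTHESES. -/
theorem meet_local_eng [Finite S] [Fact p.Prime] (hS : IsPGroup p S) (hF : F.IsSaturated p) (h₁ : E₁.IsNormalIn F p)
    (h₂ : E₂.IsNormalIn F p) (hWS : T₁ ⊓ T₂ ≤ S) : MeetEng p F (T₁ ⊓ T₂) hWS (meetA p F E₁ E₂) where
  hS := hS
  sat := hF
  sc := meet_pc_inf_sc h₁ h₂
  sub := meet_pc_sub hS hF h₁ h₂
  inv := meet_pc_inv hS hF h₁ h₂
  autW := meet_pc_autW hS hF h₁ h₂
  syl := meet_pc_syl hS hF h₁ h₂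
  fr := meet_cm_fr hS hF h₁ h₂ hWS
  recl := meet_cm_recl hS hF h₁ h₂ hWS
  cmb := meet_cm_cmb hS hF h₁ h₂

/-- (WN-MEET) a weakly normal subsystem over `T₁ ⊓ T₂` exists. -/
theorem meet_wn [Finite S] [Fact p.Prime] (hS : IsPGroup p S) (hF : F.IsSaturated p) (h₁ : E₁.IsNormalIn F p)
    (h₂ : E₂.IsNormalIn F p) : ∃ N : FusionSystem (T₁ ⊓ T₂), N.IsWeaklyNormalIn F p := by
  have hWS : T₁ ⊓ T₂ ≤ S := (meet_pc_inf_sc h₁ h₂).1
  obtain ⟨hsat, hinv, _⟩ := meet_engine (meet_local_eng hS hF h₁ h₂ hWS)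
  exact ⟨_, hsat, hF, hinv⟩

end Cfsg.Agent.MEET

namespace Cfsg.Agent.MEET

open Cfsg Cfsg.FusionSystem

/-- THE HYPOTHESIS `LayMeet` OF PROJECT LAYER: two normal subsystems of a saturated fusion system have a common normal
subsystem over the intersection of their underlying groups, normal in the system and in both of them. -/
theorem meet_layMeet {Ω : Type*} [Group Ω] (p : ℕ) [Fact p.Prime] : Cfsg.Agent.LAY.LayMeet Ω p := by
  intro S _ hS F hF T₁ T₂ E₁ E₂ h₁ h₂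
  obtain ⟨N, hN⟩ := meet_wn hS hF h₁ h₂
  exact meet_of_weaklyNormal p hS F hF E₁ E₂ h₁.1 h₂.1 N hN

end Cfsg.Agent.MEET
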