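import Mathlib
import Cfsg.Agent.MEET.LocDefs
import Cfsg.Agent.MEET.Ext
import Cfsg.Agent.MEET.SzExt
import Cfsg.Agent.CSE.Local
import Cfsg.Agent.CSE.Restrict
import Cfsg.Agent.CSE.Transport

/-!
# Project MEET, file MaxA (helper3): tools for the maximality of the meet (section 8 of `notes/MEET_helper8.md`)

* `meetStab U Q`: the automorphisms `c` of `Q` with `[Q, c] ≤ U`; a subgroup of `Aut(Q)`.
* `meet_stab_sup`: membership in `meetStab U (U ⊔ X)` can be tested on `U` and on `X` when `X` normalizes `U`.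
* `meet_max_good_stab`: a good lift (`CseGood`) of an automorphism of `U` over `X ≤ N(U)` lies in `meetStab U (U ⊔ X)`.
* `meet_max_sz`: inside `Aut_F(R)`, a `p'`-element `a` that differs from an element `b` of `Aut_E(R)` by an automorphism
  stabilizing the chain `1 ≤ P ≤ R` (`P` a `p`-group) lies in `Aut_E(R)`.
* `meet_max_tr_fwd`: transport of an automorphism in `E` along an isomorphism of `F` stays in `E` (strong invariance).
* `meet_max_res_pow`: restriction of automorphisms commutes with powers.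
-/

set_option autoImplicit false
set_option linter.unusedSectionVars false
set_option linter.unusedVariables false

namespace Cfsg.Agent.MEET

open Cfsg Cfsg.FusionSystem Cfsg.Agent.Lead Cfsg.Agent.Lead.StrongInv Cfsg.Agent.CSE

universe u

variable {Ω : Type u} [Group Ω] {S : Subgroup Ω}

/-- The automorphisms `c` of `Q` with `[Q, c] ≤ U`. -/
def meetStab (U Q : Subgroup Ω) : Subgroup (MulAut Q) where
  carrier := {c | ∀ y : Q, (y : Ω)⁻¹ * ((c y : Q) : Ω) ∈ U}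
  one_mem' := fun y => by simp
  mul_mem' := by
    intro c₁ c₂ h₁ h₂ y
    have e : (y : Ω)⁻¹ * (((c₁ * c₂) y : Q) : Ω)
        = ((y : Ω)⁻¹ * ((c₂ y : Q) : Ω)) * (((c₂ y : Q) : Ω)⁻¹ * ((c₁ (c₂ y) : Q) : Ω)) := by
      rw [MulAut.mul_apply]; group
    rw [e]
    exact U.mul_mem (h₂ y) (h₁ (c₂ y))
  inv_mem' := by
    intro c h y
    have h1 := h (c⁻¹ y)
    have e : c (c⁻¹ y) = y := by simp
    rw [e] at h1
    have e2 : (y : Ω)⁻¹ * ((c⁻¹ y : Q) : Ω) = (((c⁻¹ y : Q) : Ω)⁻¹ * (y : Ω))⁻¹ := by group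
    rw [e2]
    exact U.inv_mem h1

theorem mem_meetStab {U Q : Subgroup Ω} {c : MulAut Q} :
    c ∈ meetStab U Q ↔ ∀ y : Q, (y : Ω)⁻¹ * ((c y : Q) : Ω) ∈ U := Iff.rfl

/-- Elements of `meetStab U Q` map `U ∩ Q` into `U`. -/
theorem meet_stab_map_mem {U Q : Subgroup Ω} {c : MulAut Q} (hc : c ∈ meetStab U Q) (y : Q)
    (hy : (y : Ω) ∈ U) : ((c y : Q) : Ω) ∈ U := by
  have h1 := hc y
  have h2 : ((c y : Q) : Ω) = (y : Ω) * ((y : Ω)⁻¹ * ((c y : Q) : Ω)) := by group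
  rw [h2]
  exact U.mul_mem hy h1

/-- Membership in `meetStab U (U ⊔ X)` can be tested on `U` and on `X` when `X` normalizes `U`. -/
theorem meet_stab_sup {U X : Subgroup Ω} (hXN : X ≤ Subgroup.normalizer (U : Set Ω))
    (β : MulAut ↥(U ⊔ X))
    (hU : ∀ y : ↥(U ⊔ X), (y : Ω) ∈ U → (y : Ω)⁻¹ * ((β y : ↥(U ⊔ X)) : Ω) ∈ U)
    (hX : ∀ y : ↥(U ⊔ X), (y : Ω) ∈ X → (y : Ω)⁻¹ * ((β y : ↥(U ⊔ X)) : Ω) ∈ U) :
    β ∈ meetStab U (U ⊔ X) := by
  have hN : U ⊔ X ≤ Subgroup.normalizer (U : Set Ω) := sup_le Subgroup.le_normalizer hXN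
  let H : Subgroup ↥(U ⊔ X) :=
    { carrier := {y | (y : Ω)⁻¹ * ((β y : ↥(U ⊔ X)) : Ω) ∈ U}
      one_mem' := by simp
      mul_mem' := by
        intro y₁ y₂ h₁ h₂
        show ((y₁ * y₂ : ↥(U ⊔ X)) : Ω)⁻¹ * ((β (y₁ * y₂) : ↥(U ⊔ X)) : Ω) ∈ U
        have e : ((y₁ * y₂ : ↥(U ⊔ X)) : Ω)⁻¹ * ((β (y₁ * y₂) : ↥(U ⊔ X)) : Ω)
            = ((y₂ : Ω)⁻¹ * ((y₁ : Ω)⁻¹ * ((β y₁ : ↥(U ⊔ X)) : Ω)) * (y₂ : Ω)) *
              ((y₂ : Ω)⁻¹ * ((β y₂ : ↥(U ⊔ X)) : Ω)) := by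
          rw [map_mul]
          simp only [Subgroup.coe_mul]
          group
        rw [e]
        refine U.mul_mem ?_ h₂
        exact (Subgroup.mem_normalizer_iff''.mp (hN y₂.2) _).mp h₁
      inv_mem' := by
        intro y h
        show ((y⁻¹ : ↥(U ⊔ X)) : Ω)⁻¹ * ((β y⁻¹ : ↥(U ⊔ X)) : Ω) ∈ U
        have e : ((y⁻¹ : ↥(U ⊔ X)) : Ω)⁻¹ * ((β y⁻¹ : ↥(U ⊔ X)) : Ω)
            = (y : Ω) * ((y : Ω)⁻¹ * ((β y : ↥(U ⊔ X)) : Ω))⁻¹ * (y : Ω)⁻¹ := by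
          rw [map_inv]
          simp only [Subgroup.coe_inv]
          group
        rw [e]
        exact (Subgroup.mem_normalizer_iff.mp (hN y.2) _).mp (U.inv_mem h) }
  have hHtop : ∀ y : ↥(U ⊔ X), y ∈ H := by
    intro y
    have hle : U ⊔ X ≤ H.map (U ⊔ X).subtype := by
      apply sup_le
      · intro u hu
        exact ⟨⟨u, (le_sup_left : U ≤ U ⊔ X) hu⟩, hU _ hu, rfl⟩
      · intro x hx
        exact ⟨⟨x, (le_sup_right : X ≤ U ⊔ X) hx⟩, hX _ hx, rfl⟩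
    obtain ⟨y', hy', hyy'⟩ := hle y.2
    have : y' = y := Subtype.ext hyy'
    rw [← this]
    exact hy'
  exact fun y => hHtop y

/-- A good lift of an automorphism of `U` over `X ≤ N(U)` moves every element of `U ⊔ X` inside its coset of `U`. -/
theorem meet_max_good_stab {F : FusionSystem S} {U X : Subgroup Ω}
    (hXN : X ≤ Subgroup.normalizer (U : Set Ω))
    {α : MulAut U} {β : MulAut ↥(U ⊔ X)} (h : CseGood F U X α β) : β ∈ meetStab U (U ⊔ X) := by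
  refine meet_stab_sup hXN β (fun y hy => ?_) (fun y hy => cseZ_le U (h.2.2 y hy))
  have h1 := h.2.1 ⟨y, hy⟩
  have e : Subgroup.inclusion le_sup_left (⟨(y : Ω), hy⟩ : U) = y := Subtype.ext rfl
  rw [e] at h1
  rw [h1]
  exact U.mul_mem (U.inv_mem hy) (α ⟨y, hy⟩).2

/-- The `p`/`p'` argument: inside `Aut_F(R)`, a `p'`-element `a` that differs from `b ∈ Aut_E(R)` by an automorphism
stabilizing the chain `1 ≤ P ≤ R` of the `p`-group `P` lies in `Aut_E(R)`. -/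
theorem meet_max_sz (p : ℕ) [Fact p.Prime] {T : Subgroup Ω} (F : FusionSystem S) (E : FusionSystem T)
    (hSI : SI F E) (hTS : T ≤ S) (hsub : E.IsSubsystemOf F) {P R : Subgroup Ω} [Finite P]
    (hPp : IsPGroup p P) (hRT : R ≤ T)
    (a : MulAut R) (ha : a ∈ F.autGroup R) (hao : ∃ m : ℕ, m.Coprime p ∧ a ^ m = 1)
    (b : MulAut R) (hb : b ∈ E.autGroup R)
    (hd1 : ∀ x : R, (x : Ω) ∈ P → (b⁻¹ * a) x = x)
    (hd2 : ∀ y : R, ((y⁻¹ * (b⁻¹ * a) y : R) : Ω) ∈ P) : a ∈ E.autGroup R := by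
  have hbF : b ∈ F.autGroup R := autGroup_le_of_subsystem F E hsub R hb
  obtain ⟨n, hn⟩ := meet_sz_chain_pow p hPp (b⁻¹ * a) hd1 hd2
  have hnorm : ((E.autGroup R).subgroupOf (F.autGroup R)).Normal := ⟨fun x hx g => by
    rw [Subgroup.mem_subgroupOf] at hx ⊢
    exact conj_mem_autGroup F E hSI hTS hRT g.1 x.1 g.2 hx⟩
  obtain ⟨m, hm, ham⟩ := hao
  have hfinal : (⟨a, ha⟩ : F.autGroup R) ∈ (E.autGroup R).subgroupOf (F.autGroup R) :=
    meet_pc_mem_of_pprime p _ (⟨a, ha⟩ : F.autGroup R) ⟨b, hbF⟩ (⟨b, hbF⟩⁻¹ * ⟨a, ha⟩)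
      (Subgroup.mem_subgroupOf.mpr hb) (by group)
      ⟨n, Subtype.ext (by simpa using hn)⟩
      ⟨m, hm, Subtype.ext (by simpa using ham)⟩
  exact Subgroup.mem_subgroupOf.mp hfinal

/-- Forward transport: if `d ∈ Aut_E(P)` and `a` is the transport of `d` along the isomorphism `φ : P → U` of `F`, then
`a ∈ Aut_E(U)` (`E` strongly invariant in `F`). -/
theorem meet_max_tr_fwd {F : FusionSystem S} {T : Subgroup Ω} (E : FusionSystem T) (hSI : SI F E)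
    {P U : Subgroup Ω} (hPT : P ≤ T) (hUT : U ≤ T) (φ : P →* Ω) (hφ : φ ∈ F.Hom P) (hr : φ.range = U)
    (d : MulAut P) (hd : d ∈ E.autGroup P) (a : MulAut U) (ha : MeetTr φ d a) : a ∈ E.autGroup U := by
  obtain ⟨ψ, hψ, hinv, hrψ⟩ := Fusion.exists_inv F hφ hr
  have key : ∀ (x : P) (hφx : φ x ∈ U) (hy : ψ ⟨φ x, hφx⟩ ∈ P),
      ((d ⟨ψ ⟨φ x, hφx⟩, hy⟩ : P) : Ω) = ψ (a ⟨φ x, hφx⟩) := by
    intro x hφx hy
    have h1 : ψ ⟨φ x, hφx⟩ = (x : Ω) := hinv x hφx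
    have h2 : (⟨ψ ⟨φ x, hφx⟩, hy⟩ : P) = x := Subtype.ext h1
    rw [h2]
    have h3 : ((a ⟨φ x, hφx⟩ : U) : Ω) = φ (d x) := ha x hφx
    have hφd : φ (d x) ∈ U := hr ▸ ⟨d x, rfl⟩
    have h4 : a ⟨φ x, hφx⟩ = ⟨φ (d x), hφd⟩ := Subtype.ext h3
    rw [h4]
    exact (hinv (d x) hφd).symm
  refine meet_ext_tr_mem E hSI hUT hPT ψ hψ hrψ d hd a ?_
  rintro ⟨yv, hyU⟩ hy
  obtain ⟨x, rfl⟩ : ∃ x : P, φ x = yv := by
    have : yv ∈ φ.range := hr ▸ hyU
    exact this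
  exact key x hyU hy

/-- Restriction of automorphisms commutes with powers. -/
theorem meet_max_res_pow {Q R : Subgroup Ω} (hRQ : R ≤ Q) (b : MulAut Q) (g : MulAut R)
    (hg : ∀ x : R, ((g x : R) : Ω) = ((b (Subgroup.inclusion hRQ x) : Q) : Ω)) (n : ℕ) (x : R) :
    (((g ^ n) x : R) : Ω) = (((b ^ n) (Subgroup.inclusion hRQ x) : Q) : Ω) := by
  induction n generalizing x with
  | zero => simp
  | succ n ih =>
    have e : Subgroup.inclusion hRQ (g x) = b (Subgroup.inclusion hRQ x) := Subtype.ext (hg x)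
    rw [pow_succ, pow_succ, MulAut.mul_apply, MulAut.mul_apply, ih (g x), e]

/-- The restriction of a `p'`-automorphism is a `p'`-automorphism. -/
theorem meet_max_res_coprime {p : ℕ} {Q R : Subgroup Ω} (hRQ : R ≤ Q) (b : MulAut Q) (g : MulAut R)
    (hg : ∀ x : R, ((g x : R) : Ω) = ((b (Subgroup.inclusion hRQ x) : Q) : Ω))
    (hb : (orderOf b).Coprime p) : ∃ m : ℕ, m.Coprime p ∧ g ^ m = 1 := by
  refine ⟨orderOf b, hb, ?_⟩
  ext x
  rw [meet_max_res_pow hRQ b g hg, pow_orderOf_eq_one]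
  rfl

/-- The restriction of an element of `meetStab U Q` lies in `meetStab U R`. -/
theorem meet_max_res_stab {U Q R : Subgroup Ω} (hRQ : R ≤ Q) (b : MulAut Q) (g : MulAut R)
    (hg : ∀ x : R, ((g x : R) : Ω) = ((b (Subgroup.inclusion hRQ x) : Q) : Ω))
    (hb : b ∈ meetStab U Q) : g ∈ meetStab U R := by
  intro y
  rw [hg y]
  exact hb (Subgroup.inclusion hRQ y)

end Cfsg.Agent.MEET
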