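import Mathlib
import Cfsg.Agent.MEET.MaxA

/-!
# Project MEET, file MaxB (helper3): good `p'`-lifts of `p'`-elements of `Aut_{D'}(U)` lie in `B0(U)`

`D'` over `W = T₁ ⊓ T₂` normal in `F`, `E₁`, `E₂`; `U` a `D'`-centric subgroup, `d ∈ Aut_{D'}(U)` of order prime to `p`.
The good lift `b` of `d` to `Q_U = U C_S(U)` in `F` (of order prime to `p`) satisfies `[Q_U, b] ≤ U`, and its restriction to
`Q_i^U = U C_{T_i}(U)` differs from the good lift `β_i` of `d` in `E_i` by a `p`-element of `Aut_F(Q_i^U)`; as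
`Aut_{E_i}(Q_i^U)` is normal in `Aut_F(Q_i^U)`, `b|_{Q_i^U} ∈ Aut_{E_i}(Q_i^U)`.  Hence `b ∈ B0(U)`.
-/

set_option autoImplicit false
set_option linter.unusedSectionVars false
set_option linter.unusedVariables false

namespace Cfsg.Agent.MEET

open Cfsg Cfsg.FusionSystem Cfsg.Agent.Lead Cfsg.Agent.Lead.StrongInv Cfsg.Agent.CSE

universe u

variable {Ω : Type u} [Group Ω] {S : Subgroup Ω} {p : ℕ} {F : FusionSystem S}

theorem meet_max_cent_le_nrm (K U : Subgroup Ω) :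
    centralizerIn K U ≤ Subgroup.normalizer (U : Set Ω) :=
  (Fusion.centralizerIn_le_normalizerIn U).trans inf_le_right

/-- The restriction to `U C_T(U)` of the good `p'`-lift `b` of `d ∈ Aut_{D'}(U)` is a map of `E`. -/
theorem meet_max_resIn [Finite S] [Fact p.Prime] (hS : IsPGroup p S) {T W : Subgroup Ω}
    (E : FusionSystem T) (hE : E.IsNormalIn F p) (D' : FusionSystem W) (hD'E : D'.IsNormalIn E p)
    {U : Subgroup Ω} (hUc : D'.IsCentric U) (d : MulAut U) (hd : d ∈ D'.autGroup U)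
    (hcop : (orderOf d).Coprime p)
    (b : MulAut ↥(meetQ S U)) (hb : b ∈ F.autGroup (meetQ S U)) (hbo : (orderOf b).Coprime p)
    (hbs : b ∈ meetStab U (meetQ S U)) (hres : MeetRes (meet_le_Q S U) b d) :
    MeetResIn E b (meetQ T U) := by
  have hTS : T ≤ S := hE.1.2.2.2.1.1
  have hfinT : Finite T := Fusion.finite_of_le hTS
  have hTp : IsPGroup p T := hS.to_le hTS
  have hWT : W ≤ T := hD'E.1.2.2.2.1.1
  have hUW : U ≤ W := hUc.1
  have hUT : U ≤ T := hUW.trans hWT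
  have hUS : U ≤ S := hUT.trans hTS
  have hfinU : Finite U := Fusion.finite_of_le hUS
  have hUp : IsPGroup p U := hS.to_le hUS
  have hset : Setup p E D' := ⟨hTp, hE.1.1, hD'E⟩
  obtain ⟨β₀, hβ₀⟩ := cse_local p hset hUc d hd
  obtain ⟨β, hβ, hβo⟩ : ∃ β : MulAut ↥(meetQ T U),
      CseGood E U (centralizerIn T U) d β ∧ (orderOf β).Coprime p :=
    cse_good_coprime p E hUT le_rfl hcop hβ₀
  have hβs : β ∈ meetStab U (meetQ T U) := meet_max_good_stab (meet_max_cent_le_nrm T U) hβ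
  have hβE : β ∈ E.autGroup (meetQ T U) := hβ.1
  have hRQ : meetQ T U ≤ meetQ S U := sup_le_sup_left (inf_le_inf_right _ hTS) U
  have hQT : meetQ T U ≤ T := sup_le hUT inf_le_left
  have hQS : meetQ S U ≤ S := sup_le hUS inf_le_left
  -- `b` maps `Q_T` into `Q_T`
  have hmap : ∀ x : ↥(meetQ T U),
      ((b (Subgroup.inclusion hRQ x) : ↥(meetQ S U)) : Ω) ∈ meetQ T U := by
    intro x
    have h1 := hbs (Subgroup.inclusion hRQ x)
    have h2 : ((b (Subgroup.inclusion hRQ x) : ↥(meetQ S U)) : Ω)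
        = (x : Ω) * ((x : Ω)⁻¹ * ((b (Subgroup.inclusion hRQ x) : ↥(meetQ S U)) : Ω)) := by group
    rw [h2]
    exact (meetQ T U).mul_mem x.2 (meet_le_Q T U h1)
  have hbhom := (Fusion.mem_autGroup_iff F hQS b).mp hb
  have hresF : MeetResIn F b (meetQ T U) := ⟨hRQ, Fusion.restrict_mem F hbhom hRQ, hmap⟩
  obtain ⟨hRQ', g, hg, hgv⟩ := meet_ext_resIn_aut F hresF
  have hgo := meet_max_res_coprime hRQ' b g hgv hbo
  have hgs : g ∈ meetStab U (meetQ T U) := meet_max_res_stab hRQ' b g hgv hbs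
  have hx : β⁻¹ * g ∈ meetStab U (meetQ T U) :=
    (meetStab U (meetQ T U)).mul_mem ((meetStab U (meetQ T U)).inv_mem hβs) hgs
  have hgE : g ∈ E.autGroup (meetQ T U) := by
    refine meet_max_sz p F E (SI_of_invariant F E hE.1.2.2) hTS hE.1.2.2.1 hUp hQT g hg hgo β hβE ?_ ?_
    · intro x hxU
      have h1 : ((g x : ↥(meetQ T U)) : Ω) = ((d ⟨x, hxU⟩ : U) : Ω) := by
        rw [hgv x, hres ⟨x, hxU⟩]
        rfl
      have h2 : ((β x : ↥(meetQ T U)) : Ω) = ((d ⟨x, hxU⟩ : U) : Ω) := by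
        have h3 := hβ.2.1 ⟨x, hxU⟩
        rw [← h3]
        rfl
      have h3 : g x = β x := Subtype.ext (h1.trans h2.symm)
      show β⁻¹ (g x) = x
      rw [h3]
      simp
    · intro y
      have := hx y
      simpa using this
  refine ⟨hRQ, ?_, hmap⟩
  have := (Fusion.mem_autGroup_iff E hQT g).mp hgE
  convert this using 1
  ext x
  exact (hgv x).symm

variable {T₁ T₂ : Subgroup Ω} {E₁ : FusionSystem T₁} {E₂ : FusionSystem T₂}

/-- A `p'`-element `d` of `Aut_{D'}(U)`, `U` centric in `D'`, is the restriction of an element of `B0(U)`. -/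
theorem meet_max_B0 [Finite S] [Fact p.Prime] (hS : IsPGroup p S) (hF : F.IsSaturated p)
    (h₁ : E₁.IsNormalIn F p) (h₂ : E₂.IsNormalIn F p)
    (D' : FusionSystem (T₁ ⊓ T₂)) (hD'F : D'.IsNormalIn F p) (hD'1 : D'.IsNormalIn E₁ p)
    (hD'2 : D'.IsNormalIn E₂ p)
    {U : Subgroup Ω} (hUc : D'.IsCentric U) (d : MulAut U) (hd : d ∈ D'.autGroup U)
    (hdo : ∃ m : ℕ, m.Coprime p ∧ d ^ m = 1) :
    ∃ b ∈ meetB0 p F E₁ E₂ U, MeetRes (meet_le_Q S U) b d := by
  obtain ⟨m, hm, hdm⟩ := hdo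
  have hcop : (orderOf d).Coprime p :=
    Nat.Coprime.coprime_dvd_left (orderOf_dvd_of_pow_eq_one hdm) hm
  have hWS : T₁ ⊓ T₂ ≤ S := hD'F.1.2.2.2.1.1
  have hUS : U ≤ S := hUc.1.trans hWS
  have hset : Setup p F D' := ⟨hS, hF, hD'F⟩
  obtain ⟨b₀, hb₀⟩ := cse_local p hset hUc d hd
  obtain ⟨b, hb, hbo⟩ : ∃ b : MulAut ↥(meetQ S U),
      CseGood F U (centralizerIn S U) d b ∧ (orderOf b).Coprime p :=
    cse_good_coprime p F hUS le_rfl hcop hb₀
  have hbs : b ∈ meetStab U (meetQ S U) := meet_max_good_stab (meet_max_cent_le_nrm S U) hb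
  have hbF : b ∈ F.autGroup (meetQ S U) := hb.1
  have hres : MeetRes (meet_le_Q S U) b d := fun x => (hb.2.1 x).symm
  refine ⟨b, ⟨hbF, hbo, hbs, ?_, ?_⟩, hres⟩
  · exact meet_max_resIn hS E₁ h₁ D' hD'1 hUc d hd hcop b hbF hbo hbs hres
  · exact meet_max_resIn hS E₂ h₂ D' hD'2 hUc d hd hcop b hbF hbo hbs hres

end Cfsg.Agent.MEET
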