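import Mathlib
import Cfsg.Agent.MEET.MaxB
import Cfsg.Agent.MEET.PcGroup
import Cfsg.Agent.Lead.FusionAlperin2
import Cfsg.Agent.Lead.FusionSub
import Cfsg.Agent.Lead.FusionSat2

/-!
# Project MEET, file Max (helper3): maximality of the meet (section 8 of `notes/MEET_helper8.md`)

`N = meetN F W hWS (meetA p F E₁ E₂)`, `W = T₁ ⊓ T₂`.  Every system `D'` over `W` normal in `F`, `E₁` and `E₂` is contained
in `N` (`meet_max`).  Model-free.

* `meet_max_aut_le`: for `U` a fully `F`-normalized member of the family that is `D'`-centric,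
  `Aut_{D'}(U) ≤ A0(U)`: `Aut_W(U)` is a Sylow `p`-subgroup of `Aut_{D'}(U)`, so `Aut_{D'}(U)` is generated by `Aut_W(U)`
  and its `p'`-elements, and these are restrictions of elements of `B0(U)` (`meet_max_B0`).
* `meet_max_centric`: for `P` centric in `D'`, `Aut_{D'}(P) ≤ Aut_N(P)` (transport to a fully normalized conjugate).
* `meet_max`: Alperin's fusion theorem in `D'`.
-/

set_option autoImplicit false
set_option linter.unusedSectionVars false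
set_option linter.unusedVariables false

namespace Cfsg.Agent.MEET

open Cfsg Cfsg.FusionSystem Cfsg.Agent.Lead Cfsg.Agent.Lead.StrongInv Cfsg.Agent.CSE

universe u

variable {Ω : Type u} [Group Ω] {S : Subgroup Ω} {p : ℕ} {F : FusionSystem S}
  {T₁ T₂ : Subgroup Ω} {E₁ : FusionSystem T₁} {E₂ : FusionSystem T₂}

/-- `Aut_{D'}(U) ≤ A0(U)` for `U` fully `F`-normalized and `D'`-centric. -/
theorem meet_max_aut_le [Finite S] [Fact p.Prime] (hS : IsPGroup p S) (hF : F.IsSaturated p)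
    (h₁ : E₁.IsNormalIn F p) (h₂ : E₂.IsNormalIn F p)
    (D' : FusionSystem (T₁ ⊓ T₂)) (hD'F : D'.IsNormalIn F p) (hD'1 : D'.IsNormalIn E₁ p)
    (hD'2 : D'.IsNormalIn E₂ p)
    {U : Subgroup Ω} (hUfn : F.IsFullyNormalized U) (hUc : D'.IsCentric U) :
    D'.autGroup U ≤ meetA0 p F E₁ E₂ U := by
  have hsc : F.StronglyClosed (T₁ ⊓ T₂) := hD'F.1.2.2.2.1
  have hWS : T₁ ⊓ T₂ ≤ S := hsc.1
  have hfinW : Finite ↥(T₁ ⊓ T₂) := Fusion.finite_of_le hWS
  have hWp : IsPGroup p ↥(T₁ ⊓ T₂) := hS.to_le hWS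
  have hUW : U ≤ T₁ ⊓ T₂ := hUc.1
  have hUS : U ≤ S := hUW.trans hWS
  have hfinU : Finite U := Fusion.finite_of_le hUS
  have hfn' : D'.IsFullyNormalized U :=
    (Fusion.fully_of_subsystem p hS F hF (T₁ ⊓ T₂) hsc D' hD'F.1.2.2.1 U hUW).2 hUfn
  have hfa' : D'.IsFullyAutomized p U :=
    (Fusion.fullyCentralized_fullyAutomized_of_fullyNormalized p hWp D' hD'F.1.1 hfn').2
  obtain ⟨-, R, hR⟩ := hfa'
  have hYJ : autInducedBy (T₁ ⊓ T₂) U ≤ D'.autGroup U := Fusion.autInducedBy_le_autGroup D' hUW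
  have hfinA : Finite (MulAut U) := inferInstance
  have hfinJ : Finite ↥(D'.autGroup U) := inferInstance
  have hidx : ¬ p ∣ (autInducedBy (T₁ ⊓ T₂) U).relIndex (D'.autGroup U) := by
    rw [Subgroup.relIndex, ← hR]
    exact R.not_dvd_index
  have hgen := meet_pc_gen_subgroup p (D'.autGroup U) (autInducedBy (T₁ ⊓ T₂) U) hYJ hidx
  rw [← hgen]
  unfold meetA0
  apply sup_le_sup_right
  rw [Subgroup.closure_le]
  rintro g ⟨hg, hgo⟩
  obtain ⟨b, hb, hres⟩ := meet_max_B0 hS hF h₁ h₂ D' hD'F hD'1 hD'2 hUc g hg hgo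
  exact Subgroup.subset_closure ⟨b, hb, hres⟩

/-- `Aut_{D'}(P) ≤ Aut_N(P)` for `P` centric in `D'`. -/
theorem meet_max_centric [Finite S] [Fact p.Prime] (hS : IsPGroup p S) (hF : F.IsSaturated p)
    (h₁ : E₁.IsNormalIn F p) (h₂ : E₂.IsNormalIn F p) (hWS : T₁ ⊓ T₂ ≤ S)
    (D' : FusionSystem (T₁ ⊓ T₂)) (hD'F : D'.IsNormalIn F p) (hD'1 : D'.IsNormalIn E₁ p)
    (hD'2 : D'.IsNormalIn E₂ p) {P : Subgroup Ω} (hPc : D'.IsCentric P) :
    D'.autGroup P ≤ (meetN F (T₁ ⊓ T₂) hWS (meetA p F E₁ E₂)).autGroup P := by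
  intro d hd
  have hsc : F.StronglyClosed (T₁ ⊓ T₂) := hD'F.1.2.2.2.1
  have hsub : D'.IsSubsystemOf F := hD'F.1.2.2.1
  have hfinW : Finite ↥(T₁ ⊓ T₂) := Fusion.finite_of_le hWS
  have hset : Setup p F D' := ⟨hS, hF, hD'F⟩
  have hSI : SI F D' := SI_of_invariant F D' hD'F.1.2.2
  have hPW : P ≤ T₁ ⊓ T₂ := hPc.1
  have hPS : P ≤ S := hPW.trans hWS
  -- `P` is a member of the family
  have hPH : P ∈ meetH F (T₁ ⊓ T₂) := by
    refine ⟨hPW, ?_⟩
    rintro P' ⟨φ, hφ, hr⟩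
    have h1 := cse_isCentric_map p hset hPc φ hφ
    rw [hr] at h1
    exact h1.2 P' (Fusion.isConj_refl D' h1.1)
  obtain ⟨U, hPU, hUfn⟩ := Fusion.exists_isConj_fullyNormalized F hPS
  have hU : U ∈ meetUf F (T₁ ⊓ T₂) := ⟨meet_H_conj hsc hPH hPU, hUfn⟩
  obtain ⟨φ, hφ, hr⟩ := hPU
  have hUc : D'.IsCentric U := by
    have h1 := cse_isCentric_map p hset hPc φ hφ
    rwa [hr] at h1
  obtain ⟨a, ha⟩ := meet_exists_tr φ (F.injective_of_mem hφ) hr d
  have haD : a ∈ D'.autGroup U := meet_max_tr_fwd D' hSI hPW hUc.1 φ hφ hr d hd a ha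
  have haA0 : a ∈ meetA0 p F E₁ E₂ U :=
    meet_max_aut_le hS hF h₁ h₂ D' hD'F hD'1 hD'2 hUfn hUc haD
  have hdA : d ∈ meetA p F E₁ E₂ P :=
    Subgroup.subset_closure ⟨U, hU, φ, hφ, hr, a, haA0, ha⟩
  have hdF : d ∈ F.autGroup P := autGroup_le_of_subsystem F D' hsub P hd
  rw [Fusion.mem_autGroup_iff (meetN F (T₁ ⊓ T₂) hWS (meetA p F E₁ E₂)) hPW d]
  refine ⟨(Fusion.mem_autGroup_iff F hPS d).mp hdF, hPW, fun x => hPW (d x).2, fun D hD => ?_⟩
  exact (Fusion.mem_autGroup_iff D hPW d).mp (hD P hPH hdA)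

/-- **Maximality of the meet**: every system over `T₁ ⊓ T₂` normal in `F`, `E₁` and `E₂` is contained in `N`. -/
theorem meet_max [Finite S] [Fact p.Prime] (hS : IsPGroup p S) (hF : F.IsSaturated p)
    (h₁ : E₁.IsNormalIn F p) (h₂ : E₂.IsNormalIn F p) (hWS : T₁ ⊓ T₂ ≤ S)
    (D' : FusionSystem (T₁ ⊓ T₂)) (hD'F : D'.IsNormalIn F p) (hD'1 : D'.IsNormalIn E₁ p)
    (hD'2 : D'.IsNormalIn E₂ p) :
    D'.IsSubsystemOf (meetN F (T₁ ⊓ T₂) hWS (meetA p F E₁ E₂)) := by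
  have hfinW : Finite ↥(T₁ ⊓ T₂) := Fusion.finite_of_le hWS
  have hWp : IsPGroup p ↥(T₁ ⊓ T₂) := hS.to_le hWS
  have hle : D' ≤ meetN F (T₁ ⊓ T₂) hWS (meetA p F E₁ E₂) := by
    apply Fusion.alperin_ind p hWp D' hD'F.1.1
    intro P hP _
    have hPc : D'.IsCentric P := by
      rcases hP with rfl | hP
      · exact Fusion.top_isCentric D'
      · exact hP.1
    exact meet_max_centric hS hF h₁ h₂ hWS D' hD'F hD'1 hD'2 hPc
  exact fun P => hle P

end Cfsg.Agent.MEET
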