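import Mathlib
import Cfsg.Agent.MEET.Ext
import Cfsg.Agent.MEET.Max
import Cfsg.Agent.MEET.Ind
import Cfsg.Agent.MEET.PcEngB

/-!
# Project MEET, file MeetNormal (helper3): the meet of two normal subsystems, from the engine's hypotheses

`meet_normal_of_eng`: given `MeetEng p F (T₁ ⊓ T₂) hWS (meetA p F E₁ E₂)` (the concrete automizers satisfy the hypotheses of
the engine), the system `N = meetN F (T₁ ⊓ T₂) hWS (meetA p F E₁ E₂)` is normal in `F`, `E₁`, `E₂` and contains every system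
over `T₁ ⊓ T₂` with this property.  This is the conclusion of statement S5129.
-/

set_option autoImplicit false
set_option linter.unusedSectionVars false
set_option linter.unusedVariables false

namespace Cfsg.Agent.MEET

open Cfsg Cfsg.FusionSystem Cfsg.Agent.Lead

universe u

variable {Ω : Type u} [Group Ω] {S : Subgroup Ω} {p : ℕ} {F : FusionSystem S}
  {T₁ T₂ : Subgroup Ω} {E₁ : FusionSystem T₁} {E₂ : FusionSystem T₂}

theorem meet_normal_of_eng [Finite S] [Fact p.Prime] (hS : IsPGroup p S) (hF : F.IsSaturated p)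
    (h₁ : E₁.IsNormalIn F p) (h₂ : E₂.IsNormalIn F p) (hWS : T₁ ⊓ T₂ ≤ S)
    (hEng : MeetEng p F (T₁ ⊓ T₂) hWS (meetA p F E₁ E₂)) :
    ∃ D : FusionSystem (T₁ ⊓ T₂), (D.IsNormalIn F p ∧ D.IsNormalIn E₁ p ∧ D.IsNormalIn E₂ p) ∧
      ∀ D' : FusionSystem (T₁ ⊓ T₂), D'.IsNormalIn F p → D'.IsNormalIn E₁ p → D'.IsNormalIn E₂ p →
        D'.IsSubsystemOf D := by
  obtain ⟨hsat, hinv, haut⟩ := meet_engine hEng
  have hsc : F.StronglyClosed (T₁ ⊓ T₂) := hEng.sc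
  have htop : T₁ ⊓ T₂ ∈ meetUf F (T₁ ⊓ T₂) := meet_ext_top_mem hsc
  have hautW : (meetN F (T₁ ⊓ T₂) hWS (meetA p F E₁ E₂)).autGroup (T₁ ⊓ T₂) =
      meetA0 p F E₁ E₂ (T₁ ⊓ T₂) := by
    rw [haut _ htop.1]
    exact meet_A_eq_A0 hS hF h₁ h₂ htop
  refine ⟨meetN F (T₁ ⊓ T₂) hWS (meetA p F E₁ E₂),
    ⟨meet_ext_F_of hF hWS hsat hinv hautW, meet_ext_E1_of hS h₁ hWS hsc hsat hinv hautW,
      meet_ext_E2_of hS h₂ hWS hsc hsat hinv hautW⟩, ?_⟩
  intro D' hD'F hD'1 hD'2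
  exact meet_max hS hF h₁ h₂ hWS D' hD'F hD'1 hD'2

end Cfsg.Agent.MEET
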