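import Mathlib
import Cfsg.Prelude.Def_FusionComponents
import Cfsg.Agent.MEET.NormB
import Cfsg.Agent.CSE.Local

set_option autoImplicit false

/-!
# MEET project (S5129), piece P0-3a, part C: `N_E(U)` is normal in `N_F(U)`

`E ⊴ F` over `T`, `U ≤ T` fully `F`-normalized.  Then `N_E(U)` (over `N_T(U)`) is a normal subsystem of
`N_F(U)` (over `N_S(U)`): saturation by S5098 (`U` is fully `E`-normalized), invariance through strong
invariance (`meet_nrm_SI` + S5119), and the extension condition is Theorem L (`CSE.cse_local`) at the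
`E`-centric subgroup `N_T(U)`.
-/

namespace Cfsg.Agent.MEET

open Cfsg Cfsg.FusionSystem Cfsg.Agent.Lead

variable {Ω : Type*} [Group Ω] {S T : Subgroup Ω}

/-- `C_S(V) ≤ N_S(U)` for `U ≤ V`. -/
theorem meet_nrm_cent_le {U V : Subgroup Ω} (hUV : U ≤ V) : centralizerIn S V ≤ normalizerIn S U := by
  intro g hg
  refine Subgroup.mem_inf.mpr ⟨(Subgroup.mem_inf.mp hg).1, ?_⟩
  have hgc := Subgroup.mem_centralizer_iff.mp (Subgroup.mem_inf.mp hg).2
  rw [Subgroup.mem_normalizer_iff]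
  intro z
  constructor
  · intro hz
    have := hgc z (hUV hz)
    have h1 : g * z * g⁻¹ = z := by rw [← this, mul_inv_cancel_right]
    rw [h1]
    exact hz
  · intro hz
    have := hgc _ (hUV hz)
    have h1 : z = g * z * g⁻¹ := by
      have h2 : g * z = g * (g * z * g⁻¹) := by
        rw [← this]
        group
      exact mul_left_cancel h2
    rw [h1]
    exact hz

/-- `C_{N_S(U)}(N_T(U)) = C_S(N_T(U))`. -/
theorem meet_nrm_cent_eq {U : Subgroup Ω} (hUT : U ≤ T) :
    centralizerIn (normalizerIn S U) (normalizerIn T U) = centralizerIn S (normalizerIn T U) := by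
  apply le_antisymm
  · intro g hg
    exact Subgroup.mem_inf.mpr
      ⟨(Subgroup.mem_inf.mp (Subgroup.mem_inf.mp hg).1).1, (Subgroup.mem_inf.mp hg).2⟩
  · intro g hg
    exact Subgroup.mem_inf.mpr
      ⟨meet_nrm_cent_le (Fusion.le_normalizerIn hUT) hg, (Subgroup.mem_inf.mp hg).2⟩

/-- The extension condition for `N_E(U)` in `N_F(U)` (with the centralizer written as any subgroup equal to
`C_S(N_T(U))`). -/
theorem meet_nrm_extCond_aux [Finite S] (p : ℕ) [Fact p.Prime] {F : FusionSystem S}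
    {E : FusionSystem T} (h : CSE.Setup p F E) {U : Subgroup Ω} (hUE : E.IsFullyNormalized U)
    (FU : FusionSystem (normalizerIn S U)) (hFU : F.IsNormalizerSystem U FU)
    (EU : FusionSystem (normalizerIn T U)) (hEU : E.IsNormalizerSystem U EU)
    (X : Subgroup Ω) (hX : X = centralizerIn S (normalizerIn T U)) :
    ∀ α ∈ EU.autGroup (normalizerIn T U), ∃ β ∈ FU.autGroup (normalizerIn T U ⊔ X),
      (∀ x : ↥(normalizerIn T U),
        ((β (Subgroup.inclusion le_sup_left x) : ↥(normalizerIn T U ⊔ X)) : Ω) =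
          ((α x : ↥(normalizerIn T U)) : Ω)) ∧
      ∀ c : ↥(normalizerIn T U ⊔ X), (c : Ω) ∈ X →
        (c : Ω)⁻¹ * ((β c : ↥(normalizerIn T U ⊔ X)) : Ω) ∈
          normalizerIn T U ⊓ Subgroup.centralizer (normalizerIn T U : Set Ω) := by
  subst hX
  have hTS : T ≤ S := h.le
  have hUT : U ≤ T := hUE.1
  haveI : Finite T := Fusion.finite_of_le hTS
  have hUV : U ≤ (normalizerIn T U) := Fusion.le_normalizerIn hUT
  have hVT : (normalizerIn T U) ≤ T := inf_le_left
  have hVc : E.IsCentric (normalizerIn T U) := meet_nrm_isCentric E hUE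
  intro α hα
  have hα1 := (Fusion.mem_autGroup_iff EU (le_refl (normalizerIn T U)) α).mp hα
  rw [hEU (normalizerIn T U)] at hα1
  obtain ⟨hαE, -, -, ψ, hψ, hψext, hψU⟩ := hα1
  have hαE' : α ∈ E.autGroup (normalizerIn T U) := (Fusion.mem_autGroup_iff E hVT α).mpr hαE
  -- `α` maps `U` into `U`
  have hαU : ∀ u : Ω, ∀ hu : u ∈ U, ((α ⟨u, hUV hu⟩ : (normalizerIn T U)) : Ω) ∈ U := by
    intro u hu
    have h1 := hψext ⟨u, hUV hu⟩
    have h2 : (Subgroup.inclusion (le_sup_left : (normalizerIn T U) ≤ (normalizerIn T U) ⊔ U) ⟨u, hUV hu⟩) =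
        Subgroup.inclusion (le_sup_right : U ≤ (normalizerIn T U) ⊔ U) ⟨u, hu⟩ := Subtype.ext rfl
    have h3 : ψ (Subgroup.inclusion (le_sup_right : U ≤ (normalizerIn T U) ⊔ U) ⟨u, hu⟩) ∈ U := by
      apply hψU.le
      refine ⟨_, ?_, rfl⟩
      rw [SetLike.mem_coe, Subgroup.mem_subgroupOf]
      exact hu
    rw [h2] at h1
    have h4 : ((α ⟨u, hUV hu⟩ : (normalizerIn T U)) : Ω) = ψ (Subgroup.inclusion (le_sup_right : U ≤ (normalizerIn T U) ⊔ U) ⟨u, hu⟩) :=
      h1.symm
    rw [h4]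
    exact h3
  obtain ⟨β, hβF, hβext, hβZ⟩ := CSE.cse_local p h hVc α hαE'
  refine ⟨β, ?_, hβext, fun c hc => hβZ c hc⟩
  -- `β` is a map of `N_F(U)`
  have hle : (normalizerIn T U) ⊔ centralizerIn S (normalizerIn T U) ≤ normalizerIn S U :=
    sup_le (meet_nrm_le hTS) (meet_nrm_cent_le hUV)
  have hUle : U ≤ (normalizerIn T U) ⊔ centralizerIn S (normalizerIn T U) := hUV.trans le_sup_left
  have hPS : (normalizerIn T U) ⊔ centralizerIn S (normalizerIn T U) ≤ S := hle.trans inf_le_left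
  haveI : Finite ↥((normalizerIn T U) ⊔ centralizerIn S (normalizerIn T U)) := Fusion.finite_of_le hPS
  rw [Fusion.mem_autGroup_iff FU hle, hFU]
  have hβF' := (Fusion.mem_autGroup_iff F hPS β).mp hβF
  apply KL.mem_normalizerHom_of_le F hUle hle _ hβF'
  apply meet_nrm_map_eq _ (F.injective_of_mem hβF') _ hUle
  rintro _ ⟨z, hz, rfl⟩
  rw [SetLike.mem_coe, Subgroup.mem_subgroupOf] at hz
  have h1 := hβext ⟨(z : Ω), hUV hz⟩
  have h2 : (Subgroup.inclusion (le_sup_left : (normalizerIn T U) ≤ (normalizerIn T U) ⊔ centralizerIn S (normalizerIn T U)) ⟨(z : Ω), hUV hz⟩) = z :=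
    Subtype.ext rfl
  rw [h2] at h1
  show ((β z : ↥((normalizerIn T U) ⊔ centralizerIn S (normalizerIn T U))) : Ω) ∈ U
  rw [h1]
  exact hαU z hz

/-- **P0-3a.** `N_E(U)` is a normal subsystem of `N_F(U)` for `E ⊴ F` over `T` and `U ≤ T` fully
`F`-normalized. -/
theorem meet_nrm_isNormalIn [Finite S] (p : ℕ) [Fact p.Prime] (hS : IsPGroup p S)
    (F : FusionSystem S) (hF : F.IsSaturated p) {T : Subgroup Ω} (E : FusionSystem T)
    (hE : E.IsNormalIn F p) (U : Subgroup Ω) (hUT : U ≤ T) (hU : F.IsFullyNormalized U)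
    (FU : FusionSystem (normalizerIn S U)) (hFU : F.IsNormalizerSystem U FU)
    (EU : FusionSystem (normalizerIn T U)) (hEU : E.IsNormalizerSystem U EU) :
    EU.IsNormalIn FU p := by
  have hT : F.StronglyClosed T := hE.1.2.2.2.1
  have hsub : E.IsSubsystemOf F := hE.1.2.2.1
  have hTS : T ≤ S := hT.1
  have hEsat : E.IsSaturated p := hE.1.1
  haveI : Finite T := Fusion.finite_of_le hTS
  have hTp : IsPGroup p T := hS.to_le hTS
  have hUE : E.IsFullyNormalized U :=
    (Fusion.fully_of_subsystem p hS F hF T hT E hsub U hUT).2 hU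
  haveI : Finite ↥(normalizerIn S U) := Fusion.finite_of_le inf_le_left
  have hNp : IsPGroup p ↥(normalizerIn S U) := hS.to_le inf_le_left
  have hFUsat : FU.IsSaturated p := Fusion.normalizerSystem_isSaturated p hS F hF U hU FU hFU
  have hEUsat : EU.IsSaturated p := Fusion.normalizerSystem_isSaturated p hTp E hEsat U hUE EU hEU
  have hSI := StrongInv.SI_of_invariant F E hE.1.2.2
  have hSIU := meet_nrm_SI hT hSI hUT FU hFU EU hEU
  have hinv : EU.IsInvariantIn FU :=
    StrongInv.invariant_of_SI p hNp FU hFUsat EU (meet_nrm_sub hsub hTS FU hFU EU hEU)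
      (meet_nrm_stronglyClosed hT FU hFU) hSIU
  exact ⟨⟨hEUsat, hFUsat, hinv⟩,
    meet_nrm_extCond_aux p ⟨hS, hF, hE⟩ hUE FU hFU EU hEU _ (meet_nrm_cent_eq hUT)⟩

end Cfsg.Agent.MEET
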