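import Mathlib
import Cfsg.Agent.MEET.PcInv

/-!
# Project MEET, file Pc: transport of `B0` along a map defined on `Q_U` only; `B0(R) → A(R)` for `R` fully centralized

* `meet_pc_B0_tr_Q` : `ψ : Q_U → Q_{U'}` an isomorphism of `F` with `ψ(U) = U'` transports `B0(U)` into `B0(U')`
  (no isomorphism between the normalizers is needed).
* `meet_pc_mem_A_of_B0` : for `R` in the family and fully centralized, the restriction to `R` of an element of `B0(R)`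
  lies in `A(R)`   (this is step (iv) of (CM-a) in `notes/MEET_helper8.md`).
-/

set_option autoImplicit false
set_option linter.unusedSectionVars false
set_option linter.unusedVariables false

namespace Cfsg.Agent.MEET

open Cfsg Cfsg.FusionSystem Cfsg.Agent.Lead Cfsg.Agent.Lead.StrongInv

universe u

variable {Ω : Type u} [Group Ω] {S : Subgroup Ω}

/-- The image of `Q_K(U)` under an isomorphism `ψ : Q_S(U) → Q_S(U')` of `F` with `ψ(U) = U'`. -/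
theorem meet_pc_range_QQ (F : FusionSystem S) {K : Subgroup Ω} (hK : F.StronglyClosed K) {U U' : Subgroup Ω}
    {ψ : ↥(meetQ S U) →* Ω} (hψ : ψ ∈ F.Hom (meetQ S U)) (hr : ψ.range = meetQ S U')
    (hψU : ∀ x : ↥(meetQ S U), (x : Ω) ∈ U → ψ x ∈ U')
    (hψU' : ∀ y ∈ U', ∃ x : ↥(meetQ S U), (x : Ω) ∈ U ∧ ψ x = y)
    (hQQ : meetQ K U ≤ meetQ S U) :
    (ψ.comp (Subgroup.inclusion hQQ)).range = meetQ K U' := by
  obtain ⟨ψ', hψ', hinv, hr'⟩ := Fusion.exists_inv F hψ hr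
  have hψN' : ∀ x : ↥(meetQ S U), ψ x ∈ meetQ S U' := fun x => hr ▸ ⟨x, rfl⟩
  have hψ'N : ∀ y : ↥(meetQ S U'), ψ' y ∈ meetQ S U := fun y => hr' ▸ ⟨y, rfl⟩
  have hinv1 : ∀ x : ↥(meetQ S U), ψ' ⟨ψ x, hψN' x⟩ = x := fun x => hinv x (hψN' x)
  have hinv' : ∀ y : ↥(meetQ S U'), ψ ⟨ψ' y, hψ'N y⟩ = y := by
    intro y
    have hy : (y : Ω) ∈ ψ.range := by rw [hr]; exact y.2
    obtain ⟨x, hx⟩ := hy
    have h1 : y = ⟨ψ x, hψN' x⟩ := Subtype.ext hx.symm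
    rw [h1]
    congr 1
    exact Subtype.ext (hinv1 x)
  have hCle : ∀ V : Subgroup Ω, centralizerIn K V ≤ meetQ S V := fun V =>
    (inf_le_inf_right _ hK.1).trans le_sup_right
  refine meet_pc_range_Q F hK hψ hψ' hψN' hψ'N hinv' (meet_le_Q S U) (meet_le_Q S U') (hCle U) (hCle U')
    hψU ?_ hinv1 hQQ
  intro y hy
  obtain ⟨x, hxU, hxy⟩ := hψU' (y : Ω) hy
  have h1 : y = ⟨ψ x, hψN' x⟩ := Subtype.ext hxy.symm
  rw [h1, hinv1 x]
  exact hxU

/-- **Transport of `B0`** along an isomorphism `ψ : Q_U → Q_{U'}` of `F` with `ψ(U) = U'`. -/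
theorem meet_pc_B0_tr_Q (p : ℕ) {F : FusionSystem S} {T₁ T₂ : Subgroup Ω} {E₁ : FusionSystem T₁}
    {E₂ : FusionSystem T₂} (hE₁ : E₁.IsInvariantIn F) (hE₂ : E₂.IsInvariantIn F)
    {U U' : Subgroup Ω} (hUW : U ≤ T₁ ⊓ T₂)
    {ψ : ↥(meetQ S U) →* Ω} (hψ : ψ ∈ F.Hom (meetQ S U)) (hr : ψ.range = meetQ S U')
    (hψU : ∀ x : ↥(meetQ S U), (x : Ω) ∈ U → ψ x ∈ U')
    (hψU' : ∀ y ∈ U', ∃ x : ↥(meetQ S U), (x : Ω) ∈ U ∧ ψ x = y)
    (b : MulAut ↥(meetQ S U)) (hb : b ∈ meetB0 p F E₁ E₂ U) (b' : MulAut ↥(meetQ S U'))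
    (htr : MeetTr ψ b b') : b' ∈ meetB0 p F E₁ E₂ U' := by
  have hT₁ : F.StronglyClosed T₁ := hE₁.2.1
  have hT₂ : F.StronglyClosed T₂ := hE₂.2.1
  have hinj := F.injective_of_mem hψ
  obtain ⟨hbF, hbo, hbU, hb₁, hb₂⟩ := hb
  have hbe := meet_pc_tr_eq _ hinj hr b b' htr
  have hsurj : ∀ y : ↥(meetQ S U'), ∃ x : ↥(meetQ S U), ψ x = y := by
    intro y
    have hy : (y : Ω) ∈ ψ.range := by rw [hr]; exact y.2
    exact hy
  refine ⟨?_, ?_, ?_, ?_, ?_⟩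
  · rw [hbe]
    exact Fusion.congr_mem_autGroup F hψ hr b hbF
  · rw [hbe, MulEquiv.orderOf_eq]
    exact hbo
  · intro y
    obtain ⟨x, hx⟩ := hsurj y
    have hy : ψ x ∈ meetQ S U' := hx ▸ y.2
    have hye : y = ⟨ψ x, hy⟩ := Subtype.ext hx.symm
    rw [hye, htr x hy]
    show (ψ x)⁻¹ * ψ (b x) ∈ U'
    rw [← map_inv, ← map_mul]
    exact hψU _ (hbU x)
  · have hRT : meetQ T₁ U ≤ T₁ := meet_pc_Q_le_K (hUW.trans inf_le_left)
    refine meet_pc_resIn_tr F E₁ (SI_of_invariant F E₁ hE₁) ψ hψ hr hRT b b' htr hb₁ ?_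
    intro hRQ
    exact meet_pc_range_QQ F hT₁ hψ hr hψU hψU' hRQ
  · have hRT : meetQ T₂ U ≤ T₂ := meet_pc_Q_le_K (hUW.trans inf_le_right)
    refine meet_pc_resIn_tr F E₂ (SI_of_invariant F E₂ hE₂) ψ hψ hr hRT b b' htr hb₂ ?_
    intro hRQ
    exact meet_pc_range_QQ F hT₂ hψ hr hψU hψU' hRQ

/-- **`B0(R) → A(R)`** for a fully centralized member `R` of the family: the restriction to `R` of an element of `B0(R)`
lies in `A(R)`. -/
theorem meet_pc_mem_A_of_B0 [Finite S] {p : ℕ} [Fact p.Prime] (hS : IsPGroup p S) {F : FusionSystem S}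
    (hF : F.IsSaturated p) {T₁ T₂ : Subgroup Ω} {E₁ : FusionSystem T₁} {E₂ : FusionSystem T₂}
    (hE₁ : E₁.IsInvariantIn F) (hE₂ : E₂.IsInvariantIn F) {R : Subgroup Ω} (hR : R ∈ meetH F (T₁ ⊓ T₂))
    (hfc : F.IsFullyCentralized R) (b : MulAut ↥(meetQ S R)) (hb : b ∈ meetB0 p F E₁ E₂ R) (β : MulAut R)
    (hres : MeetRes (meet_le_Q S R) b β) : β ∈ meetA p F E₁ E₂ R := by
  have hT₁ : F.StronglyClosed T₁ := hE₁.2.1
  have hT₂ : F.StronglyClosed T₂ := hE₂.2.1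
  have hW : F.StronglyClosed (T₁ ⊓ T₂) :=
    ⟨inf_le_left.trans hT₁.1, fun P hP φ hφ x =>
      ⟨hT₁.2 P (hP.trans inf_le_left) φ hφ x, hT₂.2 P (hP.trans inf_le_right) φ hφ x⟩⟩
  have hWS : T₁ ⊓ T₂ ≤ S := hW.1
  have hRS : R ≤ S := hR.1.trans hWS
  have hfinR : Finite R := Fusion.finite_of_le hRS
  obtain ⟨R0, hRR0, hR0fn⟩ := Fusion.exists_isConj_fullyNormalized F hRS
  have hR0H : R0 ∈ meetH F (T₁ ⊓ T₂) := by
    refine ⟨?_, fun P'' hP'' => hR.2 P'' (Fusion.isConj_trans F hRR0 hP'')⟩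
    obtain ⟨φ, hφ, hr⟩ := hRR0
    rw [← hr]
    rintro _ ⟨x, rfl⟩
    exact hW.2 R hR.1 φ hφ x
  have hR0S : R0 ≤ S := hR0fn.1
  obtain ⟨hfc0, hfa0⟩ := Fusion.fullyCentralized_fullyAutomized_of_fullyNormalized p hS F hF hR0fn
  have hrec0 : F.IsReceptive R0 := Fusion.receptive_of_fullyCentralized p hS F hF hfc0
  obtain ⟨χ, hχ, hχN, hχR⟩ := Fusion.exists_hom_normalizerIn p hS F hfa0 hrec0 hRR0
  have hχinj := F.injective_of_mem hχ
  have hRN : R ≤ normalizerIn S R := Fusion.le_normalizerIn hRS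
  have hCN : centralizerIn S R ≤ normalizerIn S R := Fusion.centralizerIn_le_normalizerIn R
  have hQN : meetQ S R ≤ normalizerIn S R := meet_pc_Q_le le_rfl hRS
  have hχRmem : ∀ x : ↥(normalizerIn S R), (x : Ω) ∈ R → χ x ∈ R0 := by
    intro x hx
    rw [← hχR]
    exact ⟨x, hx, rfl⟩
  have hχRsurj : ∀ y ∈ R0, ∃ x : ↥(normalizerIn S R), (x : Ω) ∈ R ∧ χ x = y := by
    intro y hy
    have hy' : y ∈ (R.subgroupOf (normalizerIn S R)).map χ := by rw [hχR]; exact hy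
    obtain ⟨x, hx, hxy⟩ := hy'
    exact ⟨x, hx, hxy⟩
  -- `χ(C_S(R)) = C_S(R0)`
  have hCimg : ∀ x : ↥(normalizerIn S R), (x : Ω) ∈ centralizerIn S R → χ x ∈ centralizerIn S R0 := by
    intro x hx
    refine ⟨Fusion.map_mem F hχ x, Subgroup.mem_centralizer_iff.mpr ?_⟩
    intro y hy
    obtain ⟨u, hu, rfl⟩ := hχRsurj y hy
    have hcu : (u : Ω) * x = x * (u : Ω) := (Subgroup.mem_centralizer_iff.mp hx.2) u hu
    have : u * x = x * u := Subtype.ext hcu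
    rw [← map_mul, ← map_mul, this]
  have hfinC : Finite ↥(centralizerIn S R) := Fusion.finite_of_le inf_le_left
  have hfinC0 : Finite ↥(centralizerIn S R0) := Fusion.finite_of_le inf_le_left
  have hCsurj : ∀ y ∈ centralizerIn S R0, ∃ x : ↥(normalizerIn S R), (x : Ω) ∈ centralizerIn S R ∧ χ x = y := by
    set C' : Subgroup Ω := ((centralizerIn S R).subgroupOf (normalizerIn S R)).map χ with hC'
    have hle : C' ≤ centralizerIn S R0 := by
      rintro _ ⟨x, hx, rfl⟩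
      exact hCimg x hx
    have hcardC' : Nat.card C' = Nat.card ↥(centralizerIn S R) := by
      rw [hC', Subgroup.card_map_of_injective hχinj]
      exact Nat.card_congr (Subgroup.subgroupOfEquivOfLe hCN).toEquiv
    have hge : Nat.card ↥(centralizerIn S R0) ≤ Nat.card C' := by
      rw [hcardC']
      exact hfc.2 R0 hRR0
    have heq : C' = centralizerIn S R0 := Subgroup.eq_of_le_of_card_ge hle hge
    intro y hy
    have hy' : y ∈ C' := by rw [heq]; exact hy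
    obtain ⟨x, hx, hxy⟩ := hy'
    exact ⟨x, hx, hxy⟩
  -- `ψ := χ|_{Q_R}` has range `Q_{R0}`
  have hψ : χ.comp (Subgroup.inclusion hQN) ∈ F.Hom (meetQ S R) := Fusion.restrict_mem F hχ hQN
  have hrψ : (χ.comp (Subgroup.inclusion hQN)).range = meetQ S R0 := by
    apply le_antisymm
    · rintro _ ⟨x, rfl⟩
      exact meet_pc_map_Q F (meet_pc_stronglyClosed_top F) hχ hRN hCN hχRmem hχRsurj
        (Subgroup.inclusion hQN x) x.2
    · refine sup_le ?_ ?_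
      · intro y hy
        obtain ⟨x, hx, hxy⟩ := hχRsurj y hy
        exact ⟨⟨x, (meet_le_Q S R) hx⟩, hxy⟩
      · intro y hy
        obtain ⟨x, hx, hxy⟩ := hCsurj y hy
        exact ⟨⟨x, (le_sup_right : centralizerIn S R ≤ meetQ S R) hx⟩, hxy⟩
  have hinjψ := F.injective_of_mem hψ
  have hψU : ∀ x : ↥(meetQ S R), (x : Ω) ∈ R → (χ.comp (Subgroup.inclusion hQN)) x ∈ R0 :=
    fun x hx => hχRmem _ hx
  have hψU' : ∀ y ∈ R0, ∃ x : ↥(meetQ S R), (x : Ω) ∈ R ∧ (χ.comp (Subgroup.inclusion hQN)) x = y := by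
    intro y hy
    obtain ⟨x, hx, hxy⟩ := hχRsurj y hy
    exact ⟨⟨x, (meet_le_Q S R) hx⟩, hx, hxy⟩
  have htr := meet_pc_tr_congr _ hinjψ hrψ b
  have hb0 := meet_pc_B0_tr_Q p hE₁ hE₂ hR.1 hψ hrψ hψU hψU' b hb _ htr
  -- the restriction to `R`
  have hφ : χ.comp (Subgroup.inclusion hRN) ∈ F.Hom R := Fusion.restrict_mem F hχ hRN
  have hinjφ := F.injective_of_mem hφ
  have hrφ : (χ.comp (Subgroup.inclusion hRN)).range = R0 := by
    apply le_antisymm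
    · rintro _ ⟨x, rfl⟩
      exact hχRmem _ x.2
    · intro y hy
      obtain ⟨x, hx, hxy⟩ := hχRsurj y hy
      exact ⟨⟨x, hx⟩, hxy⟩
  have htrR := meet_pc_tr_congr _ hinjφ hrφ β
  have hres0 : MeetRes (meet_le_Q S R0) (MulAut.congr (Fusion.equivOfRange _ hinjψ hrψ) b)
      (MulAut.congr (Fusion.equivOfRange _ hinjφ hrφ) β) := by
    refine meet_pc_res_tr (χ.comp (Subgroup.inclusion hQN)) (meet_le_Q S R) (meet_le_Q S R0) b _ htr β _ hres
      (fun x hx => htrR x hx) ?_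
    intro y
    obtain ⟨x, hx, hxy⟩ := hχRsurj y y.2
    exact ⟨⟨x, hx⟩, hxy⟩
  have hβ0 : MulAut.congr (Fusion.equivOfRange _ hinjφ hrφ) β ∈ meetA0 p F E₁ E₂ R0 :=
    (le_sup_left : _ ≤ meetA0 p F E₁ E₂ R0) (Subgroup.subset_closure ⟨_, hb0, hres0⟩)
  exact Subgroup.subset_closure ⟨R0, ⟨hR0H, hR0fn⟩, _, hφ, hrφ, _, hβ0, htrR⟩

end Cfsg.Agent.MEET
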